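import Mathlib
import Cfsg.Prelude.Def_LocalEven

set_option autoImplicit false

/-!
Basic calculus for `Cfsg.Involves H G` ("H is isomorphic to a section of G").
Main tool: `H` is involved in `G` iff some group `K` injects into `G` and surjects onto `H`.
-/

namespace Cfsg.Agent.Lib.Helper90

universe u v w

/-- If `K` injects into `G` and surjects onto `H`, then `H` is involved in `G`. -/
theorem involves_of_hom {H : Type u} [Group H] {G : Type v} [Group G] {K : Type w} [Group K]
    (i : K →* G) (f : K →* H) (hi : Function.Injective i) (hf : Function.Surjective f) :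
    Cfsg.Involves H G := by
  let e : K ≃* i.range := MonoidHom.ofInjective hi
  let f₀ : i.range →* H := f.comp e.symm.toMonoidHom
  have hf₀ : Function.Surjective f₀ := by
    intro h
    obtain ⟨k, rfl⟩ := hf h
    exact ⟨e k, by simp [f₀]⟩
  have hker : (f₀.ker.map i.range.subtype).subgroupOf i.range = f₀.ker := by
    rw [Subgroup.subgroupOf]
    exact Subgroup.comap_map_eq_self_of_injective (Subgroup.subtype_injective _) _
  refine ⟨i.range, f₀.ker.map i.range.subtype, ?_, ?_⟩
  · rw [hker]; infer_instance
  · have : ((f₀.ker.map i.range.subtype).subgroupOf i.range).Normal := by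
      rw [hker]; infer_instance
    exact ⟨(QuotientGroup.quotientMulEquivOfEq hker).trans
      (QuotientGroup.quotientKerEquivOfSurjective f₀ hf₀)⟩

/-- If `H` is involved in `G`, some subgroup of `G` surjects onto `H`. -/
theorem exists_hom_of_involves {H : Type u} [Group H] {G : Type v} [Group G]
    (h : Cfsg.Involves H G) : ∃ (K : Subgroup G) (f : K →* H), Function.Surjective f := by
  obtain ⟨K, R, hN, ⟨e⟩⟩ := h
  refine ⟨K, e.toMonoidHom.comp (QuotientGroup.mk' (R.subgroupOf K)), ?_⟩
  intro x
  obtain ⟨y, hy⟩ := QuotientGroup.mk'_surjective (R.subgroupOf K) (e.symm x)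
  refine ⟨y, ?_⟩
  show e (QuotientGroup.mk' (R.subgroupOf K) y) = x
  rw [hy, MulEquiv.apply_symm_apply]

/-- A group embedding into `H` is involved wherever `H` is. -/
theorem Involves.of_injective_left {H : Type u} [Group H] {H' : Type w} [Group H'] {G : Type v} [Group G]
    (j : H' →* H) (hj : Function.Injective j) (h : Cfsg.Involves H G) : Cfsg.Involves H' G := by
  obtain ⟨K, f, hf⟩ := exists_hom_of_involves h
  let e : H' ≃* j.range := MonoidHom.ofInjective hj
  let K' : Subgroup K := j.range.comap f
  let f' : K' →* H' := e.symm.toMonoidHom.comp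
    ((f.comp K'.subtype).codRestrict j.range (fun x => x.2))
  refine involves_of_hom (K.subtype.comp K'.subtype) f' ?_ ?_
  · exact (Subgroup.subtype_injective K).comp (Subgroup.subtype_injective K')
  · intro x
    obtain ⟨k, hk⟩ := hf (j x)
    have hk' : k ∈ K' := by
      show f k ∈ j.range
      rw [hk]; exact ⟨x, rfl⟩
    refine ⟨⟨k, hk'⟩, ?_⟩
    show e.symm (((f.comp K'.subtype).codRestrict j.range (fun x => x.2)) ⟨k, hk'⟩) = x
    rw [MulEquiv.symm_apply_eq]
    apply Subtype.ext
    exact hk

/-- If `H` is involved in `G` and `G` embeds in `G'` then `H` is involved in `G'`. -/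
theorem Involves.of_injective_right {H : Type u} [Group H] {G : Type v} [Group G] {G' : Type w} [Group G']
    (j : G →* G') (hj : Function.Injective j) (h : Cfsg.Involves H G) : Cfsg.Involves H G' := by
  obtain ⟨K, f, hf⟩ := exists_hom_of_involves h
  exact involves_of_hom (j.comp K.subtype) f (hj.comp (Subgroup.subtype_injective K)) hf

/-- A finite `p`-group involved in a finite group is involved in each of its Sylow `p`-subgroups. -/
theorem Involves.sylow {Q : Type u} [Group Q] {L : Type v} [Group L] [Finite L] {p : ℕ} [Fact p.Prime]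
    (hQ : IsPGroup p Q) (T : Sylow p L) (h : Cfsg.Involves Q L) : Cfsg.Involves Q (T : Subgroup L) := by
  obtain ⟨K, f, hf⟩ := exists_hom_of_involves h
  obtain ⟨T₁⟩ : Nonempty (Sylow p K) := inferInstance
  -- `f` maps `T₁` onto `Q`
  have hsurj : (T₁ : Subgroup K).map f = ⊤ := by
    have h1 := (T₁.mapSurjective hf).is_maximal' (Q := ⊤) (hQ.to_subgroup ⊤) le_top
    rw [h1]; rfl
  -- the image of `T₁` in `L` lies in a conjugate of `T`
  have hp : IsPGroup p ((T₁ : Subgroup K).map K.subtype) := T₁.isPGroup'.map _
  obtain ⟨R, hR⟩ := IsPGroup.exists_le_sylow hp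
  obtain ⟨l, hl⟩ := MulAction.exists_smul_eq L R T
  have hmem : ∀ t : (T₁ : Subgroup K), l * ((t : K) : L) * l⁻¹ ∈ (T : Subgroup L) := by
    intro t
    have h1 : ((t : K) : L) ∈ (R : Subgroup L) := hR ⟨t, t.2, rfl⟩
    rw [← hl, Sylow.coe_subgroup_smul]
    have : l * ((t : K) : L) * l⁻¹ = MulAut.conj l • ((t : K) : L) := rfl
    rw [this, Subgroup.smul_mem_pointwise_smul_iff]
    exact h1
  let i : (T₁ : Subgroup K) →* (T : Subgroup L) :=
    ((MulAut.conj l).toMonoidHom.comp (K.subtype.comp (T₁ : Subgroup K).subtype)).codRestrict _ hmem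
  refine involves_of_hom i (f.comp (T₁ : Subgroup K).subtype) ?_ ?_
  · intro a b hab
    have h1 : l * ((a : K) : L) * l⁻¹ = l * ((b : K) : L) * l⁻¹ := congrArg Subtype.val hab
    have h2 : ((a : K) : L) = ((b : K) : L) := mul_left_cancel (mul_right_cancel h1)
    exact Subtype.ext (Subtype.ext h2)
  · intro q
    have : q ∈ (T₁ : Subgroup K).map f := by rw [hsurj]; trivial
    obtain ⟨k, hk, rfl⟩ := this
    exact ⟨⟨k, hk⟩, rfl⟩

end Cfsg.Agent.Lib.Helper90
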