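import Mathlib
import Cfsg.Agent.Lib.Helper71.BG1310Defs
import Cfsg.Agent.Lib.Helper32.BG1310A
import Cfsg.Agent.Lib.Helper13.BG135
import Cfsg.Agent.Lib.Helper31.BG134Leaves
import Cfsg.Agent.Lib.Helper01.BG134T3N
import Cfsg.Agent.Lib.Helper12.CNMaxSub
import Cfsg.Agent.S1415
import Cfsg.Agent.S1427

/-!
# K-BG1310-B (keystone 131002, architect helper71; parallel hand by helper90): BG 13.3(b)

`C_{M_σ}(Y) = C_{M_σ}(E₃)` for every `1 ≠ Y ≤ E₃`, `E₃` a Hall `τ₃(M)`-subgroup of a complement `E`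
of `M_σ` in the maximal subgroup `M`.
-/

set_option autoImplicit false
set_option linter.unusedSectionVars false
set_option linter.unusedVariables false
set_option linter.style.haveILetI false

namespace Cfsg.Agent.Lib.Helper90.BG1310

open Cfsg Cfsg.Agent.Lib.Helper55 Cfsg.Agent.Lib.Helper31.BG134 Cfsg.Agent.Lib.Helper71.BG1310

variable {G : Type*} [Group G] [Finite G]

/-- step 1: for subgroups `X₁`, `X₂` of prime order of `E₃`, `C_{M_σ}(X₁)` centralizes `X₂` -/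
theorem cp_le_centralizer_of_prime (hG : IsMinSimpleOddOrder G) {M E E₃ : Subgroup G}
    (hM : IsCoatom M) (hE : IsComplIn E (sigmaCore M) M) (hE₃ : IsPiHallOf (tau3 M) E₃ E)
    {X₁ X₂ : Subgroup G} (h1 : X₁ ≤ E₃) (h2 : X₂ ≤ E₃) {s₁ s₂ : ℕ} (hs₁ : s₁.Prime)
    (hc1 : Nat.card X₁ = s₁) (hs₂ : s₂.Prime) (hc2 : Nat.card X₂ = s₂) :
    CP M X₁ ≤ Subgroup.centralizer (X₂ : Set G) := by
  obtain ⟨hE₃c, hE₃d, hE₃n⟩ := (Cfsg.Agent.S1415.result hG M hM E hE).2.2 E₃ hE₃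
  have hE₃M : E₃ ≤ M := hE₃.1.trans hE.1
  have hs₁τ : s₁ ∈ tau3 M :=
    hE₃.2.1 s₁ hs₁ (by rw [← hc1]; exact Subgroup.card_dvd_of_le h1)
  have hs₂τ : s₂ ∈ tau3 M :=
    hE₃.2.1 s₂ hs₂ (by rw [← hc2]; exact Subgroup.card_dvd_of_le h2)
  have hEN : E ≤ Subgroup.normalizer (X₁ : Set G) :=
    hE₃n.trans
      (Cfsg.Agent.Lib.Helper01.BG134.normalizer_le_normalizer_of_isCyclic E₃ X₁ hE₃c h1)
  have hX1 : X₁ ≠ ⊥ := by
    intro h
    rw [h, Subgroup.card_bot] at hc1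
    exact hs₁.one_lt.ne hc1
  have hXtop : X₁ ≠ ⊤ := by
    intro h
    apply hM.1
    rw [eq_top_iff, ← h]
    exact h1.trans hE₃M
  obtain ⟨H, hH, hNH⟩ :=
    Cfsg.Agent.Lib.Helper12.CNMaxSub.exists_coatom_normalizer_le hG hX1 hXtop
  obtain ⟨-, hnc, hF2⟩ := Cfsg.Agent.Lib.Helper32.BG1310.local_facts hG hM hH (Or.inr hs₁τ)
    (h1.trans hE₃M) hc1 hNH
  have hEH : E ≤ H := hEN.trans hNH
  have hX₂c : X₂ ≤ ⁅H, H⁆ := h2.trans (hE₃d.trans (Subgroup.commutator_mono hEH hEH))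
  haveI : Fact s₂.Prime := ⟨hs₂⟩
  have hXs : IsPGroup s₂ X₂ := IsPGroup.of_card (n := 1) (by rw [hc2, pow_one])
  have hcent := Cfsg.Agent.Lib.Helper31.BG134L.centralizes_of_le_commutator hG hM hH hnc
    (s := s₂) hs₂τ.2.1 hXs (h2.trans hE₃M) (h2.trans (hE₃.1.trans hEH)) hX₂c
  rw [hF2] at hcent
  exact Subgroup.le_centralizer_iff.mp hcent

/-- BG 13.3(b), element form -/
theorem prime_action_tau3_elt (hG : IsMinSimpleOddOrder G) {M E E₃ : Subgroup G}
    (hM : IsCoatom M) (hE : IsComplIn E (sigmaCore M) M) (hE₃ : IsPiHallOf (tau3 M) E₃ E)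
    {x : G} (hx : x ∈ E₃) (hx1 : x ≠ 1) :
    sigmaCore M ⊓ Subgroup.centralizer ({x} : Set G) =
      sigmaCore M ⊓ Subgroup.centralizer (E₃ : Set G) := by
  obtain ⟨hE₃c, hE₃d, hE₃n⟩ := (Cfsg.Agent.S1415.result hG M hM E hE).2.2 E₃ hE₃
  apply le_antisymm
  swap
  · exact inf_le_inf_left _ (Subgroup.centralizer_le (Set.singleton_subset_iff.mpr hx))
  intro y hy
  rw [Subgroup.mem_inf] at hy ⊢
  obtain ⟨hyσ, hyx⟩ := hy
  refine ⟨hyσ, ?_⟩
  -- a subgroup `P₀ ≤ ⟨x⟩` of prime order `p`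
  have ho1 : orderOf x ≠ 1 := fun h => hx1 (orderOf_eq_one_iff.mp h)
  have ho0 : orderOf x ≠ 0 := (orderOf_pos x).ne'
  obtain ⟨p, hp, hpo⟩ := Nat.exists_prime_and_dvd ho1
  obtain ⟨x₀, hx₀⟩ : ∃ x₀ : G, x₀ = x ^ (orderOf x / p) := ⟨_, rfl⟩
  have hx₀o : orderOf x₀ = p := by rw [hx₀]; exact orderOf_pow_orderOf_div ho0 hpo
  have hx₀E₃ : x₀ ∈ E₃ := by rw [hx₀]; exact Subgroup.pow_mem _ hx _
  have hP₀c : Nat.card (Subgroup.zpowers x₀) = p := by rw [Nat.card_zpowers, hx₀o]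
  have hP₀E₃ : Subgroup.zpowers x₀ ≤ E₃ := by rw [Subgroup.zpowers_le]; exact hx₀E₃
  have hyP₀ : y ∈ Subgroup.centralizer ((Subgroup.zpowers x₀ : Subgroup G) : Set G) := by
    have h1 := Cfsg.Agent.Lib.Helper13.BG135.mem_centralizer_zpowers hyx
    have hle : Subgroup.zpowers x₀ ≤ Subgroup.zpowers x := by
      rw [Subgroup.zpowers_le, hx₀]; exact Subgroup.pow_mem _ (Subgroup.mem_zpowers x) _
    exact Subgroup.centralizer_le (by exact_mod_cast hle) h1
  have hyCP : y ∈ CP M (Subgroup.zpowers x₀) := ⟨hyσ, hyP₀⟩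
  -- `C(y) ∩ E₃` contains a Sylow `u`-subgroup of `E₃` for every prime `u`
  have key : (Subgroup.centralizer ({y} : Set G)).subgroupOf E₃ = ⊤ := by
    apply Cfsg.Agent.Lib.Helper71.eq_top_of_forall_sylow_le
    intro u hu
    obtain ⟨S⟩ : Nonempty (Sylow u ↥E₃) := inferInstance
    refine ⟨S, ?_⟩
    by_cases hS1 : (S : Subgroup ↥E₃) = ⊥
    · rw [hS1]; exact bot_le
    have hSG : IsSylowIn u E₃ ((S : Subgroup ↥E₃).map E₃.subtype) := isSylowIn_of_sylow S
    obtain ⟨SG, hSGdef⟩ : ∃ SG : Subgroup G, SG = (S : Subgroup ↥E₃).map E₃.subtype := ⟨_, rfl⟩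
    rw [← hSGdef] at hSG
    have hSG1 : SG ≠ ⊥ := by
      intro h
      apply hS1
      rw [hSGdef, Subgroup.map_eq_bot_iff_of_injective _ (Subgroup.subtype_injective _)] at h
      exact h
    have huSG : u ∣ Nat.card SG := by
      obtain ⟨k, hk⟩ := (IsPGroup.iff_card).1 hSG.2.1
      have hk0 : k ≠ 0 := by
        intro h0
        rw [h0, pow_zero] at hk
        exact hSG1 (Subgroup.card_eq_one.mp hk)
      rw [hk]
      exact dvd_pow_self u hk0
    have huE₃ : u ∣ Nat.card E₃ := huSG.trans (Subgroup.card_dvd_of_le hSG.1)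
    have huτ : u ∈ tau3 M := hE₃.2.1 u hu.out huE₃
    -- `SG` is a Sylow `u`-subgroup of `E`
    have hSGE : IsSylowIn u E SG := by
      apply Cfsg.Agent.Lib.Helper13.BG134.a1_isSylowIn_of_not_dvd_relIndex (hSG.1.trans hE₃.1)
        hSG.2.1
      rw [← Subgroup.relIndex_mul_relIndex SG E₃ E hSG.1 hE₃.1]
      intro hdvd
      rcases hu.out.dvd_mul.mp hdvd with h | h
      · exact Cfsg.Agent.Lib.Helper71.BG10.sylow_not_dvd_relIndex hSG h
      · exact hE₃.2.2 u hu.out huτ h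
    -- an element `z` of order `u` in `SG`
    obtain ⟨z, hz⟩ := exists_prime_orderOf_dvd_card' u huSG
    have hzo : orderOf (z : G) = u := by rw [Subgroup.orderOf_coe]; exact hz
    have hz1 : (z : G) ≠ 1 := by
      intro h
      rw [h, orderOf_one] at hzo
      exact hu.out.one_lt.ne hzo
    have hzE₃ : (z : G) ∈ E₃ := hSG.1 z.2
    have hUc : Nat.card (Subgroup.zpowers (z : G)) = u := by rw [Nat.card_zpowers, hzo]
    have hUE₃ : Subgroup.zpowers (z : G) ≤ E₃ := by rw [Subgroup.zpowers_le]; exact hzE₃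
    have h1 := cp_le_centralizer_of_prime hG hM hE hE₃ hP₀E₃ hUE₃ hp hP₀c hu.out hUc hyCP
    have hyz : y ∈ Subgroup.centralizer ({(z : G)} : Set G) :=
      Subgroup.centralizer_le (Set.singleton_subset_iff.mpr (Subgroup.mem_zpowers _)) h1
    -- S1427 for the cyclic Sylow subgroup `SG` of `E`
    have hcyc : IsCyclic ((hSGE.toSylow : Sylow u ↥E) : Subgroup ↥E) := by
      rw [hSGE.coe_toSylow]
      haveI : IsCyclic ↥E₃ := hE₃c
      haveI : IsCyclic ↥SG := Subgroup.isCyclic_of_le hSG.1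
      exact isCyclic_of_surjective (Subgroup.subgroupOfEquivOfLe (hSG.1.trans hE₃.1)).symm
        (Subgroup.subgroupOfEquivOfLe (hSG.1.trans hE₃.1)).symm.surjective
    have hne : ((hSGE.toSylow : Sylow u ↥E) : Subgroup ↥E) ≠ ⊥ := by
      intro h
      apply hSG1
      have := hSGE.map_toSylow
      rw [h, Subgroup.map_bot] at this
      exact this.symm
    have h27 := Cfsg.Agent.S1427.result hG M hM E hE u hSGE.toSylow hne hcyc (z : G)
      (by rw [hSGE.map_toSylow]; exact z.2) hz1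
    rw [hSGE.map_toSylow] at h27
    have hySG : y ∈ Subgroup.centralizer (SG : Set G) := by
      have : y ∈ sigmaCore M ⊓ Subgroup.centralizer ({(z : G)} : Set G) := ⟨hyσ, hyz⟩
      rw [h27] at this
      exact this.2
    intro s hs
    rw [Subgroup.mem_subgroupOf, Subgroup.mem_centralizer_iff]
    intro g hg
    rw [Set.mem_singleton_iff] at hg
    subst hg
    have hsSG : (s : G) ∈ SG := by rw [hSGdef]; exact ⟨s, hs, rfl⟩
    exact ((Subgroup.mem_centralizer_iff.mp hySG) _ hsSG).symm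
  rw [Subgroup.subgroupOf_eq_top] at key
  rw [Subgroup.mem_centralizer_iff]
  intro g hg
  exact ((Subgroup.mem_centralizer_iff.mp (key hg)) y rfl).symm

/-- **LEAF B (131002)  prime_action_tau3** = BG 13.3(b), subgroup form. -/
theorem prime_action_tau3 (hG : IsMinSimpleOddOrder G) {M E E₃ : Subgroup G} (hM : IsCoatom M)
    (hE : IsComplIn E (sigmaCore M) M) (hE₃ : IsPiHallOf (tau3 M) E₃ E) {Y : Subgroup G}
    (hY : Y ≤ E₃) (hY1 : Y ≠ ⊥) : CP M Y = CP M E₃ := by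
  apply le_antisymm
  · obtain ⟨x, hx1⟩ := (Subgroup.ne_bot_iff_exists_ne_one).mp hY1
    have hx1' : (x : G) ≠ 1 := fun h => hx1 (Subtype.ext h)
    show sigmaCore M ⊓ Subgroup.centralizer (Y : Set G) ≤
      sigmaCore M ⊓ Subgroup.centralizer (E₃ : Set G)
    rw [← prime_action_tau3_elt hG hM hE hE₃ (hY x.2) hx1']
    exact inf_le_inf_left _ (Subgroup.centralizer_le (Set.singleton_subset_iff.mpr x.2))
  · exact inf_le_inf_left _ (Subgroup.centralizer_le (by exact_mod_cast hY))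

end Cfsg.Agent.Lib.Helper90.BG1310
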