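import Mathlib
import Cfsg.Agent.Lib.Helper11.BG14DDefs
import Cfsg.Agent.Lib.Helper32.CoprimeHall
import Cfsg.Agent.Lib.Helper13.BG12B
import Cfsg.Agent.Lib.Helper16.BG134Base
import Cfsg.Agent.Lib.Helper31.FittingHall
import Cfsg.Agent.Lib.Helper54.Conj
import Cfsg.Agent.Lib.Helper71.BG11a

/-!
# K-1370-W1 (keystone 137006, architect helper11, S1365): `free_action`

For ANY standard factorisation `M = K U M_σ` with `K ≠ 1`: `U` is abelian and `K` acts freely on it
(from the statement of S1430 by Hall conjugacy in the solvable group `M`).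
-/

set_option autoImplicit false
set_option linter.unusedSectionVars false
set_option linter.unusedVariables false

namespace Cfsg.Agent.Lib.Helper90.BG14D

open Cfsg Subgroup Cfsg.Agent.Lib.Helper11.BG14D Cfsg.Agent.Lib.Helper55
open scoped Pointwise

variable {G : Type*} [Group G] [Finite G]

omit [Finite G] in
theorem mem_conj_smul_iff (H : Subgroup G) (g x : G) :
    x ∈ MulAut.conj g • H ↔ g⁻¹ * x * g ∈ H := by
  rw [Subgroup.mem_pointwise_smul_iff_inv_smul_mem]
  simp [MulAut.smul_def]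

omit [Finite G] in
/-- `|A ⊔ B| = |A| |B|` when `B` normalizes `A` and `A ∩ B = 1` -/
theorem card_sup_of_le_normalizer {A B : Subgroup G} (hn : B ≤ normalizer (A : Set G))
    (hd : A ⊓ B = ⊥) : Nat.card ↥(A ⊔ B) = Nat.card A * Nat.card B := by
  have h : IsComplIn A B (A ⊔ B) :=
    ⟨le_sup_left, le_sup_right, hd, fun m hm =>
      Cfsg.Agent.Lib.Helper54.exists_mul_of_mem_sup_of_le_normalizer hn hm⟩
  exact (Cfsg.Agent.Lib.Helper31.IsComplIn.card_mul h).symm

omit [Finite G] in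
theorem card_mul_relIndex {H K : Subgroup G} (h : H ≤ K) :
    Nat.card H * H.relIndex K = Nat.card K := by
  have := Subgroup.relIndex_mul_relIndex ⊥ H K bot_le h
  rwa [Subgroup.relIndex_bot_left, Subgroup.relIndex_bot_left] at this

/-- **K-1370-W1 (137006)**. -/
theorem free_action (hG : IsMinSimpleOddOrder G) (h30 : H1430 G) (M : Subgroup G) (hM : IsCoatom M)
    (K U : Subgroup G) (hKU : IsSigmaDecomposition M K U) (hK1 : K ≠ ⊥) :
    IsMulCommutative U ∧ ∀ k ∈ K, k ≠ 1 → U ⊓ centralizer ({k} : Set G) = ⊥ := by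
  obtain ⟨-, ⟨U0, hU0c, hU0, hKU0, hfree0⟩, -⟩ := h30 M hM K hKU.hall hK1
  have hHall := Cfsg.Agent.Lib.Helper16.BG134.hall_sigma hG hM
  have hMsol : Group.IsSolvable ↥M := ms_solvable hG hM.1
  have hKM : K ≤ M := hKU.hall.1
  have hUM : U ≤ M := hKU.compl.1
  have hσM : sigmaCore M ≤ M := hHall.1
  have hU0M : U0 ≤ M := hU0.1
  -- prime sets
  have hκ : ∀ p : ℕ, p.Prime → p ∣ Nat.card K → p ∈ kappa M := hKU.hall.2.1
  have hσ : ∀ p : ℕ, p.Prime → p ∣ Nat.card ↥(sigmaCore M) → p ∈ sigma M := hHall.2.1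
  have hκσ : ∀ p : ℕ, p ∈ kappa M → p ∉ sigma M := fun p h => h.2.2.1
  have hac : (Nat.card K).Coprime (Nat.card ↥(sigmaCore M)) :=
    Cfsg.Agent.Lib.Helper13.BG12.coprime_of_primes_disjoint (π := sigma M)
      (fun p hp hpa => hκσ p (hκ p hp hpa)) hσ
  have hKσ : sigmaCore M ⊓ K = ⊥ := by
    rw [inf_comm]; exact (Subgroup.disjoint_of_coprime_natCard hac).eq_bot
  have hKnσ : K ≤ normalizer (sigmaCore M : Set G) :=
    hKM.trans (Cfsg.Agent.Lib.Helper71.BG11.le_normalizer_sigmaCore M)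
  have hcardKσ : Nat.card ↥(K ⊔ sigmaCore M) = Nat.card ↥(sigmaCore M) * Nat.card K := by
    rw [sup_comm]; exact card_sup_of_le_normalizer hKnσ hKσ
  have hMcard : Nat.card U * (Nat.card ↥(sigmaCore M) * Nat.card K) = Nat.card M := by
    rw [← hcardKσ]; exact Cfsg.Agent.Lib.Helper31.IsComplIn.card_mul hKU.compl
  have hKpos : 0 < Nat.card K := Nat.card_pos
  have hσpos : 0 < Nat.card ↥(sigmaCore M) := Nat.card_pos
  have hUpos : 0 < Nat.card U := Nat.card_pos
  -- the primes of `|U|`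
  have hbπ : ∀ p : ℕ, p.Prime → p ∣ Nat.card U → p ∉ kappa M ∧ p ∉ sigma M := by
    intro p hp hpb
    constructor
    · intro hpκ
      apply hKU.hall.2.2 p hp hpκ
      have h1 := card_mul_relIndex hKM
      have h2 : K.relIndex M = Nat.card U * Nat.card ↥(sigmaCore M) := by
        have : Nat.card K * K.relIndex M =
            Nat.card K * (Nat.card U * Nat.card ↥(sigmaCore M)) := by
          rw [h1, ← hMcard]; ring
        exact Nat.eq_of_mul_eq_mul_left hKpos this
      rw [h2]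
      exact Dvd.dvd.mul_right hpb _
    · intro hpσ
      apply hHall.2.2 p hp hpσ
      have h1 := card_mul_relIndex hσM
      have h2 : (sigmaCore M).relIndex M = Nat.card U * Nat.card K := by
        have : Nat.card ↥(sigmaCore M) * (sigmaCore M).relIndex M =
            Nat.card ↥(sigmaCore M) * (Nat.card U * Nat.card K) := by
          rw [h1, ← hMcard]; ring
        exact Nat.eq_of_mul_eq_mul_left hσpos this
      rw [h2]
      exact Dvd.dvd.mul_right hpb _
  -- `|U0| = |U|`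
  have hb0π : ∀ p : ℕ, p.Prime → p ∣ Nat.card U0 → p ∉ kappa M ∧ p ∉ sigma M :=
    fun p hp hpd => (hU0.2.1 p hp hpd).2
  have hb0 : Nat.card U0 = Nat.card U := by
    apply Nat.dvd_antisymm
    · have h1 : Nat.card U0 ∣ Nat.card U * (Nat.card ↥(sigmaCore M) * Nat.card K) := by
        rw [hMcard]; exact Subgroup.card_dvd_of_le hU0M
      have hcop : (Nat.card U0).Coprime (Nat.card ↥(sigmaCore M) * Nat.card K) := by
        apply Nat.Coprime.mul_right
        · exact Cfsg.Agent.Lib.Helper13.BG12.coprime_of_primes_disjoint (π := sigma M)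
            (fun p hp hpd => (hb0π p hp hpd).2) hσ
        · exact Cfsg.Agent.Lib.Helper13.BG12.coprime_of_primes_disjoint (π := kappa M)
            (fun p hp hpd => (hb0π p hp hpd).1) hκ
      exact hcop.dvd_of_dvd_mul_right h1
    · have h1 := card_mul_relIndex hU0M
      have h2 : Nat.card U ∣ Nat.card U0 * U0.relIndex M := by
        rw [h1]; exact Subgroup.card_dvd_of_le hUM
      have hcop : (Nat.card U).Coprime (U0.relIndex M) := by
        apply Nat.coprime_of_dvd
        intro p hp hpb hpr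
        exact hU0.2.2 p hp ⟨hp, hbπ p hp hpb⟩ hpr
      exact hcop.dvd_of_dvd_mul_right h2
  -- `|U ⊔ K|` and `|U0 ⊔ K|`
  have hab : (Nat.card U).Coprime (Nat.card K) :=
    Cfsg.Agent.Lib.Helper13.BG12.coprime_of_primes_disjoint (π := kappa M)
      (fun p hp hpd => (hbπ p hp hpd).1) hκ
  have hUK : U ⊓ K = ⊥ := (Subgroup.disjoint_of_coprime_natCard hab).eq_bot
  have hU0K : U0 ⊓ K = ⊥ := by
    have : (Nat.card U0).Coprime (Nat.card K) := by rw [hb0]; exact hab
    exact (Subgroup.disjoint_of_coprime_natCard this).eq_bot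
  have hLcard : Nat.card ↥(U ⊔ K) = Nat.card U * Nat.card K :=
    card_sup_of_le_normalizer hKU.normal hUK
  have hL0card : Nat.card ↥(U0 ⊔ K) = Nat.card U * Nat.card K := by
    rw [← hb0]; exact card_sup_of_le_normalizer hKU0 hU0K
  have hLM : U ⊔ K ≤ M := sup_le hUM hKM
  have hL0M : U0 ⊔ K ≤ M := sup_le hU0M hKM
  -- step A: conjugate `U0 ⊔ K` onto `U ⊔ K` in `M`
  obtain ⟨g, hgM, hg⟩ := Cfsg.Agent.Lib.Helper32.hall_conj_in M hMsol
    (Nat.card U * Nat.card K) (Nat.card ↥(sigmaCore M))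
    (by rw [← hMcard]; ring)
    (Nat.Coprime.mul_left
      (Cfsg.Agent.Lib.Helper13.BG12.coprime_of_primes_disjoint (π := sigma M)
        (fun p hp hpd => (hbπ p hp hpd).2) hσ) hac)
    hL0M hLM hL0card hLcard
  -- the group `L = U ⊔ K`
  have hLtop : U ⊔ K ≠ ⊤ := by
    intro h
    apply hM.1
    rw [eq_top_iff, ← h]
    exact hLM
  have hLsol : Group.IsSolvable ↥(U ⊔ K) := ms_solvable hG hLtop
  have hLN : U ⊔ K ≤ normalizer (U : Set G) := sup_le Subgroup.le_normalizer hKU.normal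
  -- step B: conjugate `g U0 g⁻¹` onto `U` in `L`
  have hgU0L : MulAut.conj g • U0 ≤ U ⊔ K := by
    rw [← hg]
    exact Subgroup.pointwise_smul_le_pointwise_smul_iff.mpr le_sup_left
  have hgKL : MulAut.conj g • K ≤ U ⊔ K := by
    rw [← hg]
    exact Subgroup.pointwise_smul_le_pointwise_smul_iff.mpr le_sup_right
  obtain ⟨v, hvL, hv⟩ := Cfsg.Agent.Lib.Helper32.hall_conj_in (U ⊔ K) hLsol
    (Nat.card U) (Nat.card K) hLcard hab hgU0L le_sup_left
    (by rw [Cfsg.Agent.Lib.Helper01.card_conj_smul, hb0]) rfl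
  -- step C: conjugate `v g K g⁻¹ v⁻¹` onto `K` in `L`
  have hvgKL : MulAut.conj v • (MulAut.conj g • K) ≤ U ⊔ K :=
    Subgroup.conj_smul_le_of_le hgKL ⟨v, hvL⟩
  obtain ⟨w, hwL, hw⟩ := Cfsg.Agent.Lib.Helper32.hall_conj_in (U ⊔ K) hLsol
    (Nat.card K) (Nat.card U) (by rw [hLcard, mul_comm]) hab.symm hvgKL le_sup_right
    (by rw [Cfsg.Agent.Lib.Helper01.card_conj_smul, Cfsg.Agent.Lib.Helper01.card_conj_smul]) rfl
  have hwU : MulAut.conj w • U = U :=
    Cfsg.Agent.Lib.Helper01.mem_normalizer_iff_conj_smul.mp (hLN hwL)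
  -- the conjugating element
  obtain ⟨m, hm⟩ : ∃ m : G, m = w * (v * g) := ⟨_, rfl⟩
  have hmK : MulAut.conj m • K = K := by
    rw [hm, ← Cfsg.Agent.Lib.Helper01.conj_smul_conj_smul,
      ← Cfsg.Agent.Lib.Helper01.conj_smul_conj_smul]
    exact hw
  have hmU : MulAut.conj m • U0 = U := by
    rw [hm, ← Cfsg.Agent.Lib.Helper01.conj_smul_conj_smul,
      ← Cfsg.Agent.Lib.Helper01.conj_smul_conj_smul, hv]
    exact hwU
  have hUmem : ∀ u ∈ U, m⁻¹ * u * m ∈ U0 := by
    intro u hu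
    rw [← hmU] at hu
    exact (mem_conj_smul_iff U0 m u).mp hu
  have hKmem : ∀ k ∈ K, m⁻¹ * k * m ∈ K := by
    intro k hk
    have hk' : k ∈ MulAut.conj m • K := by rw [hmK]; exact hk
    exact (mem_conj_smul_iff K m k).mp hk'
  refine ⟨⟨⟨fun x y => ?_⟩⟩, ?_⟩
  · -- `U` is abelian
    apply Subtype.ext
    have hx := hUmem x x.2
    have hy := hUmem y y.2
    have hc := hU0c.is_comm.comm ⟨_, hx⟩ ⟨_, hy⟩
    have hc' : (m⁻¹ * x * m) * (m⁻¹ * y * m) = (m⁻¹ * y * m) * (m⁻¹ * x * m) :=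
      congrArg Subtype.val hc
    have e1 : (x : G) * y = m * ((m⁻¹ * x * m) * (m⁻¹ * y * m)) * m⁻¹ := by group
    have e2 : (y : G) * x = m * ((m⁻¹ * y * m) * (m⁻¹ * x * m)) * m⁻¹ := by group
    show (x : G) * y = y * x
    rw [e1, e2, hc']
  · -- free action
    intro k hk hk1
    rw [eq_bot_iff]
    intro u hu
    rw [Subgroup.mem_inf] at hu
    obtain ⟨huU, huk⟩ := hu
    have hk0 := hKmem k hk
    have hk01 : m⁻¹ * k * m ≠ 1 := by
      intro h
      apply hk1
      have : k = m * (m⁻¹ * k * m) * m⁻¹ := by group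
      rw [this, h]
      group
    have hu0 := hUmem u huU
    have hcomm : k * u = u * k := (Subgroup.mem_centralizer_iff.mp huk) k rfl
    have hu0c : m⁻¹ * u * m ∈ centralizer ({m⁻¹ * k * m} : Set G) := by
      rw [Subgroup.mem_centralizer_iff]
      intro z hz
      rw [Set.mem_singleton_iff] at hz
      subst hz
      have e1 : m⁻¹ * k * m * (m⁻¹ * u * m) = m⁻¹ * (k * u) * m := by group
      have e2 : m⁻¹ * u * m * (m⁻¹ * k * m) = m⁻¹ * (u * k) * m := by group
      rw [e1, e2, hcomm]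
    have h1 : m⁻¹ * u * m ∈ U0 ⊓ centralizer ({m⁻¹ * k * m} : Set G) :=
      Subgroup.mem_inf.mpr ⟨hu0, hu0c⟩
    rw [hfree0 _ hk0 hk01, Subgroup.mem_bot] at h1
    rw [Subgroup.mem_bot]
    have : u = m * (m⁻¹ * u * m) * m⁻¹ := by group
    rw [this, h1]
    group

end Cfsg.Agent.Lib.Helper90.BG14D
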