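import Mathlib
import Cfsg.Prelude.Def_Blocks
import Cfsg.Agent.Lib.Helper01.CD3Defs
import Cfsg.Agent.Lib.Helper83.LinearCount
import Cfsg.Agent.Lib.Helper04.CharScalar

/-!
Pack K-CD3 (S4460, architect helper1), keystone 446023 K-CD3-KBOT, hypothesis version:
`case_K_bot_of` is `case_K_bot` with the statements of the leaves 446021 (`key_core`) and
446022 (`eq_one_of_norm_eq_degree`) for the group `G` as hypotheses.
-/

set_option autoImplicit false

namespace Cfsg.Agent.Lib.Helper90.CD3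

open Cfsg Cfsg.Agent.Lib.Helper01.CD3 Cfsg.Agent.Lib.Helper83

universe u

/-- a nonlinear irreducible character is faithful when every nontrivial normal subgroup contains `G'` -/
theorem faithful_of_quot {G : Type u} [Group G] [Finite G]
    (hquot : ∀ L : Subgroup G, L.Normal → L ≠ ⊥ → commutator G ≤ L)
    {φ : G → ℂ} (hφ : IsIrrCharacter G φ) {d : ℕ} (hd : charDegree φ = d) (h1 : 1 < d) :
    ∀ g : G, φ g = φ 1 → g = 1 := by
  intro g hg
  by_contra hne
  have hker : charKer (isCharacter_of_irr hφ) ≠ ⊥ := by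
    intro hb
    have hmem : g ∈ charKer (isCharacter_of_irr hφ) := (mem_charKer _ g).2 hg
    rw [hb] at hmem
    exact hne (Subgroup.mem_bot.1 hmem)
  have hle := hquot _ (charKer_normal (isCharacter_of_irr hφ)) hker
  have hlin := irr_linear_of_commutator_le ⟨φ, hφ⟩
    (fun x hx => (mem_charKer (isCharacter_of_irr hφ) x).1 (hle hx))
  have hdeg : charDegree φ = 1 := by
    have h2 := charDegree_cast (isCharacter_of_irr hφ)
    have hlin' : φ 1 = 1 := hlin
    rw [hlin'] at h2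
    exact_mod_cast h2
  omega

/-- `case_K_bot` from the statements of `key_core` and `eq_one_of_norm_eq_degree` for `G` -/
theorem case_K_bot_of {G : Type u} [Group G] [Finite G] {m n : ℕ} (hm : 1 < m) (hn : 1 < n)
    (hkey : ∀ χ ψ : G → ℂ, IsIrrCharacter G χ → IsIrrCharacter G ψ →
      charDegree χ = m → charDegree ψ = n →
      (∀ g : G, ‖χ g‖ = (m : ℝ) → g = 1) → (∀ g : G, ‖ψ g‖ = (n : ℝ) → g = 1) → False)
    (hZ : ∀ χ : G → ℂ, IsIrrCharacter G χ → (∀ g : G, χ g = χ 1 → g = 1) →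
      Subgroup.center G = ⊥ → ∀ d : ℕ, charDegree χ = d → ∀ g : G, ‖χ g‖ = (d : ℝ) → g = 1)
    (hm' : ∃ χ : G → ℂ, IsIrrCharacter G χ ∧ charDegree χ = m)
    (hn' : ∃ χ : G → ℂ, IsIrrCharacter G χ ∧ charDegree χ = n)
    (hquot : ∀ L : Subgroup G, L.Normal → L ≠ ⊥ → commutator G ≤ L) :
    derivedSeries G 2 = ⊥ := by
  by_cases hc : Subgroup.center G = ⊥
  · obtain ⟨χ, hχ, hχm⟩ := hm'
    obtain ⟨ψ, hψ, hψn⟩ := hn'
    exact (hkey χ ψ hχ hψ hχm hψn
      (hZ χ hχ (faithful_of_quot hquot hχ hχm hm) hc m hχm)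
      (hZ ψ hψ (faithful_of_quot hquot hψ hψn hn) hc n hψn)).elim
  · have hle : commutator G ≤ Subgroup.center G := hquot _ inferInstance hc
    have h2 : derivedSeries G 2 = ⁅derivedSeries G 1, derivedSeries G 1⁆ := derivedSeries_succ G 1
    rw [h2, derivedSeries_one, Subgroup.commutator_eq_bot_iff_le_centralizer]
    exact hle.trans (Subgroup.center_le_centralizer _)

/-- own copy of leaf 446022: for a faithful irreducible character of a group with trivial centre,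
`‖χ g‖ = χ 1` only for `g = 1` -/
theorem eq_one_of_norm_eq_degree' {G : Type u} [Group G] [Finite G] {χ : G → ℂ}
    (hχ : IsIrrCharacter G χ) (hfaith : ∀ g : G, χ g = χ 1 → g = 1)
    (hZ : Subgroup.center G = ⊥) {d : ℕ} (hd : charDegree χ = d) :
    ∀ g : G, ‖χ g‖ = (d : ℝ) → g = 1 := by
  intro g hg
  obtain ⟨n, ρ, _, rfl⟩ := hχ
  have hdn : (d : ℝ) = (Module.finrank ℂ (Fin n → ℂ) : ℝ) := by
    have h1 := charDegree_cast (χ := ρ.character) ⟨n, ρ, rfl⟩
    rw [hd, Representation.char_one] at h1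
    have h2 : d = Module.finrank ℂ (Fin n → ℂ) := by exact_mod_cast h1
    rw [h2]
  rw [hdn] at hg
  obtain ⟨ω, hω⟩ := (Cfsg.Agent.Lib.Helper04.norm_char_eq_iff ρ g).1 hg
  have hcen : g ∈ Subgroup.center G := by
    rw [Subgroup.mem_center_iff]
    intro h
    have hc : ρ h * ρ g = ρ g * ρ h := by
      rw [hω]
      ext v
      simp
    have hcomm : ρ (h * g * h⁻¹ * g⁻¹) = 1 := by
      calc ρ (h * g * h⁻¹ * g⁻¹) = ρ h * ρ g * ρ h⁻¹ * ρ g⁻¹ := by simp [map_mul]
        _ = ρ g * ρ h * ρ h⁻¹ * ρ g⁻¹ := by rw [hc]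
        _ = ρ g * (ρ h * ρ h⁻¹) * ρ g⁻¹ := by rw [mul_assoc (ρ g)]
        _ = 1 := by
          rw [← map_mul ρ h, mul_inv_cancel, map_one, mul_one, ← map_mul, mul_inv_cancel, map_one]
    have h1 : h * g * h⁻¹ * g⁻¹ = 1 := hfaith _ ((rep_char_eq_one_iff ρ _).2 hcomm)
    have h2 : h * g * h⁻¹ = g := mul_inv_eq_one.1 h1
    exact mul_inv_eq_iff_eq_mul.1 h2
  rw [hZ] at hcen
  exact Subgroup.mem_bot.1 hcen

/-- `case_K_bot` from the statement of `key_core` for `G` alone -/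
theorem case_K_bot_of_key {G : Type u} [Group G] [Finite G] {m n : ℕ} (hm : 1 < m) (hn : 1 < n)
    (hkey : ∀ χ ψ : G → ℂ, IsIrrCharacter G χ → IsIrrCharacter G ψ →
      charDegree χ = m → charDegree ψ = n →
      (∀ g : G, ‖χ g‖ = (m : ℝ) → g = 1) → (∀ g : G, ‖ψ g‖ = (n : ℝ) → g = 1) → False)
    (hm' : ∃ χ : G → ℂ, IsIrrCharacter G χ ∧ charDegree χ = m)
    (hn' : ∃ χ : G → ℂ, IsIrrCharacter G χ ∧ charDegree χ = n)
    (hquot : ∀ L : Subgroup G, L.Normal → L ≠ ⊥ → commutator G ≤ L) :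
    derivedSeries G 2 = ⊥ :=
  case_K_bot_of hm hn hkey
    (fun _ hχ hf hc _ hd => eq_one_of_norm_eq_degree' hχ hf hc hd) hm' hn' hquot

end Cfsg.Agent.Lib.Helper90.CD3
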