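import Mathlib

set_option autoImplicit false

/-!
The stability group of a chain of subgroups: an automorphism `β` of a group `P` of exponent dividing `m`
which acts trivially on the factors of a chain `⊥ = c 0 ≤ c 1 ≤ …` has `β ^ (m ^ j)` trivial on `c j`.
In particular, for a finite `p`-group the stability group of a chain reaching `⊤` is a `p`-group.
-/

namespace Cfsg.Agent.Lib.Helper90

variable {P : Type*} [Group P]

/-- If `β` fixes `L` pointwise and moves each `x ∈ U` inside its coset `x L`, then `β ^ k x = x * r ^ k`. -/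
theorem stab_pow_apply (β : MulAut P) (L : Subgroup P) (hL : ∀ r ∈ L, β r = r) (x : P)
    (hx : x⁻¹ * β x ∈ L) (k : ℕ) : (β ^ k) x = x * (x⁻¹ * β x) ^ k := by
  induction k with
  | zero => simp
  | succ k ih =>
    rw [pow_succ', MulAut.mul_apply, ih, map_mul, map_pow, hL _ hx, pow_succ' (x⁻¹ * β x) k]
    simp only [mul_assoc, mul_inv_cancel_left]

/-- The chain condition is inherited by powers. -/
theorem stab_chain_pow_mem (c : ℕ → Subgroup P) (hmono : Monotone c) (β : MulAut P)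
    (hβ : ∀ i, ∀ x ∈ c (i + 1), x⁻¹ * β x ∈ c i) (k : ℕ) :
    ∀ i, ∀ x ∈ c (i + 1), x⁻¹ * (β ^ k) x ∈ c i := by
  induction k with
  | zero => intro i x _; simp
  | succ k ih =>
    intro i x hx
    have h1 := ih i x hx
    have hy : (β ^ k) x ∈ c (i + 1) := by
      have e : (β ^ k) x = x * (x⁻¹ * (β ^ k) x) := by group
      rw [e]
      exact (c (i + 1)).mul_mem hx (hmono (Nat.le_succ i) h1)
    have h2 := hβ i _ hy
    have e : x⁻¹ * (β ^ (k + 1)) x = (x⁻¹ * (β ^ k) x) * (((β ^ k) x)⁻¹ * β ((β ^ k) x)) := by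
      rw [pow_succ', MulAut.mul_apply]
      group
    rw [e]
    exact (c i).mul_mem h1 h2

/-- An automorphism stabilizing a chain acts trivially on `c j` after raising to the power `m ^ j`. -/
theorem stab_chain_pow {m : ℕ} (hm : ∀ x : P, x ^ m = 1) (c : ℕ → Subgroup P) (hc0 : c 0 = ⊥)
    (hmono : Monotone c) (β : MulAut P) (hβ : ∀ i, ∀ x ∈ c (i + 1), x⁻¹ * β x ∈ c i) :
    ∀ j, ∀ x ∈ c j, (β ^ (m ^ j)) x = x := by
  intro j
  induction j with
  | zero =>
    intro x hx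
    rw [hc0, Subgroup.mem_bot] at hx
    rw [hx, map_one]
  | succ j ih =>
    intro x hx
    have h1 := stab_chain_pow_mem c hmono β hβ (m ^ j) j x hx
    have h2 := stab_pow_apply (β ^ (m ^ j)) (c j) ih x h1 m
    rw [hm, mul_one] at h2
    rw [pow_succ, pow_mul]
    exact h2

/-- If moreover `c n = ⊤`, then `β ^ (m ^ n) = 1`. -/
theorem stab_chain_pow_eq_one {m : ℕ} (hm : ∀ x : P, x ^ m = 1) (c : ℕ → Subgroup P) (hc0 : c 0 = ⊥)
    (hmono : Monotone c) (n : ℕ) (hcn : c n = ⊤) (β : MulAut P)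
    (hβ : ∀ i, ∀ x ∈ c (i + 1), x⁻¹ * β x ∈ c i) : β ^ (m ^ n) = 1 := by
  ext x
  exact stab_chain_pow hm c hc0 hmono β hβ n x (by rw [hcn]; trivial)

/-- The (symmetric) stability group of a monotone chain `c` of subgroups. -/
def stabChain (c : ℕ → Subgroup P) (hmono : Monotone c) : Subgroup (MulAut P) where
  carrier := {β | ∀ i, ∀ x ∈ c (i + 1), x⁻¹ * β x ∈ c i ∧ x⁻¹ * β⁻¹ x ∈ c i}
  one_mem' := by
    intro i x _
    simp
  mul_mem' := by
    intro a b ha hb i x hx
    have hbx : b x ∈ c (i + 1) := by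
      have e : b x = x * (x⁻¹ * b x) := by group
      rw [e]
      exact (c (i + 1)).mul_mem hx (hmono (Nat.le_succ i) (hb i x hx).1)
    have hax : a⁻¹ x ∈ c (i + 1) := by
      have e : a⁻¹ x = x * (x⁻¹ * a⁻¹ x) := by group
      rw [e]
      exact (c (i + 1)).mul_mem hx (hmono (Nat.le_succ i) (ha i x hx).2)
    constructor
    · have e : x⁻¹ * (a * b) x = (x⁻¹ * b x) * ((b x)⁻¹ * a (b x)) := by
        rw [MulAut.mul_apply]; group
      rw [e]
      exact (c i).mul_mem (hb i x hx).1 (ha i _ hbx).1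
    · have e : x⁻¹ * (a * b)⁻¹ x = (x⁻¹ * a⁻¹ x) * ((a⁻¹ x)⁻¹ * b⁻¹ (a⁻¹ x)) := by
        rw [mul_inv_rev, MulAut.mul_apply]; group
      rw [e]
      exact (c i).mul_mem (ha i x hx).2 (hb i _ hax).2
  inv_mem' := by
    intro a ha i x hx
    have := ha i x hx
    rw [inv_inv]
    exact ⟨this.2, this.1⟩

theorem mem_stabChain {c : ℕ → Subgroup P} {hmono : Monotone c} {β : MulAut P} :
    β ∈ stabChain c hmono ↔ ∀ i, ∀ x ∈ c (i + 1), x⁻¹ * β x ∈ c i ∧ x⁻¹ * β⁻¹ x ∈ c i := Iff.rfl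

/-- Conjugating by an automorphism preserving the chain preserves the stability group. -/
theorem stabChain_conj_mem (c : ℕ → Subgroup P) (hmono : Monotone c) (α : MulAut P)
    (hα : ∀ j, ∀ x ∈ c j, α x ∈ c j) (hα' : ∀ j, ∀ x ∈ c j, α⁻¹ x ∈ c j) {β : MulAut P}
    (hβ : β ∈ stabChain c hmono) : α * β * α⁻¹ ∈ stabChain c hmono := by
  intro i x hx
  have hy := hα' (i + 1) x hx
  have h := hβ i _ hy
  constructor
  · have e : x⁻¹ * (α * β * α⁻¹) x = α ((α⁻¹ x)⁻¹ * β (α⁻¹ x)) := by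
      rw [MulAut.mul_apply, MulAut.mul_apply, map_mul, map_inv, MulAut.apply_inv_self]
    rw [e]
    exact hα i _ h.1
  · have e : x⁻¹ * (α * β * α⁻¹)⁻¹ x = α ((α⁻¹ x)⁻¹ * β⁻¹ (α⁻¹ x)) := by
      rw [mul_inv_rev, mul_inv_rev, inv_inv, ← mul_assoc, MulAut.mul_apply, MulAut.mul_apply,
        map_mul, map_inv, MulAut.apply_inv_self]
    rw [e]
    exact hα i _ h.2

/-- For a finite `p`-group, the stability group of a chain from `⊥` to `⊤` is a `p`-group. -/
theorem stabChain_isPGroup [Finite P] {p : ℕ} [Fact p.Prime] (hP : IsPGroup p P) (c : ℕ → Subgroup P)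
    (hc0 : c 0 = ⊥) (hmono : Monotone c) (n : ℕ) (hcn : c n = ⊤) :
    IsPGroup p (stabChain c hmono) := by
  obtain ⟨e, he⟩ := hP.exists_card_eq
  intro β
  refine ⟨e * n, ?_⟩
  have hm : ∀ x : P, x ^ (p ^ e) = 1 := fun x => by rw [← he]; exact pow_card_eq_one'
  have h1 := stab_chain_pow_eq_one hm c hc0 hmono n hcn (β : MulAut P)
    (fun i x hx => (β.2 i x hx).1)
  apply Subtype.ext
  rw [Subgroup.coe_pow, pow_mul]
  exact h1

end Cfsg.Agent.Lib.Helper90
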