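import Mathlib
import Cfsg.Prelude.Def_FusionSystem
import Cfsg.Agent.Lib.Helper87.FusionBasic

set_option autoImplicit false

/-!
Automorphism groups in a fusion system: `F.autGroup P` and `autInducedBy K P` are closures of sets that
are already subgroups; here are the membership characterisations.
-/

namespace Cfsg.Agent.Lib.Helper90

open Cfsg Cfsg.FusionSystem Cfsg.Agent.Lib.Helper87

variable {Ω : Type*} [Group Ω] {S : Subgroup Ω}

/-- For `P ≤ S`, `α ∈ Aut_F(P)` iff `α` followed by the inclusion is a map of the system. -/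
theorem mem_autGroup_iff (F : FusionSystem S) {P : Subgroup Ω} (hP : P ≤ S) (α : MulAut P) :
    α ∈ F.autGroup P ↔ P.subtype.comp α.toMonoidHom ∈ F.Hom P := by
  constructor
  · intro h
    unfold FusionSystem.autGroup at h
    induction h using Subgroup.closure_induction with
    | mem a ha => exact ha
    | one => exact hom_congr F (subtype_mem F hP) (fun x => rfl)
    | mul a b _ _ ha hb =>
      refine comp_mem' F hb ha (fun x => (b x).2) (fun x => ?_)
      rfl
    | inv a _ ha =>
      obtain ⟨ψ, hψ, hψx, -⟩ := inv_mem' F ha (Q := P) (by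
        ext y
        constructor
        · rintro ⟨x, rfl⟩; exact (a x).2
        · intro hy
          exact ⟨a.symm ⟨y, hy⟩, by simp⟩)
      refine hom_congr F hψ (fun x => ?_)
      have := hψx (a⁻¹ x) x (by
        show ((a (a⁻¹ x) : P) : Ω) = x
        rw [MulAut.apply_inv_self])
      rw [this]; rfl
  · intro h
    exact Subgroup.subset_closure h

/-- `α ∈ Aut_K(P)` iff `α` is conjugation by some element of `K`. -/
theorem mem_autInducedBy_iff {K P : Subgroup Ω} (α : MulAut P) :
    α ∈ autInducedBy K P ↔ ∃ g ∈ K, ∀ x : P, ((α x : P) : Ω) = g * (x : Ω) * g⁻¹ := by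
  constructor
  · intro h
    unfold autInducedBy at h
    induction h using Subgroup.closure_induction with
    | mem a ha => exact ha
    | one => exact ⟨1, K.one_mem, fun x => by simp⟩
    | mul a b _ _ ha hb =>
      obtain ⟨g, hg, hga⟩ := ha
      obtain ⟨k, hk, hkb⟩ := hb
      refine ⟨g * k, K.mul_mem hg hk, fun x => ?_⟩
      show ((a (b x) : P) : Ω) = _
      rw [hga, hkb]; group
    | inv a _ ha =>
      obtain ⟨g, hg, hga⟩ := ha
      refine ⟨g⁻¹, K.inv_mem hg, fun x => ?_⟩
      have h1 := hga (a⁻¹ x)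
      rw [MulAut.apply_inv_self] at h1
      rw [h1]; group
  · intro h
    exact Subgroup.subset_closure h

/-- `Aut_S(P) ≤ Aut_F(P)` for `P ≤ S`. -/
theorem autInducedBy_le_autGroup (F : FusionSystem S) {P : Subgroup Ω} (hP : P ≤ S) :
    autInducedBy S P ≤ F.autGroup P := by
  intro α hα
  obtain ⟨g, hg, hgα⟩ := (mem_autInducedBy_iff α).mp hα
  rw [mem_autGroup_iff F hP]
  exact hom_congr F (F.conj_mem hP hg) (fun x => hgα x)

/-- `Inn(P) ≤ Aut_P(P)`. -/
theorem inn_le_autInducedBy {K P : Subgroup Ω} (hPK : P ≤ K) : Cfsg.Inn P ≤ autInducedBy K P := by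
  rintro _ ⟨y, rfl⟩
  rw [mem_autInducedBy_iff]
  exact ⟨y, hPK y.2, fun x => rfl⟩

theorem inn_le_autGroup (F : FusionSystem S) {P : Subgroup Ω} (hP : P ≤ S) :
    Cfsg.Inn P ≤ F.autGroup P :=
  (inn_le_autInducedBy hP).trans (autInducedBy_le_autGroup F hP)

/-- An element `g ∈ K` whose conjugation induces an automorphism of `P` normalizes `P`. -/
theorem mem_normalizer_of_conj_eq {P : Subgroup Ω} (α : MulAut P) (g : Ω)
    (h : ∀ x : P, ((α x : P) : Ω) = g * (x : Ω) * g⁻¹) : g ∈ Subgroup.normalizer (P : Set Ω) := by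
  rw [Subgroup.mem_normalizer_iff]
  intro y
  constructor
  · intro hy
    rw [← h ⟨y, hy⟩]; exact (α ⟨y, hy⟩).2
  · intro hy
    have h1 := h (α.symm ⟨_, hy⟩)
    rw [MulEquiv.apply_symm_apply] at h1
    have h2 : y = ((α.symm ⟨_, hy⟩ : P) : Ω) := by
      have : g * y * g⁻¹ = g * ((α.symm ⟨_, hy⟩ : P) : Ω) * g⁻¹ := h1
      exact mul_left_cancel (mul_right_cancel this)
    rw [h2]; exact (α.symm ⟨_, hy⟩).2

/-- `Aut_K(P)` is the image of `N_K(P)` under the conjugation homomorphism `N(P) → Aut(P)`. -/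
theorem autInducedBy_eq_map (K P : Subgroup Ω) :
    autInducedBy K P = (K.subgroupOf (Subgroup.normalizer (P : Set Ω))).map P.normalizerMonoidHom := by
  apply le_antisymm
  · intro α hα
    obtain ⟨g, hg, hgα⟩ := (mem_autInducedBy_iff α).mp hα
    have hgN := mem_normalizer_of_conj_eq α g hgα
    refine ⟨⟨g, hgN⟩, Subgroup.mem_subgroupOf.mpr hg, ?_⟩
    ext x
    exact (hgα x).symm
  · rintro _ ⟨g, hg, rfl⟩
    rw [mem_autInducedBy_iff]
    exact ⟨g, Subgroup.mem_subgroupOf.mp hg, fun x => rfl⟩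

theorem isPGroup_autInducedBy {p : ℕ} {K : Subgroup Ω} (hK : IsPGroup p K) (P : Subgroup Ω) :
    IsPGroup p (autInducedBy K P) := by
  rw [autInducedBy_eq_map]
  exact (hK.comap_subtype).map _

end Cfsg.Agent.Lib.Helper90
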