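import Mathlib
import Cfsg.Prelude.Def_FusionSystem
import Cfsg.Agent.Lib.Helper87.FusionBasic
import Cfsg.Agent.Lib.Helper90.FusionAut

set_option autoImplicit false

/-!
The subsystem of a fusion system `F` over a finite `S` consisting of the maps that extend to a map of `F`
defined on all of `S` (this is `N_F(S)` viewed over `S`). `F ≤ extSystem F` iff `S` is normal in `F`.
-/

namespace Cfsg.Agent.Lib.Helper90

open Cfsg Cfsg.FusionSystem Cfsg.Agent.Lib.Helper87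

variable {Ω : Type*} [Group Ω] {S : Subgroup Ω}

/-- An injective self-map of a finite subgroup is onto. -/
theorem range_eq_of_forall_mem (F : FusionSystem S) [Finite S] {P : Subgroup Ω} {φ : P →* Ω}
    (hφ : φ ∈ F.Hom P) (h : ∀ x : P, φ x ∈ P) : φ.range = P := by
  have hP : P ≤ S := hom_le F hφ
  have : Finite P := finite_of_le hP
  have hle : φ.range ≤ P := by
    rintro _ ⟨x, rfl⟩; exact h x
  apply Subgroup.eq_of_le_of_card_ge hle
  exact le_of_eq (Nat.card_congr (MonoidHom.ofInjective (F.injective_of_mem hφ)).toEquiv)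

theorem range_eq_top_hom (F : FusionSystem S) [Finite S] {φ : S →* Ω} (hφ : φ ∈ F.Hom S) :
    φ.range = S :=
  range_eq_of_forall_mem F hφ (hom_mem F hφ)

/-- The maps of `F` which extend to a map of `F` defined on all of `S` form a fusion system over `S`. -/
def extSystem [Finite S] (F : FusionSystem S) : FusionSystem S where
  Hom P := {φ | φ ∈ F.Hom P ∧ ∃ ψ ∈ F.Hom S, ∀ (x : P) (hx : (x : Ω) ∈ S), ψ ⟨x, hx⟩ = φ x}
  le_of_mem h := F.le_of_mem h.1
  injective_of_mem h := F.injective_of_mem h.1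
  conj_mem := by
    intro P g hP hg
    exact ⟨F.conj_mem hP hg, conjHom S g, F.conj_mem le_rfl hg, fun x hx => rfl⟩
  comp_mem := by
    rintro P Q φ ψ ⟨hφ, φ', hφ', hφφ'⟩ ⟨hψ, ψ', hψ', hψψ'⟩ h
    refine ⟨F.comp_mem hφ hψ h, ψ'.comp (φ'.codRestrict S (fun x => hom_mem F hφ' x)),
      F.comp_mem hφ' hψ' _, ?_⟩
    intro x hx
    show ψ' ⟨φ' ⟨x, hx⟩, _⟩ = ψ ⟨φ x, h x⟩
    have h1 := hφφ' x hx
    have hQS : Q ≤ S := hom_le F hψ
    rw [← hψψ' ⟨φ x, h x⟩ (hQS (h x))]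
    congr 1
    exact Subtype.ext h1
  inv_mem := by
    rintro P φ ⟨hφ, φ', hφ', hφφ'⟩
    have hP : P ≤ S := hom_le F hφ
    obtain ⟨χ, hχ, hχx, -⟩ := inv_mem' F hφ' (range_eq_top_hom F hφ')
    have hle : φ.range ≤ S := by
      rintro _ ⟨x, rfl⟩; exact hom_mem F hφ x
    refine ⟨χ.comp (Subgroup.inclusion hle), ⟨restrict_mem F hle hχ, χ, hχ, fun x hx => rfl⟩, ?_⟩
    intro x
    show χ ⟨φ x, _⟩ = x
    exact hχx ⟨x, hP x.2⟩ ⟨φ x, _⟩ (hφφ' x _)

theorem mem_extSystem_hom [Finite S] (F : FusionSystem S) {P : Subgroup Ω} {φ : P →* Ω} :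
    φ ∈ (extSystem F).Hom P ↔
      φ ∈ F.Hom P ∧ ∃ ψ ∈ F.Hom S, ∀ (x : P) (hx : (x : Ω) ∈ S), ψ ⟨x, hx⟩ = φ x := Iff.rfl

theorem autGroup_top_le_extSystem [Finite S] (F : FusionSystem S) :
    F.autGroup S ≤ (extSystem F).autGroup S := by
  apply Subgroup.closure_mono
  intro α hα
  exact ⟨hα, _, hα, fun x hx => rfl⟩

/-- If every map of `F` extends to `S`, then `S` is normal in `F`. -/
theorem isNormal_top_of_le_extSystem [Finite S] (F : FusionSystem S) (h : F ≤ extSystem F) :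
    F.IsNormal S := by
  refine ⟨le_rfl, fun P φ hφ => ?_⟩
  obtain ⟨-, ψ, hψ, hψφ⟩ := h P hφ
  have hP : P ≤ S := hom_le F hφ
  have hle : P ⊔ S ≤ S := sup_le hP le_rfl
  refine ⟨ψ.comp (Subgroup.inclusion hle), restrict_mem F hle hψ, fun x => hψφ x (hP x.2), ?_⟩
  ext y
  constructor
  · rintro ⟨z, -, rfl⟩
    exact hom_mem F hψ _
  · intro hy
    have : y ∈ ψ.range := by rw [range_eq_top_hom F hψ]; exact hy
    obtain ⟨s, rfl⟩ := this
    exact ⟨⟨s, le_sup_right (a := P) s.2⟩, Subgroup.mem_subgroupOf.mpr s.2, rfl⟩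

end Cfsg.Agent.Lib.Helper90
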