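import Cfsg.Agent.Lib.Helper06.Hall4.Defs

/-!
# K-H4 LEAF B1 (keystone 422112, S4221, architect helper6)

`Cent G t` is transitive on the triples `(r, r', m)`, `r ≠ r'` fixed by the involution `t`, `m` moved.
Self-contained: the part of LEAF P2 that is needed (`conj_of_agree_lite`) is proved here.
-/

set_option autoImplicit false
set_option linter.unusedVariables false
set_option linter.unusedSectionVars false
open Equiv

namespace Cfsg.Agent.Lib.Helper90.Hall4
open Cfsg.Agent.Lib.Helper06.Hall4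

variable {α : Type*} [Fintype α] [DecidableEq α]

/-- the first clause of LEAF P2 -/
theorem conj_of_agree_lite (G : Subgroup (Perm α)) (hodd : Odd4 G)
    {a b c d : α} (hab : a ≠ b) (hac : a ≠ c) (had : a ≠ d) (hbc : b ≠ c) (hbd : b ≠ d)
    (hcd : c ≠ d) {t t' : Perm α} (ht : t ∈ G) (ht' : t' ∈ G) (t2 : t * t = 1) (t2' : t' * t' = 1)
    (ha : t' a = t a) (hb : t' b = t b) (hc : t' c = t c) (hd : t' d = t d) :
    ∃ u ∈ FS G {a, b, c, d}, u * t * u⁻¹ = t' := by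
  have hfix : ∀ s, t' s = t s → (t' * t) s = s := by
    intro s hs
    rw [Perm.mul_apply, ← hs]
    have := congrArg (fun f : Perm α => f s) t2'
    simpa using this
  have hw : t' * t ∈ FS G {a, b, c, d} := by
    refine ⟨G.mul_mem ht' ht, ?_⟩
    intro s hs
    simp only [Set.mem_insert_iff, Set.mem_singleton_iff] at hs
    rcases hs with rfl | rfl | rfl | rfl
    · exact hfix _ ha
    · exact hfix _ hb
    · exact hfix _ hc
    · exact hfix _ hd
  have hcard := hodd a b c d hab hac had hbc hbd hcd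
  obtain ⟨w, hwdef⟩ : ∃ w, w = t' * t := ⟨_, rfl⟩
  rw [← hwdef] at hw
  have hk : Odd (orderOf w) := by
    have h1 : orderOf (⟨w, hw⟩ : FS G {a, b, c, d}) ∣ Nat.card (FS G {a, b, c, d}) :=
      orderOf_dvd_natCard _
    have h2 : orderOf (⟨w, hw⟩ : FS G {a, b, c, d}) = orderOf w := Subgroup.orderOf_mk w hw
    rw [h2] at h1
    exact Odd.of_dvd_nat hcard h1
  obtain ⟨j, hj⟩ := hk
  obtain ⟨u, hudef⟩ : ∃ u, u = w ^ (j + 1) := ⟨_, rfl⟩
  have huw : u * u = w := by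
    rw [hudef, ← pow_add]
    have : j + 1 + (j + 1) = orderOf w + 1 := by omega
    rw [this, pow_succ, pow_orderOf_eq_one, one_mul]
  have htinv : t⁻¹ = t := inv_eq_of_mul_eq_one_right t2
  have htinv' : t'⁻¹ = t' := inv_eq_of_mul_eq_one_right t2'
  have hwinv : w⁻¹ = t * t' := by rw [hwdef, mul_inv_rev, htinv, htinv']
  have htw : SemiconjBy t w w⁻¹ := by
    show t * w = w⁻¹ * t
    rw [hwinv, hwdef, mul_assoc]
  have h1 : t * u = u⁻¹ * t := by
    have := htw.pow_right (j + 1)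
    rw [inv_pow, ← hudef] at this
    exact this
  have h3 : u * t * u = t := by rw [mul_assoc, h1, mul_inv_cancel_left]
  have h2 : u * t = t * u⁻¹ := by
    calc u * t = u * t * u * u⁻¹ := by group
      _ = t * u⁻¹ := by rw [h3]
  refine ⟨u, ?_, ?_⟩
  · rw [hudef]; exact Subgroup.pow_mem _ hw _
  · calc u * t * u⁻¹ = t * u⁻¹ * u⁻¹ := by rw [h2]
      _ = t * (u * u)⁻¹ := by group
      _ = t * (t * t') := by rw [huw, hwinv]
      _ = t' := by rw [← mul_assoc, t2, one_mul]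

/-- LEAF B1. -/
theorem cent_trans_fix_fix (G : Subgroup (Perm α)) (hG : Trans4 G) (hodd : Odd4 G)
    {t : Perm α} (ht : t ∈ G) (t2 : t * t = 1) {p p' a r r' m : α}
    (hp : t p = p) (hp' : t p' = p') (hpp' : p ≠ p') (ha : t a ≠ a)
    (hr : t r = r) (hr' : t r' = r') (hrr' : r ≠ r') (hm : t m ≠ m) :
    ∃ g ∈ Cent G t, g p = r ∧ g p' = r' ∧ g a = m := by
  have htt : ∀ s, t (t s) = s := fun s => by
    have := congrArg (fun f : Perm α => f s) t2
    simpa using this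
  -- fixed points differ from moved points and their images
  have key : ∀ {f v : α}, t f = f → t v ≠ v → f ≠ v ∧ f ≠ t v := by
    intro f v hf hv
    have d1 : f ≠ v := fun h => hv (h ▸ hf)
    refine ⟨d1, ?_⟩
    intro h
    apply d1
    have h' : t f = v := by rw [h, htt]
    rw [hf] at h'
    exact h'
  obtain ⟨d1, d2⟩ := key hp ha
  obtain ⟨d3, d4⟩ := key hp' ha
  have d5 : a ≠ t a := fun h => ha h.symm
  obtain ⟨e1', e2'⟩ := key hr hm
  obtain ⟨e3', e4'⟩ := key hr' hm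
  have e5' : m ≠ t m := fun h => hm h.symm
  obtain ⟨g₀, hg₀, e1, e2, e3, e4⟩ :=
    hG p p' a (t a) r r' m (t m) hpp' d1 d2 d3 d4 d5 hrr' e1' e2' e3' e4' e5'
  have hts : g₀ * t * g₀⁻¹ ∈ G := G.mul_mem (G.mul_mem hg₀ ht) (G.inv_mem hg₀)
  have hts2 : g₀ * t * g₀⁻¹ * (g₀ * t * g₀⁻¹) = 1 := by
    have : g₀ * t * g₀⁻¹ * (g₀ * t * g₀⁻¹) = g₀ * (t * t) * g₀⁻¹ := by group
    rw [this, t2, mul_one, mul_inv_cancel]
  have a1 : t r = (g₀ * t * g₀⁻¹) r := by
    rw [hr, ← e1]; simp [hp]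
  have a2 : t r' = (g₀ * t * g₀⁻¹) r' := by
    rw [hr', ← e2]; simp [hp']
  have a3 : t m = (g₀ * t * g₀⁻¹) m := by
    rw [← e4, ← e3]; simp
  have a4 : t (t m) = (g₀ * t * g₀⁻¹) (t m) := by
    rw [htt, ← e4]; simp [htt, e3]
  obtain ⟨u, hu, hconj⟩ := conj_of_agree_lite G hodd hrr' e1' e2' e3' e4' e5' hts ht hts2 t2
    a1 a2 a3 a4
  refine ⟨u * g₀, ?_, ?_, ?_, ?_⟩
  · rw [mem_Cent]
    refine ⟨G.mul_mem hu.1 hg₀, ?_⟩
    calc t * (u * g₀) = (u * (g₀ * t * g₀⁻¹) * u⁻¹) * (u * g₀) := by rw [hconj]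
      _ = u * g₀ * t := by group
  · rw [Perm.mul_apply, e1]; exact hu.2 r (by simp)
  · rw [Perm.mul_apply, e2]; exact hu.2 r' (by simp)
  · rw [Perm.mul_apply, e3]; exact hu.2 m (by simp)

end Cfsg.Agent.Lib.Helper90.Hall4
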