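import Mathlib
import Cfsg.Agent.Lib.Helper06.NFDefs

set_option autoImplicit false

/-!
# K-S0688-5b1: `|B : A| = r ^ 2` for the extraspecial-like section (keystone 159, helper6's pack)
-/

namespace Cfsg.Agent.Lib.Helper90.NF

variable {H : Type*} [Group H] [Finite H]

/-- the commutator hom `b ↦ [u, b]` on a subgroup `K ≤ B`, when commutators of `B` are central in `B`. -/
noncomputable def commHom (_B K : Subgroup H) (u : H)
    (hcen : ∀ b ∈ K, ∀ c ∈ K, b⁻¹ * (u * c * u⁻¹ * c⁻¹) = (u * c * u⁻¹ * c⁻¹) * b⁻¹) :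
    K →* H :=
  MonoidHom.mk' (fun b => u * (b : H) * u⁻¹ * (b : H)⁻¹) (by
    intro b c
    have hz := hcen b b.2 c c.2
    show u * ((b : H) * (c : H)) * u⁻¹ * ((b : H) * (c : H))⁻¹
      = u * (b : H) * u⁻¹ * (b : H)⁻¹ * (u * (c : H) * u⁻¹ * (c : H)⁻¹)
    rw [mul_assoc (u * (b : H) * u⁻¹) (b : H)⁻¹, hz]
    group)

omit [Finite H] in
theorem commHom_apply (B K : Subgroup H) (u : H)
    (hcen : ∀ b ∈ K, ∀ c ∈ K, b⁻¹ * (u * c * u⁻¹ * c⁻¹) = (u * c * u⁻¹ * c⁻¹) * b⁻¹) (b : K) :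
    commHom B K u hcen b = u * (b : H) * u⁻¹ * (b : H)⁻¹ := rfl

omit [Finite H] in
theorem mem_cent_single {g u : H} : g ∈ Subgroup.centralizer {u} ↔ u * g = g * u := by
  rw [Subgroup.mem_centralizer_iff]
  constructor
  · intro h; exact h u rfl
  · intro h k hk; rw [Set.mem_singleton_iff] at hk; rw [hk]; exact h

omit [Finite H] in
/-- elements of `A ⊔ zpowers x` are of the form `a * x ^ i` when `x` centralizes `A`. -/
theorem mem_sup_zpowers_of_comm (A : Subgroup H) (x : H) (hx : ∀ a ∈ A, a * x = x * a)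
    {w : H} (hw : w ∈ A ⊔ Subgroup.zpowers x) : ∃ a ∈ A, ∃ i : ℤ, a * x ^ i = w := by
  let S : Subgroup H :=
    { carrier := {w | ∃ a ∈ A, ∃ i : ℤ, a * x ^ i = w}
      one_mem' := ⟨1, A.one_mem, 0, by simp⟩
      mul_mem' := by
        rintro _ _ ⟨a, ha, i, rfl⟩ ⟨b, hb, j, rfl⟩
        refine ⟨a * b, A.mul_mem ha hb, i + j, ?_⟩
        have hc : Commute b (x ^ i) := Commute.zpow_right (hx b hb) i
        rw [zpow_add]
        calc a * b * (x ^ i * x ^ j) = a * (b * x ^ i) * x ^ j := by group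
          _ = a * (x ^ i * b) * x ^ j := by rw [hc.eq]
          _ = a * x ^ i * (b * x ^ j) := by group
      inv_mem' := by
        rintro _ ⟨a, ha, i, rfl⟩
        refine ⟨a⁻¹, A.inv_mem ha, -i, ?_⟩
        have hc : Commute a⁻¹ (x ^ (-i)) := Commute.zpow_right (hx a⁻¹ (A.inv_mem ha)) (-i)
        rw [hc.eq]
        group }
  have hS : A ⊔ Subgroup.zpowers x ≤ S := by
    refine sup_le ?_ ?_
    · intro a ha
      exact ⟨a, ha, 0, by simp⟩
    · rw [Subgroup.zpowers_le]
      exact ⟨1, A.one_mem, 1, by simp⟩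
  exact hS hw

omit [Finite H] in
/-- the index of `C_K(u)` in `K` divides `r`. -/
theorem relIndex_centralizer_dvd_prime
    (hcyc : ∀ M : Subgroup H, (∀ a ∈ M, ∀ b ∈ M, a * b = b * a) → IsCyclic M)
    (A B : Subgroup H) (r : ℕ)
    (hcenA : ∀ a ∈ A, ∀ b ∈ B, a * b = b * a)
    (hAB : A ≤ B)
    (hcomm : ∀ x ∈ B, ∀ y ∈ B, x * y * x⁻¹ * y⁻¹ ∈ A) (hexp : ∀ x ∈ B, x ^ r ∈ A)
    (K : Subgroup H) (hKB : K ≤ B) (u : H) (hu : u ∈ B) :
    (K ⊓ Subgroup.centralizer {u}).relIndex K ∣ r := by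
  have hcen : ∀ b ∈ K, ∀ c ∈ K, b⁻¹ * (u * c * u⁻¹ * c⁻¹) = (u * c * u⁻¹ * c⁻¹) * b⁻¹ := by
    intro b hb c hc
    exact (hcenA _ (hcomm u hu c (hKB hc)) _ (B.inv_mem (hKB hb))).symm
  set φ := commHom B K u hcen with hφ
  have hker : φ.ker = (K ⊓ Subgroup.centralizer {u}).subgroupOf K := by
    ext b
    rw [MonoidHom.mem_ker, Subgroup.mem_subgroupOf, Subgroup.mem_inf, hφ, commHom_apply,
      Subgroup.mem_centralizer_iff]
    constructor
    · intro h
      refine ⟨b.2, ?_⟩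
      intro g hg
      rw [Set.mem_singleton_iff] at hg
      subst hg
      have : g * (b : H) * g⁻¹ = (b : H) := by
        have := congrArg (· * (b : H)) h
        simpa using this
      calc g * (b : H) = g * (b : H) * g⁻¹ * g := by group
        _ = (b : H) * g := by rw [this]
    · rintro ⟨_, h⟩
      have := h u rfl
      rw [this]
      group
  have hrange_mem : ∀ z ∈ φ.range, z ∈ A ∧ z ^ r = 1 := by
    rintro z ⟨b, rfl⟩
    refine ⟨hcomm u hu b (hKB b.2), ?_⟩
    rw [← map_pow, hφ, commHom_apply]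
    have hbr : ((b ^ r : K) : H) ∈ A := by
      rw [Subgroup.coe_pow]; exact hexp _ (hKB b.2)
    have := hcenA _ hbr u hu
    rw [← this]
    group
  have hRab : ∀ a ∈ φ.range, ∀ b ∈ φ.range, a * b = b * a := by
    intro a ha b hb
    exact hcenA a (hrange_mem a ha).1 b (hAB (hrange_mem b hb).1)
  have hRc : IsCyclic φ.range := hcyc _ hRab
  obtain ⟨g, hg⟩ := hRc.exists_generator
  have hcard : Nat.card φ.range = orderOf g := by
    rw [← Nat.card_zpowers g]
    have : Subgroup.zpowers g = ⊤ := by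
      rw [eq_top_iff]; intro x _; exact hg x
    rw [this]
    exact (Nat.card_congr (Subgroup.topEquiv (G := φ.range)).toEquiv).symm
  have hgr : g ^ r = 1 := by
    apply Subtype.ext
    rw [Subgroup.coe_pow]
    exact (hrange_mem _ g.2).2
  rw [Subgroup.relIndex, ← hker, Subgroup.index_ker, hcard]
  exact orderOf_dvd_of_pow_eq_one hgr

/-- K-S0688-5b1. -/
theorem relIndex_eq_sq
    (hcyc : ∀ M : Subgroup H, (∀ a ∈ M, ∀ b ∈ M, a * b = b * a) → IsCyclic M)
    (A B : Subgroup H) (r : ℕ) (hr : r.Prime) (hAB : A < B)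
    (hBC : B ≤ Subgroup.centralizer (A : Set H))
    (hZ : ∀ x ∈ B, (∀ y ∈ B, x * y = y * x) → x ∈ A)
    (hcomm : ∀ x ∈ B, ∀ y ∈ B, x * y * x⁻¹ * y⁻¹ ∈ A) (hexp : ∀ x ∈ B, x ^ r ∈ A)
    (h5d : ∀ x y : H, x ∈ Subgroup.centralizer (A : Set H) → y ∈ Subgroup.centralizer (A : Set H) →
      x * y = y * x → x ^ r ∈ A → y ^ r ∈ A → x ∉ A → y ∉ A ⊔ Subgroup.zpowers x → False) :
    A.relIndex B = r ^ 2 := by
  have hcenA : ∀ a ∈ A, ∀ b ∈ B, a * b = b * a := by
    intro a ha b hb
    exact (Subgroup.mem_centralizer_iff.mp (hBC hb)) a ha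
  obtain ⟨x, hxB, hxA⟩ := SetLike.exists_of_lt hAB
  obtain ⟨y, hyB, hxy⟩ : ∃ y ∈ B, x * y ≠ y * x := by
    by_contra hcon
    push Not at hcon
    exact hxA (hZ x hxB hcon)
  have hL := relIndex_centralizer_dvd_prime hcyc A B r hcenA hAB.le hcomm hexp
  -- first step
  set Cx := B ⊓ Subgroup.centralizer {x} with hCx
  have hCxB : Cx ≤ B := inf_le_left
  have h1 : Cx.relIndex B = r := by
    have hd := hL B le_rfl x hxB
    rcases (Nat.dvd_prime hr).mp hd with h | h
    · exfalso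
      rw [Subgroup.relIndex_eq_one] at h
      have := mem_cent_single.mp (h hyB).2
      exact hxy this
    · exact h
  have hxCx : x ∈ Cx := ⟨hxB, mem_cent_single.mpr rfl⟩
  set D := Cx ⊓ Subgroup.centralizer {y} with hD
  have h2 : D.relIndex Cx = r := by
    have hd := hL Cx hCxB y hyB
    rcases (Nat.dvd_prime hr).mp hd with h | h
    · exfalso
      rw [Subgroup.relIndex_eq_one] at h
      have := mem_cent_single.mp (h hxCx).2
      exact hxy this.symm
    · exact h
  have hAD : A ≤ D := by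
    intro a ha
    exact ⟨⟨hAB.le ha, mem_cent_single.mpr (hcenA a ha x hxB).symm⟩,
      mem_cent_single.mpr (hcenA a ha y hyB).symm⟩
  have hDA : D ≤ A := by
    intro w hw
    by_contra hwA
    have hwB : w ∈ B := hw.1.1
    have hwx : x * w = w * x := mem_cent_single.mp hw.1.2
    have hwy : y * w = w * y := mem_cent_single.mp hw.2
    refine h5d x w (hBC hxB) (hBC hwB) hwx (hexp x hxB) (hexp w hwB) hxA ?_
    intro hmem
    obtain ⟨a, ha, i, hazw⟩ := mem_sup_zpowers_of_comm A x (fun a ha => hcenA a ha x hxB) hmem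
    -- x ^ i commutes with y
    have hxiy : y * x ^ i = x ^ i * y := by
      have hay : a * y = y * a := hcenA a ha y hyB
      have : y * (a * x ^ i) = (a * x ^ i) * y := by rw [hazw]; exact hwy
      calc y * x ^ i = a⁻¹ * (a * y) * x ^ i := by group
        _ = a⁻¹ * (y * (a * x ^ i)) := by rw [hay]; group
        _ = a⁻¹ * ((a * x ^ i) * y) := by rw [this]
        _ = x ^ i * y := by group
    -- r ∣ i
    have hri : (r : ℤ) ∣ i := by
      by_contra hndvd
      have hcop : IsCoprime i (r : ℤ) := by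
        have := (Nat.prime_iff_prime_int.mp hr)
        exact ((Prime.coprime_iff_not_dvd this).mpr hndvd).symm
      obtain ⟨s, t, hst⟩ := hcop
      have hx1 : x = (x ^ i) ^ s * (x ^ (r : ℤ)) ^ t := by
        rw [← zpow_mul, ← zpow_mul, ← zpow_add, mul_comm i s, mul_comm (r : ℤ) t, hst, zpow_one]
      have hxr : y * x ^ (r : ℤ) = x ^ (r : ℤ) * y := by
        rw [zpow_natCast]
        exact (hcenA _ (hexp x hxB) y hyB).symm
      have c1 : Commute y (x ^ i) := hxiy
      have c2 : Commute y (x ^ (r : ℤ)) := hxr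
      have : Commute y x := by
        rw [hx1]
        exact (c1.zpow_right s).mul_right (c2.zpow_right t)
      exact hxy this.eq.symm
    obtain ⟨k, rfl⟩ := hri
    have hxiA : x ^ ((r : ℤ) * k) ∈ A := by
      rw [zpow_mul, zpow_natCast]
      exact A.zpow_mem (hexp x hxB) k
    exact hwA (by rw [← hazw]; exact A.mul_mem ha hxiA)
  have hDeq : D = A := le_antisymm hDA hAD
  have hACx : A ≤ Cx := hDeq ▸ inf_le_left
  have := Subgroup.relIndex_mul_relIndex (H := A) (K := Cx) (L := B) hACx hCxB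
  rw [← this, h1, ← hDeq, h2, sq]

end Cfsg.Agent.Lib.Helper90.NF
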