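import Mathlib
import Cfsg.Agent.Lib.Helper06.NFDefs

set_option autoImplicit false

/-!
# K-S0688-5c: the 2-part `Q` of `B` (keystone 162, helper6's pack)

`Q := {b ∈ B | b ^ 4 = 1}`.
-/

namespace Cfsg.Agent.Lib.Helper90.NF

variable {H : Type*} [Group H] [Finite H]

omit [Finite H] in
/-- `card K = card H * |K : H|` for `H ≤ K`. -/
theorem card_eq_card_mul_relIndex' {H' K : Subgroup H} (hHK : H' ≤ K) :
    Nat.card K = Nat.card H' * H'.relIndex K := by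
  have := Subgroup.relIndex_mul_relIndex (H := (⊥ : Subgroup H)) (K := H') (L := K) bot_le hHK
  rw [Subgroup.relIndex_bot_left, Subgroup.relIndex_bot_left] at this
  exact this.symm

omit [Finite H] in
/-- in a group where `c = [v, u]` and the squares are central: `(u v)^4 = u^4 v^4`. -/
theorem mul_pow_four_of_central (u v : H)
    (hcu : (v * u * v⁻¹ * u⁻¹) * u = u * (v * u * v⁻¹ * u⁻¹))
    (hcv : (v * u * v⁻¹ * u⁻¹) * v = v * (v * u * v⁻¹ * u⁻¹))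
    (hv2u : v ^ 2 * u = u * v ^ 2)
    (hu2v : u ^ 2 * v = v * u ^ 2) :
    (u * v) ^ 4 = u ^ 4 * v ^ 4 := by
  set c := v * u * v⁻¹ * u⁻¹ with hc
  have hvu : v * u = c * (u * v) := by rw [hc]; group
  have h2 : (u * v) ^ 2 = c * (u ^ 2 * v ^ 2) := by
    calc (u * v) ^ 2 = u * (v * u) * v := by rw [sq]; group
      _ = u * (c * (u * v)) * v := by rw [hvu]
      _ = (u * c) * u * v * v := by group
      _ = (c * u) * u * v * v := by rw [hcu]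
      _ = c * (u ^ 2 * v ^ 2) := by rw [sq, sq]; group
  have hc2 : c ^ 2 = 1 := by
    calc c ^ 2 = (c * v) * (u * v⁻¹ * u⁻¹) := by rw [sq]; nth_rewrite 2 [hc]; group
      _ = (v * c) * (u * v⁻¹ * u⁻¹) := by rw [hcv]
      _ = (v ^ 2 * u) * (v ^ 2)⁻¹ * u⁻¹ := by rw [hc, sq]; group
      _ = (u * v ^ 2) * (v ^ 2)⁻¹ * u⁻¹ := by rw [hv2u]
      _ = 1 := by group
  have cc_u : Commute c u := hcu
  have cc_v : Commute c v := hcv
  have cu2v2 : Commute (u ^ 2) (v ^ 2) := (show Commute (u ^ 2) v from hu2v).pow_right 2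
  have cc : Commute c (u ^ 2 * v ^ 2) := (cc_u.pow_right 2).mul_right (cc_v.pow_right 2)
  calc (u * v) ^ 4 = ((u * v) ^ 2) ^ 2 := by rw [← pow_mul]
    _ = (c * (u ^ 2 * v ^ 2)) ^ 2 := by rw [h2]
    _ = c ^ 2 * (u ^ 2 * v ^ 2) ^ 2 := cc.mul_pow 2
    _ = (u ^ 2) ^ 2 * (v ^ 2) ^ 2 := by rw [hc2, one_mul, cu2v2.mul_pow]
    _ = u ^ 4 * v ^ 4 := by rw [← pow_mul, ← pow_mul]

/-- the subgroup `{b ∈ B | b ^ 4 = 1}`. -/
def fourTorsion (A B : Subgroup H) (hcenA : ∀ a ∈ A, ∀ b ∈ B, a * b = b * a)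
    (hcomm : ∀ x ∈ B, ∀ y ∈ B, x * y * x⁻¹ * y⁻¹ ∈ A) (hexp : ∀ x ∈ B, x ^ 2 ∈ A) :
    Subgroup H where
  carrier := {b | b ∈ B ∧ b ^ 4 = 1}
  one_mem' := ⟨B.one_mem, one_pow 4⟩
  mul_mem' := by
    rintro u v ⟨hu, hu4⟩ ⟨hv, hv4⟩
    refine ⟨B.mul_mem hu hv, ?_⟩
    rw [mul_pow_four_of_central u v (hcenA _ (hcomm v hv u hu) u hu) (hcenA _ (hcomm v hv u hu) v hv)
      (hcenA _ (hexp v hv) u hu) (hcenA _ (hexp u hu) v hv), hu4, hv4, one_mul]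
  inv_mem' := by
    rintro u ⟨hu, hu4⟩
    exact ⟨B.inv_mem hu, by rw [inv_pow, hu4, inv_one]⟩

omit [Finite H] in
theorem mem_fourTorsion (A B : Subgroup H) (hcenA : ∀ a ∈ A, ∀ b ∈ B, a * b = b * a)
    (hcomm : ∀ x ∈ B, ∀ y ∈ B, x * y * x⁻¹ * y⁻¹ ∈ A) (hexp : ∀ x ∈ B, x ^ 2 ∈ A) (b : H) :
    b ∈ fourTorsion A B hcenA hcomm hexp ↔ b ∈ B ∧ b ^ 4 = 1 := Iff.rfl

/-- K-S0688-5c. -/
theorem exists_Q (A B : Subgroup H) (hAn : A.Normal) (hBn : B.Normal) (hAB : A ≤ B)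
    (hBC : B ≤ Subgroup.centralizer (A : Set H))
    (hcomm : ∀ x ∈ B, ∀ y ∈ B, x * y * x⁻¹ * y⁻¹ ∈ A) (hexp : ∀ x ∈ B, x ^ 2 ∈ A)
    (hna : ∃ x ∈ B, ∃ y ∈ B, x * y ≠ y * x)
    (hrel : A.relIndex B = 4) (hmod : Nat.card A % 4 = 2) :
    ∃ Q : Subgroup H, Q.Normal ∧ Nat.card Q = 8 ∧ (∃ u ∈ Q, ∃ v ∈ Q, u * v ≠ v * u) ∧
      Q ≤ B ∧ B ≤ Q ⊔ A := by
  have hcenA : ∀ a ∈ A, ∀ b ∈ B, a * b = b * a := by
    intro a ha b hb
    exact (Subgroup.mem_centralizer_iff.mp (hBC hb)) a ha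
  set Q := fourTorsion A B hcenA hcomm hexp with hQ
  have hmemQ : ∀ b, b ∈ Q ↔ b ∈ B ∧ b ^ 4 = 1 := fun b => Iff.rfl
  have hQB : Q ≤ B := fun b hb => ((hmemQ b).mp hb).1
  -- numerics
  obtain ⟨k, hk⟩ : ∃ k, Nat.card A = 2 * (2 * k + 1) := ⟨Nat.card A / 4, by omega⟩
  -- decomposition `b = b^(2k+1) * ((b^2)^k)⁻¹`
  have hdec : ∀ b ∈ B, b ^ (2 * k + 1) ∈ Q ∧ ((b ^ 2) ^ k)⁻¹ ∈ A ∧
      b = b ^ (2 * k + 1) * ((b ^ 2) ^ k)⁻¹ := by
    intro b hb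
    refine ⟨(hmemQ _).mpr ⟨B.pow_mem hb _, ?_⟩, A.inv_mem (A.pow_mem (hexp b hb) k), ?_⟩
    · have h1 : (⟨b ^ 2, hexp b hb⟩ : A) ^ Nat.card A = 1 := pow_card_eq_one'
      have h2 : (b ^ 2) ^ Nat.card A = 1 := by
        have := congrArg Subtype.val h1
        rw [Subgroup.coe_pow, Subgroup.coe_one] at this
        exact this
      rw [← pow_mul, show (2 * k + 1) * 4 = 2 * (2 * (2 * k + 1)) by ring, pow_mul, ← hk]
      exact h2
    · rw [← pow_mul, pow_succ]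
      group
  have hBQA : B ≤ Q ⊔ A := by
    intro b hb
    obtain ⟨h1, h2, h3⟩ := hdec b hb
    rw [h3]
    exact Subgroup.mul_mem_sup h1 h2
  have hQAB : Q ⊔ A = B := le_antisymm (sup_le hQB hAB) hBQA
  -- normality
  have hQn : Q.Normal := by
    constructor
    intro b hb g
    obtain ⟨hbB, hb4⟩ := (hmemQ b).mp hb
    refine (hmemQ _).mpr ⟨hBn.conj_mem b hbB g, ?_⟩
    rw [conj_pow, hb4]
    group
  -- nonabelian
  have hQna : ∃ u ∈ Q, ∃ v ∈ Q, u * v ≠ v * u := by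
    obtain ⟨x, hx, y, hy, hxy⟩ := hna
    obtain ⟨hx1, hx2, hx3⟩ := hdec x hx
    obtain ⟨hy1, hy2, hy3⟩ := hdec y hy
    refine ⟨_, hx1, _, hy1, ?_⟩
    intro hcom
    apply hxy
    have c1 : Commute (x ^ (2 * k + 1)) (y ^ (2 * k + 1)) := hcom
    have c2 : Commute (x ^ (2 * k + 1)) ((y ^ 2) ^ k)⁻¹ := (hcenA _ hy2 _ (hQB hx1)).symm
    have c3 : Commute ((x ^ 2) ^ k)⁻¹ (y ^ (2 * k + 1)) := hcenA _ hx2 _ (hQB hy1)
    have c4 : Commute ((x ^ 2) ^ k)⁻¹ ((y ^ 2) ^ k)⁻¹ := hcenA _ hx2 _ (hAB hy2)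
    have : Commute (x ^ (2 * k + 1) * ((x ^ 2) ^ k)⁻¹) (y ^ (2 * k + 1) * ((y ^ 2) ^ k)⁻¹) :=
      (c1.mul_right c2).mul_left (c3.mul_right c4)
    rw [← hx3, ← hy3] at this
    exact this.eq
  -- cardinality
  have hT : Nat.card (A ⊓ Q : Subgroup H) = 2 := by
    have : Fact (Nat.Prime 2) := ⟨Nat.prime_two⟩
    have hp : IsPGroup 2 (A ⊓ Q : Subgroup H) := by
      intro t
      refine ⟨2, ?_⟩
      apply Subtype.ext
      have := ((hmemQ _).mp t.2.2).2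
      simpa using this
    obtain ⟨n, hn⟩ := (IsPGroup.iff_card).mp hp
    have hdvd : Nat.card (A ⊓ Q : Subgroup H) ∣ Nat.card A := Subgroup.card_dvd_of_le inf_le_left
    have hn1 : n ≤ 1 := by
      by_contra hcon
      push Not at hcon
      have : 4 ∣ Nat.card A := by
        refine dvd_trans ?_ hdvd
        rw [hn]
        exact pow_dvd_pow 2 hcon
      omega
    have hn0 : n ≠ 0 := by
      intro h0
      rw [h0, pow_zero] at hn
      have h2 : 2 ∣ Nat.card A := ⟨2 * k + 1, hk⟩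
      obtain ⟨a, ha⟩ := exists_prime_orderOf_dvd_card' 2 h2
      have ha1 : (a : H) ≠ 1 := by
        intro h
        have : a = 1 := Subtype.ext h
        rw [this, orderOf_one] at ha
        omega
      have ha2 : (a : H) ^ 2 = 1 := by
        have := pow_orderOf_eq_one a
        rw [ha] at this
        have := congrArg Subtype.val this
        simpa using this
      have hamem : (a : H) ∈ (A ⊓ Q : Subgroup H) := by
        refine ⟨a.2, (hmemQ _).mpr ⟨hAB a.2, ?_⟩⟩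
        rw [show 4 = 2 * 2 by norm_num, pow_mul, ha2, one_pow]
      have hbot : (A ⊓ Q : Subgroup H) = ⊥ := Subgroup.card_eq_one.mp hn
      rw [hbot, Subgroup.mem_bot] at hamem
      exact ha1 hamem
    have : n = 1 := by omega
    rw [hn, this, pow_one]
  have hcardQ : Nat.card Q = 8 := by
    have h1 : A.relIndex Q = 4 := by
      have := Subgroup.relIndex_sup_right Q A
      rw [hQAB, hrel] at this
      exact this.symm
    have h2 : (A ⊓ Q).relIndex Q = 4 := by rw [Subgroup.inf_relIndex_right, h1]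
    rw [card_eq_card_mul_relIndex' (inf_le_right : A ⊓ Q ≤ Q), hT, h2]
  exact ⟨Q, hQn, hcardQ, hQna, hQB, hBQA⟩

end Cfsg.Agent.Lib.Helper90.NF
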