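import Mathlib
import Cfsg.Prelude.Def_Local
import Cfsg.Agent.Lib.Helper06.SylTwo.Defs
import Cfsg.Agent.Lib.Helper54.SylAltG1

/-!
# K-SylTwo-C (keystone 292804, architect helper6, S2928): `le_ncl`

A quasisimple `K` normal in `H`, `V ≤ H` not centralizing `K`: `K` lies in the normal closure of `V` under `K`.
-/

set_option autoImplicit false

namespace Cfsg.Agent.Lib.Helper90.SylTwo

open Equiv Equiv.Perm
open Cfsg.Agent.Lib.Helper06.SylTwo

variable {α : Type*} [Fintype α] [DecidableEq α]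

/-- `V ≤ ncl K V`. -/
theorem le_ncl_self (K V : Subgroup (Perm α)) : V ≤ ncl K V := by
  intro v hv
  apply Subgroup.subset_closure
  exact ⟨1, K.one_mem, v, hv, by simp⟩

/-- `ncl K V` is closed under conjugation by `K`. -/
theorem conj_mem_ncl (K V : Subgroup (Perm α)) :
    ∀ k ∈ K, ∀ h ∈ ncl K V, k * h * k⁻¹ ∈ ncl K V := by
  intro k hk h hh
  unfold ncl at hh ⊢
  induction hh using Subgroup.closure_induction with
  | mem x hx =>
    obtain ⟨k', hk', v, hv, rfl⟩ := hx
    apply Subgroup.subset_closure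
    exact ⟨k * k', K.mul_mem hk hk', v, hv, by group⟩
  | one => simp
  | mul x y _ _ hx hy =>
    have : k * (x * y) * k⁻¹ = (k * x * k⁻¹) * (k * y * k⁻¹) := by group
    rw [this]; exact Subgroup.mul_mem _ hx hy
  | inv x _ hx =>
    have : k * x⁻¹ * k⁻¹ = (k * x * k⁻¹)⁻¹ := by group
    rw [this]; exact Subgroup.inv_mem _ hx

/-- `K` normalizes `ncl K V`. -/
theorem le_normalizer_ncl (K V : Subgroup (Perm α)) :
    K ≤ Subgroup.normalizer ((ncl K V : Subgroup (Perm α)) : Set (Perm α)) := by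
  intro k hk
  rw [Subgroup.mem_normalizer_iff]
  intro h
  constructor
  · exact conj_mem_ncl K V k hk h
  · intro hh
    have := conj_mem_ncl K V k⁻¹ (K.inv_mem hk) _ hh
    simpa [mul_assoc] using this

/-- `ncl K V ≤ K ⊔ V`. -/
theorem ncl_le_sup (K V : Subgroup (Perm α)) : ncl K V ≤ K ⊔ V := by
  unfold ncl
  rw [Subgroup.closure_le]
  rintro g ⟨k, hk, v, hv, rfl⟩
  have hk' : k ∈ K ⊔ V := Subgroup.mem_sup_left hk
  exact Subgroup.mul_mem _ (Subgroup.mul_mem _ hk' (Subgroup.mem_sup_right hv))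
    (Subgroup.inv_mem _ hk')

/-- **K-SylTwo-C.** -/
theorem le_ncl (H K V : Subgroup (Perm α)) (hKH : K ≤ H)
    (hHK : H ≤ Subgroup.normalizer (K : Set (Perm α))) (hq : Cfsg.IsQuasisimple ↥K) (hVH : V ≤ H)
    (hnc : ¬ ∀ v ∈ V, ∀ k ∈ K, v * k = k * v) : K ≤ ncl K V := by
  have hVM : V ≤ ncl K V := le_ncl_self K V
  rcases Cfsg.Agent.Lib.Helper54.SylAlt.le_or_commute_of_quasisimple (K ⊔ V) K (ncl K V) le_sup_left
      (sup_le Subgroup.le_normalizer (hVH.trans hHK)) hq (ncl_le_sup K V)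
      (sup_le (le_normalizer_ncl K V) (hVM.trans Subgroup.le_normalizer)) with h | h
  · exact h
  · exact absurd (fun v hv k hk => h v (hVM hv) k hk) hnc

end Cfsg.Agent.Lib.Helper90.SylTwo
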