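import Cfsg.Agent.Lib.Helper53.StOmDefs

/-!
# K-StOm-R0a (keystone 254901, S2549 pack of helper53): the three permutation matrices are
isometries of `quadFormMinus` (port of Lib/Helper86/StOR0a.lean)
-/

set_option autoImplicit false
set_option linter.unusedSectionVars false

namespace Cfsg.Agent.Lib.Helper90.StOm

open Cfsg Cfsg.Agent.Lib.Helper53.StOm

variable {m : ℕ} {F : Type*} [Field F] {a b : F}

/-- a permutation of the index set preserving `quadFormMinus` gives an isometry -/
theorem exists_of_perm (σ : Equiv.Perm (MI m))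
    (hQ : ∀ u : MI m → F, Cfsg.quadFormMinus m F a b (u ∘ σ) = Cfsg.quadFormMinus m F a b u) :
    ∃ g : OG m F a b, mat g = σ.permMatrix F := by
  refine exists_of_isometry (σ.permMatrix F) (σ⁻¹.permMatrix F) ?_ ?_ ?_
  · rw [← Matrix.permMatrix_mul, inv_mul_cancel, Matrix.permMatrix_one]
  · rw [← Matrix.permMatrix_mul, mul_inv_cancel, Matrix.permMatrix_one]
  · intro u
    rw [Matrix.permMatrix_mulVec]
    exact hQ u

theorem mat_sPerm (i j : Fin m) : mat (sPerm m F a b i j) = sPermMat m F i j := by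
  refine mat_ofMat _ (exists_of_perm (swapE m i j) ?_)
  intro u
  unfold Cfsg.quadFormMinus
  congr 1
  exact Equiv.sum_comp (Equiv.swap i j) (fun c => u (Sum.inl (Sum.inl c)) * u (Sum.inl (Sum.inr c)))

theorem mat_sFlip (k : Fin m) : mat (sFlip m F a b k) = sFlipMat m F k := by
  refine mat_ofMat _ (exists_of_perm (flipE m k) ?_)
  intro u
  unfold Cfsg.quadFormMinus
  have hz : ∀ j : Fin 2, (u ∘ ⇑(flipE m k)) (Sum.inr j) = u (Sum.inr j) := by
    intro j
    show u (Equiv.swap (eI k) (fI k) (zI j)) = u (zI j)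
    rw [Equiv.swap_apply_of_ne_of_ne (by simp) (by simp)]
  rw [hz, hz]
  congr 1
  apply Finset.sum_congr rfl
  intro c _
  show u (Equiv.swap (eI k) (fI k) (eI c)) * u (Equiv.swap (eI k) (fI k) (fI c)) =
    u (eI c) * u (fI c)
  by_cases h : c = k
  · subst h
    rw [Equiv.swap_apply_left, Equiv.swap_apply_right, mul_comm]
  · have h1 : (eI c : MI m) ≠ eI k := fun e => h (Sum.inl.inj (Sum.inl.inj e))
    have h2 : (fI c : MI m) ≠ fI k := fun e => h (Sum.inr.inj (Sum.inl.inj e))
    rw [Equiv.swap_apply_of_ne_of_ne h1 (by simp), Equiv.swap_apply_of_ne_of_ne (by simp) h2]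

theorem mat_w0 : mat (w0 m F a b) = w0Mat m F := by
  refine mat_ofMat _ (exists_of_perm (dualE m) ?_)
  intro u
  unfold Cfsg.quadFormMinus
  congr 1
  apply Finset.sum_congr rfl
  intro c _
  show u (fI c) * u (eI c) = u (eI c) * u (fI c)
  rw [mul_comm]

end Cfsg.Agent.Lib.Helper90.StOm
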