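import Mathlib
import Cfsg.Prelude.Def_GeometricClasses
import Cfsg.Agent.Lib.Helper61.AschDefs
import Cfsg.Agent.Lib.Helper61.AschBasic
import Cfsg.Agent.Lib.Helper04.AschE3
import Cfsg.Agent.Lib.Helper46.AschODefs
import Cfsg.Agent.Lib.Helper46.AschOBasic
import Cfsg.Agent.Lib.Helper36.SLMaxD2
import Cfsg.Agent.Lib.Helper72.AschC6
import Cfsg.Agent.Lib.Helper49.SubfieldGrp

/-!
K-S5673-A2c (architect helper46): an orthogonal frame of isometric 1-spaces over a non-prime field gives the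
subfield class.
-/

set_option autoImplicit false
set_option linter.unusedSectionVars false
set_option linter.unusedVariables false

namespace Cfsg.Agent.Lib.Helper90.AschO

open Cfsg Cfsg.Geo Cfsg.Agent.Lib.Helper61.Asch Cfsg.Agent.Lib.Helper46.AschO
open scoped Matrix Kronecker MatrixGroups

variable {F : Type*} [Field F] [Fintype F] {n : ℕ}

/-- frame vectors: spanning vectors of the members of an orthogonal 1-decomposition, all of the same norm -/
theorem exists_frame_vectors (Q : (Fin n → F) → F) (hQ : IsNondegenerateQuadraticForm Q)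
    (D : Fin n → Submodule F (Fin n → F)) (hD : IsOrthogonalMDecomposition Q 1 D) (hn : 0 < n) :
    ∃ (a : F) (v : Fin n → (Fin n → F)), a ≠ 0 ∧ (∀ i, v i ∈ D i) ∧ (∀ i, Q (v i) = a) ∧
      (∀ i, ∀ w ∈ D i, ∃ c : F, w = c • v i) ∧
      (∀ i j, QuadraticMap.polar Q (v i) (v j) = if i = j then 2 * a else 0) := by
  classical
  let i₀ : Fin n := ⟨0, hn⟩
  have hfr : ∀ i, Module.finrank F (D i) = 1 := hD.decomp.decomp.finrank_eq
  obtain ⟨d₀, hd₀, hd₀span⟩ := finrank_eq_one_iff'.mp (hfr i₀)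
  choose e he using fun i => hD.isometric i₀ i
  have hne : ∀ i, e i d₀ ≠ 0 := fun i h => hd₀ ((e i).map_eq_zero_iff.mp h)
  have hspan : ∀ i, ∀ w ∈ D i, ∃ c : F, w = c • ((e i d₀ : D i) : Fin n → F) := by
    intro i w hw
    obtain ⟨c, hc⟩ := (finrank_eq_one_iff_of_nonzero' (e i d₀) (hne i)).mp (hfr i) ⟨w, hw⟩
    refine ⟨c, ?_⟩
    have := congrArg (fun x : D i => (x : Fin n → F)) hc
    simpa using this.symm
  have hQv : ∀ i, Q ((e i d₀ : D i) : Fin n → F) = Q (d₀ : Fin n → F) := fun i => he i d₀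
  have ha : Q (d₀ : Fin n → F) ≠ 0 := by
    intro h0
    have hd₀' : ((d₀ : D i₀) : Fin n → F) ≠ 0 := fun h => hd₀ (Subtype.ext h)
    obtain ⟨x, hx, hx0⟩ := (hD.decomp.nondegenerate i₀ _ d₀.2 hd₀').1
    obtain ⟨c, hc⟩ := hd₀span ⟨x, hx⟩
    have hc' : x = c • (d₀ : Fin n → F) := by
      have := congrArg (fun x : D i₀ => (x : Fin n → F)) hc
      simpa using this.symm
    apply hx0
    rw [hc', hQ.polar_bilinear.smul_left, ← two_mul_Q hQ, h0, mul_zero, mul_zero]
  refine ⟨Q (d₀ : Fin n → F), fun i => ((e i d₀ : D i) : Fin n → F), ha, fun i => (e i d₀).2, hQv, hspan, ?_⟩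
  intro i j
  by_cases hij : i = j
  · subst hij
    rw [if_pos rfl, ← two_mul_Q hQ, hQv]
  · rw [if_neg hij]
    exact hD.decomp.orthogonal i j hij _ (e i d₀).2 _ (e j d₀).2

/-- the prime subfield of a finite field of non-prime order is proper -/
theorem bot_ne_top_of_not_prime (hp : ¬ (Fintype.card F).Prime) : (⊥ : Subfield F) ≠ ⊤ := by
  intro hbt
  apply hp
  obtain ⟨p, hchar⟩ := CharP.exists F
  haveI := hchar
  haveI : Fact p.Prime := ⟨CharP.char_is_prime F p⟩
  have h1 := Subfield.card_bot F p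
  rw [hbt] at h1
  have h2 : Nat.card (⊤ : Subfield F) = Fintype.card F := by
    rw [← Nat.card_eq_fintype_card]
    exact Nat.card_congr (Subfield.topEquiv (K := F)).toEquiv
  rw [← h2, h1]
  exact Fact.out

/-- K-S5673-A2c. -/
theorem ogeom_of_frame (hodd : Odd n) (h2 : (2 : F) ≠ 0) (Q : (Fin n → F) → F)
    (hQ : IsNondegenerateQuadraticForm Q)
    (hdisc : DiscInPrimeField Q) (H : Subgroup (GL (Fin n) F)) (hH : H ≤ isometryGroup F Q)
    (t : ℕ) (D : Fin t → Submodule F (Fin n → F)) (hD : IsOrthogonalMDecomposition Q 1 D)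
    (hHD : H ≤ decompositionStabilizer D) (hp : ¬ (Fintype.card F).Prime) :
    OGeom Q (H ⊔ scalars (Fin n) F) := by
  classical
  have htn : t = n := by
    have := Cfsg.Agent.Lib.Helper36.SLMax.mul_eq_of_isMDecomposition D hD.decomp.decomp
    simpa using this
  subst htn
  have hn : 0 < t := by
    have := hD.decomp.decomp.two_le
    omega
  obtain ⟨a, v, ha, hvD, hQv, hspan, hpol⟩ := exists_frame_vectors Q hQ D hD hn
  have h2a : 2 * a ≠ 0 := mul_ne_zero h2 ha
  obtain ⟨G, hG⟩ : ∃ G : Matrix (Fin t) (Fin t) F, G = gramQ Q := ⟨_, rfl⟩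
  obtain ⟨R, hR⟩ : ∃ R : Matrix (Fin t) (Fin t) F, R = Matrix.of v := ⟨_, rfl⟩
  have hRrow : ∀ i, R i = v i := fun i => by rw [hR]; rfl
  have hRGR : R * G * Rᵀ = Matrix.diagonal (fun _ => 2 * a) := by
    ext i j
    have h1 : (R * G * Rᵀ) i j = v i ⬝ᵥ (G *ᵥ v j) := by
      rw [Matrix.mul_assoc, ← hRrow i, ← hRrow j]
      rfl
    rw [h1, hG, ← polar_eq_gram hQ, hpol, Matrix.diagonal_apply]
  obtain ⟨k, s, hs, hdet⟩ := hdisc
  have hdetG : G.det = (k : F) * s ^ 2 := by rw [hG]; exact hdet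
  obtain ⟨j, hj⟩ := hodd
  have key : (2 * a) ^ (2 * j + 1) = R.det ^ 2 * ((k : F) * s ^ 2) := by
    have h1 := congrArg Matrix.det hRGR
    rw [Matrix.det_mul, Matrix.det_mul, Matrix.det_transpose, Matrix.det_diagonal, Finset.prod_const,
      Finset.card_univ, Fintype.card_fin, hdetG] at h1
    have hpow : (2 * a) ^ t = (2 * a) ^ (2 * j + 1) := congrArg (fun m => (2 * a) ^ m) hj
    rw [← hpow, ← h1]
    ring
  have hdR : R.det ≠ 0 := by
    intro h0
    rw [h0] at key
    have : (2 * a) ^ (2 * j + 1) ≠ 0 := pow_ne_zero _ h2a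
    apply this
    rw [key]
    ring
  obtain ⟨lam, hlamdef⟩ : ∃ lam : F, lam = s * R.det / (2 * a) ^ j := ⟨_, rfl⟩
  have hlam0 : lam ≠ 0 := by
    rw [hlamdef]
    exact div_ne_zero (mul_ne_zero hs hdR) (pow_ne_zero _ h2a)
  have hlam : (k : F) * lam ^ 2 = 2 * a := by
    have h3 : ((2 * a) ^ j) ^ 2 ≠ 0 := pow_ne_zero _ (pow_ne_zero _ h2a)
    apply mul_right_cancel₀ h3
    rw [hlamdef, div_pow, mul_assoc, div_mul_cancel₀ _ h3]
    have : 2 * a * ((2 * a) ^ j) ^ 2 = (2 * a) ^ (2 * j + 1) := by ring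
    rw [this, key]
    ring
  have hdetP : (lam⁻¹ • Rᵀ).det ≠ 0 := by
    rw [Matrix.det_smul, Matrix.det_transpose]
    exact mul_ne_zero (pow_ne_zero _ (inv_ne_zero hlam0)) hdR
  obtain ⟨P, hP⟩ : ∃ P : GL (Fin t) F, (P : Matrix (Fin t) (Fin t) F) = lam⁻¹ • Rᵀ :=
    ⟨Matrix.GeneralLinearGroup.mkOfDetNeZero _ hdetP, rfl⟩
  have hPGP : (P : Matrix (Fin t) (Fin t) F)ᵀ * G * (P : Matrix (Fin t) (Fin t) F) =
      Matrix.diagonal (fun _ => (k : F)) := by
    rw [hP, Matrix.transpose_smul, Matrix.transpose_transpose, Matrix.smul_mul, Matrix.smul_mul,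
      Matrix.mul_smul, hRGR, smul_smul]
    ext i j
    rw [Matrix.smul_apply, Matrix.diagonal_apply, Matrix.diagonal_apply]
    split_ifs
    · rw [smul_eq_mul, ← hlam]
      field_simp
    · simp
  -- columns of P
  have hPcol : ∀ j, (P : Matrix (Fin t) (Fin t) F) *ᵥ Pi.single j 1 = lam⁻¹ • v j := by
    intro j
    rw [Matrix.mulVec_single_one, hP]
    ext i
    simp [hR]
  obtain ⟨F₀, r, hr, -, hcard⟩ :=
    Cfsg.Agent.Lib.Helper72.Asch.exists_subfield_prime_index (⊥ : Subfield F) (bot_ne_top_of_not_prime hp)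
  refine ⟨subfieldSubgroup F₀ P,
    Or.inr (Or.inr (Or.inr (Or.inr (Or.inr (Or.inr (Or.inl ⟨F₀, r, P, hr, hcard, ?_, rfl⟩)))))), ?_⟩
  · -- the rational structure
    intro u hu
    rw [Q_eq_half hQ h2, polar_eq_gram hQ, ← hG]
    have h1 : ((P : Matrix (Fin t) (Fin t) F) *ᵥ u) ⬝ᵥ (G *ᵥ ((P : Matrix (Fin t) (Fin t) F) *ᵥ u)) =
        u ⬝ᵥ (((P : Matrix (Fin t) (Fin t) F)ᵀ * G * (P : Matrix (Fin t) (Fin t) F)) *ᵥ u) := by
      rw [Matrix.mul_assoc, ← Matrix.mulVec_mulVec, ← Matrix.mulVec_mulVec]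
      generalize G *ᵥ ((P : Matrix (Fin t) (Fin t) F) *ᵥ u) = w
      rw [Matrix.dotProduct_mulVec u, Matrix.vecMul_transpose]
    rw [h1, hPGP]
    have h2mem : (2 : F) ∈ F₀ := by
      have : (2 : F) = 1 + 1 := by norm_num
      rw [this]
      exact F₀.add_mem F₀.one_mem F₀.one_mem
    refine F₀.mul_mem (F₀.inv_mem h2mem) ?_
    unfold dotProduct
    refine F₀.sum_mem fun i _ => ?_
    rw [Matrix.mulVec_diagonal]
    exact F₀.mul_mem (hu i) (F₀.mul_mem (F₀.intCast_mem k) (hu i))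
  · -- containment
    apply sup_le
    · intro h hh
      have hiso := (mem_isometryGroup_iff Q h).mp (hH hh)
      obtain ⟨σ, hσ⟩ := hHD hh
      have hact : ∀ j, ∃ c : F, (c = 1 ∨ c = -1) ∧
          (h : Matrix (Fin t) (Fin t) F) *ᵥ v j = c • v (σ j) := by
        intro j
        have hmem : (h : Matrix (Fin t) (Fin t) F) *ᵥ v j ∈ D (σ j) := by
          rw [← hσ j]
          exact Submodule.mem_map.mpr ⟨v j, hvD j, by rw [Matrix.toLin'_apply]⟩
        obtain ⟨c, hc⟩ := hspan (σ j) _ hmem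
        refine ⟨c, ?_, hc⟩
        have h1 := hiso (v j)
        rw [hc, hQ.smul, hQv, hQv] at h1
        have h3 : c ^ 2 = 1 := by
          apply mul_right_cancel₀ ha
          rw [h1, one_mul]
        have h4 : (c - 1) * (c + 1) = 0 := by linear_combination h3
        rcases mul_eq_zero.mp h4 with h5 | h5
        · left
          exact sub_eq_zero.mp h5
        · right
          exact eq_neg_of_add_eq_zero_left h5
      choose c hc hcv using hact
      have hcmem : ∀ j, c j ∈ F₀ := by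
        intro j
        rcases hc j with h5 | h5
        · rw [h5]; exact F₀.one_mem
        · rw [h5]; exact F₀.neg_mem F₀.one_mem
      have hA : ∀ i j, ((P⁻¹ * h * P : GL (Fin t) F) : Matrix (Fin t) (Fin t) F) i j ∈ F₀ := by
        intro i j
        have h1 : ((P⁻¹ * h * P : GL (Fin t) F) : Matrix (Fin t) (Fin t) F) *ᵥ Pi.single j 1 =
            c j • Pi.single (σ j) 1 := by
          rw [Units.val_mul, Units.val_mul, ← Matrix.mulVec_mulVec, ← Matrix.mulVec_mulVec, hPcol,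
            Matrix.mulVec_smul, hcv, smul_comm, Matrix.mulVec_smul, ← hPcol (σ j), Matrix.mulVec_mulVec,
            ← Units.val_mul, inv_mul_cancel, Units.val_one, Matrix.one_mulVec]
        have h3 : ((P⁻¹ * h * P : GL (Fin t) F) : Matrix (Fin t) (Fin t) F) i j =
            (((P⁻¹ * h * P : GL (Fin t) F) : Matrix (Fin t) (Fin t) F) *ᵥ Pi.single j 1) i := by
          rw [Matrix.mulVec_single_one]
          rfl
        rw [h3, h1, Pi.smul_apply, Pi.single_apply, smul_eq_mul]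
        split_ifs
        · exact F₀.mul_mem (hcmem j) F₀.one_mem
        · rw [mul_zero]; exact F₀.zero_mem
      refine Subgroup.mem_map.mpr ⟨P⁻¹ * h * P,
        Subgroup.mem_sup_left (Cfsg.Agent.Lib.Helper49.mem_range_map_of_entries F₀ _ hA), ?_⟩
      change MulAut.conj P (P⁻¹ * h * P) = h
      rw [MulAut.conj_apply]
      group
    · intro z hz
      refine Subgroup.mem_map.mpr ⟨P⁻¹ * z * P, Subgroup.mem_sup_right ?_, ?_⟩
      · have := (scalars_normal (ι := Fin t) (F := F)).conj_mem z hz P⁻¹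
        simpa using this
      · change MulAut.conj P (P⁻¹ * z * P) = z
        rw [MulAut.conj_apply]
        group

end Cfsg.Agent.Lib.Helper90.AschO
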