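import Mathlib
import Cfsg.Prelude.Def_GeometricClasses
import Cfsg.Agent.Lib.Helper61.AschDefs
import Cfsg.Agent.Lib.Helper61.AschBasic
import Cfsg.Agent.Lib.Helper04.AschE3
import Cfsg.Agent.Lib.Helper46.AschOBasic
import Cfsg.Agent.Lib.Helper46.AschEDefs
import Cfsg.Agent.Lib.Helper43.SpAschDefs
import Cfsg.Agent.Lib.Helper43.SpAschDefs2
import Cfsg.Agent.Lib.Helper86.SpAschS4q
import Cfsg.Agent.Lib.Helper81.SpAschS4d2
import Cfsg.Agent.Lib.Helper93.SpAschS4d1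

/-!
# K-OEven-B6q (architect helper46): `tensor_forms_char_two`

Characteristic 2.  `K` irreducible inside the similarity group of `Q`, inside a tensor product subgroup, with the polar
form of `Q` equal to `g₁ ⊗ g₂` in the tensor coordinates.  Then `g₁`, `g₂` have zero diagonal
(`Helper81.SpAsch.diag_zero_of_irreducible`), and `Q` vanishes on pure tensors: the difference `D` of `Q` (in
coordinates) and the explicit form `Q₀ x = xᵀ (A₁ ⊗ g₂) x` (`A₁` the strictly upper triangular part of `g₁`) is additive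
and `c²`-homogeneous, its zero set is a non-zero `K`-invariant subspace, hence everything; and `Q₀` vanishes on pure
tensors.
-/

set_option autoImplicit false

namespace Cfsg.Agent.Lib.Helper90.AschE

open Cfsg Cfsg.Geo Cfsg.Agent.Lib.Helper61.Asch Cfsg.Agent.Lib.Helper43.SpAsch
open scoped Matrix Kronecker MatrixGroups

section Quad

variable {F : Type*} [Field F] {a b : ℕ}

/-- the explicit quadratic form `x ↦ xᵀ (A₁ ⊗ G₂) x`, `A₁` the strictly upper triangular part of `G₁` -/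
def qz (G₁ : Matrix (Fin a) (Fin a) F) (G₂ : Matrix (Fin b) (Fin b) F) (x : Fin a × Fin b → F) : F :=
  x ⬝ᵥ ((Cfsg.Agent.Lib.Helper86.SpAsch.upperPart G₁ ⊗ₖ G₂) *ᵥ x)

theorem qz_smul (G₁ : Matrix (Fin a) (Fin a) F) (G₂ : Matrix (Fin b) (Fin b) F) (c : F)
    (x : Fin a × Fin b → F) : qz G₁ G₂ (c • x) = c ^ 2 * qz G₁ G₂ x := by
  unfold qz
  simp only [Matrix.mulVec_smul, smul_dotProduct, dotProduct_smul, smul_eq_mul]
  ring

theorem qz_polar (G₁ : Matrix (Fin a) (Fin a) F) (G₂ : Matrix (Fin b) (Fin b) F)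
    (h₁ : G₁ᵀ = G₁) (h₂ : G₂ᵀ = G₂) (d₁ : ∀ i, G₁ i i = 0) (x y : Fin a × Fin b → F) :
    qz G₁ G₂ (x + y) - qz G₁ G₂ x - qz G₁ G₂ y = formOfGram id (G₁ ⊗ₖ G₂) x y := by
  unfold qz
  set A₁ := Cfsg.Agent.Lib.Helper86.SpAsch.upperPart G₁ with hA₁
  have hA : A₁ + A₁ᵀ = G₁ := Cfsg.Agent.Lib.Helper86.SpAsch.upperPart_add_transpose G₁ h₁ d₁
  set M₀ : Matrix (Fin a × Fin b) (Fin a × Fin b) F := A₁ ⊗ₖ G₂ with hM₀
  have hM₀T : M₀ᵀ = A₁ᵀ ⊗ₖ G₂ := by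
    rw [hM₀, ← Matrix.kroneckerMap_transpose, h₂]
  have hsum : M₀ + M₀ᵀ = G₁ ⊗ₖ G₂ := by
    rw [hM₀T, hM₀, ← Matrix.add_kronecker, hA]
  rw [Cfsg.Agent.Lib.Helper86.SpAsch.formOfGram_id_eq, ← hsum]
  have h1 : y ⬝ᵥ (M₀ *ᵥ x) = x ⬝ᵥ (M₀ᵀ *ᵥ y) := by
    rw [Matrix.dotProduct_mulVec, dotProduct_comm, Matrix.mulVec_transpose]
  simp only [Matrix.mulVec_add, Matrix.add_mulVec, add_dotProduct, dotProduct_add]
  rw [h1]
  ring

theorem qz_sim (h2 : (2 : F) = 0) (G₁ : Matrix (Fin a) (Fin a) F) (G₂ : Matrix (Fin b) (Fin b) F)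
    (h₁ : G₁ᵀ = G₁) (h₂ : G₂ᵀ = G₂) (d₁ : ∀ i, G₁ i i = 0) (d₂ : ∀ j, G₂ j j = 0)
    (k₁ : Matrix (Fin a) (Fin a) F) (k₂ : Matrix (Fin b) (Fin b) F) (c₁ c₂ : F)
    (hk₁ : k₁ᵀ * G₁ * k₁ = c₁ • G₁) (hk₂ : k₂ᵀ * G₂ * k₂ = c₂ • G₂) (x : Fin a × Fin b → F) :
    qz G₁ G₂ ((k₁ ⊗ₖ k₂) *ᵥ x) = c₁ * c₂ * qz G₁ G₂ x := by
  unfold qz
  set A₁ := Cfsg.Agent.Lib.Helper86.SpAsch.upperPart G₁ with hA₁
  have hA : A₁ + A₁ᵀ = G₁ := Cfsg.Agent.Lib.Helper86.SpAsch.upperPart_add_transpose G₁ h₁ d₁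
  set M₀ : Matrix (Fin a × Fin b) (Fin a × Fin b) F := A₁ ⊗ₖ G₂ with hM₀
  have hneg : ∀ z : F, -z = z := by
    intro z
    have : z + z = 0 := by rw [← two_mul, h2, zero_mul]
    exact neg_eq_of_add_eq_zero_left this
  rw [Cfsg.Agent.Lib.Helper86.SpAsch.qf_comp]
  set N : Matrix (Fin a) (Fin a) F := k₁ᵀ * A₁ * k₁ - c₁ • A₁ with hN
  have hNT : Nᵀ = N := by
    have h3 : N + Nᵀ = 0 := by
      rw [hN, Matrix.transpose_sub, Matrix.transpose_smul, Matrix.transpose_mul,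
        Matrix.transpose_mul, Matrix.transpose_transpose]
      have : k₁ᵀ * A₁ * k₁ - c₁ • A₁ + (k₁ᵀ * (A₁ᵀ * k₁) - c₁ • A₁ᵀ) =
          k₁ᵀ * (A₁ + A₁ᵀ) * k₁ - c₁ • (A₁ + A₁ᵀ) := by
        rw [Matrix.mul_add, Matrix.add_mul, smul_add, Matrix.mul_assoc k₁ᵀ A₁ᵀ k₁]
        abel
      rw [this, hA, hk₁, sub_self]
    have h4 : Nᵀ = -N := by
      rw [eq_neg_iff_add_eq_zero, add_comm]
      exact h3
    rw [h4]
    ext i j
    simp only [Matrix.neg_apply]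
    exact hneg _
  have hNG : (N ⊗ₖ G₂)ᵀ = N ⊗ₖ G₂ := by
    rw [← Matrix.kroneckerMap_transpose, hNT, h₂]
  have hNGd : ∀ p, (N ⊗ₖ G₂) p p = 0 := by
    rintro ⟨i, j⟩
    simp only [Matrix.kroneckerMap_apply]
    rw [d₂, mul_zero]
  have hzero := Cfsg.Agent.Lib.Helper86.SpAsch.dotProduct_mulVec_self_eq_zero h2 (N ⊗ₖ G₂) hNG hNGd x
  have hK : (k₁ ⊗ₖ k₂)ᵀ * M₀ * (k₁ ⊗ₖ k₂) = c₂ • ((k₁ᵀ * A₁ * k₁) ⊗ₖ G₂) := by
    rw [← Matrix.kroneckerMap_transpose, hM₀, ← Matrix.mul_kronecker_mul,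
      ← Matrix.mul_kronecker_mul, hk₂, Matrix.kronecker_smul]
  have hsplit : k₁ᵀ * A₁ * k₁ = N + c₁ • A₁ := by
    rw [hN]; abel
  rw [hK, hsplit, Matrix.add_kronecker, Matrix.smul_kronecker, smul_add, Matrix.add_mulVec,
    dotProduct_add, Matrix.smul_mulVec, dotProduct_smul, hzero, smul_zero, zero_add,
    smul_smul, Matrix.smul_mulVec, dotProduct_smul, smul_eq_mul]
  ring

/-- `(A ⊗ G) (x₁ ⊗ x₂) = (A x₁) ⊗ (G x₂)` -/
theorem kron_mulVec_pure (A : Matrix (Fin a) (Fin a) F) (G : Matrix (Fin b) (Fin b) F)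
    (x₁ : Fin a → F) (x₂ : Fin b → F) :
    (A ⊗ₖ G) *ᵥ (fun p : Fin a × Fin b => x₁ p.1 * x₂ p.2) =
      fun p : Fin a × Fin b => (A *ᵥ x₁) p.1 * (G *ᵥ x₂) p.2 := by
  funext p
  obtain ⟨i, j⟩ := p
  simp only [Matrix.mulVec, dotProduct, Matrix.kroneckerMap_apply, Fintype.sum_prod_type]
  rw [Finset.sum_mul_sum]
  apply Finset.sum_congr rfl
  intro i' _
  apply Finset.sum_congr rfl
  intro j' _
  ring

theorem dot_pure (x₁ y₁ : Fin a → F) (x₂ y₂ : Fin b → F) :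
    (fun p : Fin a × Fin b => x₁ p.1 * x₂ p.2) ⬝ᵥ (fun p : Fin a × Fin b => y₁ p.1 * y₂ p.2) =
      (x₁ ⬝ᵥ y₁) * (x₂ ⬝ᵥ y₂) := by
  simp only [dotProduct, Fintype.sum_prod_type]
  rw [Finset.sum_mul_sum]
  apply Finset.sum_congr rfl
  intro i' _
  apply Finset.sum_congr rfl
  intro j' _
  ring

/-- `Q₀` vanishes on pure tensors -/
theorem qz_pure (h2 : (2 : F) = 0) (G₁ : Matrix (Fin a) (Fin a) F) (G₂ : Matrix (Fin b) (Fin b) F)
    (h₂ : G₂ᵀ = G₂) (d₂ : ∀ j, G₂ j j = 0) (x₁ : Fin a → F) (x₂ : Fin b → F) :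
    qz G₁ G₂ (fun p : Fin a × Fin b => x₁ p.1 * x₂ p.2) = 0 := by
  unfold qz
  rw [kron_mulVec_pure, dot_pure,
    Cfsg.Agent.Lib.Helper86.SpAsch.dotProduct_mulVec_self_eq_zero h2 G₂ h₂ d₂ x₂, mul_zero]

end Quad

variable {F : Type*} [Field F] [Fintype F] {n : ℕ}

local notation "V" => (Fin n → F)
local notation "Mat" => Matrix (Fin n) (Fin n) F

theorem isSymplecticForm_polar_char_two (h2 : (2 : F) = 0) (Q : V → F) (hQ : IsNondegenerateQuadraticForm Q) :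
    IsSymplecticForm (QuadraticMap.polar Q) := by
  have hneg : ∀ a : F, -a = a := by
    intro a
    have : a + a = 0 := by rw [← two_mul, h2, zero_mul]
    exact neg_eq_of_add_eq_zero_left this
  refine ⟨hQ.polar_bilinear, ?_, ?_, hQ.nondegenerate⟩
  · intro v w
    rw [hneg, QuadraticMap.polar_comm]
  · intro v
    unfold QuadraticMap.polar
    have : v + v = (2 : F) • v := by rw [two_smul]
    rw [this, hQ.smul, h2]
    have h3 : Q v + Q v = 0 := by rw [← two_mul, h2, zero_mul]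
    have : (0 : F) ^ 2 * Q v - Q v - Q v = -(Q v + Q v) := by ring
    rw [this, h3, neg_zero]

/-- the action of `k = P (glReindex g) P⁻¹` in the tensor coordinates -/
theorem act_coord {a b : ℕ} (e : Fin n ≃ Fin a × Fin b) (P : GL (Fin n) F) (g : GL (Fin a × Fin b) F)
    (k : GL (Fin n) F) (hkg : k = P * glReindex e.symm g * P⁻¹) (x : Fin a × Fin b → F) :
    (k : Mat) *ᵥ ((P : Mat) *ᵥ (x ∘ e)) =
      (P : Mat) *ᵥ (((g : Matrix (Fin a × Fin b) (Fin a × Fin b) F) *ᵥ x) ∘ e) := by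
  have h1 : (k : Mat) * (P : Mat) = (P : Mat) * ((glReindex e.symm g : GL (Fin n) F) : Mat) := by
    rw [hkg, ← Units.val_mul, ← Units.val_mul]
    congr 1
    group
  rw [Matrix.mulVec_mulVec, h1, ← Matrix.mulVec_mulVec]
  congr 1
  rw [Cfsg.Agent.Lib.Helper63.Asch.coe_glReindex]
  have : e.symm.symm = e := rfl
  rw [this, Matrix.submatrix_mulVec_equiv]
  congr 2
  ext p
  simp

/-- version with only the hypotheses used -/
theorem tensor_forms_char_two' (h2 : (2 : F) = 0) (Q : V → F) (hQ : IsNondegenerateQuadraticForm Q)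
    (K : Subgroup (GL (Fin n) F)) (hK : K ≤ quadSimilarityGroup Q)
    (hKirr : ActsIrreducibly (matrixSet K)) (a b : ℕ) (ha : 2 ≤ a) (hb : 2 ≤ b)
    (e : Fin n ≃ Fin a × Fin b) (P : GL (Fin n) F)
    (hKT : K ≤ tensorProductSubgroup a b e P)
    (g₁ : Matrix (Fin a) (Fin a) F) (g₂ : Matrix (Fin b) (Fin b) F) (h₁ : g₁ᵀ = g₁) (h₂ : g₂ᵀ = g₂)
    (hu₁ : IsUnit g₁) (hu₂ : IsUnit g₂)
    (hform : ∀ x y : Fin a × Fin b → F,
      QuadraticMap.polar Q ((P : Mat) *ᵥ (x ∘ e)) ((P : Mat) *ᵥ (y ∘ e)) = formOfGram id (g₁ ⊗ₖ g₂) x y) :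
    (∀ i, g₁ i i = 0) ∧ (∀ i, g₂ i i = 0) ∧
      ∀ (x₁ : Fin a → F) (x₂ : Fin b → F),
        Q ((P : Mat) *ᵥ ((fun p : Fin a × Fin b => x₁ p.1 * x₂ p.2) ∘ e)) = 0 := by
  have hf : IsSymplecticForm (QuadraticMap.polar Q) := isSymplecticForm_polar_char_two h2 Q hQ
  have hkf : IsKronForm (QuadraticMap.polar Q) a b e P g₁ g₂ := hform
  have hfac : ∀ k ∈ K, KronSim a b e P g₁ g₂ k := by
    intro k hk
    obtain ⟨c, hc⟩ := hK hk
    exact Cfsg.Agent.Lib.Helper93.SpAsch.kronSim_of_mem hf a b e P g₁ g₂ hu₁ hu₂ hkf k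
      ⟨c, fun u v => Cfsg.Agent.Lib.Helper46.AschO.polar_similarity hc u v⟩ (hKT hk)
  obtain ⟨d₁, d₂⟩ := Cfsg.Agent.Lib.Helper81.SpAsch.diag_zero_of_irreducible (f := QuadraticMap.polar Q) h2 K hKirr
    a b ha hb e P g₁ g₂ h₁ h₂ hfac
  refine ⟨d₁, d₂, ?_⟩
  have hadd2 : ∀ z : F, z + z = 0 := by
    intro z
    rw [← two_mul, h2, zero_mul]
  -- `Q` in coordinates
  obtain ⟨Q', hQ'⟩ : ∃ Q' : (Fin a × Fin b → F) → F, ∀ x, Q' x = Q ((P : Mat) *ᵥ (x ∘ e)) := ⟨_, fun _ => rfl⟩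
  have hQ'pol : ∀ x y, Q' (x + y) - Q' x - Q' y = formOfGram id (g₁ ⊗ₖ g₂) x y := by
    intro x y
    rw [← hform, hQ', hQ', hQ']
    unfold QuadraticMap.polar
    rw [← Matrix.mulVec_add]
    rfl
  have hQ'smul : ∀ (c : F) x, Q' (c • x) = c ^ 2 * Q' x := by
    intro c x
    rw [hQ', hQ']
    have : (c • x) ∘ e = c • (x ∘ e) := rfl
    rw [this, Matrix.mulVec_smul, hQ.smul]
  -- the difference
  obtain ⟨D, hD⟩ : ∃ D : (Fin a × Fin b → F) → F, ∀ x, D x = Q' x - qz g₁ g₂ x := ⟨_, fun _ => rfl⟩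
  have hDadd : ∀ x y, D (x + y) = D x + D y := by
    intro x y
    have e1 := hQ'pol x y
    have e2 := qz_polar g₁ g₂ h₁ h₂ d₁ x y
    rw [hD, hD, hD]
    linear_combination e1 - e2
  have hDsmul : ∀ (c : F) x, D (c • x) = c ^ 2 * D x := by
    intro c x
    rw [hD, hD, hQ'smul, qz_smul]
    ring
  have hD0 : D 0 = 0 := by
    have := hDsmul 0 0
    rw [zero_smul] at this
    rw [this]
    ring
  -- its zero set
  obtain ⟨U, hU⟩ : ∃ U : Submodule F (Fin a × Fin b → F), ∀ x, x ∈ U ↔ D x = 0 :=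
    ⟨{ carrier := {x | D x = 0}
       zero_mem' := hD0
       add_mem' := by
         intro x y hx hy
         show D (x + y) = 0
         rw [hDadd, hx, hy, add_zero]
       smul_mem' := by
         intro c x hx
         show D (c • x) = 0
         rw [hDsmul, hx, mul_zero] }, fun _ => Iff.rfl⟩
  have : Nonempty (Fin a) := ⟨⟨0, by omega⟩⟩
  have : Nonempty (Fin b) := ⟨⟨0, by omega⟩⟩
  obtain ⟨i₀, i₀', hi₀⟩ := Cfsg.Agent.Lib.Helper93.SpAsch.exists_ne_zero_of_isUnit g₁ hu₁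
  obtain ⟨j₀, j₀', hj₀⟩ := Cfsg.Agent.Lib.Helper93.SpAsch.exists_ne_zero_of_isUnit g₂ hu₂
  -- invariance
  have hinv : ∀ k ∈ K, ∃ g : GL (Fin a × Fin b) F, k = P * glReindex e.symm g * P⁻¹ ∧
      ∀ x ∈ U, (g : Matrix (Fin a × Fin b) (Fin a × Fin b) F) *ᵥ x ∈ U := by
    intro k hk
    obtain ⟨k₁, k₂, g, c₁, c₂, hg, hkg, hs₁, hs₂⟩ := hfac k hk
    obtain ⟨μ, hμ⟩ := hK hk
    refine ⟨g, hkg, ?_⟩
    have hQ'g : ∀ x, Q' ((g : Matrix (Fin a × Fin b) (Fin a × Fin b) F) *ᵥ x) = (μ : F) * Q' x := by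
      intro x
      rw [hQ', hQ', ← act_coord e P g k hkg, hμ]
    have hqzg : ∀ x, qz g₁ g₂ ((g : Matrix (Fin a × Fin b) (Fin a × Fin b) F) *ᵥ x) =
        c₁ * c₂ * qz g₁ g₂ x := by
      intro x
      rw [hg]
      exact qz_sim h2 g₁ g₂ h₁ h₂ d₁ d₂ _ _ c₁ c₂ hs₁ hs₂ x
    have hcmp : ∀ x y, ((μ : F) - c₁ * c₂) * formOfGram id (g₁ ⊗ₖ g₂) x y = 0 := by
      intro x y
      have e1 := hQ'pol ((g : Matrix (Fin a × Fin b) (Fin a × Fin b) F) *ᵥ x)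
        ((g : Matrix (Fin a × Fin b) (Fin a × Fin b) F) *ᵥ y)
      have e2 := qz_polar g₁ g₂ h₁ h₂ d₁ ((g : Matrix (Fin a × Fin b) (Fin a × Fin b) F) *ᵥ x)
        ((g : Matrix (Fin a × Fin b) (Fin a × Fin b) F) *ᵥ y)
      rw [← Matrix.mulVec_add, hQ'g, hQ'g, hQ'g] at e1
      rw [← Matrix.mulVec_add, hqzg, hqzg, hqzg] at e2
      have e3 := hQ'pol x y
      have e4 := qz_polar g₁ g₂ h₁ h₂ d₁ x y
      linear_combination e1 - e2 - (μ : F) * e3 + c₁ * c₂ * e4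
    have hμc : (μ : F) = c₁ * c₂ := by
      have h := hcmp (Pi.single (i₀, j₀) 1) (Pi.single (i₀', j₀') 1)
      rw [Cfsg.Agent.Lib.Helper86.SpAsch.formOfGram_id_eq] at h
      have hval : (Pi.single (i₀, j₀) 1 : Fin a × Fin b → F) ⬝ᵥ
          ((g₁ ⊗ₖ g₂) *ᵥ (Pi.single (i₀', j₀') 1 : Fin a × Fin b → F)) = g₁ i₀ i₀' * g₂ j₀ j₀' := by
        simp
      rw [hval] at h
      rcases mul_eq_zero.1 h with h | h
      · exact sub_eq_zero.1 h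
      · exact absurd h (mul_ne_zero hi₀ hj₀)
    intro x hx
    rw [hU] at hx ⊢
    rw [hD] at hx ⊢
    rw [hQ'g, hqzg, ← hμc]
    linear_combination (μ : F) * hx
  -- `U ≠ ⊥`
  have hU0 : U ≠ ⊥ := by
    intro hbot
    have hzero : ∀ x, D x = 0 → x = 0 := by
      intro x hx
      have : x ∈ U := (hU x).2 hx
      rw [hbot] at this
      exact (Submodule.mem_bot F).1 this
    obtain ⟨p, hp⟩ : ∃ p : Fin a × Fin b, p = (⟨0, by omega⟩, ⟨0, by omega⟩) := ⟨_, rfl⟩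
    obtain ⟨p', hp'⟩ : ∃ p' : Fin a × Fin b, p' = (⟨1, by omega⟩, ⟨0, by omega⟩) := ⟨_, rfl⟩
    have hne : p ≠ p' := by
      rw [hp, hp']
      intro hh
      have := congrArg (fun q : Fin a × Fin b => (q.1 : ℕ)) hh
      simp at this
    by_cases hα : D (Pi.single p 1) = 0
    · have h1 := hzero _ hα
      have h3 := congrFun h1 p
      simp at h3
    · obtain ⟨c, hc⟩ := Cfsg.Agent.Lib.Helper81.SpAsch.exists_mul_self_eq h2
        (D (Pi.single p' 1) / D (Pi.single p 1))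
      have hq : D (c • Pi.single p 1 + Pi.single p' 1) = 0 := by
        rw [hDadd, hDsmul, pow_two, hc, div_mul_cancel₀ _ hα]
        exact hadd2 _
      have h1 := hzero _ hq
      have h3 := congrFun h1 p'
      simp [Pi.single_eq_of_ne hne.symm] at h3
  by_cases hU1 : U = ⊤
  · intro x₁ x₂
    have hx : (fun p : Fin a × Fin b => x₁ p.1 * x₂ p.2) ∈ U := by rw [hU1]; trivial
    rw [hU, hD, qz_pure h2 g₁ g₂ h₂ d₂, sub_zero, hQ'] at hx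
    exact hx
  · exact (Cfsg.Agent.Lib.Helper81.SpAsch.false_of_invariant K hKirr e P U hU0 hU1 hinv).elim

/-- **K-OEven-B6q** (exact signature of `notes/OEven_keystones.lean.txt`; `N`, `hNK`, `hT` are not used). -/
theorem tensor_forms_char_two (h2 : (2 : F) = 0) (Q : V → F) (hQ : IsNondegenerateQuadraticForm Q)
    (K N : Subgroup (GL (Fin n) F)) (hK : K ≤ quadSimilarityGroup Q) (_hNK : N ≤ K)
    (hKirr : ActsIrreducibly (matrixSet K)) (a b : ℕ) (ha : 2 ≤ a) (hb : 2 ≤ b)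
    (e : Fin n ≃ Fin a × Fin b) (P : GL (Fin n) F) (_hT : IsTensorLeft (spanAlg N) a b e P)
    (hKT : K ≤ tensorProductSubgroup a b e P)
    (g₁ : Matrix (Fin a) (Fin a) F) (g₂ : Matrix (Fin b) (Fin b) F) (h₁ : g₁ᵀ = g₁) (h₂ : g₂ᵀ = g₂)
    (hu₁ : IsUnit g₁) (hu₂ : IsUnit g₂)
    (hform : ∀ x y : Fin a × Fin b → F,
      QuadraticMap.polar Q ((P : Mat) *ᵥ (x ∘ e)) ((P : Mat) *ᵥ (y ∘ e)) = formOfGram id (g₁ ⊗ₖ g₂) x y) :
    (∀ i, g₁ i i = 0) ∧ (∀ i, g₂ i i = 0) ∧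
      ∀ (x₁ : Fin a → F) (x₂ : Fin b → F),
        Q ((P : Mat) *ᵥ ((fun p : Fin a × Fin b => x₁ p.1 * x₂ p.2) ∘ e)) = 0 :=
  tensor_forms_char_two' h2 Q hQ K hK hKirr a b ha hb e P hKT g₁ g₂ h₁ h₂ hu₁ hu₂ hform

end Cfsg.Agent.Lib.Helper90.AschE
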