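import Mathlib
import Cfsg.Prelude.Def_OddOrderLocal
import Cfsg.Prelude.Def_Solvable

/-!
K-S4118-7 (architect helper11): two elements normalizing a cyclic subgroup have a commutator centralizing it.
-/

set_option autoImplicit false

namespace Cfsg.Agent.Lib.Helper90.TIHall

/-- conjugation by a normalizing element acts on a generator of a cyclic subgroup as a power map -/
theorem exists_zpow_of_mem_normalizer {G : Type*} [Group G] (P : Subgroup G) (g : G)
    (hg : ∀ x ∈ P, x ∈ Subgroup.zpowers g) (hgP : g ∈ P) (u : G)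
    (hu : u ∈ Subgroup.normalizer (P : Set G)) : ∃ a : ℤ, u * g * u⁻¹ = g ^ a := by
  have h1 : u * g * u⁻¹ ∈ P := (Subgroup.mem_set_normalizer_iff.mp hu g).mp hgP
  obtain ⟨a, ha⟩ := Subgroup.mem_zpowers_iff.mp (hg _ h1)
  exact ⟨a, ha.symm⟩

/-- `u⁻¹ v⁻¹ u v` centralizes a cyclic subgroup normalized by `u` and `v` -/
theorem inv_inv_mul_mul_mem_centralizer {G : Type*} [Group G] (P : Subgroup G)
    [IsCyclic P] (u v : G) (hu : u ∈ Subgroup.normalizer (P : Set G))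
    (hv : v ∈ Subgroup.normalizer (P : Set G)) :
    u⁻¹ * v⁻¹ * u * v ∈ Subgroup.centralizer (P : Set G) := by
  obtain ⟨g0, hg0⟩ := IsCyclic.exists_generator (α := P)
  have hgP : (g0 : G) ∈ P := g0.2
  have hg : ∀ x ∈ P, x ∈ Subgroup.zpowers (g0 : G) := by
    intro x hx
    obtain ⟨k, hk⟩ := Subgroup.mem_zpowers_iff.mp (hg0 ⟨x, hx⟩)
    refine Subgroup.mem_zpowers_iff.mpr ⟨k, ?_⟩
    have := congrArg (fun y : P => (y : G)) hk
    simpa using this
  obtain ⟨a, ha⟩ := exists_zpow_of_mem_normalizer P g0 hg hgP u hu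
  obtain ⟨b, hb⟩ := exists_zpow_of_mem_normalizer P g0 hg hgP v hv
  -- conjugation by `u v` and by `v u` agree on the generator
  have conj_zpow : ∀ (w x : G) (k : ℤ), w * x ^ k * w⁻¹ = (w * x * w⁻¹) ^ k := by
    intro w x k
    have := map_zpow (MulAut.conj w) x k
    simpa [MulAut.conj_apply] using this
  have h1 : (u * v) * (g0 : G) * (u * v)⁻¹ = (g0 : G) ^ (a * b) := by
    have : (u * v) * (g0 : G) * (u * v)⁻¹ = u * (v * (g0 : G) * v⁻¹) * u⁻¹ := by group
    rw [this, hb, conj_zpow, ha, ← zpow_mul]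
  have h2 : (v * u) * (g0 : G) * (v * u)⁻¹ = (g0 : G) ^ (a * b) := by
    have : (v * u) * (g0 : G) * (v * u)⁻¹ = v * (u * (g0 : G) * u⁻¹) * v⁻¹ := by group
    rw [this, ha, conj_zpow, hb, ← zpow_mul, mul_comm]
  -- hence the commutator commutes with the generator, hence with all of `P`
  have h3 : (u⁻¹ * v⁻¹ * u * v) * (g0 : G) = (g0 : G) * (u⁻¹ * v⁻¹ * u * v) := by
    have h4 : (u * v) * (g0 : G) * (u * v)⁻¹ = (v * u) * (g0 : G) * (v * u)⁻¹ := by rw [h1, h2]
    have h5 : (g0 : G) = (u * v)⁻¹ * ((v * u) * (g0 : G) * (v * u)⁻¹) * (u * v) := by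
      rw [← h4]; group
    calc (u⁻¹ * v⁻¹ * u * v) * (g0 : G)
        = (u⁻¹ * v⁻¹ * u * v) * ((u * v)⁻¹ * ((v * u) * (g0 : G) * (v * u)⁻¹) * (u * v)) := by rw [← h5]
      _ = (g0 : G) * (u⁻¹ * v⁻¹ * u * v) := by group
  rw [Subgroup.mem_centralizer_iff]
  intro x hx
  obtain ⟨k, hk⟩ := Subgroup.mem_zpowers_iff.mp (hg x hx)
  rw [← hk]
  exact ((Commute.zpow_right (show Commute (u⁻¹ * v⁻¹ * u * v) (g0 : G) from h3) k).eq).symm

/-- K-S4118-7. -/
theorem commutatorElement_mem_centralizer_of_isCyclic {G : Type*} [Group G] (P : Subgroup G)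
    [IsCyclic P] (s t : G) (hs : s ∈ Subgroup.normalizer (P : Set G))
    (ht : t ∈ Subgroup.normalizer (P : Set G)) :
    s * t * s⁻¹ * t⁻¹ ∈ Subgroup.centralizer (P : Set G) := by
  have h := inv_inv_mul_mul_mem_centralizer P s⁻¹ t⁻¹ (Subgroup.inv_mem _ hs) (Subgroup.inv_mem _ ht)
  simpa using h

end Cfsg.Agent.Lib.Helper90.TIHall
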