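import Mathlib
import Cfsg.Agent.Lib.Helper17.PG7920Defs
import Cfsg.Agent.Lib.Helper62.PG7920_GEN
import Cfsg.Agent.Lib.Helper94.PG7920_495

/-!
# K-PG-A (keystone 249006, architect helper17): a group of order 7920 with a non-trivial normal `r`-subgroup has a
connected prime graph
-/

set_option autoImplicit false

namespace Cfsg.Agent.Lib.Helper90.PG7920

open Cfsg.Agent.Lib.Helper17.PG7920
open Cfsg.Agent.Lib.Helper62.PG7920 (exists_orderOf_eq_mul_of_normal)
open Cfsg.Agent.Lib.Helper94.PG7920 (exists_orderOf_of_card_495)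


variable {G : Type*} [Group G] [Finite G]

/-- GEN for a normal subgroup of prime power order. -/
theorem edge_of_card_pow (N : Subgroup G) [N.Normal] (t s j a : ℕ) (ht : t.Prime) (hs : s.Prime)
    (hcard : Nat.card N = s ^ a) (ha : 0 < a) (hts : t ≠ s) (htG : t ^ j ∣ Nat.card G)
    (hnd : ¬ t ^ j ∣ s ^ a - 1) : Edge G t s := by
  apply exists_orderOf_eq_mul_of_normal N t s j a ht hs ?_ htG ha ?_ ?_ hnd
  · rw [hcard]
    intro h
    exact hts ((Nat.prime_dvd_prime_iff_eq ht hs).1 (ht.dvd_of_dvd_pow h))
  · rw [hcard]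
  · rw [hcard, Nat.pow_dvd_pow_iff_le_right hs.one_lt]
    omega

/-- an element of order `m` of a quotient lifts to an element of order `m` -/
theorem exists_orderOf_eq_of_quotient (N : Subgroup G) [N.Normal] (m : ℕ) (q : G ⧸ N)
    (hq : orderOf q = m) : ∃ g : G, orderOf g = m := by
  obtain ⟨g, rfl⟩ := QuotientGroup.mk_surjective q
  have hdvd : m ∣ orderOf g := by
    rw [← hq]
    exact orderOf_map_dvd (QuotientGroup.mk' N) g
  exact ⟨g ^ (orderOf g / m), orderOf_pow_orderOf_div (orderOf_pos g).ne' hdvd⟩

/-- the index of the centraliser of a normal subgroup of order 11 divides 10 -/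
theorem index_centralizer_dvd_ten (N : Subgroup G) [N.Normal] (hN : Nat.card N = 11) :
    (Subgroup.centralizer (N : Set G)).index ∣ 10 := by
  have : Fact (Nat.Prime 11) := ⟨by norm_num⟩
  have hcyc : IsCyclic N := isCyclic_of_prime_card hN
  have hker : (MulAut.conjNormal : G →* MulAut N).ker = Subgroup.centralizer (N : Set G) := by
    ext g
    rw [MonoidHom.mem_ker, Subgroup.mem_centralizer_iff]
    constructor
    · intro h x hx
      have h1 := congrArg (fun f : MulAut N => ((f ⟨x, hx⟩ : N) : G)) h
      simp only [MulAut.conjNormal_apply, MulAut.one_apply] at h1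
      calc x * g = (g * x * g⁻¹) * g := by rw [h1]
        _ = g * x := by group
    · intro h
      ext x
      rw [MulAut.conjNormal_apply, MulAut.one_apply, ← h x x.2]
      group
  rw [← hker, Subgroup.index_ker]
  have h1 : Nat.card (MulAut.conjNormal : G →* MulAut N).range ∣ Nat.card (MulAut N) :=
    Subgroup.card_subgroup_dvd_card _
  rw [IsCyclic.card_mulAut, hN] at h1
  have h2 : Nat.totient 11 = 10 := by
    rw [Nat.totient_prime (by norm_num)]
  rwa [h2] at h1

/-- **K-PG-A** (249006). -/
theorem pgConn_of_normal_pgroup {G : Type*} [Group G] [Finite G] (hord : Nat.card G = 7920)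
    (N : Subgroup G) [N.Normal] (r k : ℕ) (hr : r.Prime) (hk : 0 < k)
    (hN : Nat.card N = r ^ k) : PGConn G := by
  have hdvd : r ^ k ∣ 7920 := by
    rw [← hN, ← hord]
    exact Subgroup.card_subgroup_dvd_card N
  have hrd : r ∣ 7920 := dvd_trans (dvd_pow_self r hk.ne') hdvd
  have hr4 : r = 2 ∨ r = 3 ∨ r = 5 ∨ r = 11 := by
    have h7920 : (7920 : ℕ) = 2 ^ 4 * 3 ^ 2 * 5 * 11 := by norm_num
    rw [h7920] at hrd
    rcases (Nat.Prime.dvd_mul hr).1 hrd with h | h
    · rcases (Nat.Prime.dvd_mul hr).1 h with h | h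
      · rcases (Nat.Prime.dvd_mul hr).1 h with h | h
        · exact Or.inl ((Nat.prime_dvd_prime_iff_eq hr Nat.prime_two).1 (hr.dvd_of_dvd_pow h))
        · exact Or.inr (Or.inl ((Nat.prime_dvd_prime_iff_eq hr Nat.prime_three).1 (hr.dvd_of_dvd_pow h)))
      · exact Or.inr (Or.inr (Or.inl ((Nat.prime_dvd_prime_iff_eq hr Nat.prime_five).1 h)))
    · exact Or.inr (Or.inr (Or.inr ((Nat.prime_dvd_prime_iff_eq hr (by norm_num)).1 h)))
  have p2 : Nat.Prime 2 := Nat.prime_two
  have p3 : Nat.Prime 3 := Nat.prime_three
  have p5 : Nat.Prime 5 := Nat.prime_five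
  have p11 : Nat.Prime 11 := by norm_num
  have d16 : 2 ^ 4 ∣ Nat.card G := by rw [hord]; norm_num
  have d9 : 3 ^ 2 ∣ Nat.card G := by rw [hord]; norm_num
  have d5 : 5 ^ 1 ∣ Nat.card G := by rw [hord]; norm_num
  have d11 : 11 ^ 1 ∣ Nat.card G := by rw [hord]; norm_num
  rcases hr4 with rfl | rfl | rfl | rfl
  · -- `r = 2`
    have hk4 : k ≤ 4 := by
      by_contra hlt
      have h5 : 2 ^ 5 ∣ 2 ^ k := Nat.pow_dvd_pow 2 (by omega)
      have := dvd_trans h5 hdvd
      norm_num at this
    have e3 : Edge G 3 2 := by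
      apply edge_of_card_pow N 3 2 2 k p3 p2 hN hk (by norm_num) d9
      interval_cases k <;> norm_num
    have e11 : Edge G 11 2 := by
      apply edge_of_card_pow N 11 2 1 k p11 p2 hN hk (by norm_num) d11
      interval_cases k <;> norm_num
    by_cases hk' : k = 4
    · subst hk'
      have hq : Nat.card (G ⧸ N) = 495 := by
        have h1 := Subgroup.card_eq_card_quotient_mul_card_subgroup N
        rw [hord, hN] at h1
        omega
      have e5 : Edge G 3 5 ∨ Edge G 5 11 := by
        rcases exists_orderOf_of_card_495 hq with ⟨q, hq⟩ | ⟨q, hq⟩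
        · exact Or.inl (exists_orderOf_eq_of_quotient N _ q hq)
        · exact Or.inr (exists_orderOf_eq_of_quotient N _ q hq)
      intro c hc
      have h1 := hc 3 2 (by decide) (by decide) e3
      have h2 := hc 11 2 (by decide) (by decide) e11
      rcases e5 with e5 | e5
      · have h3 := hc 3 5 (by decide) (by decide) e5
        tauto
      · have h3 := hc 5 11 (by decide) (by decide) e5
        tauto
    · have e5 : Edge G 5 2 := by
        apply edge_of_card_pow N 5 2 1 k p5 p2 hN hk (by norm_num) d5
        interval_cases k <;> omega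
      intro c hc
      have h1 := hc 3 2 (by decide) (by decide) e3
      have h2 := hc 11 2 (by decide) (by decide) e11
      have h3 := hc 5 2 (by decide) (by decide) e5
      tauto
  · -- `r = 3`
    have hk2 : k ≤ 2 := by
      by_contra hlt
      have h5 : 3 ^ 3 ∣ 3 ^ k := Nat.pow_dvd_pow 3 (by omega)
      have := dvd_trans h5 hdvd
      norm_num at this
    have e2 : Edge G 2 3 := by
      apply edge_of_card_pow N 2 3 4 k p2 p3 hN hk (by norm_num) d16
      interval_cases k <;> norm_num
    have e5 : Edge G 5 3 := by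
      apply edge_of_card_pow N 5 3 1 k p5 p3 hN hk (by norm_num) d5
      interval_cases k <;> norm_num
    have e11 : Edge G 11 3 := by
      apply edge_of_card_pow N 11 3 1 k p11 p3 hN hk (by norm_num) d11
      interval_cases k <;> norm_num
    intro c hc
    have h1 := hc 2 3 (by decide) (by decide) e2
    have h2 := hc 5 3 (by decide) (by decide) e5
    have h3 := hc 11 3 (by decide) (by decide) e11
    tauto
  · -- `r = 5`
    have hk1 : k ≤ 1 := by
      by_contra hlt
      have h5 : 5 ^ 2 ∣ 5 ^ k := Nat.pow_dvd_pow 5 (by omega)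
      have := dvd_trans h5 hdvd
      norm_num at this
    have hk1' : k = 1 := by omega
    subst hk1'
    have e2 : Edge G 2 5 := by
      apply edge_of_card_pow N 2 5 4 1 p2 p5 hN hk (by norm_num) d16
      norm_num
    have e3 : Edge G 3 5 := by
      apply edge_of_card_pow N 3 5 2 1 p3 p5 hN hk (by norm_num) d9
      norm_num
    have e11 : Edge G 11 5 := by
      apply edge_of_card_pow N 11 5 1 1 p11 p5 hN hk (by norm_num) d11
      norm_num
    intro c hc
    have h1 := hc 2 5 (by decide) (by decide) e2
    have h2 := hc 3 5 (by decide) (by decide) e3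
    have h3 := hc 11 5 (by decide) (by decide) e11
    tauto
  · -- `r = 11`
    have hk1 : k ≤ 1 := by
      by_contra hlt
      have h5 : 11 ^ 2 ∣ 11 ^ k := Nat.pow_dvd_pow 11 (by omega)
      have := dvd_trans h5 hdvd
      norm_num at this
    have hk1' : k = 1 := by omega
    subst hk1'
    have e2 : Edge G 2 11 := by
      apply edge_of_card_pow N 2 11 4 1 p2 p11 hN hk (by norm_num) d16
      norm_num
    have e3 : Edge G 3 11 := by
      apply edge_of_card_pow N 3 11 2 1 p3 p11 hN hk (by norm_num) d9
      norm_num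
    have hN11 : Nat.card N = 11 := by rw [hN]; norm_num
    have e5 : Edge G 5 11 ∨ Edge G 5 3 := by
      obtain ⟨C, hC⟩ : ∃ C : Subgroup G, C = Subgroup.centralizer (N : Set G) := ⟨_, rfl⟩
      have hCn : C.Normal := by rw [hC]; infer_instance
      have hidx : C.index ∣ 10 := by rw [hC]; exact index_centralizer_dvd_ten N hN11
      have hmul : Nat.card C * C.index = 7920 := by rw [← hord]; exact Subgroup.card_mul_index C
      by_cases h5C : 5 ∣ Nat.card C
      · left
        have : Fact (Nat.Prime 5) := ⟨p5⟩
        have : Fact (Nat.Prime 11) := ⟨p11⟩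
        obtain ⟨z, hz⟩ := exists_prime_orderOf_dvd_card' (G := C) 5 h5C
        obtain ⟨x, hx⟩ := exists_prime_orderOf_dvd_card' (G := N) 11 (by rw [hN11])
        have hcomm : Commute (z : G) (x : G) := by
          have hz' : (z : G) ∈ Subgroup.centralizer (N : Set G) := by rw [← hC]; exact z.2
          exact (Subgroup.mem_centralizer_iff.1 hz' x x.2).symm
        have hoz : orderOf (z : G) = 5 := by rw [Subgroup.orderOf_coe, hz]
        have hox : orderOf (x : G) = 11 := by rw [Subgroup.orderOf_coe, hx]
        refine ⟨(z : G) * (x : G), ?_⟩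
        rw [hcomm.orderOf_mul_eq_mul_orderOf_of_coprime (by rw [hoz, hox]; norm_num), hoz, hox]
      · right
        have h9 : 3 ^ 2 ∣ Nat.card C := by
          have h1 : 3 ^ 2 ∣ Nat.card C * C.index := by rw [hmul]; norm_num
          have hcop : Nat.Coprime (3 ^ 2) C.index :=
            Nat.Coprime.coprime_dvd_right hidx (by norm_num)
          exact hcop.dvd_of_dvd_mul_right h1
        have h27 : ¬ 3 ^ (2 + 1) ∣ Nat.card C := by
          intro h
          have h1 : 3 ^ (2 + 1) ∣ Nat.card C * C.index := dvd_mul_of_dvd_left h _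
          rw [hmul] at h1
          norm_num at h1
        exact exists_orderOf_eq_mul_of_normal C 5 3 1 2 p5 p3 h5C d5 (by norm_num) h9 h27 (by norm_num)
    intro c hc
    have h1 := hc 2 11 (by decide) (by decide) e2
    have h2 := hc 3 11 (by decide) (by decide) e3
    rcases e5 with e5 | e5
    · have h3 := hc 5 11 (by decide) (by decide) e5
      tauto
    · have h3 := hc 5 3 (by decide) (by decide) e5
      tauto

end Cfsg.Agent.Lib.Helper90.PG7920
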