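import Mathlib
import Cfsg.Agent.Lib.Helper73.UNdDefs
import Cfsg.Agent.Lib.Helper75.NdC
import Cfsg.Agent.Lib.Helper46.UnitaryField

/-!
# K-UNd-UE (keystone 595415, architect helper73, S5954): nilpotent skew-hermitian Jordan block

On `Fin a → F` (`|F| = q²`): `M` the shift, `β x y = θ * ∑ i, (-1)^i * x i * (y (Fin.rev i))^q` with `θ = 1` for odd `a`
and `θ^q = -θ ≠ 0` for even `a`.
-/

set_option autoImplicit false
set_option linter.unusedSectionVars false
set_option linter.unusedVariables false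

namespace Cfsg.Agent.Lib.Helper90.UNd

open Module Cfsg.Agent.Lib.Helper99.HermONB Cfsg.Agent.Lib.Helper98.Elus Cfsg.Agent.Lib.Helper73.UNd
open Cfsg.Agent.Lib.Helper75.Nd
open Cfsg.Agent.Lib.Helper19 (frobQ frobQ_apply pow_q_pow_q add_pow_q sum_pow_q q_pos one_lt_q)

universe u
variable {F : Type u} [Field F] {q : ℕ}

/-- componentwise `q`-th power -/
def fq (q n : ℕ) (y : Fin (n + 1) → F) : Fin (n + 1) → F := fun i => (y i) ^ q

theorem fq_apply (n : ℕ) (y : Fin (n + 1) → F) (i : Fin (n + 1)) : fq q n y i = (y i) ^ q := rfl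

theorem shift_fq (hq : 0 < q) (n : ℕ) (y : Fin (n + 1) → F) :
    shift n (fq q n y) = fq q n (shift n y) := by
  funext j
  refine Fin.cases ?_ (fun i => ?_) j
  · rw [fq_apply, shift_zero, shift_zero, zero_pow hq.ne']
  · rw [fq_apply, shift_succ, shift_succ, fq_apply]

theorem neg_one_pow_q [Fintype F] (hF : Fintype.card F = q ^ 2) : (-1 : F) ^ q = -1 := by
  rw [← frobQ_apply hF, map_neg, map_one]

theorem fq_fq [Fintype F] (hF : Fintype.card F = q ^ 2) (n : ℕ) (y : Fin (n + 1) → F) :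
    fq q n (fq q n y) = y := by
  funext i
  rw [fq_apply, fq_apply, pow_q_pow_q hF]

theorem blockForm_pow_q [Fintype F] (hF : Fintype.card F = q ^ 2) (n : ℕ)
    (x y : Fin (n + 1) → F) : (blockForm n x y) ^ q = blockForm n (fq q n x) (fq q n y) := by
  rw [blockForm_apply, blockForm_apply, sum_pow_q hF]
  refine Finset.sum_congr rfl fun i _ => ?_
  rw [mul_pow, mul_pow, ← pow_mul, mul_comm (i : ℕ) q, pow_mul, neg_one_pow_q hF, fq_apply,
    fq_apply]

/-- the hermitian block form with scalar `θ` -/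
noncomputable def hblock (q n : ℕ) (θ : F) (x y : Fin (n + 1) → F) : F :=
  θ * blockForm n x (fq q n y)

theorem hblock_hform [Fintype F] (hF : Fintype.card F = q ^ 2) (n : ℕ) (θ : F) (hθ0 : θ ≠ 0)
    (hθ : θ ^ q = (-1) ^ n * θ) : HForm q (hblock q n θ) where
  add_left x x' y := by
    unfold hblock
    rw [map_add, LinearMap.add_apply, mul_add]
  smul_left c x y := by
    unfold hblock
    rw [map_smul, LinearMap.smul_apply, smul_eq_mul]
    ring
  conj x y := by
    unfold hblock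
    rw [mul_pow, blockForm_pow_q hF, fq_fq hF, hθ, blockForm_symm n (fq q n x) y, pow_succ,
      pow_succ]
    ring
  nondeg x hx := by
    apply blockForm_nondeg n x
    intro y
    have h1 := hx (fq q n y)
    unfold hblock at h1
    rw [fq_fq hF] at h1
    rcases mul_eq_zero.mp h1 with h2 | h2
    · exact absurd h2 hθ0
    · exact h2

theorem hblock_skew [Fintype F] (hF : Fintype.card F = q ^ 2) (n : ℕ) (θ : F)
    (x y : Fin (n + 1) → F) :
    hblock q n θ (shift n x) y = - hblock q n θ x (shift n y) := by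
  unfold hblock
  rw [blockForm_skew, ← shift_fq (q_pos hF)]
  ring

/-- a scalar `θ ≠ 0` with `θ^q = (-1)^n θ` -/
theorem exists_theta [Fintype F] (hF : Fintype.card F = q ^ 2) (n : ℕ) :
    ∃ θ : F, θ ≠ 0 ∧ θ ^ q = (-1) ^ n * θ := by
  rcases Nat.even_or_odd n with hn | hn
  · exact ⟨1, one_ne_zero, by rw [one_pow, hn.neg_one_pow, one_mul]⟩
  · obtain ⟨δ, hδ0, hδ⟩ := Cfsg.Agent.Lib.Helper46.exists_trace_zero hF
    rw [Cfsg.Agent.Lib.Helper46.frobRing_apply] at hδ
    exact ⟨δ, hδ0, by rw [hδ, hn.neg_one_pow]; ring⟩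

/-- **U-E (595415)**: nilpotent skew-hermitian Jordan block. -/
theorem exists_nilp_block [Fintype F] (hF : Fintype.card F = q ^ 2) (a : ℕ) (ha : 0 < a) :
    ∃ (β : (Fin a → F) → (Fin a → F) → F) (M : (Fin a → F) →ₗ[F] (Fin a → F)),
      HForm q β ∧ (∀ x y, β (M x) y = - β x (M y)) ∧ M ^ a = 0 ∧
      ∀ k : ℕ, finrank F (LinearMap.ker (M ^ k)) = min a k := by
  obtain ⟨n, rfl⟩ := Nat.exists_eq_succ_of_ne_zero ha.ne'
  obtain ⟨θ, hθ0, hθ⟩ := exists_theta hF n
  exact ⟨hblock q n θ, shift n, hblock_hform hF n θ hθ0 hθ, hblock_skew hF n θ,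
    shift_pow_top n, finrank_ker_shift_pow n⟩

end Cfsg.Agent.Lib.Helper90.UNd
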