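import Mathlib
import Cfsg.Prelude.Def_FusionSystem
import Cfsg.Agent.Lib.Helper87.FusionBasic
import Cfsg.Agent.Lib.Helper90.FusionAut

set_option autoImplicit false

/-!
The inner fusion system of a finite `p`-group is saturated; it is a subsystem of every fusion system
over a larger subgroup.
-/

namespace Cfsg.Agent.Lib.Helper90

open Cfsg Cfsg.FusionSystem Cfsg.Agent.Lib.Helper87

variable {Ω : Type*} [Group Ω]

theorem mem_inner_hom {Q P : Subgroup Ω} {φ : P →* Ω} :
    φ ∈ (innerFusionSystem Q).Hom P ↔ P ≤ Q ∧ ∃ g ∈ Q, ∀ x : P, φ x = g * (x : Ω) * g⁻¹ := Iff.rfl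

theorem autGroup_inner_eq {Q P : Subgroup Ω} (hP : P ≤ Q) :
    (innerFusionSystem Q).autGroup P = autInducedBy Q P := by
  unfold FusionSystem.autGroup autInducedBy
  congr 1
  ext α
  constructor
  · rintro ⟨-, g, hg, h⟩
    exact ⟨g, hg, h⟩
  · rintro ⟨g, hg, h⟩
    exact ⟨hP, g, hg, h⟩

/-- In a `p`-group, the whole group is a Sylow `p`-subgroup. -/
theorem exists_sylow_eq_top {G : Type*} [Group G] {p : ℕ} [Fact p.Prime] (hG : IsPGroup p G) :
    ∃ R : Sylow p G, (R : Subgroup G) = ⊤ := by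
  obtain ⟨R⟩ : Nonempty (Sylow p G) := inferInstance
  exact ⟨R, (R.is_maximal' (hG.to_subgroup ⊤) le_top).symm⟩

/-- The inner fusion system of a `p`-group is saturated. -/
theorem inner_isSaturated {Q : Subgroup Ω} {p : ℕ} [Fact p.Prime] (hQ : IsPGroup p Q) :
    (innerFusionSystem Q).IsSaturated p := by
  intro P hP
  refine ⟨P, isConj_refl _ hP, ⟨hP, ?_⟩, ⟨hP, ?_⟩⟩
  · have hp : IsPGroup p ((innerFusionSystem Q).autGroup P) := by
      rw [autGroup_inner_eq hP]; exact isPGroup_autInducedBy hQ P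
    obtain ⟨R, hR⟩ := exists_sylow_eq_top hp
    refine ⟨R, ?_⟩
    rw [hR]
    ext a
    simp only [Subgroup.mem_top, true_iff, Subgroup.mem_subgroupOf]
    rw [← autGroup_inner_eq hP]
    exact a.2
  · rintro P₀ φ ⟨hP₀, g, hg, hgφ⟩ -
    have hle : extender Q P₀ φ ≤ Q := (extender_le Q P₀ φ).trans (normalizerIn_le Q P₀)
    refine ⟨conjHom (extender Q P₀ φ) g, ⟨hle, g, hg, fun x => rfl⟩, fun x hxP hxN => ?_⟩
    exact (hgφ ⟨x, hxP⟩).symm

/-- The inner fusion system of `Q ≤ S` is a subsystem of every fusion system over `S`. -/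
theorem inner_isSubsystemOf {S Q : Subgroup Ω} (F : FusionSystem S) (hQ : Q ≤ S) :
    (innerFusionSystem Q).IsSubsystemOf F := by
  rintro P φ ⟨hP, g, hg, hgφ⟩
  exact hom_congr F (F.conj_mem (hP.trans hQ) (hQ hg)) (fun x => hgφ x)

end Cfsg.Agent.Lib.Helper90
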