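import Mathlib
import Cfsg.Agent.S5083
import Cfsg.Agent.S5098
import Cfsg.Agent.Lib.Helper87.FusionNormalizer
import Cfsg.Agent.Lib.Helper87.FusionSaturated
import Cfsg.Agent.Lib.Helper89.Frobenius
import Cfsg.Agent.Lib.Helper90.FusionInner
import Cfsg.Agent.Lib.Helper90.FusionAut

set_option autoImplicit false

/-!
Basic tools for the Glauberman–Thompson type theorems for fusion systems:
the predicate `NI F Q` ("the normalizer system of `Q` in `F` is inner"), in an elementwise form.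
-/

namespace Cfsg.Agent.Lib.Helper90.GT

open Cfsg Cfsg.FusionSystem
open Cfsg.Agent.Lib.Helper87 (hom_le hom_mem hom_congr restrict_mem finite_of_le
  normalizerIn_le mem_normalizerIn le_normalizerIn normalizerSystem normalizerSystem_isNormalizerSystem)
open Cfsg.Agent.Lib.Helper90 (mem_inner_hom)

variable {Ω : Type*} [Group Ω] {S : Subgroup Ω}

/-- every map of the system defined on a subgroup of `N_S(Q)` containing `Q` and carrying `Q` onto itself is the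
conjugation by an element of `S` -/
def NI (F : FusionSystem S) (Q : Subgroup Ω) : Prop :=
  ∀ (R : Subgroup Ω) (ψ : R →* Ω), ψ ∈ F.Hom R → Q ≤ R → R ≤ normalizerIn S Q →
    (Q.subgroupOf R).map ψ = Q → ∃ g ∈ S, ∀ x : R, ψ x = g * x * g⁻¹

/-- a map of the system defined on a subgroup `R` of `N_S(Q)` containing `Q` and carrying `Q` onto itself is a map of
`N_F(Q)` -/
theorem mem_normalizerHom_of_le (F : FusionSystem S) {Q R : Subgroup Ω} {ψ : R →* Ω}
    (hψ : ψ ∈ F.Hom R) (hQR : Q ≤ R) (hRN : R ≤ normalizerIn S Q)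
    (hmap : (Q.subgroupOf R).map ψ = Q) : ψ ∈ F.normalizerHom Q R := by
  have hnorm : ∀ x : R, ∀ q : R, (q : Ω) ∈ Q → ((x * q * x⁻¹ : R) : Ω) ∈ Q := by
    intro x q hq
    have hx : (x : Ω) ∈ Subgroup.normalizer (Q : Set Ω) := (hRN x.2).2
    exact (Subgroup.mem_normalizer_iff.mp hx (q : Ω)).mp hq
  have hin : ∀ q : R, (q : Ω) ∈ Q → ψ q ∈ Q := fun q hq =>
    hmap.le ⟨q, Subgroup.mem_subgroupOf.mpr hq, rfl⟩
  have hout : ∀ y ∈ Q, ∃ q : R, (q : Ω) ∈ Q ∧ ψ q = y := by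
    intro y hy
    obtain ⟨q, hq, rfl⟩ := hmap.ge hy
    exact ⟨q, Subgroup.mem_subgroupOf.mp hq, rfl⟩
  refine ⟨hψ, hRN, fun x => ⟨hom_mem F hψ x, ?_⟩,
    ψ.comp (Subgroup.inclusion (sup_le le_rfl hQR)), restrict_mem F _ hψ, fun x => ?_, ?_⟩
  · apply Subgroup.mem_normalizer_iff.mpr
    intro h
    constructor
    · intro hh
      obtain ⟨q, hq, rfl⟩ := hout h hh
      have := hin (x * q * x⁻¹) (hnorm x q hq)
      rwa [map_mul, map_mul, map_inv] at this
    · intro hh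
      obtain ⟨q, hq, hqe⟩ := hout _ hh
      have := hin (x⁻¹ * q * x⁻¹⁻¹) (hnorm x⁻¹ q hq)
      rw [map_mul, map_mul, map_inv, map_inv, map_inv, hqe] at this
      have e : (ψ x)⁻¹ * (ψ x * h * (ψ x)⁻¹) * (ψ x)⁻¹⁻¹ = h := by group
      rwa [e] at this
  · rfl
  · ext y
    constructor
    · rintro ⟨z, hz, rfl⟩
      exact hin (Subgroup.inclusion (sup_le le_rfl hQR) z) (Subgroup.mem_subgroupOf.mp hz)
    · intro hy
      obtain ⟨q, hq, rfl⟩ := hout y hy
      exact ⟨⟨q, (le_sup_left : R ≤ R ⊔ Q) q.2⟩, Subgroup.mem_subgroupOf.mpr hq, rfl⟩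

/-- an element conjugating `Q` onto `Q` normalizes `Q` -/
theorem mem_normalizer_of_map_eq {Q R : Subgroup Ω} (hQR : Q ≤ R) {ψ : R →* Ω} {g : Ω}
    (hg : ∀ x : R, ψ x = g * x * g⁻¹) (hmap : (Q.subgroupOf R).map ψ = Q) :
    g ∈ Subgroup.normalizer (Q : Set Ω) := by
  apply Subgroup.mem_normalizer_iff.mpr
  intro h
  constructor
  · intro hh
    have : ψ ⟨h, hQR hh⟩ ∈ Q := hmap.le ⟨⟨h, hQR hh⟩, Subgroup.mem_subgroupOf.mpr hh, rfl⟩
    rwa [hg] at this
  · intro hh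
    obtain ⟨q, hq, hqe⟩ := hmap.ge hh
    rw [hg] at hqe
    have : (q : Ω) = h := mul_left_cancel (mul_right_cancel hqe)
    rw [← this]
    exact Subgroup.mem_subgroupOf.mp hq

/-- conjugation by an element of `N_S(Q)` is a map of `N_F(Q)` -/
theorem conj_mem_normalizerHom (F : FusionSystem S) {Q P : Subgroup Ω} (hQS : Q ≤ S)
    (hP : P ≤ normalizerIn S Q) {g : Ω} (hg : g ∈ normalizerIn S Q) {φ : P →* Ω}
    (hφ : ∀ x : P, φ x = g * x * g⁻¹) : φ ∈ F.normalizerHom Q P := by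
  have hgS : g ∈ S := hg.1
  have hPS : P ≤ S := hP.trans (normalizerIn_le S Q)
  have hφF : φ ∈ F.Hom P := hom_congr F (F.conj_mem hPS hgS) (fun x => hφ x)
  have hgn : ∀ y ∈ Q, g * y * g⁻¹ ∈ Q := fun y hy => (Subgroup.mem_normalizer_iff.mp hg.2 y).mp hy
  have hgn' : ∀ y ∈ Q, g⁻¹ * y * g⁻¹⁻¹ ∈ Q := fun y hy =>
    (Subgroup.mem_normalizer_iff.mp (Subgroup.inv_mem _ hg.2) y).mp hy
  refine ⟨hφF, hP, fun x => ?_, Cfsg.conjHom (P ⊔ Q) g,
    F.conj_mem (sup_le hPS hQS) hgS, fun x => (hφ x).symm, ?_⟩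
  · rw [hφ]
    exact Subgroup.mul_mem _ (Subgroup.mul_mem _ hg (hP x.2)) (Subgroup.inv_mem _ hg)
  · ext y
    constructor
    · rintro ⟨x, hx, rfl⟩
      exact hgn _ (Subgroup.mem_subgroupOf.mp hx)
    · intro hy
      have hy' : g⁻¹ * y * g⁻¹⁻¹ ∈ Q := hgn' y hy
      refine ⟨⟨g⁻¹ * y * g⁻¹⁻¹, (le_sup_right : Q ≤ P ⊔ Q) hy'⟩, Subgroup.mem_subgroupOf.mpr hy', ?_⟩
      show g * (g⁻¹ * y * g⁻¹⁻¹) * g⁻¹ = y
      group

/-- `NI F Q` says that the normalizer system of `Q` is the inner system of `N_S(Q)`. -/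
theorem NI_iff (F : FusionSystem S) {Q : Subgroup Ω} (hQS : Q ≤ S) :
    NI F Q ↔ ∀ N : FusionSystem (normalizerIn S Q), F.IsNormalizerSystem Q N →
      ∀ P : Subgroup Ω, N.Hom P = (innerFusionSystem (normalizerIn S Q)).Hom P := by
  constructor
  · intro h N hN P
    ext φ
    rw [hN P]
    constructor
    · rintro ⟨hφ, hPle, -, ψ, hψ, hres, hmap⟩
      obtain ⟨g, hg, hgψ⟩ := h (P ⊔ Q) ψ hψ le_sup_right (sup_le hPle (le_normalizerIn hQS)) hmap
      have hgn := mem_normalizer_of_map_eq le_sup_right hgψ hmap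
      refine ⟨hPle, g, ⟨hg, hgn⟩, fun x => ?_⟩
      rw [← hres x, hgψ]
      rfl
    · rintro ⟨hPle, g, hg, hgφ⟩
      exact conj_mem_normalizerHom F hQS hPle hg hgφ
  · intro h R ψ hψ hQR hRN hmap
    have h1 := h (normalizerSystem F Q hQS) (normalizerSystem_isNormalizerSystem F Q hQS) R
    have h2 : ψ ∈ (normalizerSystem F Q hQS).Hom R := by
      rw [normalizerSystem_isNormalizerSystem F Q hQS R]
      exact mem_normalizerHom_of_le F hψ hQR hRN hmap
    rw [h1] at h2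
    obtain ⟨-, g, hg, hgψ⟩ := h2
    exact ⟨g, hg.1, hgψ⟩

/-- the inner system satisfies `NI` at every subgroup -/
theorem NI_of_inner {F : FusionSystem S} (h : ∀ P : Subgroup Ω, F.Hom P = (innerFusionSystem S).Hom P)
    (Q : Subgroup Ω) : NI F Q := by
  intro R ψ hψ _ _ _
  rw [h R] at hψ
  obtain ⟨-, g, hg, hgψ⟩ := hψ
  exact ⟨g, hg, hgψ⟩

/-- if `NI F Q` then `Aut_F(Q)` is a `p`-group -/
theorem isPGroup_autGroup_of_NI {p : ℕ} (hS : IsPGroup p S) {F : FusionSystem S} {Q : Subgroup Ω}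
    (hQS : Q ≤ S) (h : NI F Q) : IsPGroup p (F.autGroup Q) := by
  have hle : F.autGroup Q ≤ autInducedBy S Q := by
    intro α hα
    have hα' := (Cfsg.Agent.Lib.Helper90.mem_autGroup_iff F hQS α).mp hα
    have hmap : (Q.subgroupOf Q).map (Q.subtype.comp α.toMonoidHom) = Q := by
      ext y
      constructor
      · rintro ⟨x, -, rfl⟩
        exact (α x).2
      · intro hy
        refine ⟨α.symm ⟨y, hy⟩, Subgroup.mem_subgroupOf.mpr (Subtype.prop _), ?_⟩
        show ((α (α.symm ⟨y, hy⟩) : Q) : Ω) = y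
        rw [MulEquiv.apply_symm_apply]
    obtain ⟨g, hg, hgα⟩ := h Q _ hα' le_rfl (le_normalizerIn hQS) hmap
    rw [Cfsg.Agent.Lib.Helper90.mem_autInducedBy_iff]
    exact ⟨g, hg, hgα⟩
  exact (Cfsg.Agent.Lib.Helper90.isPGroup_autInducedBy hS Q).to_le hle

end Cfsg.Agent.Lib.Helper90.GT
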