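import Mathlib
import Cfsg.Prelude.Def_FusionSystem
import Cfsg.Agent.Lib.Helper87.FusionBasic
import Cfsg.Agent.Lib.Helper90.FusionAut

set_option autoImplicit false

/-!
Normal and strongly closed subgroups of a fusion system; the images in the ambient group of the
terms of the upper central series of a subgroup.
-/

namespace Cfsg.Agent.Lib.Helper90

open Cfsg Cfsg.FusionSystem Cfsg.Agent.Lib.Helper87

variable {Ω : Type*} [Group Ω] {S : Subgroup Ω}

theorem stronglyClosed_bot (F : FusionSystem S) : F.StronglyClosed ⊥ := by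
  refine ⟨bot_le, fun R hR φ _ x => ?_⟩
  have hx : (x : Ω) = 1 := Subgroup.mem_bot.mp (hR x.2)
  have : x = 1 := Subtype.ext hx
  rw [this, map_one]
  exact Subgroup.one_mem _

/-- A subgroup normal in the system is strongly closed in it. -/
theorem IsNormal.stronglyClosed (F : FusionSystem S) {U : Subgroup Ω} (hU : F.IsNormal U) :
    F.StronglyClosed U := by
  refine ⟨hU.1, fun R hR φ hφ x => ?_⟩
  obtain ⟨ψ, -, hψφ, hψU⟩ := hU.2 R φ hφ
  rw [← hψφ x]
  have : ψ (Subgroup.inclusion le_sup_left x) ∈ (U.subgroupOf (R ⊔ U)).map ψ :=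
    ⟨Subgroup.inclusion le_sup_left x, Subgroup.mem_subgroupOf.mpr (hR x.2), rfl⟩
  rwa [hψU] at this

/-- Conjugation by elements of `S` preserves a strongly closed subgroup. -/
theorem StronglyClosed.conj_mem (F : FusionSystem S) {T : Subgroup Ω} (hT : F.StronglyClosed T) :
    ∀ g ∈ S, ∀ y ∈ T, g * y * g⁻¹ ∈ T := by
  intro g hg y hy
  exact hT.2 T le_rfl (conjHom T g) (F.conj_mem hT.1 hg) ⟨y, hy⟩

/-- An `F`-automorphism of `R` maps `R ∩ T` into `T` for `T` strongly closed. -/
theorem StronglyClosed.aut_mem (F : FusionSystem S) {T : Subgroup Ω} (hT : F.StronglyClosed T)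
    {R : Subgroup Ω} (hRS : R ≤ S) {α : MulAut R} (hα : α ∈ F.autGroup R) (x : R) (hx : (x : Ω) ∈ T) :
    ((α x : R) : Ω) ∈ T := by
  have hαF := (mem_autGroup_iff F hRS α).mp hα
  have hle : R ⊓ T ≤ R := inf_le_left
  exact hT.2 (R ⊓ T) inf_le_right _ (restrict_mem F hle hαF) ⟨x, ⟨x.2, hx⟩⟩

/-- The `i`-th term of the upper central series of `Q`, as a subgroup of the ambient group. -/
def ucs (Q : Subgroup Ω) (i : ℕ) : Subgroup Ω := (Subgroup.upperCentralSeries Q i).map Q.subtype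

theorem ucs_le (Q : Subgroup Ω) (i : ℕ) : ucs Q i ≤ Q := by
  rintro _ ⟨x, -, rfl⟩; exact x.2

theorem ucs_zero (Q : Subgroup Ω) : ucs Q 0 = ⊥ := by
  unfold ucs
  rw [Subgroup.upperCentralSeries_zero, Subgroup.map_bot]

theorem ucs_mono (Q : Subgroup Ω) : Monotone (ucs Q) := fun _ _ h =>
  Subgroup.map_mono (Subgroup.upperCentralSeries_mono Q h)

theorem ucs_subgroupOf (Q : Subgroup Ω) (i : ℕ) :
    (ucs Q i).subgroupOf Q = Subgroup.upperCentralSeries Q i :=
  Subgroup.comap_map_eq_self_of_injective (Subgroup.subtype_injective Q) _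

instance ucs_characteristic (Q : Subgroup Ω) (i : ℕ) : ((ucs Q i).subgroupOf Q).Characteristic := by
  rw [ucs_subgroupOf]; infer_instance

theorem ucs_eq_self_of_eq_top (Q : Subgroup Ω) {n : ℕ} (h : Subgroup.upperCentralSeries Q n = ⊤) :
    ucs Q n = Q := by
  unfold ucs
  rw [h, ← MonoidHom.range_eq_map, Subgroup.range_subtype]

theorem commutator_ucs_succ_le (Q : Subgroup Ω) (i : ℕ) : ⁅Q, ucs Q (i + 1)⁆ ≤ ucs Q i := by
  have h1 : ⁅(⊤ : Subgroup Q), Subgroup.upperCentralSeries Q (i + 1)⁆ ≤ Subgroup.upperCentralSeries Q i := by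
    rw [Subgroup.commutator_comm, Subgroup.commutator_le]
    intro x hx y _
    exact Subgroup.mem_upperCentralSeries_succ_iff.mp hx y
  have h2 := Subgroup.map_mono (f := Q.subtype) h1
  rw [Subgroup.map_commutator, ← MonoidHom.range_eq_map, Subgroup.range_subtype] at h2
  exact h2

/-- A finite `p`-group `Q ≤ S` reaches the top of its upper central series. -/
theorem exists_ucs_eq [Finite S] {p : ℕ} [Fact p.Prime] (hS : IsPGroup p S) {Q : Subgroup Ω} (hQ : Q ≤ S) :
    ∃ n : ℕ, Subgroup.upperCentralSeries Q n = ⊤ := by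
  have : Finite Q := finite_of_le hQ
  have : Group.IsNilpotent Q := (hS.to_le hQ).isNilpotent
  exact Group.IsNilpotent.nilpotent Q

/-- An automorphism of `Q` preserves the terms of the upper central series. -/
theorem aut_ucs_mem {Q : Subgroup Ω} (α : MulAut Q) (i : ℕ) (x : Q) (hx : (x : Ω) ∈ ucs Q i) :
    ((α x : Q) : Ω) ∈ ucs Q i := by
  have hx' : x ∈ Subgroup.upperCentralSeries Q i := by
    rw [← ucs_subgroupOf]; exact Subgroup.mem_subgroupOf.mpr hx
  have hchar : (Subgroup.upperCentralSeries Q i).Characteristic := inferInstance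
  have h2 := Subgroup.characteristic_iff_map_eq.mp hchar α
  have h3 : α x ∈ (Subgroup.upperCentralSeries Q i).map α.toMonoidHom := ⟨x, hx', rfl⟩
  rw [h2] at h3
  exact ⟨α x, h3, rfl⟩

/-- In a finite `p`-group `S`, if `T` is normal in `S` and not contained in `R ≤ S`, some element of `T`
outside `R` normalizes `R`. -/
theorem exists_normalizer_not_mem [Finite S] {p : ℕ} [Fact p.Prime] (hS : IsPGroup p S) {T R : Subgroup Ω}
    (hTS : T ≤ S) (hRS : R ≤ S) (hTn : ∀ g ∈ S, ∀ y ∈ T, g * y * g⁻¹ ∈ T) (hTR : ¬ T ≤ R) :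
    ∃ g ∈ T, g ∈ Subgroup.normalizer (R : Set Ω) ∧ g ∉ R := by
  set K : Subgroup Ω := R ⊔ T with hK
  have hKS : K ≤ S := sup_le hRS hTS
  haveI : Finite K := finite_of_le hKS
  have hKp : IsPGroup p K := hS.to_le hKS
  haveI : Group.IsNilpotent K := hKp.isNilpotent
  have hnc : NormalizerCondition K := Group.normalizerCondition_of_isNilpotent
  have hlt : R.subgroupOf K < ⊤ := by
    rw [lt_top_iff_ne_top]
    intro h
    apply hTR
    intro t ht
    have : (⟨t, (le_sup_right : T ≤ K) ht⟩ : K) ∈ R.subgroupOf K := by rw [h]; trivial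
    exact Subgroup.mem_subgroupOf.mp this
  obtain ⟨k, hkN, hkR⟩ := SetLike.exists_of_lt (hnc _ hlt)
  have hRnT : R ≤ Subgroup.normalizer (T : Set Ω) := by
    intro r hr
    rw [Subgroup.mem_normalizer_iff]
    intro y
    constructor
    · intro hy; exact hTn r (hRS hr) y hy
    · intro hy
      have := hTn r⁻¹ (S.inv_mem (hRS hr)) _ hy
      have e : r⁻¹ * (r * y * r⁻¹) * r⁻¹⁻¹ = y := by group
      rwa [e] at this
  have hset := Subgroup.coe_mul_of_left_le_normalizer_right R T hRnT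
  have hk : (k : Ω) ∈ ((R ⊔ T : Subgroup Ω) : Set Ω) := k.2
  rw [hset, Set.mem_mul] at hk
  obtain ⟨r, hr, t, ht, hrt⟩ := hk
  have hkΩ : (k : Ω) ∈ Subgroup.normalizer (R : Set Ω) := by
    rw [Subgroup.mem_normalizer_iff]
    intro x
    rw [Subgroup.mem_normalizer_iff] at hkN
    constructor
    · intro hx
      have := (hkN ⟨x, (le_sup_left : R ≤ K) hx⟩).mp (Subgroup.mem_subgroupOf.mpr hx)
      exact Subgroup.mem_subgroupOf.mp this
    · intro hx
      have hxK : x ∈ K := by
        have h1 : (k : Ω)⁻¹ * ((k : Ω) * x * (k : Ω)⁻¹) * (k : Ω) ∈ K :=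
          K.mul_mem (K.mul_mem (K.inv_mem k.2) ((le_sup_left : R ≤ K) hx)) k.2
        have e : (k : Ω)⁻¹ * ((k : Ω) * x * (k : Ω)⁻¹) * (k : Ω) = x := by group
        rwa [e] at h1
      have := (hkN ⟨x, hxK⟩).mpr (Subgroup.mem_subgroupOf.mpr hx)
      exact Subgroup.mem_subgroupOf.mp this
  refine ⟨t, ht, ?_, ?_⟩
  · have : t = r⁻¹ * (k : Ω) := by rw [← hrt]; group
    rw [this]
    exact Subgroup.mul_mem _ (Subgroup.inv_mem _ (Subgroup.le_normalizer hr)) hkΩ
  · intro htR
    apply hkR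
    rw [Subgroup.mem_subgroupOf, ← hrt]
    exact R.mul_mem hr htR

end Cfsg.Agent.Lib.Helper90
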