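import Mathlib
import Cfsg.Prelude.Def_FusionSystem
import Cfsg.Agent.Lib.Helper87.FusionBasic
import Cfsg.Agent.Lib.Helper90.FusionAut
import Cfsg.Agent.Lib.Helper90.FusionNormal

set_option autoImplicit false

/-!
Centric radical subgroups absorb elements inducing automorphisms in a normal `p`-subgroup of `Aut_F(P)`;
restriction of automorphisms to invariant subgroups.
-/

namespace Cfsg.Agent.Lib.Helper90

open Cfsg Cfsg.FusionSystem Cfsg.Agent.Lib.Helper87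

variable {Ω : Type*} [Group Ω] {S : Subgroup Ω}

/-- If `P` is centric and radical, and `g ∈ N_S(P)` induces on `P` an automorphism lying in a normal
`p`-subgroup of `Aut_F(P)`, then `g ∈ P`. -/
theorem mem_of_conj_mem_normal_pGroup (F : FusionSystem S) {p : ℕ} {P : Subgroup Ω} (hPc : F.IsCentric P)
    (hPr : F.IsRadical p P) (D : Subgroup (F.autGroup P)) (hDn : D.Normal) (hDp : IsPGroup p D)
    (g : Ω) (hgS : g ∈ S) (hgN : g ∈ Subgroup.normalizer (P : Set Ω))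
    (hgD : ∀ h : P.normalizerMonoidHom ⟨g, hgN⟩ ∈ F.autGroup P,
      (⟨P.normalizerMonoidHom ⟨g, hgN⟩, h⟩ : F.autGroup P) ∈ D) : g ∈ P := by
  have hPS := hPc.1
  have hDcore : D ≤ pCore p (F.autGroup P) := le_sSup ⟨hDn, hDp⟩
  set cg : MulAut P := P.normalizerMonoidHom ⟨g, hgN⟩ with hcg
  have hcgA : cg ∈ F.autGroup P :=
    autInducedBy_le_autGroup F hPS ((mem_autInducedBy_iff cg).mpr ⟨g, hgS, fun x => rfl⟩)
  have hcgInn : cg ∈ Inn P := by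
    rw [← hPr.2]; exact ⟨⟨cg, hcgA⟩, hDcore (hgD hcgA), rfl⟩
  obtain ⟨y, hy⟩ := hcgInn
  have hcent : (y : Ω)⁻¹ * g ∈ centralizerIn S P := by
    rw [mem_centralizerIn]
    refine ⟨S.mul_mem (S.inv_mem (hPS y.2)) hgS, fun x hx => ?_⟩
    have h1 := congrArg (fun β : MulAut P => ((β ⟨x, hx⟩ : P) : Ω)) hy
    have h2 : (y : Ω) * x * (y : Ω)⁻¹ = g * x * g⁻¹ := h1
    calc x * ((y : Ω)⁻¹ * g) = (y : Ω)⁻¹ * ((y : Ω) * x * (y : Ω)⁻¹) * g := by group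
      _ = (y : Ω)⁻¹ * (g * x * g⁻¹) * g := by rw [h2]
      _ = (y : Ω)⁻¹ * g * x := by group
  have h3 := hPc.2 P (isConj_refl F hPS) hcent
  have e : g = (y : Ω) * ((y : Ω)⁻¹ * g) := by group
  rw [e]
  exact P.mul_mem y.2 h3

/-- Restriction of an automorphism of `P` to a subgroup `U ≤ P` preserved by it and by its inverse. -/
def restrictAut {P U : Subgroup Ω} (hUP : U ≤ P) (β : MulAut P)
    (h : ∀ x : U, ((β ⟨x, hUP x.2⟩ : P) : Ω) ∈ U) (h' : ∀ x : U, ((β⁻¹ ⟨x, hUP x.2⟩ : P) : Ω) ∈ U) :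
    MulAut U where
  toFun x := ⟨β ⟨x, hUP x.2⟩, h x⟩
  invFun x := ⟨β⁻¹ ⟨x, hUP x.2⟩, h' x⟩
  left_inv x := by
    apply Subtype.ext
    show ((β⁻¹ ⟨((β ⟨x, hUP x.2⟩ : P) : Ω), _⟩ : P) : Ω) = x
    have : (⟨((β ⟨x, hUP x.2⟩ : P) : Ω), hUP (h x)⟩ : P) = β ⟨x, hUP x.2⟩ := Subtype.ext rfl
    rw [this, MulAut.inv_apply_self]
  right_inv x := by
    apply Subtype.ext
    show ((β ⟨((β⁻¹ ⟨x, hUP x.2⟩ : P) : Ω), _⟩ : P) : Ω) = x
    have : (⟨((β⁻¹ ⟨x, hUP x.2⟩ : P) : Ω), hUP (h' x)⟩ : P) = β⁻¹ ⟨x, hUP x.2⟩ := Subtype.ext rfl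
    rw [this, MulAut.apply_inv_self]
  map_mul' x y := by
    apply Subtype.ext
    show ((β ⟨((x * y : U) : Ω), _⟩ : P) : Ω) = ((β ⟨x, hUP x.2⟩ : P) : Ω) * ((β ⟨y, hUP y.2⟩ : P) : Ω)
    have : (⟨((x * y : U) : Ω), hUP (x * y).2⟩ : P) = ⟨x, hUP x.2⟩ * ⟨y, hUP y.2⟩ := Subtype.ext rfl
    rw [this, map_mul]
    rfl

theorem restrictAut_apply {P U : Subgroup Ω} (hUP : U ≤ P) (β : MulAut P)
    (h : ∀ x : U, ((β ⟨x, hUP x.2⟩ : P) : Ω) ∈ U) (h' : ∀ x : U, ((β⁻¹ ⟨x, hUP x.2⟩ : P) : Ω) ∈ U)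
    (x : U) : ((restrictAut hUP β h h' x : U) : Ω) = ((β ⟨x, hUP x.2⟩ : P) : Ω) := rfl

theorem restrictAut_pow_apply {P U : Subgroup Ω} (hUP : U ≤ P) (β : MulAut P)
    (h : ∀ x : U, ((β ⟨x, hUP x.2⟩ : P) : Ω) ∈ U) (h' : ∀ x : U, ((β⁻¹ ⟨x, hUP x.2⟩ : P) : Ω) ∈ U)
    (m : ℕ) (x : U) :
    ((((restrictAut hUP β h h') ^ m) x : U) : Ω) = (((β ^ m) ⟨x, hUP x.2⟩ : P) : Ω) := by
  induction m generalizing x with
  | zero => rfl
  | succ m ih =>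
    rw [pow_succ, pow_succ, MulAut.mul_apply, MulAut.mul_apply, ih]
    congr 2

theorem restrictAut_mem_autGroup (F : FusionSystem S) {P U : Subgroup Ω} (hPS : P ≤ S) (hUP : U ≤ P)
    (β : MulAut P) (hβ : β ∈ F.autGroup P)
    (h : ∀ x : U, ((β ⟨x, hUP x.2⟩ : P) : Ω) ∈ U) (h' : ∀ x : U, ((β⁻¹ ⟨x, hUP x.2⟩ : P) : Ω) ∈ U) :
    restrictAut hUP β h h' ∈ F.autGroup U := by
  rw [mem_autGroup_iff F (hUP.trans hPS)]
  have hβF := (mem_autGroup_iff F hPS β).mp hβ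
  exact hom_congr F (restrict_mem F hUP hβF) (fun x => rfl)

end Cfsg.Agent.Lib.Helper90
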