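import Mathlib
import Cfsg.Prelude.Def_ConjugacyFunctors

set_option autoImplicit false

/-!
Isomorphism-invariant functors on finite `p`-groups (`Cfsg.IsCharPFunctor`): the induced map on subgroups
commutes with injective homomorphisms; consequences.
-/

namespace Cfsg.Agent.Lib.Helper90.GT

open Cfsg

universe u

variable {p : ℕ} {W : ∀ (Q : Type u) [Group Q], Subgroup Q}

theorem inducedFunctor_le {X : Type u} [Group X] (D : Subgroup X) : inducedFunctor W D ≤ D :=
  Subgroup.map_subtype_le _

/-- transport of the induced functor along an injective homomorphism -/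
theorem inducedFunctor_map (hW : IsCharPFunctor.{u} p W) {X Y : Type u} [Group X] [Group Y]
    (f : X →* Y) (hf : Function.Injective f) (D : Subgroup X) [Finite D] (hD : IsPGroup p D) :
    inducedFunctor W (D.map f) = (inducedFunctor W D).map f := by
  unfold inducedFunctor
  have e := hW.2 ↥D ↥(D.map f) hD (D.equivMapOfInjective f hf)
  rw [← e, Subgroup.map_map, Subgroup.map_map]
  rfl

theorem inducedFunctor_ne_bot (hW : IsCharPFunctor.{u} p W) {X : Type u} [Group X]
    (D : Subgroup X) [Finite D] (hD : IsPGroup p D) (hne : D ≠ ⊥) : inducedFunctor W D ≠ ⊥ := by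
  unfold inducedFunctor
  have h1 : Nontrivial ↥D := (Subgroup.nontrivial_iff_ne_bot D).mpr hne
  have h2 := hW.1 ↥D hD h1
  intro h3
  exact h2 ((Subgroup.map_eq_bot_iff_of_injective _ D.subtype_injective).mp h3)

theorem map_conj_eq_of_mem_normalizer {X : Type*} [Group X] {D : Subgroup X} {g : X}
    (hg : g ∈ Subgroup.normalizer (D : Set X)) : D.map (MulAut.conj g).toMonoidHom = D := by
  ext y
  constructor
  · rintro ⟨x, hx, rfl⟩
    exact (Subgroup.mem_normalizer_iff.mp hg x).mp hx
  · intro hy
    refine ⟨g⁻¹ * y * g⁻¹⁻¹, (Subgroup.mem_normalizer_iff.mp (Subgroup.inv_mem _ hg) y).mp hy, ?_⟩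
    show g * (g⁻¹ * y * g⁻¹⁻¹) * g⁻¹ = y
    group

theorem mem_normalizer_of_map_conj_eq {X : Type*} [Group X] {D : Subgroup X} {g : X}
    (h : D.map (MulAut.conj g).toMonoidHom = D) : g ∈ Subgroup.normalizer (D : Set X) := by
  apply Subgroup.mem_normalizer_iff.mpr
  intro x
  constructor
  · intro hx
    exact h.le ⟨x, hx, rfl⟩
  · intro hx
    obtain ⟨x', hx', hxx⟩ := h.ge hx
    have : x' = x := by
      have h2 : g * x' * g⁻¹ = g * x * g⁻¹ := hxx
      exact mul_left_cancel (mul_right_cancel h2)
    rwa [← this]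

/-- the normalizer of `D` normalizes `W(D)` -/
theorem normalizer_le_normalizer_inducedFunctor (hW : IsCharPFunctor.{u} p W) {X : Type u} [Group X]
    (D : Subgroup X) [Finite D] (hD : IsPGroup p D) :
    Subgroup.normalizer (D : Set X) ≤ Subgroup.normalizer (inducedFunctor W D : Set X) := by
  intro g hg
  apply mem_normalizer_of_map_conj_eq
  have h1 := inducedFunctor_map hW (MulAut.conj g).toMonoidHom (MulAut.conj g).injective D hD
  rw [map_conj_eq_of_mem_normalizer hg] at h1
  exact h1.symm

/-- the functor on a subgroup `D` of a subgroup `R`, computed inside `R` -/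
theorem inducedFunctor_subgroupOf (hW : IsCharPFunctor.{u} p W) {X : Type u} [Group X]
    {D R : Subgroup X} (hDR : D ≤ R) [Finite D] (hD : IsPGroup p D) :
    inducedFunctor W (D.subgroupOf R) = (inducedFunctor W D).subgroupOf R := by
  have hfin : Finite ↥(D.subgroupOf R) := (Subgroup.subgroupOfEquivOfLe hDR).toEquiv.finite_iff.mpr inferInstance
  have hDp : IsPGroup p ↥(D.subgroupOf R) := hD.of_equiv (Subgroup.subgroupOfEquivOfLe hDR).symm
  have h1 := inducedFunctor_map hW R.subtype R.subtype_injective (D.subgroupOf R) hDp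
  have h2 : (D.subgroupOf R).map R.subtype = D := by
    rw [Subgroup.subgroupOf_map_subtype]
    exact inf_eq_left.mpr hDR
  rw [h2] at h1
  rw [h1]
  exact (Subgroup.comap_map_eq_self_of_injective R.subtype_injective _).symm

/-- an injective homomorphism defined on `R ≥ D` carries `W(D)` onto `W` of the image of `D` -/
theorem inducedFunctor_map_subgroupOf (hW : IsCharPFunctor.{u} p W) {X Y : Type u} [Group X] [Group Y]
    {D R : Subgroup X} (hDR : D ≤ R) [Finite D] (hD : IsPGroup p D) (ψ : R →* Y)
    (hψ : Function.Injective ψ) :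
    inducedFunctor W ((D.subgroupOf R).map ψ) = ((inducedFunctor W D).subgroupOf R).map ψ := by
  have hfin : Finite ↥(D.subgroupOf R) := (Subgroup.subgroupOfEquivOfLe hDR).toEquiv.finite_iff.mpr inferInstance
  have hDp : IsPGroup p ↥(D.subgroupOf R) := hD.of_equiv (Subgroup.subgroupOfEquivOfLe hDR).symm
  rw [inducedFunctor_map hW ψ hψ (D.subgroupOf R) hDp, inducedFunctor_subgroupOf hW hDR hD]

end Cfsg.Agent.Lib.Helper90.GT
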