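import Mathlib
import Cfsg.Agent.Lib.Helper04.OmegaFix

set_option autoImplicit false

/-!
An automorphism of odd order of a finite `2`-group fixing every element `x` with `x ^ 4 = 1` is trivial; combined with
the odd case (Helper04): an automorphism of order prime to `p` of a finite `p`-group that fixes all elements of order
`p` (and of order `4` when `p = 2`) is trivial.
-/

namespace Cfsg.Agent.Lib.Helper90

open scoped commutatorElement

universe u

theorem aut_trivial_aux_two :
    ∀ n : ℕ, ∀ (G : Type u) [Group G] [Finite G], Nat.card G = n → IsPGroup 2 G →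
      ∀ a : MulAut G, Nat.Coprime (orderOf a) 2 → (∀ x : G, x ^ 4 = 1 → a x = x) → a = 1 := by
  intro n
  induction n using Nat.strong_induction_on with
  | _ n ih =>
    intro G _ _ hn hG a ha h
    have hchar : ∀ (H : Subgroup G) [H.Characteristic], H ≠ ⊤ → ∀ x ∈ H, a x = x := by
      intro H _ hH x hx
      have hlt : Nat.card H < n := by
        rw [← hn]
        apply lt_of_le_of_ne (Subgroup.card_le_card_group H)
        intro hcard
        exact hH (Subgroup.eq_top_of_card_eq H hcard)
      have hmem := Cfsg.Agent.Lib.Helper04.characteristic_mem_iff a H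
      have h1 := ih _ hlt H rfl (hG.to_subgroup H) (Cfsg.Agent.Lib.Helper04.restrictAut a H hmem)
        (Nat.Coprime.coprime_dvd_left (Cfsg.Agent.Lib.Helper04.orderOf_restrictAut_dvd a H hmem) ha)
        (by
          intro y hy
          apply Subtype.ext
          rw [Cfsg.Agent.Lib.Helper04.restrictAut_apply]
          apply h
          have := congrArg Subtype.val hy
          simpa using this)
      have h2 := congrArg (fun f => ((f ⟨x, hx⟩ : H) : G)) h1
      simpa using h2
    by_cases hsub : Subsingleton G
    · ext x
      exact Subsingleton.elim _ _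
    rw [not_subsingleton_iff_nontrivial] at hsub
    have hΦtop : frattini G ≠ ⊤ := by
      obtain ⟨M, hM⟩ : ∃ M : Subgroup G, IsCoatom M := by
        rcases eq_top_or_exists_le_coatom (⊥ : Subgroup G) with h0 | ⟨M, hM, _⟩
        · exact absurd h0 bot_ne_top
        · exact ⟨M, hM⟩
      intro htop
      have : (⊤ : Subgroup G) ≤ M := htop ▸ frattini_le_coatom hM
      exact hM.1 (top_le_iff.mp this)
    have hΦfix : ∀ z ∈ frattini G, a z = z := hchar (frattini G) hΦtop
    have hΦn : (frattini G).Normal := inferInstance
    have hcent : ∀ g : G, g⁻¹ * a g ∈ Subgroup.centralizer (frattini G : Set G) := by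
      intro g
      rw [Subgroup.mem_centralizer_iff]
      intro x hx
      have hx' : g * x * g⁻¹ ∈ frattini G := hΦn.conj_mem x hx g
      have e1 := hΦfix _ hx'
      rw [map_mul, map_mul, hΦfix x hx, map_inv] at e1
      have e2 : x * (g⁻¹ * a g) = g⁻¹ * (g * x * g⁻¹) * a g := by group
      rw [e2, ← e1]
      group
    by_cases hK : Subgroup.centralizer (frattini G : Set G) = ⊤
    · have hcentral : ∀ z ∈ frattini G, ∀ g : G, Commute z g := by
        intro z hz g
        have hg : g ∈ Subgroup.centralizer (frattini G : Set G) := by rw [hK]; trivial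
        exact (Subgroup.mem_centralizer_iff.mp hg z hz)
      ext g
      rw [MulAut.one_apply]
      apply Cfsg.Agent.Lib.Helper04.aut_fix_of_fix_commutator hG a ha g
      apply h
      have hcomm_mem : ∀ u v : G, ⁅v, u⁆ ∈ frattini G := by
        intro u v
        apply Cfsg.Agent.Lib.Helper03.commutator_le_frattini_of_isPGroup hG
        exact Subgroup.commutator_mem_commutator (Subgroup.mem_top v) (Subgroup.mem_top u)
      have hpowmem : ∀ x : G, x ^ 2 ∈ frattini G :=
        Cfsg.Agent.Lib.Helper03.pow_mem_frattini_of_isPGroup hG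
      have hz : ∀ u v : G, ⁅v, u⁆ ^ 2 = 1 := by
        intro u v
        rw [← Cfsg.Agent.Lib.Helper32.commutator_pow_left_of_central u v
          (hcentral _ (hcomm_mem u v) v) 2]
        rw [commutatorElement_def]
        have := hcentral _ (hpowmem v) u
        rw [this.eq]
        group
      rw [Cfsg.Agent.Lib.Helper32.mul_pow_of_central g⁻¹ (a g) (hcentral _ (hcomm_mem _ _) _)
        (hcentral _ (hcomm_mem _ _) _) 4]
      have e6 : (4 * (4 - 1) / 2 : ℕ) = 2 * 3 := by norm_num
      rw [e6, pow_mul, hz, one_pow, mul_one]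
      have hg4 : g ^ 4 ∈ frattini G := by
        have e : g ^ 4 = (g ^ 2) ^ 2 := by rw [← pow_mul]
        rw [e]
        exact hpowmem _
      rw [← map_pow, hΦfix _ hg4, inv_pow, inv_mul_cancel]
    · have hKfix := hchar (Subgroup.centralizer (frattini G : Set G)) hK
      ext g
      rw [MulAut.one_apply]
      exact Cfsg.Agent.Lib.Helper04.aut_fix_of_fix_commutator hG a ha g (hKfix _ (hcent g))

/-- An automorphism of order prime to `p` of a finite `p`-group fixing all `x` with `x ^ p = 1`, and for `p = 2` all
`x` with `x ^ 4 = 1`, is trivial. -/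
theorem aut_trivial_of_fix_small {G : Type u} [Group G] [Finite G] {p : ℕ} [Fact p.Prime]
    (hG : IsPGroup p G) (a : MulAut G) (ha : Nat.Coprime (orderOf a) p)
    (h : ∀ x : G, (x ^ p = 1 ∨ (p = 2 ∧ x ^ 4 = 1)) → a x = x) : a = 1 := by
  by_cases hp : p = 2
  · subst hp
    exact aut_trivial_aux_two _ G rfl hG a ha (fun x hx => h x (Or.inr ⟨rfl, hx⟩))
  · exact Cfsg.Agent.Lib.Helper04.aut_trivial_of_fix_omega hp hG a ha (fun x hx => h x (Or.inl hx))

end Cfsg.Agent.Lib.Helper90
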