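import Mathlib
import Cfsg.Prelude.Def_FusionSystem
import Cfsg.Agent.Lib.Helper87.FusionBasic
import Cfsg.Agent.Lib.Helper89.Coprime
import Cfsg.Agent.Lib.Helper90.FusionAut
import Cfsg.Agent.Lib.Helper90.FusionRadical
import Cfsg.Agent.Lib.Helper90.OmegaFixTwo

set_option autoImplicit false

/-!
If all maps of a fusion system between cyclic subgroups of order `p` or `4` of the hyperfocal subgroup are
conjugations by elements of `S`, then every `Aut_F(P)` is a `p`-group.
-/

namespace Cfsg.Agent.Lib.Helper90

open Cfsg Cfsg.FusionSystem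
open Cfsg.Agent.Lib.Helper87 (hom_le hom_mem restrict_mem finite_of_le hom_congr subtype_mem)
open scoped commutatorElement

variable {Ω : Type*} [Group Ω] {S : Subgroup Ω}

theorem orderOf_restrictAut_dvd' {P U : Subgroup Ω} (hUP : U ≤ P) (β : MulAut P)
    (h : ∀ x : U, ((β ⟨x, hUP x.2⟩ : P) : Ω) ∈ U) (h' : ∀ x : U, ((β⁻¹ ⟨x, hUP x.2⟩ : P) : Ω) ∈ U) :
    orderOf (restrictAut hUP β h h') ∣ orderOf β := by
  apply orderOf_dvd_of_pow_eq_one
  refine MulEquiv.ext (fun x => ?_)
  apply Subtype.ext
  rw [restrictAut_pow_apply, pow_orderOf_eq_one]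
  rfl

/-- On a finite group, a subgroup mapped into itself by an automorphism is also mapped into itself by its
inverse. -/
theorem inv_mem_of_forall_mem {P : Type*} [Group P] [Finite P] (β : MulAut P) (U : Subgroup P)
    (h : ∀ y ∈ U, β y ∈ U) : ∀ y ∈ U, β⁻¹ y ∈ U := by
  intro y hy
  let f : U → U := fun x => ⟨β x, h x x.2⟩
  have hinj : Function.Injective f := by
    intro a b hab
    apply Subtype.ext
    exact β.injective (congrArg Subtype.val hab)
  have hsurj : Function.Surjective f := Finite.injective_iff_surjective.mp hinj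
  obtain ⟨x, hx⟩ := hsurj ⟨y, hy⟩
  have e : β x = y := congrArg Subtype.val hx
  rw [← e, MulAut.inv_apply_self]
  exact x.2

/-- Under the hypothesis of S5298, every automorphism in the system of order prime to `p` is trivial. -/
theorem aut_trivial_of_small_inner [Finite S] {p : ℕ} [Fact p.Prime] (hS : IsPGroup p S) (F : FusionSystem S)
    (h : ∀ A B : Subgroup Ω, A ≤ F.hyperfocalSubgroup p → B ≤ F.hyperfocalSubgroup p → IsCyclic ↥A →
      (Nat.card ↥A = p ∨ Nat.card ↥A = 4) → IsCyclic ↥B → (Nat.card ↥B = p ∨ Nat.card ↥B = 4) →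
      F.homSet A B ⊆ (innerFusionSystem S).Hom A) :
    ∀ n : ℕ, ∀ P : Subgroup Ω, P ≤ S → Nat.card P = n → ∀ β ∈ F.autGroup P,
      Nat.Coprime (orderOf β) p → β = 1 := by
  intro n
  induction n using Nat.strong_induction_on with
  | _ n ih =>
    intro P hPS hn β hβ hcop
    haveI : Finite P := finite_of_le hPS
    have hPp : IsPGroup p P := hS.to_le hPS
    have key : ∀ U' : Subgroup P, U' ≠ ⊤ → (∀ y ∈ U', β y ∈ U') → ∀ y ∈ U', β y = y := by
      intro U' hU' hinv y hy
      have hinv' := inv_mem_of_forall_mem β U' hinv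
      have hUP : U'.map P.subtype ≤ P := by
        rintro _ ⟨x, -, rfl⟩
        exact x.2
      have hmemU : ∀ x : P, (x : Ω) ∈ U'.map P.subtype ↔ x ∈ U' := by
        intro x
        constructor
        · rintro ⟨z, hz, hzx⟩
          have e : z = x := Subtype.ext hzx
          rwa [← e]
        · intro hx
          exact ⟨x, hx, rfl⟩
      have h1 : ∀ x : U'.map P.subtype, ((β ⟨x, hUP x.2⟩ : P) : Ω) ∈ U'.map P.subtype :=
        fun x => (hmemU _).mpr (hinv _ ((hmemU ⟨x, hUP x.2⟩).mp x.2))
      have h1' : ∀ x : U'.map P.subtype, ((β⁻¹ ⟨x, hUP x.2⟩ : P) : Ω) ∈ U'.map P.subtype :=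
        fun x => (hmemU _).mpr (hinv' _ ((hmemU ⟨x, hUP x.2⟩).mp x.2))
      have hcard : Nat.card (U'.map P.subtype) < n := by
        rw [← hn]
        have e : Nat.card (U'.map P.subtype) = Nat.card U' :=
          Nat.card_congr (U'.equivMapOfInjective P.subtype P.subtype_injective).symm.toEquiv
        rw [e]
        apply lt_of_le_of_ne (Subgroup.card_le_card_group U')
        intro hc
        exact hU' (Subgroup.eq_top_of_card_eq U' hc)
      have hr := ih _ hcard (U'.map P.subtype) (hUP.trans hPS) rfl (restrictAut hUP β h1 h1')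
        (restrictAut_mem_autGroup F hPS hUP β hβ h1 h1')
        (Nat.Coprime.coprime_dvd_left (orderOf_restrictAut_dvd' hUP β h1 h1') hcop)
      have hyU : (y : Ω) ∈ U'.map P.subtype := (hmemU y).mpr hy
      have h2 := congrArg (fun f : MulAut (U'.map P.subtype) =>
        ((f ⟨y, hyU⟩ : U'.map P.subtype) : Ω)) hr
      apply Subtype.ext
      exact h2
    -- (a) `P` is generated by its small elements
    by_cases hU₁ : Subgroup.closure {y : P | y ^ p = 1 ∨ (p = 2 ∧ y ^ 4 = 1)} = ⊤
    swap
    · have hinv : ∀ y ∈ Subgroup.closure {y : P | y ^ p = 1 ∨ (p = 2 ∧ y ^ 4 = 1)},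
          β y ∈ Subgroup.closure {y : P | y ^ p = 1 ∨ (p = 2 ∧ y ^ 4 = 1)} := by
        intro y hy
        have hle : Subgroup.closure {y : P | y ^ p = 1 ∨ (p = 2 ∧ y ^ 4 = 1)} ≤
            (Subgroup.closure {y : P | y ^ p = 1 ∨ (p = 2 ∧ y ^ 4 = 1)}).comap β.toMonoidHom := by
          rw [Subgroup.closure_le]
          intro z hz
          apply Subgroup.subset_closure
          rcases hz with h1 | ⟨h2, h4⟩
          · left
            show (β z) ^ p = 1
            rw [← map_pow, h1, map_one]
          · right
            refine ⟨h2, ?_⟩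
            show (β z) ^ 4 = 1
            rw [← map_pow, h4, map_one]
        exact hle hy
      have hfix := key _ hU₁ hinv
      exact aut_trivial_of_fix_small hPp β hcop (fun x hx => hfix x (Subgroup.subset_closure hx))
    -- (b) `P = [P, β]`
    by_cases hV : Subgroup.closure {z : P | ∃ y : P, z = y⁻¹ * β y} = ⊤
    swap
    · have hinv : ∀ z ∈ Subgroup.closure {z : P | ∃ y : P, z = y⁻¹ * β y},
          β z ∈ Subgroup.closure {z : P | ∃ y : P, z = y⁻¹ * β y} := by
        intro z hz
        have hle : Subgroup.closure {z : P | ∃ y : P, z = y⁻¹ * β y} ≤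
            (Subgroup.closure {z : P | ∃ y : P, z = y⁻¹ * β y}).comap β.toMonoidHom := by
          rw [Subgroup.closure_le]
          rintro _ ⟨y, rfl⟩
          apply Subgroup.subset_closure
          refine ⟨β y, ?_⟩
          show β (y⁻¹ * β y) = (β y)⁻¹ * β (β y)
          rw [map_mul, map_inv]
        exact hle hz
      have hfix := key _ hV hinv
      refine MulEquiv.ext (fun y => ?_)
      rw [MulAut.one_apply]
      exact Cfsg.Agent.Lib.Helper04.aut_fix_of_fix_commutator hPp β hcop y
        (hfix _ (Subgroup.subset_closure ⟨y, rfl⟩))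
    -- (c) descent along the lower central series
    have hPhyp : P ≤ F.hyperfocalSubgroup p := by
      intro x hx
      have hxV : (⟨x, hx⟩ : P) ∈ Subgroup.closure {z : P | ∃ y : P, z = y⁻¹ * β y} := by
        rw [hV]; trivial
      have hle : Subgroup.closure {z : P | ∃ y : P, z = y⁻¹ * β y} ≤
          (F.hyperfocalSubgroup p).subgroupOf P := by
        rw [Subgroup.closure_le]
        rintro _ ⟨y, rfl⟩
        rw [SetLike.mem_coe, Subgroup.mem_subgroupOf]
        apply Subgroup.subset_closure
        refine ⟨P, ⟨β, hβ⟩, y, hPS, Subgroup.subset_closure ?_, ?_⟩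
        · show Nat.Coprime (orderOf (⟨β, hβ⟩ : F.autGroup P)) p
          rw [← Subgroup.orderOf_coe]
          exact hcop
        · simp
      exact Subgroup.mem_subgroupOf.mp (hle hxV)
    have hconj : ∀ y : P, (y ^ p = 1 ∨ (p = 2 ∧ y ^ 4 = 1)) →
        ∃ s ∈ S, ((β y : P) : Ω) = s * (y : Ω) * s⁻¹ := by
      intro y hy
      by_cases hy1 : y = 1
      · refine ⟨1, S.one_mem, ?_⟩
        rw [hy1, map_one]
        simp
      have hord : orderOf (y : Ω) = p ∨ orderOf (y : Ω) = 4 := by
        rw [Subgroup.orderOf_coe]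
        rcases hy with h1 | ⟨h2, h4⟩
        · left; exact orderOf_eq_prime h1 hy1
        · subst h2
          by_cases hy2 : y ^ 2 = 1
          · left; exact orderOf_eq_prime hy2 hy1
          · right
            have h3 := orderOf_eq_prime_pow (p := 2) (n := 1) (x := y) (by simpa using hy2)
              (by simpa using h4)
            simpa using h3
      have hordB : orderOf ((β y : P) : Ω) = orderOf (y : Ω) := by
        rw [Subgroup.orderOf_coe, Subgroup.orderOf_coe, MulEquiv.orderOf_eq]
      have hA : Subgroup.zpowers (y : Ω) ≤ F.hyperfocalSubgroup p := by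
        rw [Subgroup.zpowers_le]; exact hPhyp y.2
      have hB : Subgroup.zpowers ((β y : P) : Ω) ≤ F.hyperfocalSubgroup p := by
        rw [Subgroup.zpowers_le]; exact hPhyp (β y).2
      have cardA : Nat.card (Subgroup.zpowers (y : Ω)) = p ∨ Nat.card (Subgroup.zpowers (y : Ω)) = 4 := by
        rw [Nat.card_zpowers]; exact hord
      have cardB : Nat.card (Subgroup.zpowers ((β y : P) : Ω)) = p ∨
          Nat.card (Subgroup.zpowers ((β y : P) : Ω)) = 4 := by
        rw [Nat.card_zpowers, hordB]; exact hord
      have hA'P : Subgroup.zpowers (y : Ω) ≤ P := by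
        rw [Subgroup.zpowers_le]; exact y.2
      have hφ : (P.subtype.comp β.toMonoidHom).comp (Subgroup.inclusion hA'P) ∈
          F.Hom (Subgroup.zpowers (y : Ω)) :=
        restrict_mem F hA'P ((mem_autGroup_iff F hPS β).mp hβ)
      have hφB : ∀ x : Subgroup.zpowers (y : Ω),
          ((P.subtype.comp β.toMonoidHom).comp (Subgroup.inclusion hA'P)) x ∈
            Subgroup.zpowers ((β y : P) : Ω) := by
        intro x
        obtain ⟨k, hk⟩ := Subgroup.mem_zpowers_iff.mp x.2
        have e : Subgroup.inclusion hA'P x = y ^ k := by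
          apply Subtype.ext
          simp [hk]
        show ((β (Subgroup.inclusion hA'P x) : P) : Ω) ∈ Subgroup.zpowers ((β y : P) : Ω)
        rw [e, map_zpow]
        rw [Subgroup.coe_zpow]
        exact Subgroup.zpow_mem_zpowers _ k
      have hin := h _ _ hA hB inferInstance cardA inferInstance cardB ⟨hφ, hφB⟩
      obtain ⟨-, s, hs, hsx⟩ := hin
      exact ⟨s, hs, hsx ⟨y, Subgroup.mem_zpowers _⟩⟩
    have hdesc : ∀ i : ℕ, P ≤ S.lowerCentralSeries i := by
      intro i
      induction i with
      | zero => exact hPS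
      | succ i ihi =>
        have hnormK : S ≤ Subgroup.normalizer ((S.lowerCentralSeries (i + 1) : Subgroup Ω) : Set Ω) :=
          Subgroup.self_le_normalizer_lowerCentralSeries S (i + 1)
        let C' : Subgroup P :=
          { carrier := {g | ((g⁻¹ * β g : P) : Ω) ∈ S.lowerCentralSeries (i + 1)}
            one_mem' := by
              show (((1 : P)⁻¹ * β 1 : P) : Ω) ∈ S.lowerCentralSeries (i + 1)
              rw [map_one, inv_one, mul_one]
              exact Subgroup.one_mem _
            mul_mem' := by
              intro a b ha hb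
              have e : (((a * b)⁻¹ * β (a * b) : P) : Ω) =
                  (b : Ω)⁻¹ * ((a⁻¹ * β a : P) : Ω) * ((b : Ω)⁻¹)⁻¹ * ((b⁻¹ * β b : P) : Ω) := by
                rw [map_mul]
                simp only [Subgroup.coe_mul, Subgroup.coe_inv, mul_inv_rev]
                group
              show (((a * b)⁻¹ * β (a * b) : P) : Ω) ∈ S.lowerCentralSeries (i + 1)
              rw [e]
              apply Subgroup.mul_mem _ _ hb
              exact (Subgroup.mem_normalizer_iff.mp (hnormK (S.inv_mem (hPS b.2))) _).mp ha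
            inv_mem' := by
              intro a ha
              have e : (((a⁻¹)⁻¹ * β a⁻¹ : P) : Ω) =
                  (a : Ω) * (((a⁻¹ * β a : P) : Ω))⁻¹ * (a : Ω)⁻¹ := by
                rw [map_inv]
                simp only [Subgroup.coe_mul, Subgroup.coe_inv, mul_inv_rev, inv_inv]
                group
              show (((a⁻¹)⁻¹ * β a⁻¹ : P) : Ω) ∈ S.lowerCentralSeries (i + 1)
              rw [e]
              exact (Subgroup.mem_normalizer_iff.mp (hnormK (hPS a.2)) _).mp (Subgroup.inv_mem _ ha) }
        have hC : C' = ⊤ := by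
          rw [eq_top_iff, ← hU₁, Subgroup.closure_le]
          intro y hy
          obtain ⟨s, hs, hsy⟩ := hconj y hy
          show ((y⁻¹ * β y : P) : Ω) ∈ S.lowerCentralSeries (i + 1)
          rw [Subgroup.lowerCentralSeries_succ]
          have e : ((y⁻¹ * β y : P) : Ω) = ⁅(y : Ω)⁻¹, s⁆ := by
            rw [commutatorElement_def]
            simp only [Subgroup.coe_mul, Subgroup.coe_inv, hsy, inv_inv]
            group
          rw [e]
          exact Subgroup.commutator_mem_commutator (Subgroup.inv_mem _ (ihi y.2)) hs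
        intro x hx
        have hxV : (⟨x, hx⟩ : P) ∈ Subgroup.closure {z : P | ∃ y : P, z = y⁻¹ * β y} := by
          rw [hV]; trivial
        have hle : Subgroup.closure {z : P | ∃ y : P, z = y⁻¹ * β y} ≤
            (S.lowerCentralSeries (i + 1)).subgroupOf P := by
          rw [Subgroup.closure_le]
          rintro _ ⟨y, rfl⟩
          have hyC : y ∈ C' := by rw [hC]; trivial
          exact Subgroup.mem_subgroupOf.mpr hyC
        exact Subgroup.mem_subgroupOf.mp (hle hxV)
    have hnil : Group.IsNilpotent S := hS.isNilpotent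
    obtain ⟨m, hm⟩ := (Subgroup.isNilpotent_iff_lowerCentralSeries S).mp hnil
    have hPbot : P ≤ ⊥ := hm ▸ hdesc m
    refine MulEquiv.ext (fun y => ?_)
    have hy1 : y = 1 := Subtype.ext (Subgroup.mem_bot.mp (hPbot y.2))
    rw [hy1, map_one, map_one]

end Cfsg.Agent.Lib.Helper90
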