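import Mathlib
import Cfsg.Agent.Lib.Helper90.GTBasic
import Cfsg.Agent.Lib.Helper90.GTFunctor
import Cfsg.Agent.Lib.Helper90.FusionNormal
import Cfsg.Agent.Lib.Helper90.FusionRadical
import Cfsg.Agent.Lib.Helper90.SmallInner
import Cfsg.Agent.Lib.Helper87.FusionAut
import Cfsg.Agent.Lib.Helper87.KNormalizer2
import Cfsg.Agent.Lib.Helper89.FusionAut
import Cfsg.Agent.Lib.Helper38.PGroup

set_option autoImplicit false

/-!
Glauberman–Thompson type theorems for fusion systems: transport of `NI` along maps of the system, and the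
reduction step for normalizer subsystems over smaller subgroups.
-/

namespace Cfsg.Agent.Lib.Helper90.GT

open Cfsg Cfsg.FusionSystem
open Cfsg.Agent.Lib.Helper87 (hom_le hom_mem hom_congr restrict_mem finite_of_le card_le_of_le
  normalizerIn_le mem_normalizerIn le_normalizerIn normalizerSystem normalizerSystem_isNormalizerSystem
  homEquiv homEquiv_apply isFIso_homEquiv congr_mem_autGroup_iff homEquiv_mem_autGroup range_sup_hom
  exists_isFullyNormalized fullyNormalized_props isReceptive_of_isFullyCentralized exists_normalizer_hom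
  subtype_mem)

universe u

variable {Ω : Type u} [Group Ω] {S : Subgroup Ω}

/-- transport of `NI` along a map of the system: an `F`-automorphism of `R₁` normalizing `W₁ ≤ R₁` has `p`-power order
if the image `W'` of `W₁` under a map `χ` of the system defined on `T ≥ R₁`, with values in `N_S(W')`, satisfies `NI`. -/
theorem pow_eq_one_of_transport [Finite S] {p : ℕ} [Fact p.Prime] (hS : IsPGroup p S) (F : FusionSystem S)
    {W₁ R₁ T : Subgroup Ω} (hWR : W₁ ≤ R₁) (hRT : R₁ ≤ T) {χ : T →* Ω} (hχ : χ ∈ F.Hom T)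
    {W' : Subgroup Ω} (hW' : (W₁.subgroupOf T).map χ = W')
    (hχN : ∀ x : T, χ x ∈ normalizerIn S W') (hNI : NI F W')
    {β : MulAut R₁} (hβ : β ∈ F.autGroup R₁) (hβW : ∀ x : R₁, (x : Ω) ∈ W₁ → ((β x : R₁) : Ω) ∈ W₁) :
    ∃ k : ℕ, β ^ (p ^ k) = 1 := by
  have hTS : T ≤ S := hom_le F hχ
  have hR₁S : R₁ ≤ S := hRT.trans hTS
  have hfinR₁ : Finite R₁ := finite_of_le hR₁S
  have hχinj := F.injective_of_mem hχ
  set φ : R₁ →* Ω := χ.comp (Subgroup.inclusion hRT) with hφdef
  have hφ : φ ∈ F.Hom R₁ := restrict_mem F hRT hχ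
  have hφinj := F.injective_of_mem hφ
  set e : R₁ ≃* φ.range := homEquiv F hφ rfl with hedef
  have he := isFIso_homEquiv F hφ (rfl : φ.range = φ.range)
  have heval : ∀ x : R₁, ((e x : φ.range) : Ω) = φ x := fun x => homEquiv_apply F hφ rfl x
  have hR₂S : φ.range ≤ S := by
    rintro _ ⟨x, rfl⟩
    exact hom_mem F hφ x
  have hβ₂ : MulAut.congr e β ∈ F.autGroup φ.range := (congr_mem_autGroup_iff F he β).mpr hβ
  have hψ₂ := (Cfsg.Agent.Lib.Helper87.mem_autGroup_iff F hR₂S).mp hβ₂
  have hψ₂e : ∀ x : R₁, (φ.range.subtype.comp (MulAut.congr e β).toMonoidHom) (e x) = φ (β x) := by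
    intro x
    show (((MulAut.congr e β) (e x) : φ.range) : Ω) = φ (β x)
    rw [MulAut.congr_apply]
    show ((e (β (e.symm (e x))) : φ.range) : Ω) = φ (β x)
    rw [MulEquiv.symm_apply_apply, heval]
  -- `W' ≤ R₂ ≤ N_S(W')`
  have hW'R₂ : W' ≤ φ.range := by
    intro y hy
    obtain ⟨w, hw, rfl⟩ := hW'.ge hy
    exact ⟨⟨w, hWR (Subgroup.mem_subgroupOf.mp hw)⟩, rfl⟩
  have hR₂N : φ.range ≤ normalizerIn S W' := by
    rintro _ ⟨x, rfl⟩
    exact hχN _
  have hmemW' : ∀ x : R₁, (x : Ω) ∈ W₁ → φ x ∈ W' := fun x hx =>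
    hW'.le ⟨Subgroup.inclusion hRT x, Subgroup.mem_subgroupOf.mpr hx, rfl⟩
  have hmemW₁ : ∀ x : R₁, φ x ∈ W' → (x : Ω) ∈ W₁ := by
    intro x hx
    obtain ⟨w, hw, hwx⟩ := hW'.ge hx
    have : w = Subgroup.inclusion hRT x := hχinj hwx
    rw [this] at hw
    exact Subgroup.mem_subgroupOf.mp hw
  have hβinv : ∀ x : R₁, (x : Ω) ∈ W₁ → ((β⁻¹ x : R₁) : Ω) ∈ W₁ := by
    intro x hx
    have := Cfsg.Agent.Lib.Helper90.inv_mem_of_forall_mem β (W₁.subgroupOf R₁)
      (fun y hy => Subgroup.mem_subgroupOf.mpr (hβW y (Subgroup.mem_subgroupOf.mp hy))) x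
      (Subgroup.mem_subgroupOf.mpr hx)
    exact Subgroup.mem_subgroupOf.mp this
  have hmap : (W'.subgroupOf φ.range).map (φ.range.subtype.comp (MulAut.congr e β).toMonoidHom) = W' := by
    apply le_antisymm
    · rintro _ ⟨y', hy', rfl⟩
      obtain ⟨x, rfl⟩ := e.surjective y'
      rw [hψ₂e]
      apply hmemW' _ (hβW x (hmemW₁ x ?_))
      rw [← heval]
      exact Subgroup.mem_subgroupOf.mp hy'
    · intro y hy
      obtain ⟨w, hw, rfl⟩ := hW'.ge hy
      have hwW : (w : Ω) ∈ W₁ := Subgroup.mem_subgroupOf.mp hw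
      set w₁ : R₁ := ⟨w, hWR hwW⟩ with hw₁
      have hw' : ((β⁻¹ w₁ : R₁) : Ω) ∈ W₁ := hβinv w₁ hwW
      refine ⟨e (β⁻¹ w₁), Subgroup.mem_subgroupOf.mpr ?_, ?_⟩
      · rw [heval]
        exact hmemW' _ hw'
      · rw [hψ₂e, MulAut.apply_inv_self]
        rfl
  obtain ⟨g, hg, hgψ⟩ := hNI φ.range _ hψ₂ hW'R₂ hR₂N hmap
  -- powers
  have hpow : ∀ (n : ℕ) (x : R₁), φ ((β ^ n) x) = g ^ n * φ x * (g ^ n)⁻¹ := by
    intro n
    induction n with
    | zero =>
      intro x
      simp
    | succ n ih =>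
      intro x
      rw [pow_succ', MulAut.mul_apply, ← hψ₂e, hgψ, heval, ih x, pow_succ']
      group
  obtain ⟨k, hk⟩ := hS ⟨g, hg⟩
  have hgk : g ^ (p ^ k) = 1 := by
    have := congrArg (fun s : ↥S => (s : Ω)) hk
    simpa using this
  refine ⟨k, ?_⟩
  apply MulEquiv.ext
  intro x
  apply hφinj
  rw [hpow, hgk]
  simp

/-- restriction form: if a map `ψ` of the system on `P ⊔ W₁` restricts to the automorphism `α` of `P` and carries `W₁`
onto itself, then the order of `α` is a power of `p` under the transport hypotheses. -/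
theorem pow_eq_one_of_transport' [Finite S] {p : ℕ} [Fact p.Prime] (hS : IsPGroup p S) (F : FusionSystem S)
    {W₁ P T : Subgroup Ω} (hRT : P ⊔ W₁ ≤ T) {χ : T →* Ω} (hχ : χ ∈ F.Hom T)
    {W' : Subgroup Ω} (hW' : (W₁.subgroupOf T).map χ = W')
    (hχN : ∀ x : T, χ x ∈ normalizerIn S W') (hNI : NI F W')
    {α : MulAut P} {ψ : ↥(P ⊔ W₁) →* Ω} (hψ : ψ ∈ F.Hom (P ⊔ W₁))
    (hres : ∀ x : P, ψ (Subgroup.inclusion le_sup_left x) = ((α x : P) : Ω))
    (hmap : (W₁.subgroupOf (P ⊔ W₁)).map ψ = W₁) :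
    ∃ k : ℕ, α ^ (p ^ k) = 1 := by
  have hr : ψ.range = P ⊔ W₁ := by
    apply range_sup_hom
    · apply le_antisymm
      · rintro _ ⟨x, rfl⟩
        show ψ (Subgroup.inclusion le_sup_left x) ∈ P
        rw [hres]
        exact (α x).2
      · intro y hy
        refine ⟨α.symm ⟨y, hy⟩, ?_⟩
        show ψ (Subgroup.inclusion le_sup_left (α.symm ⟨y, hy⟩)) = y
        rw [hres, MulEquiv.apply_symm_apply]
    · apply le_antisymm
      · rintro _ ⟨x, rfl⟩
        exact hmap.le ⟨Subgroup.inclusion le_sup_right x, Subgroup.mem_subgroupOf.mpr x.2, rfl⟩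
      · intro y hy
        obtain ⟨z, hz, rfl⟩ := hmap.ge hy
        exact ⟨⟨z, Subgroup.mem_subgroupOf.mp hz⟩, rfl⟩
  have hβ := homEquiv_mem_autGroup F hψ hr
  have hβval : ∀ x : ↥(P ⊔ W₁), ((homEquiv F hψ hr x : ↥(P ⊔ W₁)) : Ω) = ψ x :=
    fun x => homEquiv_apply F hψ hr x
  obtain ⟨k, hk⟩ := pow_eq_one_of_transport hS F (le_sup_right : W₁ ≤ P ⊔ W₁) hRT hχ hW' hχN hNI hβ
    (fun x hx => by
      rw [hβval]
      exact hmap.le ⟨x, Subgroup.mem_subgroupOf.mpr hx, rfl⟩)
  refine ⟨k, ?_⟩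
  -- `α ^ n` is the restriction of `β ^ n`
  have hpow : ∀ (n : ℕ) (x : P), (((α ^ n) x : P) : Ω) =
      ((((homEquiv F hψ hr) ^ n) (Subgroup.inclusion le_sup_left x) : ↥(P ⊔ W₁)) : Ω) := by
    intro n
    induction n with
    | zero => intro x; rfl
    | succ n ih =>
      intro x
      rw [pow_succ', pow_succ', MulAut.mul_apply, MulAut.mul_apply, ← hres, ← hβval]
      congr 2
      apply Subtype.ext
      rw [← ih x]
      rfl
  apply MulEquiv.ext
  intro x
  apply Subtype.ext
  rw [hpow, hk]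
  rfl

/-- a subgroup all of whose elements conjugate `H` into itself normalizes `H` -/
theorem le_normalizer_of_conj_mem {H K : Subgroup Ω} (h : ∀ g ∈ K, ∀ y ∈ H, g * y * g⁻¹ ∈ H) :
    K ≤ Subgroup.normalizer (H : Set Ω) := by
  intro g hg
  apply Subgroup.mem_normalizer_iff.mpr
  intro y
  refine ⟨fun hy => h g hg y hy, fun hy => ?_⟩
  have := h g⁻¹ (K.inv_mem hg) _ hy
  have e : g⁻¹ * (g * y * g⁻¹) * g⁻¹⁻¹ = y := by group
  rwa [e] at this

/-- the hypotheses of the Glauberman–Thompson type theorem for the functor `W` -/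
structure Hyp (W : ∀ (Q : Type u) [Group Q], Subgroup Q) (p : ℕ) {S : Subgroup Ω} (F : FusionSystem S)
    (D : Subgroup Ω) : Prop where
  sat : F.IsSaturated p
  closed : F.StronglyClosed D
  ni : NI F (inducedFunctor W D)

/-- Reduction step: a fully normalized subgroup `Q` with `N_S(Q) < S` satisfies `NI`, if all fully normalized nontrivial
subgroups with larger normalizers do, and the theorem holds over smaller groups. -/
theorem step1 [Finite S] {p : ℕ} [Fact p.Prime] (hS : IsPGroup p S)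
    {W : ∀ (Q : Type u) [Group Q], Subgroup Q} (hW : IsCharPFunctor.{u} p W)
    (F : FusionSystem S) (D : Subgroup Ω) (hyp : Hyp W p F D)
    (IH : ∀ (T : Subgroup Ω) [Finite T], Nat.card T < Nat.card S → IsPGroup p T →
      ∀ (E : FusionSystem T) (D' : Subgroup Ω), Hyp W p E D' → E = innerFusionSystem T)
    (Q : Subgroup Ω) (hQ : F.IsFullyNormalized Q) (hlt : Nat.card (normalizerIn S Q) < Nat.card S)
    (hmax : ∀ Q' : Subgroup Ω, F.IsFullyNormalized Q' → Q' ≠ ⊥ →
      Nat.card (normalizerIn S Q) < Nat.card (normalizerIn S Q') → NI F Q') : NI F Q := by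
  have hQS : Q ≤ S := hQ.1
  have hRS : normalizerIn S Q ≤ S := normalizerIn_le S Q
  have hfinR : Finite (normalizerIn S Q) := finite_of_le hRS
  have hRp : IsPGroup p (normalizerIn S Q) := hS.to_le hRS
  have hFQ := normalizerSystem_isNormalizerSystem F Q hQS
  have hFQsat : (normalizerSystem F Q hQS).IsSaturated p :=
    Cfsg.Agent.S5098.result p hS F hyp.sat Q hQ _ hFQ
  have hsub : ∀ P : Subgroup Ω, (normalizerSystem F Q hQS).Hom P ⊆ F.Hom P := by
    intro P φ hφ
    rw [hFQ P] at hφ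
    exact hφ.1
  have hDS : D ≤ S := hyp.closed.1
  have hDQS : D ⊓ normalizerIn S Q ≤ S := inf_le_right.trans hRS
  have hDQclosed : (normalizerSystem F Q hQS).StronglyClosed (D ⊓ normalizerIn S Q) :=
    ⟨inf_le_right, fun P hP φ hφ x =>
      ⟨hyp.closed.2 P (hP.trans inf_le_left) φ (hsub P hφ) x,
        ((normalizerSystem F Q hQS).le_of_mem hφ).2 x⟩⟩
  have hfinDQ : Finite ↥(D ⊓ normalizerIn S Q) := finite_of_le hDQS
  have hDQp : IsPGroup p ↥(D ⊓ normalizerIn S Q) := hS.to_le hDQS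
  have hW₁DQ : inducedFunctor W (D ⊓ normalizerIn S Q) ≤ D ⊓ normalizerIn S Q := inducedFunctor_le _
  have hW₁R : inducedFunctor W (D ⊓ normalizerIn S Q) ≤ normalizerIn S Q := hW₁DQ.trans inf_le_right
  have hSnD : S ≤ Subgroup.normalizer (D : Set Ω) :=
    le_normalizer_of_conj_mem (fun g hg y hy =>
      Cfsg.Agent.Lib.Helper90.StronglyClosed.conj_mem F hyp.closed g hg y hy)
  have hRnDQ : normalizerIn S Q ≤ Subgroup.normalizer ((D ⊓ normalizerIn S Q : Subgroup Ω) : Set Ω) :=
    le_normalizer_of_conj_mem (fun g hg y hy =>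
      ⟨Cfsg.Agent.Lib.Helper90.StronglyClosed.conj_mem F hyp.closed g (hRS hg) y hy.1,
        Subgroup.mul_mem _ (Subgroup.mul_mem _ hg hy.2) (Subgroup.inv_mem _ hg)⟩)
  have hRnW₁ : normalizerIn S Q ≤
      Subgroup.normalizer (inducedFunctor W (D ⊓ normalizerIn S Q) : Set Ω) :=
    hRnDQ.trans (normalizer_le_normalizer_inducedFunctor hW _ hDQp)
  have hNR : normalizerIn (normalizerIn S Q) (inducedFunctor W (D ⊓ normalizerIn S Q)) =
      normalizerIn S Q :=
    le_antisymm (normalizerIn_le _ _) (fun x hx => ⟨hx, hRnW₁ hx⟩)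
  -- the transport data
  have hdata : ∃ (T : Subgroup Ω) (χ : T →* Ω), χ ∈ F.Hom T ∧ ∃ W' : Subgroup Ω, normalizerIn S Q ≤ T ∧
      ((inducedFunctor W (D ⊓ normalizerIn S Q)).subgroupOf T).map χ = W' ∧
      (∀ x : T, χ x ∈ normalizerIn S W') ∧ NI F W' := by
    by_cases hDR : D ≤ normalizerIn S Q
    · have hDQ : D ⊓ normalizerIn S Q = D := inf_eq_left.mpr hDR
      have hfinD : Finite ↥D := finite_of_le hDS
      have hWD : inducedFunctor W D ≤ S := (inducedFunctor_le D).trans hDS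
      have hSnW : S ≤ Subgroup.normalizer (inducedFunctor W D : Set Ω) :=
        hSnD.trans (normalizer_le_normalizer_inducedFunctor hW _ (hS.to_le hDS))
      refine ⟨S, S.subtype, subtype_mem F le_rfl, inducedFunctor W D, hRS, ?_, fun x => ⟨x.2, hSnW x.2⟩,
        hyp.ni⟩
      rw [hDQ, Subgroup.subgroupOf_map_subtype]
      exact inf_eq_left.mpr hWD
    · -- `D ⊓ R < D`, so the normalizer of `W₁` is larger than `R`
      have hne : D ⊓ normalizerIn S Q ≠ D := fun h => hDR (inf_eq_left.mp h)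
      have hfinD : Finite ↥D := finite_of_le hDS
      obtain ⟨d, hd, hdn⟩ := Cfsg.Agent.Lib.Helper89.exists_mem_normalizerIn_not_mem (S := D)
        (hS.to_le hDS) (inf_le_left : D ⊓ normalizerIn S Q ≤ D) hne
      have hdD : d ∈ D := hd.1
      have hdR : d ∉ normalizerIn S Q := fun h => hdn ⟨hdD, h⟩
      have hdW : d ∈ Subgroup.normalizer (inducedFunctor W (D ⊓ normalizerIn S Q) : Set Ω) :=
        normalizer_le_normalizer_inducedFunctor hW _ hDQp hd.2
      have hW₁S : inducedFunctor W (D ⊓ normalizerIn S Q) ≤ S := hW₁R.trans hRS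
      have hRT : normalizerIn S Q ≤ normalizerIn S (inducedFunctor W (D ⊓ normalizerIn S Q)) :=
        fun x hx => ⟨hRS hx, hRnW₁ hx⟩
      have hdT : d ∈ normalizerIn S (inducedFunctor W (D ⊓ normalizerIn S Q)) := ⟨hDS hdD, hdW⟩
      have hTS := normalizerIn_le S (inducedFunctor W (D ⊓ normalizerIn S Q))
      have hfinT : Finite ↥(normalizerIn S (inducedFunctor W (D ⊓ normalizerIn S Q))) := finite_of_le hTS
      have hcardRT : Nat.card (normalizerIn S Q) <
          Nat.card (normalizerIn S (inducedFunctor W (D ⊓ normalizerIn S Q))) := by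
        have hlt' : normalizerIn S Q < normalizerIn S (inducedFunctor W (D ⊓ normalizerIn S Q)) :=
          lt_of_le_of_ne hRT (fun h => hdR (h ▸ hdT))
        exact Set.Finite.card_lt_card (Set.toFinite _) hlt'
      -- `W₁ ≠ ⊥`
      have hDne : D ≠ ⊥ := by
        rintro rfl
        exact hDR bot_le
      have hDQne : D ⊓ normalizerIn S Q ≠ ⊥ := by
        have hn : (D.subgroupOf S).Normal := by
          constructor
          intro n hn g
          exact Subgroup.mem_subgroupOf.mpr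
            (Cfsg.Agent.Lib.Helper90.StronglyClosed.conj_mem F hyp.closed g g.2 n (Subgroup.mem_subgroupOf.mp hn))
        have hne' : D.subgroupOf S ≠ ⊥ := by
          intro h
          apply hDne
          rw [eq_bot_iff]
          intro x hx
          have : (⟨x, hDS hx⟩ : S) ∈ D.subgroupOf S := Subgroup.mem_subgroupOf.mpr hx
          rw [h, Subgroup.mem_bot] at this
          exact congrArg (fun s : ↥S => (s : Ω)) this
        obtain ⟨z, hzD, hzc, hz1⟩ := Cfsg.Agent.Lib.Helper38.normal_inf_center_ne_bot p hS (D.subgroupOf S) hne'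
        intro hbot
        apply hz1
        have hzN : (z : Ω) ∈ normalizerIn S Q := by
          refine ⟨z.2, ?_⟩
          apply Subgroup.mem_normalizer_iff.mpr
          intro y
          have hcomm : ∀ y ∈ Q, (z : Ω) * y * (z : Ω)⁻¹ = y := by
            intro y hy
            have := Subgroup.mem_center_iff.mp hzc ⟨y, hQS hy⟩
            have h2 : y * (z : Ω) = (z : Ω) * y := congrArg (fun s : ↥S => (s : Ω)) this
            rw [← h2]
            group
          constructor
          · intro hy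
            rw [hcomm y hy]
            exact hy
          · intro hy
            have h3 := hcomm _ hy
            have h4 : y = (z : Ω) * y * (z : Ω)⁻¹ := by
              have : (z : Ω) * ((z : Ω) * y * (z : Ω)⁻¹) * (z : Ω)⁻¹ = (z : Ω) * y * (z : Ω)⁻¹ := h3
              exact (mul_left_cancel (mul_right_cancel this)).symm ▸ rfl
            rw [h4]
            exact hy
        have hzDQ : (z : Ω) ∈ D ⊓ normalizerIn S Q := ⟨Subgroup.mem_subgroupOf.mp hzD, hzN⟩
        rw [hbot, Subgroup.mem_bot] at hzDQ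
        exact Subtype.ext hzDQ
      have hW₁ne : inducedFunctor W (D ⊓ normalizerIn S Q) ≠ ⊥ := inducedFunctor_ne_bot hW _ hDQp hDQne
      -- a fully normalized conjugate
      obtain ⟨W', hconj, hW'fn⟩ := exists_isFullyNormalized F hW₁S
      obtain ⟨hW'fc, hW'fa⟩ := fullyNormalized_props p hS F hyp.sat W' hW'fn
      have hW'rec := isReceptive_of_isFullyCentralized p hS F hyp.sat W' hW'fc
      obtain ⟨χ, hχ, hχN, hχmap, -⟩ := exists_normalizer_hom p hS F W' _ hW'fa hW'rec hconj
      have hχinj := F.injective_of_mem hχ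
      have hfinT' : Finite ↥(normalizerIn S W') := finite_of_le (normalizerIn_le S W')
      have hcard : Nat.card (normalizerIn S (inducedFunctor W (D ⊓ normalizerIn S Q))) ≤
          Nat.card (normalizerIn S W') :=
        Nat.card_le_card_of_injective (fun x => (⟨χ x, hχN x⟩ : normalizerIn S W'))
          (fun a b hab => hχinj (congrArg (fun s : ↥(normalizerIn S W') => (s : Ω)) hab))
      have hW'ne : W' ≠ ⊥ := by
        intro hbot
        apply hW₁ne
        rw [eq_bot_iff]
        intro w hw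
        have hwT : w ∈ normalizerIn S (inducedFunctor W (D ⊓ normalizerIn S Q)) :=
          ⟨hW₁S hw, Subgroup.le_normalizer hw⟩
        have h1 : χ ⟨w, hwT⟩ ∈ W' := hχmap.le ⟨⟨w, hwT⟩, Subgroup.mem_subgroupOf.mpr hw, rfl⟩
        rw [hbot, Subgroup.mem_bot] at h1
        have h2 : (⟨w, hwT⟩ : ↥(normalizerIn S (inducedFunctor W (D ⊓ normalizerIn S Q)))) = 1 :=
          hχinj (h1.trans (map_one χ).symm)
        exact congrArg (fun s : ↥(normalizerIn S (inducedFunctor W (D ⊓ normalizerIn S Q))) => (s : Ω)) h2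
      exact ⟨_, χ, hχ, W', hRT, hχmap, hχN, hmax W' hW'fn hW'ne (lt_of_lt_of_le hcardRT hcard)⟩
  obtain ⟨T, χ, hχ, W', hRT, hW', hχN, hNI⟩ := hdata
  -- the key: `NI` for the normalizer system at `W₁`
  have hkey : NI (normalizerSystem F Q hQS) (inducedFunctor W (D ⊓ normalizerIn S Q)) := by
    rw [NI_iff _ hW₁R]
    intro E₁ hE₁
    have hW₁fn : (normalizerSystem F Q hQS).IsFullyNormalized (inducedFunctor W (D ⊓ normalizerIn S Q)) := by
      refine ⟨hW₁R, fun Q' _ => ?_⟩
      rw [hNR]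
      exact card_le_of_le (normalizerIn_le _ Q')
    have hE₁sat : E₁.IsSaturated p :=
      Cfsg.Agent.S5098.result p hRp _ hFQsat _ hW₁fn E₁ hE₁
    have hNle := normalizerIn_le (normalizerIn S Q) (inducedFunctor W (D ⊓ normalizerIn S Q))
    have hfinN : Finite ↥(normalizerIn (normalizerIn S Q) (inducedFunctor W (D ⊓ normalizerIn S Q))) :=
      finite_of_le hNle
    have hNp : IsPGroup p ↥(normalizerIn (normalizerIn S Q) (inducedFunctor W (D ⊓ normalizerIn S Q))) :=
      hRp.to_le hNle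
    have hE₁inner : E₁ = innerFusionSystem _ := by
      apply Cfsg.Agent.S5083.result p hNp E₁ hE₁sat
      intro P hP
      rintro ⟨α, hα⟩
      have hα' := (Cfsg.Agent.Lib.Helper87.mem_autGroup_iff E₁ hP).mp hα
      rw [hE₁ P] at hα'
      obtain ⟨-, -, -, ψ, hψ, hres, hmap⟩ := hα'
      obtain ⟨k, hk⟩ := pow_eq_one_of_transport' hS F
        (sup_le ((hP.trans hNle).trans hRT) (hW₁R.trans hRT)) hχ hW' hχN hNI (hsub _ hψ) hres hmap
      exact ⟨k, Subtype.ext hk⟩
    intro P
    rw [hE₁inner]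
  have hFQinner := IH (normalizerIn S Q) hlt hRp (normalizerSystem F Q hQS) (D ⊓ normalizerIn S Q)
    ⟨hFQsat, hDQclosed, hkey⟩
  rw [NI_iff F hQS]
  intro N hN P
  rw [hN P, ← hFQ P, hFQinner]

end Cfsg.Agent.Lib.Helper90.GT
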