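import Mathlib
import Cfsg.Agent.Lib.Helper90.GTStep1
import Cfsg.Agent.Lib.Helper88.FusionFactor6
import Cfsg.Agent.S5126

set_option autoImplicit false

/-!
Glauberman–Thompson type theorems for fusion systems: subgroups normal in the system, and the passage to normalizer
systems of subgroups normal in `S`.
-/

namespace Cfsg.Agent.Lib.Helper90.GT

open Cfsg Cfsg.FusionSystem
open Cfsg.Agent.Lib.Helper87 (hom_le hom_mem hom_congr restrict_mem finite_of_le card_le_of_le
  normalizerIn_le mem_normalizerIn le_normalizerIn normalizerSystem normalizerSystem_isNormalizerSystem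
  subtype_mem)

universe u

variable {Ω : Type u} [Group Ω] {S : Subgroup Ω}

/-- a subgroup normal in the system is normalized by `S` -/
theorem normal_le_normalizer (F : FusionSystem S) {T : Subgroup Ω} (hT : F.IsNormal T) :
    S ≤ Subgroup.normalizer (T : Set Ω) :=
  le_normalizer_of_conj_mem (fun g hg y hy =>
    Cfsg.Agent.Lib.Helper90.StronglyClosed.conj_mem F
      (Cfsg.Agent.Lib.Helper90.IsNormal.stronglyClosed F hT) g hg y hy)

/-- a strongly closed subgroup is normalized by `S` -/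
theorem closed_le_normalizer (F : FusionSystem S) {T : Subgroup Ω} (hT : F.StronglyClosed T) :
    S ≤ Subgroup.normalizer (T : Set Ω) :=
  le_normalizer_of_conj_mem (fun g hg y hy =>
    Cfsg.Agent.Lib.Helper90.StronglyClosed.conj_mem F hT g hg y hy)

/-- if `T` is normal in `F` and `NI F T`, then `F` is inner -/
theorem inner_of_isNormal_of_NI (F : FusionSystem S) {T : Subgroup Ω} (hT : F.IsNormal T) (h : NI F T) :
    F = innerFusionSystem S := by
  apply Cfsg.Agent.Lib.Helper89.fusionSystem_le_antisymm _ (Cfsg.Agent.Lib.Helper89.inner_le F)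
  intro P φ hφ
  obtain ⟨ψ, hψ, hres, hmap⟩ := hT.2 P φ hφ
  have hPS := hom_le F hφ
  have hTn := normal_le_normalizer F hT
  have hle : P ⊔ T ≤ normalizerIn S T := by
    intro x hx
    have hxS : x ∈ S := (sup_le hPS hT.1) hx
    exact ⟨hxS, hTn hxS⟩
  obtain ⟨g, hg, hgψ⟩ := h (P ⊔ T) ψ hψ le_sup_right hle hmap
  refine ⟨hPS, g, hg, fun x => ?_⟩
  rw [← hres x, hgψ]
  rfl

/-- a strongly closed subgroup contained in a subgroup normal in the system is normal in the system -/
theorem isNormal_of_le_of_stronglyClosed [Finite S] (F : FusionSystem S) {Q₀ D : Subgroup Ω}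
    (hQ₀ : F.IsNormal Q₀) (hD : F.StronglyClosed D) (hDQ : D ≤ Q₀) : F.IsNormal D := by
  refine ⟨hD.1, fun P φ hφ => ?_⟩
  obtain ⟨ψ, hψ, hres, -⟩ := hQ₀.2 P φ hφ
  have hle : P ⊔ D ≤ P ⊔ Q₀ := sup_le_sup_left hDQ P
  have hψ' : ψ.comp (Subgroup.inclusion hle) ∈ F.Hom (P ⊔ D) := restrict_mem F hle hψ
  refine ⟨_, hψ', fun x => ?_, ?_⟩
  · rw [← hres x]
    rfl
  · exact Cfsg.Agent.Lib.Helper88.stronglyClosed_map_eq F hD le_sup_right hψ'

/-- the value of a characteristic functor at a subgroup normal in the system is normal in the system -/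
theorem isNormal_inducedFunctor [Finite S] {p : ℕ} (hS : IsPGroup p S)
    {W : ∀ (Q : Type u) [Group Q], Subgroup Q} (hW : IsCharPFunctor.{u} p W)
    (F : FusionSystem S) {D : Subgroup Ω} (hD : F.IsNormal D) : F.IsNormal (inducedFunctor W D) := by
  have hDS : D ≤ S := hD.1
  have hfinD : Finite ↥D := finite_of_le hDS
  have hVD : inducedFunctor W D ≤ D := inducedFunctor_le D
  refine ⟨hVD.trans hDS, fun P φ hφ => ?_⟩
  obtain ⟨ψ, hψ, hres, hmap⟩ := hD.2 P φ hφ
  have hle : P ⊔ inducedFunctor W D ≤ P ⊔ D := sup_le_sup_left hVD P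
  have hψ' : ψ.comp (Subgroup.inclusion hle) ∈ F.Hom (P ⊔ inducedFunctor W D) := restrict_mem F hle hψ
  refine ⟨_, hψ', fun x => ?_, ?_⟩
  · rw [← hres x]
    rfl
  · have h1 := inducedFunctor_map_subgroupOf hW (le_sup_right : D ≤ P ⊔ D) (hS.to_le hDS) ψ
      (F.injective_of_mem hψ)
    rw [hmap] at h1
    ext y
    constructor
    · rintro ⟨x, hx, rfl⟩
      exact h1.ge ⟨Subgroup.inclusion hle x, Subgroup.mem_subgroupOf.mpr (Subgroup.mem_subgroupOf.mp hx), rfl⟩
    · intro hy
      obtain ⟨x, hx, rfl⟩ := h1.le hy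
      have hxV : (x : Ω) ∈ inducedFunctor W D := Subgroup.mem_subgroupOf.mp hx
      exact ⟨⟨x, (le_sup_right : inducedFunctor W D ≤ P ⊔ inducedFunctor W D) hxV⟩,
        Subgroup.mem_subgroupOf.mpr hxV, rfl⟩

/-- if the normalizer system of `Q` is inner then `NI F Q` -/
theorem NI_of_normalizerSystem_eq_inner (F : FusionSystem S) {Q : Subgroup Ω} (hQS : Q ≤ S)
    (h : normalizerSystem F Q hQS = innerFusionSystem (normalizerIn S Q)) : NI F Q := by
  intro R ψ hψ hQR hRN hmap
  have h2 : ψ ∈ (normalizerSystem F Q hQS).Hom R := by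
    rw [normalizerSystem_isNormalizerSystem F Q hQS R]
    exact mem_normalizerHom_of_le F hψ hQR hRN hmap
  rw [h] at h2
  obtain ⟨-, g, hg, hgψ⟩ := h2
  exact ⟨g, hg.1, hgψ⟩

/-- a subgroup normalized by `S` is fully normalized -/
theorem isFullyNormalized_of_normalizerIn_eq [Finite S] (F : FusionSystem S) {Q : Subgroup Ω} (hQS : Q ≤ S)
    (hN : normalizerIn S Q = S) : F.IsFullyNormalized Q := by
  refine ⟨hQS, fun Q' _ => ?_⟩
  rw [hN]
  exact card_le_of_le (normalizerIn_le S Q')

/-- the hypotheses pass to the normalizer system of a subgroup normalized by `S` -/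
theorem hyp_normalizerSystem [Finite S] {p : ℕ} [Fact p.Prime] (hS : IsPGroup p S)
    {W : ∀ (Q : Type u) [Group Q], Subgroup Q}
    (F : FusionSystem S) (D : Subgroup Ω) (hyp : Hyp W p F D) {Q : Subgroup Ω} (hQS : Q ≤ S)
    (hN : normalizerIn S Q = S) : Hyp W p (normalizerSystem F Q hQS) D := by
  have hFQ := normalizerSystem_isNormalizerSystem F Q hQS
  have hsub : ∀ P : Subgroup Ω, (normalizerSystem F Q hQS).Hom P ⊆ F.Hom P := by
    intro P φ hφ
    rw [hFQ P] at hφ
    exact hφ.1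
  refine ⟨Cfsg.Agent.S5098.result p hS F hyp.sat Q (isFullyNormalized_of_normalizerIn_eq F hQS hN) _ hFQ,
    ⟨?_, fun P hP φ hφ x => hyp.closed.2 P hP φ (hsub P hφ) x⟩, ?_⟩
  · rw [hN]
    exact hyp.closed.1
  · intro R ψ hψ hWR hRN hmap
    have hRN' : R ≤ normalizerIn S (inducedFunctor W D) := by
      intro x hx
      exact ⟨normalizerIn_le S Q (hRN hx).1, (hRN hx).2⟩
    obtain ⟨g, hg, hgψ⟩ := hyp.ni R ψ (hsub R hψ) hWR hRN' hmap
    refine ⟨g, ?_, hgψ⟩
    rw [hN]
    exact hg

end Cfsg.Agent.Lib.Helper90.GT
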