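import Mathlib
import Cfsg.Agent.Lib.Helper90.GTNormal
import Cfsg.Agent.Lib.Helper87.FusionRealized
import Cfsg.Agent.Lib.Helper59.Fusion
import Cfsg.Agent.Lib.Helper03.NormalPComplement

set_option autoImplicit false

/-!
Glauberman–Thompson type theorems for fusion systems: a system realized by a finite group on a Sylow subgroup and
satisfying the hypotheses is inner, given the corresponding theorem for groups.
-/

namespace Cfsg.Agent.Lib.Helper90.GT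

open Cfsg Cfsg.FusionSystem
open Cfsg.Agent.Lib.Helper87 (hom_le hom_mem hom_congr restrict_mem finite_of_le card_le_of_le
  normalizerIn_le mem_normalizerIn le_normalizerIn subtype_mem pullConj pullConj_mem ι_pullConj pullConj_mem_hom
  exists_conj_of_mem_hom)

universe u

variable {Ω : Type u} [Group Ω] {S : Subgroup Ω}

set_option maxHeartbeats 400000 in
/-- the image of a strongly closed subgroup in a realizing group is strongly closed -/
theorem isStronglyClosed_map_of_realized (F : FusionSystem S) {D : Subgroup Ω} (hD : F.StronglyClosed D)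
    {G : Type u} [Group G] {ι : S →* G} (hι : F.IsRealizedBy ι) :
    Cfsg.IsStronglyClosed ((D.subgroupOf S).map ι) ι.range := by
  refine ⟨?_, ?_⟩
  · rintro _ ⟨x, -, rfl⟩
    exact ⟨x, rfl⟩
  · rintro _ ⟨d, hd, rfl⟩ g ⟨s, hs⟩
    have hdD : (d : Ω) ∈ D := Subgroup.mem_subgroupOf.mp hd
    have hzS : Subgroup.zpowers (d : Ω) ≤ S := Subgroup.zpowers_le.mpr d.2
    have hzD : Subgroup.zpowers (d : Ω) ≤ D := Subgroup.zpowers_le.mpr hdD
    have h : ∀ x : Subgroup.zpowers (d : Ω), g * ι ⟨x, hzS x.2⟩ * g⁻¹ ∈ ι.range := by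
      rintro ⟨x, n, rfl⟩
      refine ⟨s ^ n, ?_⟩
      rw [map_zpow, hs]
      have e : (⟨(d : Ω) ^ n, hzS ⟨n, rfl⟩⟩ : S) = d ^ n := Subtype.ext (by simp)
      rw [e, map_zpow]
      simp [conj_zpow]
    have hψ := pullConj_mem_hom F hι _ hzS g h
    have h1 := hD.2 _ hzD _ hψ ⟨d, Subgroup.mem_zpowers _⟩
    refine ⟨⟨_, pullConj_mem ι hι.1 _ hzS g h ⟨d, Subgroup.mem_zpowers _⟩⟩,
      Subgroup.mem_subgroupOf.mpr h1, ?_⟩
    rw [ι_pullConj]

set_option maxHeartbeats 400000 in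
/-- a system realized on a Sylow subgroup of a group with a normal `p`-complement is inner -/
theorem inner_of_realized_of_hasNormalPComplement {p : ℕ} [Fact p.Prime] (F : FusionSystem S)
    {G : Type u} [Group G] [Finite G] {ι : S →* G} (hι : F.IsRealizedBy ι)
    (T : Sylow p G) (hT : (T : Subgroup G) = ι.range) (h : Cfsg.HasNormalPComplement p G) :
    F = innerFusionSystem S := by
  obtain ⟨N, hNn, hNc⟩ := (Cfsg.Agent.Lib.Helper03.hasNormalPComplement_iff T).mp h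
  apply Cfsg.Agent.Lib.Helper89.fusionSystem_le_antisymm _ (Cfsg.Agent.Lib.Helper89.inner_le F)
  intro P φ hφ
  have hPS := hom_le F hφ
  obtain ⟨g, hg⟩ := exists_conj_of_mem_hom F hι hφ
  obtain ⟨n, hn, t, ht, hnt'⟩ : ∃ n ∈ N, ∃ t ∈ ι.range, n * t = g := by
    obtain ⟨⟨n, t⟩, hnt, -⟩ := (Subgroup.isComplement'_def.mp hNc).existsUnique g
    exact ⟨n, n.2, t, hT ▸ t.2, hnt⟩
  have hdisj : N ⊓ ι.range = ⊥ := by
    rw [← hT]
    exact hNc.disjoint.eq_bot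
  obtain ⟨s, hs⟩ := ht
  refine ⟨hPS, s, s.2, fun x => ?_⟩
  have h1 := hg x
  -- `z = t y t⁻¹`
  have hz : t * ι ⟨x, hPS x.2⟩ * t⁻¹ ∈ ι.range := by
    rw [← hs]
    exact ⟨s * ⟨x, hPS x.2⟩ * s⁻¹, by simp⟩
  have hgz : g * ι ⟨x, hPS x.2⟩ * g⁻¹ ∈ ι.range := by
    rw [← h1]
    exact ⟨_, rfl⟩
  have hcomm : n * (t * ι ⟨x, hPS x.2⟩ * t⁻¹) * n⁻¹ *
      (t * ι ⟨x, hPS x.2⟩ * t⁻¹)⁻¹ ∈ N ⊓ ι.range := by
    refine ⟨?_, ?_⟩
    · have h2 : (t * ι ⟨x, hPS x.2⟩ * t⁻¹) * n⁻¹ *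
          (t * ι ⟨x, hPS x.2⟩ * t⁻¹)⁻¹ ∈ N := hNn.conj_mem _ (N.inv_mem hn) _
      have e : n * (t * ι ⟨x, hPS x.2⟩ * t⁻¹) * n⁻¹ *
          (t * ι ⟨x, hPS x.2⟩ * t⁻¹)⁻¹ = n * ((t * ι ⟨x, hPS x.2⟩ * t⁻¹) * n⁻¹ *
          (t * ι ⟨x, hPS x.2⟩ * t⁻¹)⁻¹) := by group
      rw [e]
      exact N.mul_mem hn h2
    · refine Subgroup.mul_mem _ ?_ (Subgroup.inv_mem _ hz)
      have e : n * (t * ι ⟨x, hPS x.2⟩ * t⁻¹) * n⁻¹ = g * ι ⟨x, hPS x.2⟩ * g⁻¹ := by
        rw [← hnt']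
        group
      rw [e]
      exact hgz
  rw [hdisj, Subgroup.mem_bot] at hcomm
  have h3 : g * ι ⟨x, hPS x.2⟩ * g⁻¹ = t * ι ⟨x, hPS x.2⟩ * t⁻¹ := by
    have h4 := mul_inv_eq_one.mp hcomm
    rw [← h4, ← hnt']
    group
  rw [h3, ← hs] at h1
  have h5 : (⟨φ x, hom_mem F hφ x⟩ : S) = s * ⟨x, hPS x.2⟩ * s⁻¹ := by
    apply hι.1
    rw [h1]
    simp
  exact congrArg Subtype.val h5

set_option maxHeartbeats 400000 in
/-- a realized system satisfying the hypotheses is inner, given the corresponding theorem for groups -/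
theorem inner_of_realized [Finite S] {p : ℕ} [Fact p.Prime] (hS : IsPGroup p S)
    {W : ∀ (Q : Type u) [Group Q], Subgroup Q} (hW : IsCharPFunctor.{u} p W)
    (GI : ∀ (L : Type u) [Group L] [Finite L] (P : Sylow p L) (D' : Subgroup L),
      Cfsg.IsStronglyClosed D' (P : Subgroup L) →
      Cfsg.HasNormalPComplement p ↥(Subgroup.normalizer ((inducedFunctor W D' : Subgroup L) : Set L)) →
      Cfsg.HasNormalPComplement p L)
    (F : FusionSystem S) (D : Subgroup Ω) (hyp : Hyp W p F D)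
    {G : Type u} [Group G] [Finite G] {ι : S →* G} (hι : F.IsRealizedBy ι)
    (T : Sylow p G) (hT : (T : Subgroup G) = ι.range) : F = innerFusionSystem S := by
  apply inner_of_realized_of_hasNormalPComplement F hι T hT
  have hDS : D ≤ S := hyp.closed.1
  have hfinD : Finite ↥D := finite_of_le hDS
  have hDp : IsPGroup p ↥D := hS.to_le hDS
  have hVD : inducedFunctor W D ≤ D := inducedFunctor_le D
  have hVS : inducedFunctor W D ≤ S := hVD.trans hDS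
  have hfinV : Finite ↥(inducedFunctor W D) := finite_of_le hVS
  have hSnV : S ≤ Subgroup.normalizer (inducedFunctor W D : Set Ω) :=
    (closed_le_normalizer F hyp.closed).trans (normalizer_le_normalizer_inducedFunctor hW D hDp)
  have hsc := isStronglyClosed_map_of_realized F hyp.closed hι
  rw [← hT] at hsc
  apply GI G T _ hsc
  have hV' : inducedFunctor W ((D.subgroupOf S).map ι) = ((inducedFunctor W D).subgroupOf S).map ι :=
    inducedFunctor_map_subgroupOf hW hDS hDp ι hι.1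
  rw [hV']
  -- membership in `V'`
  have hmemV' : ∀ v : S, (v : Ω) ∈ inducedFunctor W D → ι v ∈ ((inducedFunctor W D).subgroupOf S).map ι :=
    fun v hv => ⟨v, Subgroup.mem_subgroupOf.mpr hv, rfl⟩
  have hV'r : ((inducedFunctor W D).subgroupOf S).map ι ≤ ι.range := by
    rintro _ ⟨v, -, rfl⟩
    exact ⟨v, rfl⟩
  have hTH : (T : Subgroup G) ≤
      Subgroup.normalizer ((((inducedFunctor W D).subgroupOf S).map ι : Subgroup G) : Set G) := by
    rw [hT]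
    apply le_normalizer_of_conj_mem
    rintro _ ⟨s, rfl⟩ _ ⟨v, hv, rfl⟩
    have hv' : (v : Ω) ∈ inducedFunctor W D := Subgroup.mem_subgroupOf.mp hv
    have h1 : (s : Ω) * v * (s : Ω)⁻¹ ∈ inducedFunctor W D :=
      (Subgroup.mem_normalizer_iff.mp (hSnV s.2) _).mp hv'
    have e : ι s * ι v * (ι s)⁻¹ = ι (s * v * s⁻¹) := by simp
    rw [e]
    exact hmemV' _ h1
  have hmemPH : ∀ b : ↥(Subgroup.normalizer ((((inducedFunctor W D).subgroupOf S).map ι : Subgroup G) : Set G)),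
      b ∈ ((T.subtype hTH : Sylow p _) : Subgroup _) ↔ (b : G) ∈ ι.range := by
    intro b
    rw [Sylow.coe_subtype, Subgroup.mem_subgroupOf, hT]
  apply Cfsg.Agent.Lib.Helper59.hasNormalPComplement_of_control (T.subtype hTH)
  intro a ha g hga
  obtain ⟨x, hx⟩ := (hmemPH a).mp ha
  obtain ⟨y, hy⟩ := (hmemPH _).mp hga
  have hy' : ι y = (g : G)⁻¹ * (a : G) * (g : G) := hy
  have hginv : (g : G)⁻¹ ∈
      Subgroup.normalizer ((((inducedFunctor W D).subgroupOf S).map ι : Subgroup G) : Set G) :=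
    Subgroup.inv_mem _ g.2
  -- the subgroup of the elements of `S` conjugated into the image of `S` by `g⁻¹`
  have hxK : (x : Ω) ∈ Cfsg.Agent.Lib.Helper87.pull ι
      (ι.range.comap (MulAut.conj (g : G)⁻¹).toMonoidHom) := by
    rw [Cfsg.Agent.Lib.Helper87.mem_pull]
    refine ⟨x.2, ?_⟩
    show (g : G)⁻¹ * ι ⟨(x : Ω), x.2⟩ * (g : G)⁻¹⁻¹ ∈ ι.range
    rw [Subtype.coe_eta, hx, inv_inv, ← hy']
    exact ⟨y, rfl⟩
  have hVK : inducedFunctor W D ≤ Cfsg.Agent.Lib.Helper87.pull ι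
      (ι.range.comap (MulAut.conj (g : G)⁻¹).toMonoidHom) := by
    intro v hv
    rw [Cfsg.Agent.Lib.Helper87.mem_pull]
    refine ⟨hVS hv, ?_⟩
    show (g : G)⁻¹ * ι ⟨v, hVS hv⟩ * (g : G)⁻¹⁻¹ ∈ ι.range
    exact hV'r ((Subgroup.mem_normalizer_iff.mp hginv _).mp (hmemV' ⟨v, hVS hv⟩ hv))
  have hRK : Subgroup.zpowers (x : Ω) ⊔ inducedFunctor W D ≤ Cfsg.Agent.Lib.Helper87.pull ι
      (ι.range.comap (MulAut.conj (g : G)⁻¹).toMonoidHom) :=
    sup_le (Subgroup.zpowers_le.mpr hxK) hVK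
  have hRS : Subgroup.zpowers (x : Ω) ⊔ inducedFunctor W D ≤ S :=
    sup_le (Subgroup.zpowers_le.mpr x.2) hVS
  have h : ∀ r : ↥(Subgroup.zpowers (x : Ω) ⊔ inducedFunctor W D),
      (g : G)⁻¹ * ι ⟨r, hRS r.2⟩ * (g : G)⁻¹⁻¹ ∈ ι.range := by
    intro r
    obtain ⟨hrS, hr⟩ := Cfsg.Agent.Lib.Helper87.mem_pull.mp (hRK r.2)
    exact hr
  have hψ := pullConj_mem_hom F hι _ hRS (g : G)⁻¹ h
  have hιψ := ι_pullConj ι hι.1 _ hRS (g : G)⁻¹ h
  have hψS := pullConj_mem ι hι.1 _ hRS (g : G)⁻¹ h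
  have hmapV : ((inducedFunctor W D).subgroupOf (Subgroup.zpowers (x : Ω) ⊔ inducedFunctor W D)).map
      (pullConj ι hι.1 _ hRS (g : G)⁻¹ h) = inducedFunctor W D := by
    have hle : ((inducedFunctor W D).subgroupOf (Subgroup.zpowers (x : Ω) ⊔ inducedFunctor W D)).map
        (pullConj ι hι.1 _ hRS (g : G)⁻¹ h) ≤ inducedFunctor W D := by
      rintro _ ⟨v, hv, rfl⟩
      have hv' : (v : Ω) ∈ inducedFunctor W D := Subgroup.mem_subgroupOf.mp hv
      have h1 := (Subgroup.mem_normalizer_iff.mp hginv _).mp (hmemV' ⟨v, hRS v.2⟩ hv')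
      rw [← hιψ v] at h1
      obtain ⟨w, hw, hwe⟩ := h1
      have h2 := hι.1 hwe
      rw [← Subgroup.mem_subgroupOf (K := S) (h := ⟨_, hψS v⟩), ← h2]
      exact hw
    have hcard : Nat.card (((inducedFunctor W D).subgroupOf
        (Subgroup.zpowers (x : Ω) ⊔ inducedFunctor W D)).map (pullConj ι hι.1 _ hRS (g : G)⁻¹ h)) =
        Nat.card (inducedFunctor W D) := by
      rw [Subgroup.card_map_of_injective (F.injective_of_mem hψ)]
      exact Nat.card_congr (Subgroup.subgroupOfEquivOfLe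
        (le_sup_right : inducedFunctor W D ≤ Subgroup.zpowers (x : Ω) ⊔ inducedFunctor W D)).toEquiv
    exact Subgroup.eq_of_le_of_card_ge hle hcard.ge
  have hRN : Subgroup.zpowers (x : Ω) ⊔ inducedFunctor W D ≤ normalizerIn S (inducedFunctor W D) :=
    fun r hr => ⟨hRS hr, hSnV (hRS hr)⟩
  obtain ⟨s, hs, hsψ⟩ := hyp.ni _ _ hψ le_sup_right hRN hmapV
  have hsT : ι ⟨s⁻¹, S.inv_mem hs⟩ ∈ (T : Subgroup G) := by
    rw [hT]
    exact ⟨_, rfl⟩
  refine ⟨⟨ι ⟨s⁻¹, S.inv_mem hs⟩, hTH hsT⟩, (hmemPH _).mpr ⟨_, rfl⟩, ?_⟩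
  apply Subtype.ext
  show (g : G)⁻¹ * (a : G) * (g : G) = (ι ⟨s⁻¹, S.inv_mem hs⟩)⁻¹ * (a : G) * ι ⟨s⁻¹, S.inv_mem hs⟩
  have hxR : (x : Ω) ∈ Subgroup.zpowers (x : Ω) ⊔ inducedFunctor W D :=
    Subgroup.mem_sup_left (Subgroup.mem_zpowers _)
  have h1 := hιψ ⟨x, hxR⟩
  have h2 : (⟨pullConj ι hι.1 _ hRS (g : G)⁻¹ h ⟨x, hxR⟩, hψS ⟨x, hxR⟩⟩ : S) =
      ⟨s, hs⟩ * x * ⟨s, hs⟩⁻¹ := Subtype.ext (hsψ ⟨x, hxR⟩)
  rw [h2, Subtype.coe_eta, hx, inv_inv, map_mul, map_mul, hx] at h1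
  rw [← h1]
  have e : (⟨s⁻¹, S.inv_mem hs⟩ : S) = ⟨s, hs⟩⁻¹ := rfl
  rw [e, map_inv, inv_inv]

end Cfsg.Agent.Lib.Helper90.GT
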