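import Mathlib
import Cfsg.Prelude.Def_FusionSystem
import Cfsg.Agent.Lib.Helper87.FusionBasic
import Cfsg.Agent.Lib.Helper88.FusionBasic
import Cfsg.Agent.Lib.Helper89.FusionAut
import Cfsg.Agent.Lib.Helper90.FusionAut

set_option autoImplicit false

/-!
Central subgroups of a fusion system versus fixed points of `Aut_F(Q)` for `Q` normal in `F`.
-/

namespace Cfsg.Agent.Lib.Helper90

open Cfsg Cfsg.FusionSystem
open Cfsg.Agent.Lib.Helper87 (hom_le hom_mem restrict_mem finite_of_le hom_congr subtype_mem)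

variable {Ω : Type*} [Group Ω] {S : Subgroup Ω}

/-- A subgroup central in the system lies in `Z(S)`. -/
theorem IsCentral.le_center (F : FusionSystem S) {Zc : Subgroup Ω} (hZ : F.IsCentral Zc) :
    Zc ≤ S ⊓ Subgroup.centralizer (S : Set Ω) := by
  intro z hz
  refine ⟨hZ.1 hz, ?_⟩
  show z ∈ Subgroup.centralizer (S : Set Ω)
  rw [Subgroup.mem_centralizer_iff]
  intro g hg
  obtain ⟨ψ, -, hψ1, hψ2⟩ := hZ.2 S (conjHom S g) (F.conj_mem le_rfl hg)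
  have h1 := hψ1 ⟨z, hZ.1 hz⟩
  have h2 := hψ2 ⟨z, hz⟩
  have e : Subgroup.inclusion (le_sup_left : S ≤ S ⊔ Zc) ⟨z, hZ.1 hz⟩ =
      Subgroup.inclusion (le_sup_right : Zc ≤ S ⊔ Zc) ⟨z, hz⟩ := Subtype.ext rfl
  rw [e, h2] at h1
  have h3 : z = g * z * g⁻¹ := h1
  calc g * z = g * z * g⁻¹ * g := by group
    _ = z * g := by rw [← h3]

/-- `F`-automorphisms of any `Q ≤ S` fix the elements of a central subgroup lying in `Q`. -/
theorem IsCentral.aut_fix (F : FusionSystem S) {Zc : Subgroup Ω} (hZ : F.IsCentral Zc) {Q : Subgroup Ω}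
    (hQ : Q ≤ S) {α : MulAut Q} (hα : α ∈ F.autGroup Q) (x : Q) (hx : (x : Ω) ∈ Zc) : α x = x := by
  have hαF := (mem_autGroup_iff F hQ α).mp hα
  obtain ⟨ψ, -, hψ1, hψ2⟩ := hZ.2 Q _ hαF
  have h1 := hψ1 x
  have h2 := hψ2 ⟨x, hx⟩
  have e : Subgroup.inclusion (le_sup_left : Q ≤ Q ⊔ Zc) x =
      Subgroup.inclusion (le_sup_right : Zc ≤ Q ⊔ Zc) ⟨x, hx⟩ := Subtype.ext rfl
  rw [e, h2] at h1
  apply Subtype.ext
  exact h1.symm

/-- If `Q` is normal in `F`, a subgroup of `Q` fixed pointwise by `Aut_F(Q)` is central in `F`. -/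
theorem isCentral_of_fixed (F : FusionSystem S) {Q W : Subgroup Ω} (hQ : F.IsNormal Q) (hWQ : W ≤ Q)
    (hfix : ∀ α ∈ F.autGroup Q, ∀ x : Q, (x : Ω) ∈ W → α x = x) : F.IsCentral W := by
  refine ⟨hWQ.trans hQ.1, fun P φ hφ => ?_⟩
  obtain ⟨ψ, hψ, hψφ, hψQ⟩ := hQ.2 P φ hφ
  have hle : P ⊔ W ≤ P ⊔ Q := sup_le_sup_left hWQ P
  refine ⟨ψ.comp (Subgroup.inclusion hle), restrict_mem F hle hψ, fun x => ?_, fun x => ?_⟩
  · rw [← hψφ x]; rfl
  · have hQle : Q ≤ P ⊔ Q := le_sup_right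
    have hψQF := restrict_mem F hQle hψ
    have hr : (ψ.comp (Subgroup.inclusion hQle)).range = Q := by
      ext y
      have hy := (Cfsg.Agent.Lib.Helper88.map_subgroupOf_eq_iff ψ).mp hψQ y
      rw [hy]
      constructor
      · rintro ⟨q, rfl⟩
        exact ⟨q, hQle q.2, q.2, rfl⟩
      · rintro ⟨x, hR, hxQ, rfl⟩
        exact ⟨⟨x, hxQ⟩, rfl⟩
    obtain ⟨α, hα, hαψ⟩ := Cfsg.Agent.Lib.Helper89.exists_aut_of_range_eq F hψQF hr
    have h1 := hfix α hα ⟨x, hWQ x.2⟩ x.2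
    have h2 := hαψ ⟨x, hWQ x.2⟩
    rw [h1] at h2
    exact h2.symm

/-- A subgroup normal in `F` is weakly closed: every `F`-map with source `Q` has image `Q`. -/
theorem IsNormal.range_eq (F : FusionSystem S) {Q : Subgroup Ω} (hQ : F.IsNormal Q) {φ : Q →* Ω}
    (hφ : φ ∈ F.Hom Q) : φ.range = Q := by
  obtain ⟨ψ, -, hψφ, hψQ⟩ := hQ.2 Q φ hφ
  ext y
  have hy := (Cfsg.Agent.Lib.Helper88.map_subgroupOf_eq_iff ψ).mp hψQ y
  rw [hy]
  constructor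
  · rintro ⟨q, rfl⟩
    exact ⟨q, (le_sup_left : Q ≤ Q ⊔ Q) q.2, q.2, (hψφ q)⟩
  · rintro ⟨x, hR, hxQ, rfl⟩
    exact ⟨⟨x, hxQ⟩, (hψφ ⟨x, hxQ⟩).symm⟩

/-- A subgroup normal in a saturated system is fully automized. -/
theorem IsNormal.isFullyAutomized (F : FusionSystem S) {p : ℕ} (hF : F.IsSaturated p) {Q : Subgroup Ω}
    (hQ : F.IsNormal Q) : F.IsFullyAutomized p Q := by
  obtain ⟨Q', ⟨φ, hφ, hr⟩, hfa, -⟩ := hF Q hQ.1
  have : Q' = Q := by rw [← hr]; exact IsNormal.range_eq F hQ hφ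
  rwa [this] at hfa

end Cfsg.Agent.Lib.Helper90
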