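import Mathlib
import Cfsg.Agent.Lib.Helper87.StableComplement

set_option autoImplicit false

/-!
Abstract construction of a "model": given a finite group `A`, a finite `p`-group `S` with a homomorphism
`π : S →* A` whose kernel is (the image of) an abelian group `M` on which `A` acts, a transitive `A`-set `Orb`
with point stabilizer `π(S)` of size prime to `p`, and a "stable biset cocycle" `ε : S → Orb → S`,
there is a finite group `G` containing `S`, mapping onto `A` with kernel `M`, which realizes the cocycle.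
The group is found inside the wreath product `(Orb → S) ⋊ A` with the relative Gaschütz theorem of helper87.
-/

namespace Cfsg.Agent.Lib.Helper90.ModelExist

universe u

open scoped Classical

section Wreath

variable {S A Orb : Type u} [Group S] [Group A] [MulAction A Orb]

/-- translation of functions on `Orb` -/
def shift (a : A) : MulAut (Orb → S) where
  toFun f := fun c => f (a⁻¹ • c)
  invFun f := fun c => f (a • c)
  left_inv f := by funext c; simp
  right_inv f := by funext c; simp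
  map_mul' _ _ := rfl

@[simp] theorem shift_apply (a : A) (f : Orb → S) (c : Orb) : shift a f c = f (a⁻¹ • c) := rfl

def shiftHom : A →* MulAut (Orb → S) where
  toFun := shift
  map_one' := by
    ext f c
    simp
  map_mul' a b := by
    ext f c
    simp [mul_smul]

@[simp] theorem shiftHom_apply (a : A) (f : Orb → S) (c : Orb) :
    (shiftHom (S := S) a) f c = f (a⁻¹ • c) := rfl

end Wreath

/-- The data of the construction. -/
structure Setup (S A M Orb : Type u) [Group S] [Group A] [CommGroup M] [MulAction A Orb] where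
  π : S →* A
  i : M →* S
  θ : A →* MulAut M
  c₀ : Orb
  r : Orb → A
  ε : S → Orb → S
  i_inj : Function.Injective i
  ker_eq : ∀ s, π s = 1 ↔ s ∈ i.range
  θ_conj : ∀ s m, i (θ (π s) m) = s * i m * s⁻¹
  stab : ∀ a : A, a • c₀ = c₀ ↔ a ∈ π.range
  r_smul : ∀ c, r c • c₀ = c
  r_base : r c₀ = 1
  ε_mul : ∀ s s' c, ε (s * s') c = ε s (π s' • c) * ε s' c
  ε_π : ∀ s c, π (ε s c) = (r (π s • c))⁻¹ * π s * r c
  ε_base : ∀ s, ε s c₀ = s
  ε_ker : ∀ m c, ε (i m) c = i (θ (r c)⁻¹ m)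
  stable : ∀ a : A, ∃ (y : Orb → S) (φ : S → S), (∀ c, π (y c) = (r (a • c))⁻¹ * a * r c) ∧
      ∀ s, a⁻¹ * π s * a ∈ π.range → π (φ s) = a⁻¹ * π s * a ∧
        ∀ c, y (π (φ s) • c) * ε (φ s) c = ε s (a • c) * y c

namespace Setup

variable {S A M Orb : Type u} [Group S] [Group A] [CommGroup M] [MulAction A Orb]
  (D : Setup S A M Orb)

/-- the ambient wreath product -/
abbrev W (_D : Setup S A M Orb) : Type u := (Orb → S) ⋊[shiftHom (S := S) (A := A) (Orb := Orb)] A

/-- the subgroup of the wreath product lying over the monomial image of `A` -/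
def Ghat : Subgroup D.W where
  carrier := {x | ∀ c, D.π (x.left c) = (D.r c)⁻¹ * x.right * D.r (x.right⁻¹ • c)}
  one_mem' := by
    intro c
    simp
  mul_mem' := by
    intro x y hx hy c
    rw [SemidirectProduct.mul_left, SemidirectProduct.mul_right]
    show D.π (x.left c * (shiftHom x.right) y.left c) = _
    rw [shiftHom_apply, map_mul, hx c, hy (x.right⁻¹ • c), mul_inv_rev, mul_smul]
    group
  inv_mem' := by
    intro x hx c
    rw [SemidirectProduct.inv_left, SemidirectProduct.inv_right]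
    show D.π ((shiftHom x.right⁻¹) x.left⁻¹ c) = _
    rw [shiftHom_apply, inv_inv, Pi.inv_apply, map_inv, hx (x.right • c), inv_smul_smul]
    group

theorem mem_Ghat (x : D.W) :
    x ∈ D.Ghat ↔ ∀ c, D.π (x.left c) = (D.r c)⁻¹ * x.right * D.r (x.right⁻¹ • c) := Iff.rfl

/-- projection to `A` -/
def rho : D.Ghat →* A := SemidirectProduct.rightHom.comp D.Ghat.subtype

theorem rho_apply (x : D.Ghat) : D.rho x = (x : D.W).right := rfl

/-- the image of `s : S` in the wreath product -/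
def jFun (s : S) : D.W := ⟨fun c => D.ε s ((D.π s)⁻¹ • c), D.π s⟩

theorem jFun_left (s : S) (c : Orb) : (D.jFun s).left c = D.ε s ((D.π s)⁻¹ • c) := rfl

theorem jFun_right (s : S) : (D.jFun s).right = D.π s := rfl

theorem jFun_mem (s : S) : D.jFun s ∈ D.Ghat := by
  intro c
  rw [jFun_left, jFun_right, D.ε_π, smul_inv_smul]

theorem jFun_mul (s s' : S) : D.jFun (s * s') = D.jFun s * D.jFun s' := by
  ext c
  · rw [SemidirectProduct.mul_left]
    show D.ε (s * s') ((D.π (s * s'))⁻¹ • c) =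
      D.ε s ((D.π s)⁻¹ • c) * D.ε s' ((D.π s')⁻¹ • (D.π s)⁻¹ • c)
    rw [D.ε_mul, map_mul, mul_inv_rev, mul_smul, smul_inv_smul]
  · rw [SemidirectProduct.mul_right, jFun_right, jFun_right, jFun_right, map_mul]

/-- the embedding of `S` -/
def j : S →* D.Ghat :=
  MonoidHom.mk' (fun s => ⟨D.jFun s, D.jFun_mem s⟩) (fun a b => Subtype.ext (D.jFun_mul a b))

theorem j_coe (s : S) : ((D.j s : D.Ghat) : D.W) = D.jFun s := rfl

theorem rho_j (s : S) : D.rho (D.j s) = D.π s := rfl

theorem j_injective : Function.Injective D.j := by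
  rw [injective_iff_map_eq_one]
  intro s hs
  have h1 : D.jFun s = 1 := by
    have := congrArg (fun x : D.Ghat => (x : D.W)) hs
    simpa [j_coe] using this
  have h2 : (D.jFun s).right = 1 := by rw [h1]; rfl
  have h3 : (D.jFun s).left D.c₀ = 1 := by rw [h1]; rfl
  rw [jFun_right] at h2
  rw [jFun_left, h2, inv_one, one_smul, D.ε_base] at h3
  exact h3

/-- a retraction of `i` -/
noncomputable def unM (s : S) : M := if h : s ∈ D.i.range then h.choose else 1

theorem unM_i (m : M) : D.unM (D.i m) = m := by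
  have h : D.i m ∈ D.i.range := ⟨m, rfl⟩
  unfold unM
  rw [dif_pos h]
  exact D.i_inj h.choose_spec

theorem i_unM {s : S} (hs : D.π s = 1) : D.i (D.unM s) = s := by
  have h : s ∈ D.i.range := (D.ker_eq s).mp hs
  unfold unM
  rw [dif_pos h]
  exact h.choose_spec

theorem π_i (m : M) : D.π (D.i m) = 1 := (D.ker_eq _).mpr ⟨m, rfl⟩

theorem unM_mul {s s' : S} (hs : D.π s = 1) (hs' : D.π s' = 1) :
    D.unM (s * s') = D.unM s * D.unM s' := by
  apply D.i_inj
  rw [map_mul, D.i_unM hs, D.i_unM hs', D.i_unM (by rw [map_mul, hs, hs', one_mul])]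

theorem unM_conj (v : S) {s : S} (hs : D.π s = 1) :
    D.unM (v * s * v⁻¹) = D.θ (D.π v) (D.unM s) := by
  apply D.i_inj
  rw [D.θ_conj, D.i_unM hs, D.i_unM (by rw [map_mul, map_mul, hs, map_inv]; group)]

theorem left_mem_ker {x : D.W} (hx : x ∈ D.Ghat) (hr : x.right = 1) (c : Orb) :
    D.π (x.left c) = 1 := by
  rw [hx c, hr, inv_one, one_smul]
  group

variable [Fintype Orb]

/-- the twisted product of the coordinates -/
noncomputable def mu (x : D.W) : M := ∏ c, D.θ (D.r c) (D.unM (x.left c))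

theorem mu_mul {x y : D.W} (hx : x ∈ D.Ghat) (hy : y ∈ D.Ghat) (hxr : x.right = 1)
    (hyr : y.right = 1) : D.mu (x * y) = D.mu x * D.mu y := by
  unfold mu
  rw [← Finset.prod_mul_distrib]
  refine Finset.prod_congr rfl (fun c _ => ?_)
  rw [SemidirectProduct.mul_left]
  show D.θ (D.r c) (D.unM (x.left c * (shiftHom x.right) y.left c)) = _
  rw [shiftHom_apply, hxr, inv_one, one_smul, D.unM_mul (D.left_mem_ker hx hxr c)
    (D.left_mem_ker hy hyr c), map_mul]

theorem conj_left (δ γ : D.W) (hγ : γ.right = 1) (c : Orb) :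
    (δ * γ * δ⁻¹).left c = δ.left c * γ.left (δ.right⁻¹ • c) * (δ.left c)⁻¹ := by
  rw [SemidirectProduct.mul_left, SemidirectProduct.mul_left, SemidirectProduct.mul_right,
    SemidirectProduct.inv_left, hγ, mul_one]
  show δ.left c * (shiftHom δ.right) γ.left c *
    (shiftHom δ.right) ((shiftHom δ.right⁻¹) δ.left⁻¹) c = _
  rw [shiftHom_apply, shiftHom_apply, shiftHom_apply, inv_inv, smul_inv_smul]
  rfl

theorem conj_right (δ γ : D.W) (hγ : γ.right = 1) : (δ * γ * δ⁻¹).right = 1 := by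
  rw [SemidirectProduct.mul_right, SemidirectProduct.mul_right, SemidirectProduct.inv_right, hγ,
    mul_one, mul_inv_cancel]

theorem mu_conj {δ γ : D.W} (hδ : δ ∈ D.Ghat) (hγ : γ ∈ D.Ghat) (hγr : γ.right = 1) :
    D.mu (δ * γ * δ⁻¹) = D.θ δ.right (D.mu γ) := by
  unfold mu
  rw [map_prod]
  rw [← Equiv.prod_comp (MulAction.toPerm δ.right⁻¹ : Equiv.Perm Orb)
    (fun c => (D.θ δ.right) ((D.θ (D.r c)) (D.unM (γ.left c))))]
  refine Finset.prod_congr rfl (fun c _ => ?_)
  rw [MulAction.toPerm_apply, D.conj_left δ γ hγr c,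
    D.unM_conj _ (D.left_mem_ker hγ hγr _), hδ c]
  rw [← MulAut.mul_apply, ← MulAut.mul_apply, ← map_mul, ← map_mul]
  congr 2
  group

theorem mu_jFun (m : M) : D.mu (D.jFun (D.i m)) = m ^ Fintype.card Orb := by
  unfold mu
  rw [← Finset.card_univ, ← Finset.prod_const]
  refine Finset.prod_congr rfl (fun c _ => ?_)
  rw [jFun_left, D.π_i, inv_one, one_smul, D.ε_ker, D.unM_i, map_inv, MulAut.inv_apply,
    MulEquiv.apply_symm_apply]

theorem mu_one : D.mu (1 : D.W) = 1 := by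
  unfold mu
  refine Finset.prod_eq_one (fun c _ => ?_)
  have h : D.unM ((1 : D.W).left c) = 1 := by
    have := D.unM_i 1
    rw [map_one] at this
    exact this
  rw [h, map_one]

theorem mu_inv {x : D.W} (hx : x ∈ D.Ghat) (hxr : x.right = 1) : D.mu x⁻¹ = (D.mu x)⁻¹ := by
  have h1 := D.mu_mul hx (D.Ghat.inv_mem hx) hxr (by rw [SemidirectProduct.inv_right, hxr, inv_one])
  rw [mul_inv_cancel, D.mu_one] at h1
  exact eq_inv_of_mul_eq_one_right h1.symm

/-- the `A`-invariant complement to the diagonal copy of `M` in the base group -/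
def AA : Subgroup D.Ghat where
  carrier := {x | D.rho x = 1 ∧ D.mu (x : D.W) = 1}
  one_mem' := ⟨map_one _, D.mu_one⟩
  mul_mem' := by
    rintro x y ⟨hx1, hx2⟩ ⟨hy1, hy2⟩
    refine ⟨by rw [map_mul, hx1, hy1, one_mul], ?_⟩
    show D.mu ((x : D.W) * (y : D.W)) = 1
    rw [D.mu_mul x.2 y.2 hx1 hy1, hx2, hy2, one_mul]
  inv_mem' := by
    rintro x ⟨hx1, hx2⟩
    refine ⟨by rw [map_inv, hx1, inv_one], ?_⟩
    show D.mu ((x : D.W)⁻¹) = 1
    rw [D.mu_inv x.2 hx1, hx2, inv_one]

theorem mem_AA (x : D.Ghat) : x ∈ D.AA ↔ D.rho x = 1 ∧ D.mu (x : D.W) = 1 := Iff.rfl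

instance AA_normal : D.AA.Normal := by
  constructor
  intro x hx δ
  obtain ⟨hx1, hx2⟩ := hx
  refine ⟨by rw [map_mul, map_mul, hx1, mul_one, map_inv, mul_inv_cancel], ?_⟩
  show D.mu ((δ : D.W) * (x : D.W) * (δ : D.W)⁻¹) = 1
  rw [D.mu_conj δ.2 x.2 hx1, hx2, map_one]

theorem comm_of_rho_eq_one {x y : D.Ghat} (hx : D.rho x = 1) (hy : D.rho y = 1) : x * y = y * x := by
  apply Subtype.ext
  show (x : D.W) * (y : D.W) = (y : D.W) * (x : D.W)
  have hxr : (x : D.W).right = 1 := hx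
  have hyr : (y : D.W).right = 1 := hy
  ext c
  · rw [SemidirectProduct.mul_left, SemidirectProduct.mul_left]
    show (x : D.W).left c * (shiftHom (x : D.W).right) (y : D.W).left c =
      (y : D.W).left c * (shiftHom (y : D.W).right) (x : D.W).left c
    rw [shiftHom_apply, shiftHom_apply, hxr, hyr, inv_one, one_smul]
    rw [← D.i_unM (D.left_mem_ker x.2 hxr c), ← D.i_unM (D.left_mem_ker y.2 hyr c), ← map_mul,
      ← map_mul, mul_comm]
  · rw [SemidirectProduct.mul_right, SemidirectProduct.mul_right, hxr, hyr]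

instance AA_comm : IsMulCommutative D.AA := by
  refine ⟨⟨fun x y => ?_⟩⟩
  apply Subtype.ext
  show (x : D.Ghat) * (y : D.Ghat) = (y : D.Ghat) * (x : D.Ghat)
  exact D.comm_of_rho_eq_one x.2.1 y.2.1

/-- the image of `S` -/
def KK : Subgroup D.Ghat := D.j.range

/-- the preimage of `π(S)` -/
def TT : Subgroup D.Ghat := (D.π.range).comap D.rho

theorem KK_le_TT : D.KK ≤ D.TT := by
  rintro _ ⟨s, rfl⟩
  exact ⟨s, rfl⟩

theorem AA_le_TT : D.AA ≤ D.TT := by
  intro x hx
  show D.rho x ∈ D.π.range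
  rw [hx.1]
  exact one_mem _

theorem exists_yhat (a : A) : ∃ (ŷ : D.Ghat) (φ : S → S), D.rho ŷ = a ∧
    ∀ s, a⁻¹ * D.π s * a ∈ D.π.range → ŷ⁻¹ * D.j s * ŷ = D.j (φ s) := by
  obtain ⟨y, φ, hy, hφ⟩ := D.stable a
  have hmem : (⟨fun c => y (a⁻¹ • c), a⟩ : D.W) ∈ D.Ghat := by
    intro c
    show D.π (y (a⁻¹ • c)) = (D.r c)⁻¹ * a * D.r (a⁻¹ • c)
    rw [hy, smul_inv_smul]
  refine ⟨⟨_, hmem⟩, φ, rfl, fun s hs => ?_⟩
  obtain ⟨h1, h2⟩ := hφ s hs
  have key : (⟨_, hmem⟩ : D.Ghat) * D.j (φ s) = D.j s * ⟨_, hmem⟩ := by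
    apply Subtype.ext
    show (⟨fun c => y (a⁻¹ • c), a⟩ : D.W) * D.jFun (φ s) = D.jFun s * ⟨fun c => y (a⁻¹ • c), a⟩
    ext c
    · rw [SemidirectProduct.mul_left, SemidirectProduct.mul_left]
      show y (a⁻¹ • c) * (shiftHom a) (D.jFun (φ s)).left c =
        (D.jFun s).left c * (shiftHom (D.jFun s).right) (fun c => y (a⁻¹ • c)) c
      rw [shiftHom_apply, shiftHom_apply, jFun_left, jFun_left, jFun_right]
      have hc' : (D.π (φ s))⁻¹ • a⁻¹ • c = a⁻¹ • (D.π s)⁻¹ • c := by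
        rw [h1, ← mul_smul, ← mul_smul]
        congr 1
        group
      have h3 := h2 ((D.π (φ s))⁻¹ • a⁻¹ • c)
      rw [smul_inv_smul] at h3
      rw [h3, hc', smul_inv_smul]
    · rw [SemidirectProduct.mul_right, SemidirectProduct.mul_right, jFun_right, jFun_right, h1]
      show a * (a⁻¹ * D.π s * a) = D.π s * a
      group
  rw [mul_assoc, ← key, inv_mul_cancel_left]

theorem rho_surjective : Function.Surjective D.rho := by
  intro a
  obtain ⟨ŷ, _, h, _⟩ := D.exists_yhat a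
  exact ⟨ŷ, h⟩

theorem stabilizer_eq : MulAction.stabilizer A D.c₀ = D.π.range := by
  ext a
  rw [MulAction.mem_stabilizer_iff]
  exact D.stab a

include D in
theorem isPretransitive : MulAction.IsPretransitive A Orb := by
  constructor
  intro x y
  refine ⟨D.r y * (D.r x)⁻¹, ?_⟩
  rw [mul_smul]
  have h1 : (D.r x)⁻¹ • x = D.c₀ := by
    rw [inv_smul_eq_iff, D.r_smul]
  rw [h1, D.r_smul]

theorem TT_index : D.TT.index = Nat.card Orb := by
  unfold TT
  rw [Subgroup.index_comap_of_surjective _ D.rho_surjective, ← D.stabilizer_eq]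
  have := D.isPretransitive
  exact MulAction.index_stabilizer_of_transitive A D.c₀

section Main

variable [Finite S] [Finite A]

theorem KK_inf_AA (hM : (Nat.card M).Coprime (Fintype.card Orb)) : D.KK ⊓ D.AA = ⊥ := by
  rw [eq_bot_iff]
  rintro x ⟨⟨s, rfl⟩, h1, h2⟩
  rw [Subgroup.mem_bot]
  have hs : D.π s = 1 := h1
  obtain ⟨m, rfl⟩ := (D.ker_eq s).mp hs
  have h3 : m ^ Fintype.card Orb = 1 := by
    rw [← D.mu_jFun]
    exact h2
  have h4 : m = 1 := by
    apply (powCoprime hM).injective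
    show m ^ Fintype.card Orb = 1 ^ Fintype.card Orb
    rw [h3, one_pow]
  rw [h4, map_one, map_one]

theorem TT_decomp (hM : (Nat.card M).Coprime (Fintype.card Orb)) :
    ∀ t ∈ D.TT, ∃ a ∈ D.AA, ∃ k ∈ D.KK, t = a * k := by
  intro t ht
  obtain ⟨s, hs⟩ := ht
  have hn₀ : D.rho (t * (D.j s)⁻¹) = 1 := by
    rw [map_mul, map_inv, D.rho_j, hs, mul_inv_cancel]
  obtain ⟨m, hm⟩ := (powCoprime hM).surjective (D.mu ((t * (D.j s)⁻¹ : D.Ghat) : D.W))
  have hm' : m ^ Fintype.card Orb = D.mu ((t * (D.j s)⁻¹ : D.Ghat) : D.W) := hm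
  have hjr : D.rho (D.j (D.i m)) = 1 := by rw [D.rho_j, D.π_i]
  refine ⟨t * (D.j s)⁻¹ * (D.j (D.i m))⁻¹, ⟨?_, ?_⟩, D.j (D.i m) * D.j s,
    ⟨D.i m * s, map_mul _ _ _⟩, ?_⟩
  · rw [map_mul, map_inv, hn₀, hjr, inv_one, mul_one]
  · show D.mu (((t * (D.j s)⁻¹ : D.Ghat) : D.W) * ((D.j (D.i m) : D.Ghat) : D.W)⁻¹) = 1
    have hjr' : ((D.j (D.i m) : D.Ghat) : D.W).right = 1 := hjr
    rw [D.mu_mul (t * (D.j s)⁻¹).2 (D.Ghat.inv_mem (D.j (D.i m)).2) hn₀
      (by rw [SemidirectProduct.inv_right, hjr', inv_one]),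
      D.mu_inv (D.j (D.i m)).2 hjr', j_coe, D.mu_jFun, ← hm', mul_inv_cancel]
  · group

theorem isPGroup_AA (p : ℕ) [Fact p.Prime] (hS : IsPGroup p S) : IsPGroup p D.AA := by
  have : Finite Orb := Finite.of_fintype Orb
  obtain ⟨k, hk⟩ := IsPGroup.iff_card.mp hS
  have hP : IsPGroup p (Orb → S) := by
    apply IsPGroup.of_card (n := k * Nat.card Orb)
    rw [Nat.card_fun, hk, pow_mul]
  -- the map `x ↦ x.left` on the kernel of `rho`
  let f : D.AA →* (Orb → S) :=
    { toFun := fun x => ((x : D.Ghat) : D.W).left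
      map_one' := rfl
      map_mul' := by
        intro x y
        show (((x : D.Ghat) : D.W) * ((y : D.Ghat) : D.W)).left = _
        rw [SemidirectProduct.mul_left]
        have hxr : ((x : D.Ghat) : D.W).right = 1 := x.2.1
        rw [hxr, map_one]
        rfl }
  refine hP.of_injective f ?_
  intro x y hxy
  apply Subtype.ext
  apply Subtype.ext
  have hxr : ((x : D.Ghat) : D.W).right = 1 := x.2.1
  have hyr : ((y : D.Ghat) : D.W).right = 1 := y.2.1
  ext c
  · exact congrFun hxy c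
  · rw [hxr, hyr]

theorem stable_hyp (hM : (Nat.card M).Coprime (Fintype.card Orb)) :
    ∀ x : D.Ghat, ∃ a ∈ D.AA, ∀ k ∈ D.KK, x⁻¹ * k * x ∈ D.TT → (x * a)⁻¹ * k * (x * a) ∈ D.KK := by
  intro x
  obtain ⟨ŷ, φ, hŷ, hrel⟩ := D.exists_yhat (D.rho x)
  -- `x⁻¹ ŷ` lies over `1`
  have hT : x⁻¹ * ŷ ∈ D.TT := by
    show D.rho (x⁻¹ * ŷ) ∈ D.π.range
    rw [map_mul, map_inv, hŷ, inv_mul_cancel]
    exact one_mem _
  obtain ⟨a, ha, k₀, ⟨m₀, rfl⟩, hak⟩ := D.TT_decomp hM _ hT
  refine ⟨a, ha, ?_⟩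
  rintro _ ⟨s, rfl⟩ hs
  have hs' : (D.rho x)⁻¹ * D.π s * D.rho x ∈ D.π.range := by
    have : D.rho (x⁻¹ * D.j s * x) ∈ D.π.range := hs
    rwa [map_mul, map_mul, map_inv, D.rho_j] at this
  have h1 := hrel s hs'
  have hxa : x * a = ŷ * (D.j m₀)⁻¹ := by
    have : ŷ = x * (a * D.j m₀) := by rw [← hak]; group
    rw [this]; group
  refine ⟨m₀ * φ s * m₀⁻¹, ?_⟩
  rw [hxa, map_mul, map_mul, map_inv, ← h1]
  group

end Main

/-- **Abstract model construction.** -/
theorem exists_model {S A M Orb : Type u} [Group S] [Group A] [CommGroup M] [MulAction A Orb]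
    [Finite S] [Finite A] [Finite Orb] (p : ℕ) [Fact p.Prime] (hS : IsPGroup p S)
    (hcop : ¬ p ∣ Nat.card Orb) (D : Setup S A M Orb) :
    ∃ (G : Type u) (_ : Group G) (_ : Finite G) (ι : S →* G) (ρ : G →* A),
      Function.Injective ι ∧ Function.Surjective ρ ∧ (∀ s, ρ (ι s) = D.π s) ∧
      (∀ g, ρ g ∈ D.π.range → g ∈ ι.range) ∧
      ∀ g : G, ∃ (c : Orb) (v : S), ρ g = D.π v * (D.r c)⁻¹ ∧
        ∀ x x' : S, g * ι x * g⁻¹ = ι x' → D.π x • c = c ∧ x' = v * D.ε x c * v⁻¹ := by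
  haveI : Fintype Orb := Fintype.ofFinite Orb
  have hcard : Fintype.card Orb = Nat.card Orb := (Nat.card_eq_fintype_card).symm
  -- `M` is a finite `p`-group
  have : Finite M := Finite.of_injective D.i D.i_inj
  have hMp : IsPGroup p M := hS.of_injective D.i D.i_inj
  obtain ⟨kM, hkM⟩ := IsPGroup.iff_card.mp hMp
  have hpc : (p : ℕ).Coprime (Nat.card Orb) :=
    (Nat.Prime.coprime_iff_not_dvd (Fact.out : p.Prime)).mpr hcop
  have hM : (Nat.card M).Coprime (Fintype.card Orb) := by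
    rw [hkM, hcard]
    exact Nat.Coprime.pow_left _ hpc
  -- finiteness of the wreath product
  have : Finite D.W := Finite.of_equiv _ SemidirectProduct.equivProd.symm
  have : Finite D.Ghat := inferInstance
  -- coprimality for the relative Gaschütz theorem
  have hcopA : (Nat.card D.AA).Coprime D.TT.index := by
    obtain ⟨kA, hkA⟩ := IsPGroup.iff_card.mp (D.isPGroup_AA p hS)
    rw [hkA, D.TT_index]
    exact Nat.Coprime.pow_left _ hpc
  obtain ⟨H, hKH, hHA, hHsurj⟩ :=
    Cfsg.Agent.Lib.Helper87.exists_complement_of_stable D.AA D.KK_le_TT (D.KK_inf_AA hM)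
      (D.TT_decomp hM) D.AA_le_TT hcopA (D.stable_hyp hM)
  have hjH : ∀ s, D.j s ∈ H := fun s => hKH ⟨s, rfl⟩
  refine ⟨H, inferInstance, inferInstance, D.j.codRestrict H hjH, D.rho.comp H.subtype, ?_, ?_, ?_, ?_, ?_⟩
  · -- injective
    intro s s' h
    apply D.j_injective
    exact congrArg (fun z : H => (z : D.Ghat)) h
  · -- surjective
    intro a
    obtain ⟨x, hx⟩ := D.rho_surjective a
    obtain ⟨a', ha', h, hh, rfl⟩ := hHsurj x
    refine ⟨⟨h, hh⟩, ?_⟩
    show D.rho h = a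
    rw [← hx, map_mul, ha'.1, one_mul]
  · intro s
    rfl
  · -- the preimage of `π(S)` is the image of `S`
    rintro ⟨g, hg⟩ ⟨s, hs⟩
    have hs' : D.π s = D.rho g := hs
    have hn : g * (D.j s)⁻¹ ∈ D.TT := by
      show D.rho (g * (D.j s)⁻¹) ∈ D.π.range
      rw [map_mul, map_inv, D.rho_j, hs', mul_inv_cancel]
      exact one_mem _
    obtain ⟨a', ha', k, hk, hak⟩ := D.TT_decomp hM _ hn
    have ha'H : a' ∈ H := by
      have : a' = g * (D.j s)⁻¹ * k⁻¹ := by rw [hak]; group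
      rw [this]
      exact H.mul_mem (H.mul_mem hg (H.inv_mem (hjH s))) (H.inv_mem (hKH hk))
    have ha'1 : a' = 1 := by
      have : a' ∈ H ⊓ D.AA := ⟨ha'H, ha'⟩
      rwa [hHA, Subgroup.mem_bot] at this
    obtain ⟨s₁, rfl⟩ := hk
    refine ⟨s₁ * s, ?_⟩
    apply Subtype.ext
    show D.j (s₁ * s) = g
    rw [map_mul]
    have : g = a' * D.j s₁ * D.j s := by rw [← hak]; group
    rw [this, ha'1, one_mul]
  · -- realization
    rintro ⟨⟨x, hxG⟩, hxH⟩
    refine ⟨x.right⁻¹ • D.c₀, x.left D.c₀, ?_, ?_⟩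
    · show x.right = _
      have h1 := hxG D.c₀
      rw [D.r_base, inv_one, one_mul] at h1
      rw [h1]
      group
    · intro x₁ x₂ h
      have h' : x * D.jFun x₁ = D.jFun x₂ * x := by
        have h2 : (⟨⟨x, hxG⟩, hxH⟩ : H) * (D.j.codRestrict H hjH) x₁ =
            (D.j.codRestrict H hjH) x₂ * ⟨⟨x, hxG⟩, hxH⟩ := by
          rw [← h]; group
        have h3 := congrArg (fun z : H => ((z : D.Ghat) : D.W)) h2
        exact h3
      have hr : x.right * D.π x₁ = D.π x₂ * x.right := by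
        have := congrArg SemidirectProduct.right h'
        rwa [SemidirectProduct.mul_right, SemidirectProduct.mul_right, jFun_right, jFun_right] at this
      have hfix2 : (D.π x₂)⁻¹ • D.c₀ = D.c₀ := by
        rw [inv_smul_eq_iff, eq_comm, D.stab]
        exact ⟨x₂, rfl⟩
      have hfix1 : D.π x₁ • x.right⁻¹ • D.c₀ = x.right⁻¹ • D.c₀ := by
        have e : D.π x₁ * x.right⁻¹ = x.right⁻¹ * D.π x₂ := by
          have : D.π x₁ = x.right⁻¹ * D.π x₂ * x.right := by rw [mul_assoc, ← hr]; group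
          rw [this]; group
        rw [← mul_smul, e, mul_smul]
        congr 1
        exact (D.stab _).mpr ⟨x₂, rfl⟩
      refine ⟨hfix1, ?_⟩
      have hl := congrFun (congrArg SemidirectProduct.left h') D.c₀
      rw [SemidirectProduct.mul_left, SemidirectProduct.mul_left] at hl
      have hl' : x.left D.c₀ * (D.jFun x₁).left (x.right⁻¹ • D.c₀) =
          (D.jFun x₂).left D.c₀ * x.left ((D.jFun x₂).right⁻¹ • D.c₀) := hl
      rw [jFun_left, jFun_left, jFun_right, hfix2, D.ε_base] at hl'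
      have hfix1' : (D.π x₁)⁻¹ • x.right⁻¹ • D.c₀ = x.right⁻¹ • D.c₀ := by
        rw [inv_smul_eq_iff, hfix1]
      rw [hfix1'] at hl'
      rw [hl']
      group

end Setup

end Cfsg.Agent.Lib.Helper90.ModelExist
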