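import Mathlib
import Cfsg.Agent.Lib.Helper01.ActionSD
import Cfsg.Agent.Lib.Helper55.CoprimeGen
import Cfsg.Agent.Lib.Helper81.AbelianStruct

set_option autoImplicit false

/-! Coprime action of a subgroup `K ≤ Aut(P)` on a finite `p`-group `P` (types, not ambient subgroups):
`P = C_P(K) [P,K]` in the form `⊤ ≤ fixedSub K ⊔ Q` whenever `[P,K] ≤ Q`; a Frattini-type lemma for a
self-normalizing Sylow subgroup; an abelian group acting fixed-point-freely modulo a normal subgroup is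
cyclic (quotient form, via the coprime generation lemma); surjectivity of `κ ↦ [κ, t]` for fixed-point-free `t`. -/

namespace Cfsg.Agent.Lib.Helper90

open SemidirectProduct
open Cfsg.Agent.Lib.Helper01

/-- The fixed points of a group of automorphisms. -/
def fixedSub {P : Type*} [Group P] (K : Subgroup (MulAut P)) : Subgroup P where
  carrier := {x | ∀ κ ∈ K, κ x = x}
  one_mem' := fun κ _ => map_one κ
  mul_mem' := fun {a b} ha hb κ hκ => by rw [map_mul, ha κ hκ, hb κ hκ]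
  inv_mem' := fun {a} ha κ hκ => by rw [map_inv, ha κ hκ]

theorem mem_fixedSub {P : Type*} [Group P] {K : Subgroup (MulAut P)} {x : P} :
    x ∈ fixedSub K ↔ ∀ κ ∈ K, κ x = x := Iff.rfl

/-- Coprime action: `P = C_P(K) Q` whenever `[P, K] ≤ Q`. -/
theorem top_le_fixedSub_sup {P : Type*} [Group P] [Finite P] {p : ℕ} [Fact p.Prime] (hP : IsPGroup p P)
    (K : Subgroup (MulAut P)) (hK : (Nat.card K).Coprime p) (Q : Subgroup P)
    (hQ : ∀ κ ∈ K, ∀ x : P, x⁻¹ * κ x ∈ Q) : ⊤ ≤ fixedSub K ⊔ Q := by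
  classical
  set R : Subgroup (SD K P) := (inl : P →* SD K P).range with hR
  set B : Subgroup (SD K P) := (inr : K →* SD K P).range with hB
  have hBR : B ≤ Subgroup.normalizer (R : Set (SD K P)) := by
    rw [Subgroup.normalizer_eq_top]; exact le_top
  obtain ⟨n, hn⟩ := IsPGroup.iff_card.mp hP
  have hcop : (Nat.card R).Coprime (Nat.card B) := by
    rw [hR, hB, sd_card_range_inl, sd_card_range_inr, hn]
    exact Nat.Coprime.pow_left n hK.symm
  have hsolvP : Group.IsSolvable P := by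
    haveI := hP.isNilpotent
    infer_instance
  have hsolv : Group.IsSolvable R := by
    rw [hR]
    exact Group.isSolvable_of_surjective (f := (inl : P →* SD K P).rangeRestrict)
      (MonoidHom.rangeRestrict_surjective _)
  have hmain := Cfsg.Agent.Lib.Helper32.le_centralizer_sup_commutator hBR hcop (Or.inl hsolv)
  have hcl : ⁅R, B⁆ ≤ R := Subgroup.commutator_le_left R B
  have h1 : (R ⊓ Subgroup.centralizer (B : Set (SD K P))).comap inl ⊔ (⁅R, B⁆).comap inl
      = ((R ⊓ Subgroup.centralizer (B : Set (SD K P))) ⊔ ⁅R, B⁆).comap inl :=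
    Subgroup.comap_sup_eq_of_le_range _ inf_le_left hcl
  have h2 : (⊤ : Subgroup P) ≤ ((R ⊓ Subgroup.centralizer (B : Set (SD K P))) ⊔ ⁅R, B⁆).comap inl := by
    intro x _
    exact hmain ⟨x, rfl⟩
  rw [← h1] at h2
  refine h2.trans (sup_le_sup ?_ ?_)
  · intro x hx
    have hx' : (inl x : SD K P) ∈ Subgroup.centralizer (B : Set (SD K P)) := hx.2
    have := (sd_mem_centralizer_iff (A := K) (G := P) x).mp hx'
    intro κ hκ
    exact this ⟨κ, hκ⟩
  · rw [hR, hB, sd_commutator_eq, Subgroup.comap_map_eq_self_of_injective inl_injective]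
    unfold actComm
    rw [Subgroup.closure_le]
    rintro _ ⟨a, g, rfl⟩
    exact hQ a a.2 g

/-- Frattini argument: a normal subgroup containing a self-normalizing Sylow subgroup is everything. -/
theorem eq_top_of_sylow_le_of_selfNormalizing {X : Type*} [Group X] [Finite X] {p : ℕ} [Fact p.Prime]
    (R : Sylow p X) (N : Subgroup X) [N.Normal] (hRN : (R : Subgroup X) ≤ N)
    (hself : Subgroup.normalizer ((R : Subgroup X) : Set X) ≤ R) : N = ⊤ := by
  have h := Sylow.normalizer_sup_eq_top (R.subtype hRN)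
  have h2 : Subgroup.map N.subtype ((R.subtype hRN : Sylow p N) : Subgroup N) = (R : Subgroup X) := by
    rw [Sylow.coe_subtype, Subgroup.subgroupOf_map_subtype, inf_eq_left.mpr hRN]
  rw [h2] at h
  rw [← h]
  exact (sup_eq_right.mpr (hself.trans hRN)).symm

/-- If `t` normalizes the finite subgroup `K` and centralizes no nontrivial element of it, every element of
`K` is a commutator `κ'⁻¹ t⁻¹ κ' t`. -/
theorem exists_comm_eq {X : Type*} [Group X] (K : Subgroup X) [Finite K] (t : X)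
    (hn : ∀ κ ∈ K, t⁻¹ * κ * t ∈ K) (hf : ∀ κ ∈ K, κ * t = t * κ → κ = 1) :
    ∀ κ ∈ K, ∃ κ' ∈ K, κ = κ'⁻¹ * t⁻¹ * κ' * t := by
  let f : K → K := fun κ' => ⟨(κ' : X)⁻¹ * (t⁻¹ * κ' * t), K.mul_mem (K.inv_mem κ'.2) (hn _ κ'.2)⟩
  have hinj : Function.Injective f := by
    intro a b hab
    have h1 : (a : X)⁻¹ * (t⁻¹ * a * t) = (b : X)⁻¹ * (t⁻¹ * b * t) := congrArg Subtype.val hab
    have h2 : ((b : X) * (a : X)⁻¹) * t = t * ((b : X) * (a : X)⁻¹) := by
      have h3 : (a : X)⁻¹ * t⁻¹ * a = (b : X)⁻¹ * t⁻¹ * b := by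
        have := congrArg (fun z => z * t⁻¹) h1
        simpa [mul_assoc] using this
      have h4 : t⁻¹ * ((a : X) * (b : X)⁻¹) = ((a : X) * (b : X)⁻¹) * t⁻¹ := by
        calc t⁻¹ * ((a : X) * (b : X)⁻¹) = a * ((a : X)⁻¹ * t⁻¹ * a) * (b : X)⁻¹ := by group
          _ = a * ((b : X)⁻¹ * t⁻¹ * b) * (b : X)⁻¹ := by rw [h3]
          _ = ((a : X) * (b : X)⁻¹) * t⁻¹ := by group
      have h5 : ((a : X) * (b : X)⁻¹) * t = t * ((a : X) * (b : X)⁻¹) := by
        calc ((a : X) * (b : X)⁻¹) * t = t * (t⁻¹ * ((a : X) * (b : X)⁻¹)) * t := by group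
          _ = t * (((a : X) * (b : X)⁻¹) * t⁻¹) * t := by rw [h4]
          _ = t * ((a : X) * (b : X)⁻¹) := by group
      have h6 : ((a : X) * (b : X)⁻¹)⁻¹ * t = t * ((a : X) * (b : X)⁻¹)⁻¹ := by
        calc ((a : X) * (b : X)⁻¹)⁻¹ * t
            = ((a : X) * (b : X)⁻¹)⁻¹ * (t * ((a : X) * (b : X)⁻¹)) * ((a : X) * (b : X)⁻¹)⁻¹ := by group
          _ = ((a : X) * (b : X)⁻¹)⁻¹ * (((a : X) * (b : X)⁻¹) * t) * ((a : X) * (b : X)⁻¹)⁻¹ := by rw [h5]
          _ = t * ((a : X) * (b : X)⁻¹)⁻¹ := by group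
      have e : ((a : X) * (b : X)⁻¹)⁻¹ = (b : X) * (a : X)⁻¹ := by group
      rw [e] at h6
      exact h6
    have h5 := hf _ (K.mul_mem b.2 (K.inv_mem a.2)) h2
    have : (b : X) = a := by
      have := congrArg (fun z => z * (a : X)) h5
      simpa using this
    exact Subtype.ext this.symm
  have hsurj := Finite.injective_iff_surjective.mp hinj
  intro κ hκ
  obtain ⟨κ', hκ'⟩ := hsurj ⟨κ, hκ⟩
  refine ⟨κ', κ'.2, ?_⟩
  have := congrArg Subtype.val hκ'
  simp only [f] at this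
  rw [← this]; group

/-- Cyclic-or-trivial dichotomy: `R` a `p`-subgroup, abelian modulo the normal subgroup `I ≤ R`, `K` a normal
`p'`-subgroup meeting `R` trivially, and every element of `R` outside `I` centralizes no nontrivial element of
`K`. Then `K = ⊥` or `R / I` is cyclic. -/
theorem eq_bot_or_cyclic_mod {X : Type*} [Group X] [Finite X] {p : ℕ} [Fact p.Prime]
    (R I K : Subgroup X) [hI : I.Normal] [hKn : K.Normal] (hIR : I ≤ R) (hKR : K ⊓ R = ⊥)
    (hK : (Nat.card K).Coprime p) (hRp : IsPGroup p R)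
    (hcomm : ∀ a ∈ R, ∀ b ∈ R, a * b * a⁻¹ * b⁻¹ ∈ I)
    (hfpf : ∀ κ ∈ K, κ ≠ 1 → ∀ t ∈ R, κ * t = t * κ → t ∈ I) :
    K = ⊥ ∨ ∃ t₀ ∈ R, ∀ t ∈ R, ∃ n : ℤ, (t₀ ^ n)⁻¹ * t ∈ I := by
  classical
  have hp : p.Prime := Fact.out
  set π : X →* X ⧸ I := QuotientGroup.mk' I with hπ
  have hπsurj : Function.Surjective π := QuotientGroup.mk'_surjective I
  set Tb : Subgroup (X ⧸ I) := R.map π with hTb
  set Kb : Subgroup (X ⧸ I) := K.map π with hKb
  have hπeq : ∀ a b : X, π a = π b ↔ a⁻¹ * b ∈ I := fun a b => QuotientGroup.eq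
  have hTbcomm : ∀ a ∈ Tb, ∀ b ∈ Tb, a * b = b * a := by
    rintro _ ⟨a, ha, rfl⟩ _ ⟨b, hb, rfl⟩
    rw [← map_mul, ← map_mul, hπeq]
    have := hcomm b⁻¹ (R.inv_mem hb) a⁻¹ (R.inv_mem ha)
    have e : (a * b)⁻¹ * (b * a) = b⁻¹ * a⁻¹ * b⁻¹⁻¹ * a⁻¹⁻¹ := by group
    rw [e]
    exact this
  have : IsMulCommutative Tb := ⟨⟨fun a b => Subtype.ext (hTbcomm a a.2 b b.2)⟩⟩
  have hTbp : IsPGroup p Tb := hRp.map π
  have hKbot : Kb ≤ Tb → K = ⊥ := by
    intro hle
    rw [eq_bot_iff]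
    intro κ hκ
    have h1 : π κ ∈ Tb := hle ⟨κ, hκ, rfl⟩
    obtain ⟨t, ht, hte⟩ := h1
    have h2 : t⁻¹ * κ ∈ I := (hπeq t κ).mp hte
    have h3 : κ ∈ R := by
      have := R.mul_mem ht (hIR h2)
      simpa using this
    have : κ ∈ K ⊓ R := ⟨hκ, h3⟩
    rwa [hKR] at this
  by_cases hcyc : IsCyclic Tb
  · right
    obtain ⟨g, hg⟩ := hcyc.exists_generator
    obtain ⟨t₀, ht₀, hgt⟩ := g.2
    refine ⟨t₀, ht₀, fun t ht => ?_⟩
    have hmem := hg ⟨π t, ⟨t, ht, rfl⟩⟩
    obtain ⟨n, hn⟩ := Subgroup.mem_zpowers_iff.mp hmem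
    refine ⟨n, ?_⟩
    have h1 : π (t₀ ^ n) = π t := by
      have := congrArg Subtype.val hn
      rw [map_zpow, hgt]
      simpa using this
    exact (hπeq _ _).mp h1
  · left
    apply hKbot
    obtain ⟨q, hq, E, hET, hEexp, hEcard⟩ := Cfsg.Agent.Lib.Helper81.exists_exponent_prime_subgroup Tb hcyc
    -- q = p
    have hqp : q = p := by
      have h1 : 1 < Nat.card E := by
        have : 2 ^ 2 ≤ q ^ 2 := Nat.pow_le_pow_left hq.two_le 2
        omega
      have : Finite E := Nat.finite_of_card_ne_zero (by omega)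
      have hnt : Nontrivial E := Finite.one_lt_card_iff_nontrivial.mp h1
      obtain ⟨e, he⟩ := exists_ne (1 : E)
      have he1 : (e : X ⧸ I) ≠ 1 := fun h => he (Subtype.ext h)
      have heq : (e : X ⧸ I) ^ q = 1 := hEexp e e.2
      have hord : orderOf (e : X ⧸ I) = q := by
        have hdvd := orderOf_dvd_of_pow_eq_one heq
        rcases (Nat.dvd_prime hq).mp hdvd with h | h
        · exact absurd (orderOf_eq_one_iff.mp h) he1
        · exact h
      obtain ⟨k, hk⟩ := hTbp ⟨(e : X ⧸ I), hET e.2⟩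
      have hk' : (e : X ⧸ I) ^ (p ^ k) = 1 := by
        have := congrArg Subtype.val hk
        simpa using this
      have hdvd2 : q ∣ p ^ k := hord ▸ orderOf_dvd_of_pow_eq_one hk'
      exact (Nat.prime_dvd_prime_iff_eq hq hp).mp (hq.dvd_of_dvd_pow hdvd2)
    subst hqp
    have hKbn : Kb.Normal := hKn.map π hπsurj
    refine (Cfsg.Agent.Lib.Helper55.le_of_centralizers_le (p := q) (A := E) (N := Kb) (H := E)
      (fun a ha b hb => hTbcomm a (hET ha) b (hET hb)) hEexp hEcard ?_ ?_ le_rfl ?_).trans hET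
    · exact Nat.Coprime.coprime_dvd_left (Subgroup.card_map_dvd K π) hK
    · rw [Subgroup.normalizer_eq_top]; exact le_top
    · intro a ha ha1 n hn
      obtain ⟨⟨κ, hκ, rfl⟩, hcn⟩ := hn
      obtain ⟨t, ht, rfl⟩ := hET ha
      have hcn : π κ * π t = π t * π κ := Subgroup.mem_centralizer_singleton_iff.mp hcn
      rw [← map_mul, ← map_mul, hπeq] at hcn
      have hw : (κ * t)⁻¹ * (t * κ) ∈ K := by
        have e : (κ * t)⁻¹ * (t * κ) = (t⁻¹ * κ⁻¹ * t⁻¹⁻¹) * κ := by group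
        rw [e]
        exact K.mul_mem (hKn.conj_mem _ (K.inv_mem hκ) t⁻¹) hκ
      have hw1 : (κ * t)⁻¹ * (t * κ) = 1 := by
        have : (κ * t)⁻¹ * (t * κ) ∈ K ⊓ R := ⟨hw, hIR hcn⟩
        rwa [hKR, Subgroup.mem_bot] at this
      have hct : κ * t = t * κ := by
        have := congrArg (fun z => (κ * t) * z) hw1
        have h' : t * κ = κ * t := by simpa [mul_assoc] using this
        exact h'.symm
      by_cases hκ1 : κ = 1
      · rw [hκ1, map_one]; exact E.one_mem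
      · exfalso
        apply ha1
        have := hfpf κ hκ hκ1 t ht hct
        exact (QuotientGroup.eq_one_iff t).mpr this

end Cfsg.Agent.Lib.Helper90
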