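import Mathlib
import Cfsg.Agent.Lib.Helper90.CoprimeFix
import Cfsg.Agent.Lib.Helper90.FusionAut
import Cfsg.Agent.Lib.Helper87.FusionBasic
import Cfsg.Agent.Lib.Helper68.TateSpecial
import Cfsg.Agent.Lib.Helper04.CoprimeAut

set_option autoImplicit false

/-! A Tate-type theorem for groups of automorphisms: `P ⊴ S` finite `p`-groups, `S' ≤ Q ≤ Φ(S)`, `Q ≤ P`,
`A ≤ Aut(P)` containing `Aut_S(P)` as a Sylow `p`-subgroup, preserving `Q`, such that `Aut_S(P)` is a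
TI-subgroup of `A` modulo `Inn(P)`. Then `A = Aut_S(P)`. -/

namespace Cfsg.Agent.Lib.Helper90

open Cfsg Cfsg.FusionSystem
open scoped Pointwise commutatorElement

variable {Ω : Type*} [Group Ω]

/-- The conjugation action of `S` on a subgroup `P` that it normalizes. -/
noncomputable def conjAutHom {S P : Subgroup Ω} (hSN : S ≤ Subgroup.normalizer (P : Set Ω)) : S →* MulAut P :=
  P.normalizerMonoidHom.comp (Subgroup.inclusion hSN)

theorem conjAutHom_apply {S P : Subgroup Ω} (hSN : S ≤ Subgroup.normalizer (P : Set Ω)) (g : S) (x : P) :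
    ((conjAutHom hSN g x : P) : Ω) = (g : Ω) * x * (g : Ω)⁻¹ := rfl

theorem autInducedBy_eq_range {S P : Subgroup Ω} (hSN : S ≤ Subgroup.normalizer (P : Set Ω)) :
    autInducedBy S P = (conjAutHom hSN).range := by
  ext α
  rw [mem_autInducedBy_iff]
  constructor
  · rintro ⟨g, hg, h⟩
    exact ⟨⟨g, hg⟩, MulEquiv.ext fun x => Subtype.ext (h x).symm⟩
  · rintro ⟨g, rfl⟩
    exact ⟨g, g.2, fun x => rfl⟩

/-- The endgame: a `p'`-group `K'` of automorphisms of `P` with `[P, K'] ≤ Q ≤ Φ(S)`, normalized by the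
conjugation `t₀` by `s`, where `S = ⟨s⟩ P` and `t₀` centralizes no nontrivial element of `K'`, is trivial. -/
theorem eq_bot_of_cyclic_quotient {S P Q : Subgroup Ω} [Finite S] {p : ℕ} [Fact p.Prime] (hS : IsPGroup p S)
    (hPS : P ≤ S) (h2 : Q ≤ (frattini S).map S.subtype)
    (K' : Subgroup (MulAut P)) (hK' : (Nat.card K').Coprime p)
    (s : Ω) (hs : s ∈ S) (t₀ : MulAut P) (ht₀ : ∀ x : P, ((t₀ x : P) : Ω) = s * x * s⁻¹)
    (e1 : S ≤ Subgroup.zpowers s ⊔ P)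
    (e2 : ∀ κ ∈ K', t₀⁻¹ * κ * t₀ ∈ K' ∧ t₀ * κ * t₀⁻¹ ∈ K')
    (e3 : ∀ κ ∈ K', κ * t₀ = t₀ * κ → κ = 1)
    (e4 : ∀ κ ∈ K', ∀ x : P, ((x⁻¹ * κ x : P) : Ω) ∈ Q) : K' = ⊥ := by
  classical
  have hPfin : Finite P := Cfsg.Agent.Lib.Helper87.finite_of_le hPS
  have hPp : IsPGroup p P := hS.to_le hPS
  have hQS : Q ≤ S := h2.trans (Subgroup.map_subtype_le _)
  set D : Subgroup P := fixedSub K' with hD
  set C : Subgroup Ω := D.map P.subtype with hC
  have hCP : C ≤ P := Subgroup.map_subtype_le _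
  have hmemC : ∀ x : P, (x : Ω) ∈ C ↔ x ∈ D := fun x =>
    Subgroup.mem_map_iff_mem P.subtype_injective
  -- inverse of t₀
  have ht₀' : ∀ x : P, ((t₀⁻¹ x : P) : Ω) = s⁻¹ * x * s := by
    intro x
    have h := ht₀ (t₀⁻¹ x)
    rw [MulAut.apply_inv_self] at h
    rw [h]; group
  -- (1)
  have hPCQ : P ≤ C ⊔ Q := by
    have h := top_le_fixedSub_sup hPp K' hK' (Q.subgroupOf P)
      (fun κ hκ x => Subgroup.mem_subgroupOf.mpr (e4 κ hκ x))
    have h' := Subgroup.map_mono (f := P.subtype) h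
    rw [Subgroup.map_sup, Subgroup.subgroupOf_map_subtype, ← MonoidHom.range_eq_map,
      Subgroup.range_subtype] at h'
    exact h'.trans (sup_le_sup le_rfl inf_le_left)
  -- D is invariant under t₀, t₀⁻¹
  have hD1 : ∀ x ∈ D, t₀ x ∈ D := by
    intro x hx κ hκ
    have h := hx _ (e2 κ hκ).1
    have : (t₀⁻¹ * κ * t₀) x = t₀⁻¹ (κ (t₀ x)) := rfl
    rw [this] at h
    have := congrArg t₀ h
    rwa [MulAut.apply_inv_self] at this
  have hD2 : ∀ x ∈ D, t₀⁻¹ x ∈ D := by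
    intro x hx κ hκ
    have h := hx _ (e2 κ hκ).2
    have : (t₀ * κ * t₀⁻¹) x = t₀ (κ (t₀⁻¹ x)) := rfl
    rw [this] at h
    have := congrArg (fun z => (t₀⁻¹ : MulAut P) z) h
    simp only [MulAut.inv_apply_self] at this
    exact this
  -- (2)
  have hsC : ∀ c ∈ C, s * c * s⁻¹ ∈ C ∧ s⁻¹ * c * s ∈ C := by
    rintro _ ⟨x, hx, rfl⟩
    constructor
    · have := (hmemC (t₀ x)).mpr (hD1 x hx)
      rwa [ht₀] at this
    · have := (hmemC (t₀⁻¹ x)).mpr (hD2 x hx)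
      rwa [ht₀'] at this
  -- (3)
  have hzN : Subgroup.zpowers s ≤ Subgroup.normalizer (C : Set Ω) := by
    rw [Subgroup.zpowers_le, Subgroup.mem_normalizer_iff]
    intro h
    constructor
    · intro hh; exact (hsC h hh).1
    · intro hh
      have := (hsC _ hh).2
      have e : s⁻¹ * (s * h * s⁻¹) * s = h := by group
      rwa [e] at this
  -- (4)
  have hzS : Subgroup.zpowers s ≤ S := Subgroup.zpowers_le.mpr hs
  have hSC : S ≤ Subgroup.zpowers s ⊔ C := by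
    have hle : Subgroup.zpowers s ⊔ C ≤ S := sup_le hzS (hCP.trans hPS)
    have hQf : Q.subgroupOf S ≤ frattini S := by
      intro x hx
      obtain ⟨y, hy, hyx⟩ := h2 (Subgroup.mem_subgroupOf.mp hx)
      have : y = x := Subtype.ext hyx
      rwa [this] at hy
    have htop : (Subgroup.zpowers s ⊔ C).subgroupOf S ⊔ frattini S = ⊤ := by
      rw [eq_top_iff]
      intro g _
      have hg : (g : Ω) ∈ (Subgroup.zpowers s ⊔ C) ⊔ Q := by
        have := e1 g.2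
        refine (sup_le ?_ ?_ : Subgroup.zpowers s ⊔ P ≤ _) this
        · exact le_sup_left.trans le_sup_left
        · exact hPCQ.trans (sup_le (le_sup_right.trans le_sup_left) le_sup_right)
      have hg' : g ∈ ((Subgroup.zpowers s ⊔ C) ⊔ Q).subgroupOf S := Subgroup.mem_subgroupOf.mpr hg
      rw [Subgroup.subgroupOf_sup hle hQS] at hg'
      exact (sup_le_sup le_rfl hQf) hg'
    have := frattini_nongenerating htop
    exact Subgroup.subgroupOf_eq_top.mp this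
  -- (5), (6)
  have hx1 : ∀ x : P, x⁻¹ * t₀ x ∈ D := by
    intro x
    have hxS : (x : Ω) ∈ ((Subgroup.zpowers s ⊔ C : Subgroup Ω) : Set Ω) := hSC (hPS x.2)
    rw [Subgroup.coe_mul_of_left_le_normalizer_right _ _ hzN] at hxS
    obtain ⟨z, hz, c, hc, hzc⟩ := hxS
    obtain ⟨k, rfl⟩ := Subgroup.mem_zpowers_iff.mp hz
    rw [← hmemC]
    have e : ((x⁻¹ * t₀ x : P) : Ω) = c⁻¹ * (s * c * s⁻¹) := by
      rw [Subgroup.coe_mul, Subgroup.coe_inv, ht₀, ← hzc]
      have hcomm : s * s ^ k = s ^ k * s := by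
        rw [← zpow_one_add, ← zpow_add_one, add_comm]
      calc (s ^ k * c)⁻¹ * (s * (s ^ k * c) * s⁻¹)
          = c⁻¹ * (s ^ k)⁻¹ * (s * s ^ k) * c * s⁻¹ := by group
        _ = c⁻¹ * (s ^ k)⁻¹ * (s ^ k * s) * c * s⁻¹ := by rw [hcomm]
        _ = c⁻¹ * (s * c * s⁻¹) := by group
    rw [e]
    exact C.mul_mem (C.inv_mem hc) (hsC c hc).1
  have hx2 : ∀ x : P, x⁻¹ * t₀⁻¹ x ∈ D := by
    intro x
    have h := hx1 (t₀⁻¹ x)
    rw [MulAut.apply_inv_self] at h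
    have := D.inv_mem h
    rwa [mul_inv_rev, inv_inv] at this
  -- (7)
  have hx3 : ∀ κ' ∈ K', ∀ x : P, x⁻¹ * (κ'⁻¹ * t₀⁻¹ * κ' * t₀) x ∈ D := by
    intro κ' hκ' x
    have hfix : ∀ d ∈ D, κ' d = d := fun d hd => hd κ' hκ'
    have hfix' : ∀ d ∈ D, κ'⁻¹ d = d := fun d hd => by
      have := congrArg (fun z => (κ'⁻¹ : MulAut P) z) (hfix d hd)
      simp only [MulAut.inv_apply_self] at this
      exact this.symm
    set d₁ := x⁻¹ * t₀ x with hd₁
    have hd₁D : d₁ ∈ D := hx1 x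
    set d₂ := (κ' x)⁻¹ * t₀⁻¹ (κ' x) with hd₂
    have hd₂D : d₂ ∈ D := hx2 (κ' x)
    have h1 : t₀ x = x * d₁ := by rw [hd₁]; group
    have h2' : t₀⁻¹ (κ' x) = κ' x * d₂ := by rw [hd₂]; group
    have hcomp : (κ'⁻¹ * t₀⁻¹ * κ' * t₀) x = κ'⁻¹ (t₀⁻¹ (κ' (t₀ x))) := rfl
    rw [hcomp, h1, map_mul, hfix d₁ hd₁D, map_mul, h2', map_mul, map_mul, MulAut.inv_apply_self,
      hfix' d₂ hd₂D, hfix' _ (hD2 d₁ hd₁D)]
    have e : x⁻¹ * (x * d₂ * t₀⁻¹ d₁) = d₂ * t₀⁻¹ d₁ := by group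
    rw [e]
    exact D.mul_mem hd₂D (hD2 d₁ hd₁D)
  -- (8)
  haveI : Finite K' := inferInstance
  have hall := exists_comm_eq K' t₀ (fun κ hκ => (e2 κ hκ).1) e3
  rw [eq_bot_iff]
  intro κ hκ
  rw [Subgroup.mem_bot]
  obtain ⟨κ', hκ', hκeq⟩ := hall κ hκ
  have hord : (orderOf κ).Coprime p := by
    have h1 : orderOf κ ∣ Nat.card K' := by
      have := orderOf_dvd_natCard (⟨κ, hκ⟩ : K')
      rwa [Subgroup.orderOf_mk] at this
    exact Nat.Coprime.coprime_dvd_left h1 hK'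
  refine MulEquiv.ext (fun x => ?_)
  have hmem : x⁻¹ * κ x ∈ D := by
    rw [hκeq]; exact hx3 κ' hκ' x
  exact Cfsg.Agent.Lib.Helper04.aut_fix_of_fix_commutator hPp κ hord x (hmem κ hκ)

theorem inn_normal (P : Type*) [Group P] : (Cfsg.Inn P).Normal := by
  refine ⟨fun n hn g => ?_⟩
  obtain ⟨y, rfl⟩ := hn
  refine ⟨g y, MulEquiv.ext (fun x => ?_)⟩
  show g y * x * (g y)⁻¹ = g (y * g⁻¹ x * y⁻¹)
  rw [map_mul, map_mul, map_inv, MulAut.apply_inv_self]

theorem conjAutHom_eq_conj {S P : Subgroup Ω} (hSN : S ≤ Subgroup.normalizer (P : Set Ω)) (hPS : P ≤ S)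
    (y : P) : conjAutHom hSN ⟨y, hPS y.2⟩ = MulAut.conj y :=
  MulEquiv.ext fun _ => Subtype.ext rfl

/-- **Tate-type theorem for automorphism groups.** -/
theorem aut_le_autInducedBy {S P Q : Subgroup Ω} [Finite S] {p : ℕ} [Fact p.Prime] (hS : IsPGroup p S)
    (hQP : Q ≤ P) (hPS : P ≤ S) (hSN : S ≤ Subgroup.normalizer (P : Set Ω))
    (h1 : (commutator S).map S.subtype ≤ Q) (h2 : Q ≤ (frattini S).map S.subtype)
    (hlt : ∃ g ∈ S, g ∉ P) (hcent : centralizerIn S P ≤ P)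
    (A : Subgroup (MulAut P)) (hTA : autInducedBy S P ≤ A)
    (hidx : ¬ p ∣ (autInducedBy S P).relIndex A)
    (hAQ : ∀ α ∈ A, ∀ x : P, (x : Ω) ∈ Q → ((α x : P) : Ω) ∈ Q)
    (hTI : ∀ α ∈ A, α ∉ autInducedBy S P → ∀ t ∈ autInducedBy S P,
      α * t * α⁻¹ ∈ autInducedBy S P → t ∈ Cfsg.Inn P) :
    A ≤ autInducedBy S P := by
  classical
  have hp : p.Prime := Fact.out
  have hPfin : Finite P := Cfsg.Agent.Lib.Helper87.finite_of_le hPS
  set T : Subgroup (MulAut P) := autInducedBy S P with hT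
  have hTr : T = (conjAutHom hSN).range := autInducedBy_eq_range hSN
  have hcT : ∀ g : S, conjAutHom hSN g ∈ T := fun g => hTr ▸ ⟨g, rfl⟩
  have hAfin : Finite A := inferInstance
  set TX : Subgroup A := T.subgroupOf A with hTX
  have hTXp : IsPGroup p TX := (isPGroup_autInducedBy hS P).comap_subtype
  let R : Sylow p A := hTXp.toSylow hidx
  have hRcoe : (R : Subgroup A) = TX := rfl
  have hmemR : ∀ a : A, a ∈ (R : Subgroup A) ↔ (a : MulAut P) ∈ T := fun a => Subgroup.mem_subgroupOf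
  -- (k0)
  have k0 : ∀ g : S, conjAutHom hSN g ∈ Cfsg.Inn P → (g : Ω) ∈ P := by
    rintro g ⟨y, hy⟩
    have hc : (y : Ω)⁻¹ * g ∈ centralizerIn S P := by
      rw [Cfsg.Agent.Lib.Helper87.mem_centralizerIn]
      refine ⟨S.mul_mem (S.inv_mem (hPS y.2)) g.2, fun x hx => ?_⟩
      have h := congrArg (fun α : MulAut P => ((α ⟨x, hx⟩ : P) : Ω)) hy
      have h' : (y : Ω) * x * (y : Ω)⁻¹ = (g : Ω) * x * (g : Ω)⁻¹ := h
      calc x * ((y : Ω)⁻¹ * g) = (y : Ω)⁻¹ * ((y : Ω) * x * (y : Ω)⁻¹) * g := by group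
        _ = (y : Ω)⁻¹ * ((g : Ω) * x * (g : Ω)⁻¹) * g := by rw [h']
        _ = (y : Ω)⁻¹ * g * x := by group
    have := P.mul_mem y.2 (hcent hc)
    simpa using this
  -- (k1)
  have hself : Subgroup.normalizer ((R : Subgroup A) : Set A) ≤ R := by
    intro a ha
    by_contra hna
    have hna' : (a : MulAut P) ∉ T := fun h => hna ((hmemR a).mpr h)
    obtain ⟨g, hgS, hgP⟩ := hlt
    let t : A := ⟨conjAutHom hSN ⟨g, hgS⟩, hTA (hcT _)⟩
    have ht : t ∈ (R : Subgroup A) := (hmemR t).mpr (hcT _)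
    have h3 := (Subgroup.mem_normalizer_iff.mp ha t).mp ht
    have h4 : (a : MulAut P) * (t : MulAut P) * (a : MulAut P)⁻¹ ∈ T := (hmemR _).mp h3
    have h5 := hTI a a.2 hna' t (hcT _) h4
    exact hgP (k0 ⟨g, hgS⟩ h5)
  -- (k2)
  let N : Subgroup A :=
    { carrier := {a | ∀ x : P, ((x⁻¹ * (a : MulAut P) x : P) : Ω) ∈ Q}
      one_mem' := fun x => by simp [Q.one_mem]
      mul_mem' := by
        intro a b ha hb x
        have e : x⁻¹ * ((a * b : A) : MulAut P) x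
            = (x⁻¹ * (b : MulAut P) x) * (((b : MulAut P) x)⁻¹ * (a : MulAut P) ((b : MulAut P) x)) := by
          show x⁻¹ * (a : MulAut P) ((b : MulAut P) x) = _
          group
        rw [e, Subgroup.coe_mul]
        exact Q.mul_mem (hb x) (ha _)
      inv_mem' := by
        intro a ha x
        have h := ha ((a : MulAut P)⁻¹ x)
        rw [MulAut.apply_inv_self] at h
        have h' := Q.inv_mem h
        have e : (((((a : MulAut P)⁻¹ x)⁻¹ * x : P) : Ω))⁻¹ = ((x⁻¹ * ((a⁻¹ : A) : MulAut P) x : P) : Ω) := by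
          rw [← Subgroup.coe_inv]
          congr 1
          show _ = x⁻¹ * (a : MulAut P)⁻¹ x
          group
        rwa [e] at h' }
  have hNn : N.Normal := by
    refine ⟨fun n hn g x => ?_⟩
    have hcomp : ((g * n * g⁻¹ : A) : MulAut P) x
        = (g : MulAut P) ((n : MulAut P) ((g : MulAut P)⁻¹ x)) := rfl
    set y := (g : MulAut P)⁻¹ x with hy
    have hq := hn y
    set q := y⁻¹ * (n : MulAut P) y with hqdef
    have h6 : (n : MulAut P) y = y * q := by rw [hqdef]; group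
    have h7 : (g : MulAut P) y = x := by rw [hy, MulAut.apply_inv_self]
    rw [hcomp, h6, map_mul, h7]
    have e : x⁻¹ * (x * (g : MulAut P) q) = (g : MulAut P) q := by group
    rw [e]
    exact hAQ g g.2 q hq
  have hRN : (R : Subgroup A) ≤ N := by
    intro a ha x
    obtain ⟨g, hg⟩ := hTr ▸ ((hmemR a).mp ha)
    rw [← hg]
    have e : ((x⁻¹ * (conjAutHom hSN g) x : P) : Ω) = ((⁅(⟨(x : Ω)⁻¹, S.inv_mem (hPS x.2)⟩ : S), g⁆ : S) : Ω) := by
      rw [commutatorElement_def]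
      simp only [Subgroup.coe_mul, Subgroup.coe_inv, conjAutHom_apply, inv_inv]
      group
    rw [e]
    apply h1
    exact ⟨_, Subgroup.commutator_mem_commutator (Subgroup.mem_top _) (Subgroup.mem_top _), rfl⟩
  have hNtop : N = ⊤ := eq_top_of_sylow_le_of_selfNormalizing R N hRN hself
  have hAQ' : ∀ α ∈ A, ∀ x : P, ((x⁻¹ * α x : P) : Ω) ∈ Q := by
    intro α hα x
    have : (⟨α, hα⟩ : A) ∈ N := hNtop ▸ Subgroup.mem_top _
    exact this x
  -- (k3)
  have hQS : Q ≤ S := hQP.trans hPS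
  set QM : Subgroup (MulAut P) := (Q.subgroupOf S).map (conjAutHom hSN) with hQM
  have hQMT : QM ≤ T := by
    rintro _ ⟨g, _, rfl⟩
    exact hcT g
  have hQMI : QM ≤ Cfsg.Inn P := by
    rintro _ ⟨g, hg, rfl⟩
    have hgP : (g : Ω) ∈ P := hQP (Subgroup.mem_subgroupOf.mp hg)
    exact ⟨⟨g, hgP⟩, (conjAutHom_eq_conj hSN hPS ⟨g, hgP⟩).symm⟩
  set Qx : Subgroup A := QM.subgroupOf A with hQx
  have hQxn : Qx.Normal := by
    refine ⟨fun n hn a => ?_⟩
    obtain ⟨g, hg, hgn⟩ := Subgroup.mem_subgroupOf.mp hn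
    have hgQ : (g : Ω) ∈ Q := Subgroup.mem_subgroupOf.mp hg
    have hgP : (g : Ω) ∈ P := hQP hgQ
    rw [Subgroup.mem_subgroupOf]
    set q' : P := (a : MulAut P) ⟨g, hgP⟩ with hq'
    have hq'Q : (q' : Ω) ∈ Q := hAQ a a.2 ⟨g, hgP⟩ hgQ
    refine ⟨⟨q', hQS hq'Q⟩, Subgroup.mem_subgroupOf.mpr hq'Q, ?_⟩
    have e1 : conjAutHom hSN ⟨(q' : Ω), hQS hq'Q⟩ = MulAut.conj q' := conjAutHom_eq_conj hSN hPS q'
    have e2 : (n : MulAut P) = MulAut.conj (⟨g, hgP⟩ : P) := by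
      rw [← hgn]; exact conjAutHom_eq_conj hSN hPS ⟨g, hgP⟩
    rw [e1]
    refine MulEquiv.ext (fun x => ?_)
    show q' * x * q'⁻¹ = (a : MulAut P) ((n : MulAut P) ((a : MulAut P)⁻¹ x))
    rw [e2]
    show q' * x * q'⁻¹ = (a : MulAut P) (⟨g, hgP⟩ * (a : MulAut P)⁻¹ x * (⟨g, hgP⟩ : P)⁻¹)
    rw [map_mul, map_mul, map_inv, MulAut.apply_inv_self]
  have hQxR : Qx ≤ R := by
    intro a ha
    exact (hmemR a).mpr (hQMT (Subgroup.mem_subgroupOf.mp ha))
  have hC : ∀ a ∈ R, ∀ b ∈ R, a * b * a⁻¹ * b⁻¹ ∈ Qx := by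
    intro a ha b hb
    obtain ⟨g, hg⟩ := hTr ▸ ((hmemR a).mp ha)
    obtain ⟨h, hh⟩ := hTr ▸ ((hmemR b).mp hb)
    rw [Subgroup.mem_subgroupOf]
    refine ⟨⁅g, h⁆, ?_, ?_⟩
    · apply Subgroup.mem_subgroupOf.mpr
      apply h1
      exact ⟨_, Subgroup.commutator_mem_commutator (Subgroup.mem_top _) (Subgroup.mem_top _), rfl⟩
    · rw [commutatorElement_def, map_mul, map_mul, map_mul, map_inv, map_inv, hg, hh]
      rfl
  -- the homomorphism into A
  let cA : S →* A := (conjAutHom hSN).codRestrict A (fun g => hTA (hcT g))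
  have hcA : ∀ g : S, ((cA g : A) : MulAut P) = conjAutHom hSN g := fun _ => rfl
  have hRrange : (R : Subgroup A) = cA.range := by
    ext a
    rw [hmemR, hTr]
    constructor
    · rintro ⟨g, hg⟩; exact ⟨g, Subtype.ext hg⟩
    · rintro ⟨g, rfl⟩; exact ⟨g, rfl⟩
  have hQxmap : Qx = (Q.subgroupOf S).map cA := by
    ext a
    rw [Subgroup.mem_subgroupOf]
    constructor
    · rintro ⟨g, hg, hga⟩; exact ⟨g, hg, Subtype.ext hga⟩
    · rintro ⟨g, hg, rfl⟩; exact ⟨g, hg, rfl⟩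
  have hQf : Q.subgroupOf S ≤ frattini S := by
    intro x hx
    obtain ⟨y, hy, hyx⟩ := h2 (Subgroup.mem_subgroupOf.mp hx)
    have : y = x := Subtype.ext hyx
    rwa [this] at hy
  have hNG : ∀ H : Subgroup A, H ≤ R → (R : Subgroup A) ≤ Qx ⊔ H → (R : Subgroup A) ≤ H := by
    intro H hHR hRQH
    have hHrange : H ≤ cA.range := hRrange ▸ hHR
    have hHmap : (H.comap cA).map cA = H := Subgroup.map_comap_eq_self hHrange
    have htop : H.comap cA ⊔ frattini S = ⊤ := by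
      rw [eq_top_iff]
      intro g _
      have hg : cA g ∈ Qx ⊔ H := hRQH (hRrange ▸ ⟨g, rfl⟩)
      rw [hQxmap, ← hHmap, ← Subgroup.map_sup] at hg
      obtain ⟨g', hg', hgg'⟩ := hg
      have hker : g'⁻¹ * g ∈ H.comap cA := by
        show cA (g'⁻¹ * g) ∈ H
        rw [map_mul, map_inv, hgg', inv_mul_cancel]
        exact H.one_mem
      have hg2 : g ∈ (Q.subgroupOf S ⊔ H.comap cA) := by
        have := Subgroup.mul_mem _ hg' ((le_sup_right : H.comap cA ≤ Q.subgroupOf S ⊔ H.comap cA) hker)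
        simpa using this
      exact (sup_le (hQf.trans le_sup_right) le_sup_left : Q.subgroupOf S ⊔ H.comap cA ≤ _) hg2
    have hHtop := frattini_nongenerating htop
    intro r hr
    rw [hRrange] at hr
    obtain ⟨g, rfl⟩ := hr
    have : g ∈ H.comap cA := hHtop ▸ Subgroup.mem_top g
    exact this
  have hH : ∀ x ∈ Subgroup.normalizer ((R : Subgroup A) : Set A), ∃ u ∈ R,
      ∃ k ∈ Subgroup.centralizer ((R : Subgroup A) : Set A), x = u * k :=
    fun x hx => ⟨x, hself hx, 1, Subgroup.one_mem _, (mul_one x).symm⟩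
  obtain ⟨K, hKn, hKc⟩ := Cfsg.Agent.Lib.Helper68.tate_special R Qx hQxR hC hNG hH
  -- (k5)
  have hKR : K ⊓ (R : Subgroup A) = ⊥ := disjoint_iff.mp hKc.disjoint
  have hKcard : (Nat.card K).Coprime p := by
    have h3 : (R : Subgroup A).index = Nat.card K := hKc.index_eq_card
    have h4 : ¬ p ∣ (R : Subgroup A).index := Sylow.not_dvd_index R
    rw [h3] at h4
    exact ((Nat.Prime.coprime_iff_not_dvd hp).mpr h4).symm
  have hdone : K = ⊥ → A ≤ T := by
    intro hK α hα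
    have h3 : (R : Subgroup A) = ⊤ := by
      have := hKc
      rw [hK] at this
      exact Subgroup.isComplement'_bot_left.mp this
    have : (⟨α, hα⟩ : A) ∈ (R : Subgroup A) := h3 ▸ Subgroup.mem_top _
    exact (hmemR _).mp this
  -- (k6)
  set IX : Subgroup A := (Cfsg.Inn P).subgroupOf A with hIX
  have hIXn : IX.Normal := (inn_normal P).subgroupOf A
  have hIR : IX ≤ R := by
    intro a ha
    exact (hmemR a).mpr (inn_le_autInducedBy hPS (Subgroup.mem_subgroupOf.mp ha))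
  have hfpf : ∀ κ ∈ K, κ ≠ 1 → ∀ t ∈ (R : Subgroup A), κ * t = t * κ → t ∈ IX := by
    intro κ hκ hκ1 t ht hct
    have hκT : (κ : MulAut P) ∉ T := by
      intro h
      have : κ ∈ K ⊓ (R : Subgroup A) := ⟨hκ, (hmemR κ).mpr h⟩
      rw [hKR, Subgroup.mem_bot] at this
      exact hκ1 this
    have h3 : (κ : MulAut P) * (t : MulAut P) * (κ : MulAut P)⁻¹ ∈ T := by
      have e : (κ : MulAut P) * (t : MulAut P) * (κ : MulAut P)⁻¹ = (t : MulAut P) := by
        have := congrArg (fun z : A => (z : MulAut P)) hct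
        have h' : (κ : MulAut P) * (t : MulAut P) = (t : MulAut P) * (κ : MulAut P) := this
        rw [h']; group
      rw [e]; exact (hmemR t).mp ht
    exact Subgroup.mem_subgroupOf.mpr (hTI κ κ.2 hκT t ((hmemR t).mp ht) h3)
  have hcomm : ∀ a ∈ (R : Subgroup A), ∀ b ∈ (R : Subgroup A), a * b * a⁻¹ * b⁻¹ ∈ IX := by
    intro a ha b hb
    exact Subgroup.mem_subgroupOf.mpr (hQMI (Subgroup.mem_subgroupOf.mp (hC a ha b hb)))
  haveI := hKn
  haveI := hIXn
  rcases eq_bot_or_cyclic_mod (R : Subgroup A) IX K hIR hKR hKcard (hRcoe ▸ hTXp) hcomm hfpf with hK | ⟨t₀, ht₀R, hgen⟩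
  · exact hdone hK
  · apply hdone
    obtain ⟨s₀, hs₀⟩ := hTr ▸ ((hmemR t₀).mp ht₀R)
    -- e1
    have e1 : S ≤ Subgroup.zpowers (s₀ : Ω) ⊔ P := by
      intro g hg
      obtain ⟨n, hn⟩ := hgen (cA ⟨g, hg⟩) (hRrange ▸ ⟨_, rfl⟩)
      have h3 : conjAutHom hSN (s₀ ^ (-n) * ⟨g, hg⟩) ∈ Cfsg.Inn P := by
        have h4 : (((t₀ ^ n)⁻¹ * cA ⟨g, hg⟩ : A) : MulAut P) ∈ Cfsg.Inn P := Subgroup.mem_subgroupOf.mp hn
        have e : (((t₀ ^ n)⁻¹ * cA ⟨g, hg⟩ : A) : MulAut P) = conjAutHom hSN (s₀ ^ (-n) * ⟨g, hg⟩) := by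
          rw [map_mul, map_zpow, hs₀, zpow_neg]
          rfl
        rwa [e] at h4
      have h5 := k0 _ h3
      have h6 : g = (s₀ : Ω) ^ n * (((s₀ ^ (-n) * ⟨g, hg⟩ : S) : S) : Ω) := by
        simp [zpow_neg]
      rw [h6]
      exact Subgroup.mul_mem _ (le_sup_left (a := Subgroup.zpowers (s₀ : Ω)) (Subgroup.zpow_mem_zpowers _ n))
        (le_sup_right (a := Subgroup.zpowers (s₀ : Ω)) h5)
    have hKbot : K.map A.subtype = ⊥ := by
      refine eq_bot_of_cyclic_quotient hS hPS h2 (K.map A.subtype) ?_ (s₀ : Ω) s₀.2 (t₀ : MulAut P)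
        (fun x => by rw [← hs₀]; rfl) e1 ?_ ?_ ?_
      · rw [Subgroup.card_subtype]; exact hKcard
      · rintro _ ⟨κ, hκ, rfl⟩
        constructor
        · refine ⟨t₀⁻¹ * κ * t₀, ?_, rfl⟩
          have := hKn.conj_mem κ hκ t₀⁻¹
          simpa using this
        · exact ⟨t₀ * κ * t₀⁻¹, hKn.conj_mem κ hκ t₀, rfl⟩
      · rintro _ ⟨κ, hκ, rfl⟩ hct
        by_contra hκ1
        have hκ1' : κ ≠ 1 := fun h => hκ1 (by rw [h]; rfl)
        have hct' : κ * t₀ = t₀ * κ := Subtype.ext hct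
        have h3 := hfpf κ hκ hκ1' t₀ ht₀R hct'
        have h4 : conjAutHom hSN s₀ ∈ Cfsg.Inn P := hs₀ ▸ Subgroup.mem_subgroupOf.mp h3
        have h5 := k0 s₀ h4
        obtain ⟨g, hgS, hgP⟩ := hlt
        apply hgP
        have : Subgroup.zpowers (s₀ : Ω) ⊔ P ≤ P := sup_le (Subgroup.zpowers_le.mpr h5) le_rfl
        exact this (e1 hgS)
      · rintro _ ⟨κ, _, rfl⟩ x
        exact hAQ' κ κ.2 x
    exact (Subgroup.map_eq_bot_iff_of_injective K A.subtype_injective).mp hKbot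

end Cfsg.Agent.Lib.Helper90
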