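import Mathlib
import Cfsg.Agent.Lib.Helper90.ModelExist
import Cfsg.Agent.Lib.Helper90.TateAut
import Cfsg.Agent.Lib.Helper90.FusionCenter
import Cfsg.Agent.Lib.Helper90.FusionNormal
import Cfsg.Agent.Lib.Helper87.FusionCentric2
import Cfsg.Agent.Lib.Helper87.FusionSaturated
import Cfsg.Agent.Lib.Helper87.EquivariantSection
import Cfsg.Agent.Lib.Helper91.FusionConstrained
import Cfsg.Agent.Lib.Helper89.FusionAut

set_option autoImplicit false

/-!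
Existence of models of constrained fusion systems: the fusion-system side of the construction.
From a saturated system `F` over `S` with a normal centric subgroup `Q` we build the data
(`ModelExist.Setup`) for the abstract construction, and then check that the resulting group is a model.
-/

namespace Cfsg.Agent.Lib.Helper90.ModelFusion

universe u

open Cfsg Cfsg.FusionSystem
open Cfsg.Agent.Lib.Helper87 (hom_congr hom_le hom_mem restrict_mem comp_mem' inv_mem' subtype_mem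
  mem_extender_iff finite_of_le isConj_refl mem_centralizerIn)
open Cfsg.Agent.Lib.Helper90 (mem_autGroup_iff mem_autInducedBy_iff autInducedBy_le_autGroup
  conjAutHom conjAutHom_apply autInducedBy_eq_range)

open scoped Classical
open scoped IsMulCommutative

/-- automorphisms of a group restricted to its centre -/
def centerAut (Q : Type*) [Group Q] : MulAut Q →* MulAut (Subgroup.center Q) where
  toFun a :=
    { toFun := fun z => ⟨a z, by
        rw [Subgroup.mem_center_iff]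
        intro g
        have h1 := Subgroup.mem_center_iff.mp z.2 (a.symm g)
        have h2 := congrArg a h1
        rwa [map_mul, map_mul, MulEquiv.apply_symm_apply] at h2⟩
      invFun := fun z => ⟨a.symm z, by
        rw [Subgroup.mem_center_iff]
        intro g
        have h1 := Subgroup.mem_center_iff.mp z.2 (a g)
        have h2 := congrArg a.symm h1
        rwa [map_mul, map_mul, MulEquiv.symm_apply_apply] at h2⟩
      left_inv := fun z => Subtype.ext (a.symm_apply_apply z)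
      right_inv := fun z => Subtype.ext (a.apply_symm_apply z)
      map_mul' := fun z w => Subtype.ext (by
        show a ((z : Q) * (w : Q)) = a z * a w
        exact _root_.map_mul a _ _) }
  map_one' := by
    ext z
    rfl
  map_mul' a b := by
    ext z
    rfl

theorem centerAut_apply (Q : Type*) [Group Q] (a : MulAut Q) (z : Subgroup.center Q) :
    ((centerAut Q a z : Subgroup.center Q) : Q) = a z := rfl

variable {Ω : Type u} [Group Ω] {S : Subgroup Ω}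

/-! ### Maps of the system as functions on `S` -/

/-- the restriction of `ψ : S → S` to `D` is a map of the system -/
def IsFMap (F : FusionSystem S) (D : Subgroup ↥S) (ψ : ↥S → ↥S) : Prop :=
  ∃ (D' : Subgroup Ω) (ψ' : D' →* Ω), ψ' ∈ F.Hom D' ∧ (∀ s : ↥S, s ∈ D → (s : Ω) ∈ D') ∧
    ∀ (s : ↥S) (hs : (s : Ω) ∈ D'), s ∈ D → ψ' ⟨s, hs⟩ = ((ψ s : ↥S) : Ω)

namespace IsFMap

variable {F : FusionSystem S} {D : Subgroup ↥S} {ψ : ↥S → ↥S}

theorem map_mul (h : IsFMap F D ψ) {s s' : ↥S} (hs : s ∈ D) (hs' : s' ∈ D) :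
    ψ (s * s') = ψ s * ψ s' := by
  obtain ⟨D', ψ', -, hD, hψ⟩ := h
  apply Subtype.ext
  rw [Subgroup.coe_mul, ← hψ s (hD s hs) hs, ← hψ s' (hD s' hs') hs',
    ← hψ (s * s') (hD _ (D.mul_mem hs hs')) (D.mul_mem hs hs'), ← _root_.map_mul]
  rfl

theorem map_one (h : IsFMap F D ψ) : ψ 1 = 1 := by
  have h1 := h.map_mul D.one_mem D.one_mem
  rw [mul_one] at h1
  exact (mul_eq_left.mp h1.symm)

theorem map_inv (h : IsFMap F D ψ) {s : ↥S} (hs : s ∈ D) : ψ s⁻¹ = (ψ s)⁻¹ := by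
  have h1 := h.map_mul hs (D.inv_mem hs)
  rw [mul_inv_cancel, h.map_one] at h1
  exact eq_inv_of_mul_eq_one_right h1.symm

theorem injOn (h : IsFMap F D ψ) {s s' : ↥S} (hs : s ∈ D) (hs' : s' ∈ D) (he : ψ s = ψ s') :
    s = s' := by
  obtain ⟨D', ψ', hψ', hD, hψ⟩ := h
  have h1 : ψ' ⟨s, hD s hs⟩ = ψ' ⟨s', hD s' hs'⟩ := by
    rw [hψ s _ hs, hψ s' _ hs', he]
  have h2 := F.injective_of_mem hψ' h1
  exact Subtype.ext (congrArg (fun z : ↥D' => (z : Ω)) h2)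

theorem mono (h : IsFMap F D ψ) {D₀ : Subgroup ↥S} (hle : D₀ ≤ D) : IsFMap F D₀ ψ := by
  obtain ⟨D', ψ', hψ', hD, hψ⟩ := h
  exact ⟨D', ψ', hψ', fun s hs => hD s (hle hs), fun s hs hs' => hψ s hs (hle hs')⟩

theorem congr (h : IsFMap F D ψ) {ψ₀ : ↥S → ↥S} (he : ∀ s ∈ D, ψ₀ s = ψ s) : IsFMap F D ψ₀ := by
  obtain ⟨D', ψ', hψ', hD, hψ⟩ := h
  exact ⟨D', ψ', hψ', hD, fun s hs hs' => by rw [hψ s hs hs', he s hs']⟩

theorem comp (h : IsFMap F D ψ) {D₂ : Subgroup ↥S} {ψ₂ : ↥S → ↥S} (h₂ : IsFMap F D₂ ψ₂)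
    (hmaps : ∀ s ∈ D, ψ s ∈ D₂) : IsFMap F D (fun s => ψ₂ (ψ s)) := by
  obtain ⟨D', ψ', hψ', hD, hψ⟩ := h
  obtain ⟨D₂', ψ₂', hψ₂', hD₂, hψ₂⟩ := h₂
  have hle : D.map S.subtype ≤ D' := by
    rintro _ ⟨s, hs, rfl⟩
    exact hD s hs
  have hφ := restrict_mem F hle hψ'
  have hval : ∀ x : ↥(D.map S.subtype), ∃ s : ↥S, s ∈ D ∧ (s : Ω) = x := by
    rintro ⟨_, s, hs, rfl⟩
    exact ⟨s, hs, rfl⟩
  have hmap : ∀ x : ↥(D.map S.subtype), (ψ'.comp (Subgroup.inclusion hle)) x ∈ D₂' := by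
    intro x
    obtain ⟨s, hs, hsx⟩ := hval x
    have : (ψ'.comp (Subgroup.inclusion hle)) x = ψ' ⟨s, hD s hs⟩ := by
      show ψ' _ = ψ' _
      congr 1
      exact Subtype.ext hsx.symm
    rw [this, hψ s _ hs]
    exact hD₂ _ (hmaps s hs)
  refine ⟨D.map S.subtype, _, F.comp_mem hφ hψ₂' hmap, fun s hs => ⟨s, hs, rfl⟩, fun s hs hs' => ?_⟩
  show ψ₂' ⟨ψ' ⟨s, hle hs⟩, _⟩ = _
  have h1 : ψ' ⟨s, hle hs⟩ = ((ψ s : ↥S) : Ω) := hψ s _ hs'
  have h2 := hψ₂ (ψ s) (hD₂ _ (hmaps s hs')) (hmaps s hs')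
  rw [← h2]
  congr 1
  exact Subtype.ext h1

end IsFMap

theorem isFMap_conj (F : FusionSystem S) (D : Subgroup ↥S) (v : ↥S) :
    IsFMap F D (fun s => v * s * v⁻¹) := by
  refine ⟨S, conjHom S v, F.conj_mem le_rfl v.2, fun s _ => s.2, fun s hs _ => ?_⟩
  rfl

theorem isFMap_id (F : FusionSystem S) (D : Subgroup ↥S) : IsFMap F D (fun s => s) := by
  refine ⟨S, S.subtype, subtype_mem F le_rfl, fun s _ => s.2, fun s hs _ => rfl⟩

theorem IsFMap.exists_hom {F : FusionSystem S} {D : Subgroup ↥S} {ψ : ↥S → ↥S} (h : IsFMap F D ψ) :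
    ∃ φ : ↥(D.map S.subtype) →* Ω, φ ∈ F.Hom (D.map S.subtype) ∧
      ∀ (s : ↥S) (hs : s ∈ D), φ ⟨s, ⟨s, hs, rfl⟩⟩ = ((ψ s : ↥S) : Ω) := by
  obtain ⟨D', ψ', hψ', hD, hψ⟩ := h
  have hle : D.map S.subtype ≤ D' := by
    rintro _ ⟨s, hs, rfl⟩
    exact hD s hs
  exact ⟨ψ'.comp (Subgroup.inclusion hle), restrict_mem F hle hψ', fun s hs => hψ s (hD s hs) hs⟩

/-- from a function on `S` back to a map of the system -/
theorem IsFMap.hom_mem' {F : FusionSystem S} {D : Subgroup ↥S} {ψ : ↥S → ↥S} (h : IsFMap F D ψ)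
    {P : Subgroup Ω} (hP : P ≤ S) (hPD : ∀ x : P, (⟨x, hP x.2⟩ : ↥S) ∈ D) {φ : P →* Ω}
    (hφ : ∀ x : P, φ x = ((ψ ⟨x, hP x.2⟩ : ↥S) : Ω)) : φ ∈ F.Hom P := by
  obtain ⟨D', ψ', hψ', hD, hψ⟩ := h
  have hle : P ≤ D' := fun x hx => hD ⟨x, hP hx⟩ (hPD ⟨x, hx⟩)
  refine hom_congr F (restrict_mem F hle hψ') (fun x => ?_)
  rw [hφ x]
  exact (hψ ⟨x, hP x.2⟩ (hle x.2) (hPD x)).symm

/-- two maps of a saturated system defined on `D ⊇ Q`, `Q` centric, that agree on `Q` differ by an element of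
`Z(Q)` -/
theorem IsFMap.agree [Finite S] (p : ℕ) [Fact p.Prime] (hS : IsPGroup p S) {F : FusionSystem S}
    (hF : F.IsSaturated p) {Q : Subgroup Ω} (hQc : F.IsCentric Q) {D : Subgroup ↥S} {ψ₁ ψ₂ : ↥S → ↥S}
    (h₁ : IsFMap F D ψ₁) (h₂ : IsFMap F D ψ₂) (hQD : ∀ s : ↥S, (s : Ω) ∈ Q → s ∈ D)
    (hag : ∀ s : ↥S, (s : Ω) ∈ Q → ψ₁ s = ψ₂ s) :
    ∃ z : ↥S, (z : Ω) ∈ Q ∧ (∀ x ∈ Q, x * (z : Ω) = (z : Ω) * x) ∧
      ∀ s ∈ D, ψ₂ s = ψ₁ (z * s * z⁻¹) := by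
  obtain ⟨φ₁, hφ₁, hv₁⟩ := h₁.exists_hom
  obtain ⟨φ₂, hφ₂, hv₂⟩ := h₂.exists_hom
  have hQP : Q ≤ D.map S.subtype := fun q hq => ⟨⟨q, hQc.1 hq⟩, hQD _ hq, rfl⟩
  have hagree : ∀ x : ↥(D.map S.subtype), (x : Ω) ∈ Q → φ₁ x = φ₂ x := by
    rintro ⟨_, s, hs, rfl⟩ hx
    exact (hv₁ s hs).trans ((congrArg (fun t : ↥S => (t : Ω)) (hag s hx)).trans (hv₂ s hs).symm)
  obtain ⟨z, hzQ, hzc, hz⟩ := Cfsg.Agent.Lib.Helper87.hom_agree_on_centric_aux p hS F hF _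
    (D.map S.subtype) Q rfl hQP hQc φ₁ φ₂ hφ₁ hφ₂ hagree
  obtain ⟨_, z', hz', rfl⟩ := z
  refine ⟨z', hzQ, fun x hx => Subgroup.mem_centralizer_iff.mp hzc x hx, fun s hs => ?_⟩
  apply Subtype.ext
  have hm : z' * s * z'⁻¹ ∈ D := D.mul_mem (D.mul_mem hz' hs) (D.inv_mem hz')
  rw [← hv₂ s hs, ← hv₁ _ hm, hz]
  rfl

/-! ### Twisted equivariant sections -/

theorem exists_twisted_section {K C T : Type*} [Group K] [MulAction K C] [Group T]
    (e₁ e₂ : K → C → T)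
    (he₁ : ∀ k k' c, e₁ (k * k') c = e₁ k (k' • c) * e₁ k' c)
    (he₂ : ∀ k k' c, e₂ (k * k') c = e₂ k (k' • c) * e₂ k' c)
    (P : C → T → Prop) (hP : ∀ k c v, P c v → P (k • c) (e₁ k c * v * (e₂ k c)⁻¹))
    (hfix : ∀ c, ∃ v, P c v ∧ ∀ k : K, k • c = c → e₁ k c * v = v * e₂ k c) :
    ∃ y : C → T, (∀ c, P c (y c)) ∧ ∀ k c, y (k • c) * e₂ k c = e₁ k c * y c := by
  choose good hgood₁ hgood₂ using hfix
  let rep : C → C := fun c => (Quotient.mk (MulAction.orbitRel K C) c).out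
  have hrep : ∀ c : C, ∃ k : K, k • rep c = c := by
    intro c
    have h1 : Quotient.mk (MulAction.orbitRel K C) (rep c) = Quotient.mk (MulAction.orbitRel K C) c :=
      Quotient.out_eq _
    have h3 : rep c ∈ MulAction.orbit K c := Quotient.exact h1
    obtain ⟨k, hk⟩ := h3
    refine ⟨k⁻¹, ?_⟩
    rw [← hk, inv_smul_smul]
  choose kk hkk using hrep
  have hrep_smul : ∀ (k : K) (c : C), rep (k • c) = rep c := by
    intro k c
    have h1 : Quotient.mk (MulAction.orbitRel K C) (k • c) = Quotient.mk (MulAction.orbitRel K C) c := by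
      apply Quotient.sound
      show k • c ∈ MulAction.orbit K c
      exact ⟨k, rfl⟩
    show (Quotient.mk (MulAction.orbitRel K C) (k • c)).out = (Quotient.mk (MulAction.orbitRel K C) c).out
    rw [h1]
  refine ⟨fun c => e₁ (kk c) (rep c) * good (rep c) * (e₂ (kk c) (rep c))⁻¹, fun c => ?_, fun k c => ?_⟩
  · have := hP (kk c) (rep c) _ (hgood₁ (rep c))
    rwa [hkk c] at this
  · show e₁ (kk (k • c)) (rep (k • c)) * good (rep (k • c)) * (e₂ (kk (k • c)) (rep (k • c)))⁻¹ * e₂ k c =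
      e₁ k c * (e₁ (kk c) (rep c) * good (rep c) * (e₂ (kk c) (rep c))⁻¹)
    rw [hrep_smul k c]
    have hg' : kk (k • c) • rep c = k • c := by
      have := hkk (k • c)
      rwa [hrep_smul k c] at this
    set c' := rep c with hc'
    set g := kk c with hg
    set g' := kk (k • c) with hg'def
    have hgc : g • c' = c := hkk c
    have hm : (g'⁻¹ * k * g) • c' = c' := by
      rw [mul_smul, mul_smul, hgc, inv_smul_eq_iff, hg']
    have hkg : k * g = g' * (g'⁻¹ * k * g) := by group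
    have h1 : e₁ k c * e₁ g c' = e₁ g' c' * e₁ (g'⁻¹ * k * g) c' := by
      have := he₁ k g c'
      rw [hgc] at this
      rw [← this, hkg, he₁ g' (g'⁻¹ * k * g) c', hm]
    have h2 : e₂ k c * e₂ g c' = e₂ g' c' * e₂ (g'⁻¹ * k * g) c' := by
      have := he₂ k g c'
      rw [hgc] at this
      rw [← this, hkg, he₂ g' (g'⁻¹ * k * g) c', hm]
    have h3 := hgood₂ c' (g'⁻¹ * k * g) hm
    have h4 : (e₂ g' c')⁻¹ * e₂ k c = e₂ (g'⁻¹ * k * g) c' * (e₂ g c')⁻¹ := by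
      rw [inv_mul_eq_iff_eq_mul, ← mul_assoc, ← h2, mul_assoc, mul_inv_cancel, mul_one]
    calc e₁ g' c' * good c' * (e₂ g' c')⁻¹ * e₂ k c
        = e₁ g' c' * good c' * ((e₂ g' c')⁻¹ * e₂ k c) := by group
      _ = e₁ g' c' * (good c' * e₂ (g'⁻¹ * k * g) c') * (e₂ g c')⁻¹ := by rw [h4]; group
      _ = e₁ g' c' * (e₁ (g'⁻¹ * k * g) c' * good c') * (e₂ g c')⁻¹ := by rw [h3]
      _ = (e₁ g' c' * e₁ (g'⁻¹ * k * g) c') * good c' * (e₂ g c')⁻¹ := by group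
      _ = (e₁ k c * e₁ g c') * good c' * (e₂ g c')⁻¹ := by rw [h1]
      _ = e₁ k c * (e₁ g c' * good c' * (e₂ g c')⁻¹) := by group

/-! ### The standing hypotheses -/

/-- `Q` is normal and centric in the saturated system `F` -/
structure NC (F : FusionSystem S) (p : ℕ) (Q : Subgroup Ω) : Prop where
  sat : F.IsSaturated p
  normal : F.IsNormal Q
  centric : F.IsCentric Q

namespace NC

variable {F : FusionSystem S} {p : ℕ} {Q : Subgroup Ω} (h : NC F p Q)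

include h

theorem le : Q ≤ S := h.normal.1

theorem conj_mem {g : Ω} (hg : g ∈ S) {y : Ω} (hy : y ∈ Q) : g * y * g⁻¹ ∈ Q :=
  Cfsg.Agent.Lib.Helper90.StronglyClosed.conj_mem F
    (Cfsg.Agent.Lib.Helper90.IsNormal.stronglyClosed F h.normal) g hg y hy

theorem le_normalizer : S ≤ Subgroup.normalizer (Q : Set Ω) := by
  intro g hg
  rw [Subgroup.mem_normalizer_iff]
  intro y
  refine ⟨fun hy => h.conj_mem hg hy, fun hy => ?_⟩
  have := h.conj_mem (S.inv_mem hg) hy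
  have e : g⁻¹ * (g * y * g⁻¹) * g⁻¹⁻¹ = y := by group
  rwa [e] at this

theorem centralizer_le : centralizerIn S Q ≤ Q := h.centric.2 Q (isConj_refl F h.le)

theorem receptive : F.IsReceptive Q := by
  obtain ⟨Q', ⟨φ, hφ, hr⟩, -, hrec⟩ := h.sat Q h.le
  have : Q' = Q := by rw [← hr]; exact Cfsg.Agent.Lib.Helper90.IsNormal.range_eq F h.normal hφ
  rwa [this] at hrec

/-- the conjugation action of `S` on `Q`, with values in `Aut_F(Q)` -/
noncomputable def piHom : ↥S →* ↥(F.autGroup Q) :=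
  (conjAutHom h.le_normalizer).codRestrict (F.autGroup Q) (fun s => by
    apply autInducedBy_le_autGroup F h.le
    rw [autInducedBy_eq_range h.le_normalizer]
    exact ⟨s, rfl⟩)

theorem piHom_apply (s : ↥S) (x : Q) :
    (((h.piHom s : ↥(F.autGroup Q)) : MulAut Q) x : Ω) = (s : Ω) * x * (s : Ω)⁻¹ := rfl

/-- an element of `Aut_F(Q)` applied to an element of `Q`, as an element of `S` -/
noncomputable def act (a : ↥(F.autGroup Q)) (q : ↥S) : ↥S :=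
  if hq : (q : Ω) ∈ Q then ⟨((a : MulAut Q) ⟨q, hq⟩ : Q), h.le (Subtype.prop _)⟩ else 1

theorem act_coe (a : ↥(F.autGroup Q)) {q : ↥S} (hq : (q : Ω) ∈ Q) :
    ((h.act a q : ↥S) : Ω) = ((a : MulAut Q) ⟨q, hq⟩ : Q) := by
  unfold act
  rw [dif_pos hq]

theorem act_mem (a : ↥(F.autGroup Q)) {q : ↥S} (hq : (q : Ω) ∈ Q) : ((h.act a q : ↥S) : Ω) ∈ Q := by
  rw [h.act_coe a hq]
  exact Subtype.prop _

theorem act_mul (a b : ↥(F.autGroup Q)) {q : ↥S} (hq : (q : Ω) ∈ Q) :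
    h.act (a * b) q = h.act a (h.act b q) := by
  apply Subtype.ext
  rw [h.act_coe _ hq, h.act_coe a (h.act_mem b hq)]
  show (((a : MulAut Q) * (b : MulAut Q)) ⟨q, hq⟩ : Ω) = _
  rw [MulAut.mul_apply]
  congr 2
  exact Subtype.ext (h.act_coe b hq).symm

theorem act_one {q : ↥S} (hq : (q : Ω) ∈ Q) : h.act 1 q = q := by
  apply Subtype.ext
  rw [h.act_coe _ hq]
  rfl

theorem act_inv_act (a : ↥(F.autGroup Q)) {q : ↥S} (hq : (q : Ω) ∈ Q) :
    h.act a⁻¹ (h.act a q) = q := by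
  rw [← h.act_mul _ _ hq, inv_mul_cancel, h.act_one hq]

theorem act_act_inv (a : ↥(F.autGroup Q)) {q : ↥S} (hq : (q : Ω) ∈ Q) :
    h.act a (h.act a⁻¹ q) = q := by
  rw [← h.act_mul _ _ hq, mul_inv_cancel, h.act_one hq]

theorem act_map_mul (a : ↥(F.autGroup Q)) {q q' : ↥S} (hq : (q : Ω) ∈ Q) (hq' : (q' : Ω) ∈ Q) :
    h.act a (q * q') = h.act a q * h.act a q' := by
  apply Subtype.ext
  have hqq : ((q * q' : ↥S) : Ω) ∈ Q := Q.mul_mem hq hq'
  rw [Subgroup.coe_mul, h.act_coe a hq, h.act_coe a hq', h.act_coe a hqq]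
  have : (⟨((q * q' : ↥S) : Ω), hqq⟩ : Q) = ⟨q, hq⟩ * ⟨q', hq'⟩ := rfl
  rw [this, _root_.map_mul]
  rfl

theorem act_piHom (s : ↥S) {q : ↥S} (hq : (q : Ω) ∈ Q) : h.act (h.piHom s) q = s * q * s⁻¹ := by
  apply Subtype.ext
  rw [h.act_coe _ hq]
  rfl

theorem piHom_eq_iff (a b : ↥(F.autGroup Q)) :
    a = b ↔ ∀ q : ↥S, (q : Ω) ∈ Q → h.act a q = h.act b q := by
  constructor
  · rintro rfl q _
    rfl
  · intro hab
    apply Subtype.ext
    apply MulEquiv.ext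
    intro x
    have hx : (((⟨x, h.le x.2⟩ : ↥S)) : Ω) ∈ Q := x.2
    have := hab ⟨x, h.le x.2⟩ hx
    have h2 := congrArg (fun z : ↥S => (z : Ω)) this
    simp only [h.act_coe _ hx] at h2
    exact Subtype.ext h2

theorem piHom_eq_one_iff (s : ↥S) :
    h.piHom s = 1 ↔ (s : Ω) ∈ Q ∧ ∀ x ∈ Q, x * (s : Ω) = (s : Ω) * x := by
  constructor
  · intro hs
    have hc : ∀ x ∈ Q, x * (s : Ω) = (s : Ω) * x := by
      intro x hx
      have h1 := h.piHom_apply s ⟨x, hx⟩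
      rw [hs] at h1
      have h2 : (s : Ω) * x * (s : Ω)⁻¹ = x := h1.symm
      calc x * (s : Ω) = (s : Ω) * x * (s : Ω)⁻¹ * s := by rw [h2]
        _ = (s : Ω) * x := by group
    refine ⟨h.centralizer_le (mem_centralizerIn.mpr ⟨s.2, hc⟩), hc⟩
  · rintro ⟨-, hc⟩
    apply Subtype.ext
    apply MulEquiv.ext
    intro x
    apply Subtype.ext
    rw [h.piHom_apply]
    show _ = (x : Ω)
    rw [← hc x x.2]
    group

theorem act_inv' (a : ↥(F.autGroup Q)) {q : ↥S} (hq : (q : Ω) ∈ Q) : h.act a q⁻¹ = (h.act a q)⁻¹ := by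
  have hqi : ((q⁻¹ : ↥S) : Ω) ∈ Q := Q.inv_mem hq
  have h1 := h.act_map_mul a hq hqi
  have h0 : h.act a (1 : ↥S) = 1 := by
    have h1Q : (((1 : ↥S)) : Ω) ∈ Q := Q.one_mem
    have h2 := h.act_map_mul a h1Q h1Q
    rw [mul_one] at h2
    exact mul_eq_left.mp h2.symm
  have : q * q⁻¹ = 1 := mul_inv_cancel q
  rw [this, h0] at h1
  exact eq_inv_of_mul_eq_one_right h1.symm

theorem conj_piHom (a : ↥(F.autGroup Q)) {q : ↥S} (hq : (q : Ω) ∈ Q) :
    a * h.piHom q * a⁻¹ = h.piHom (h.act a q) := by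
  rw [h.piHom_eq_iff]
  intro x hx
  have hx' := h.act_mem a⁻¹ hx
  rw [h.act_mul _ _ hx, h.act_mul _ _ hx', h.act_piHom _ hx', h.act_piHom _ hx]
  have h1 : ((q * h.act a⁻¹ x : ↥S) : Ω) ∈ Q := Q.mul_mem hq hx'
  have hqi : ((q⁻¹ : ↥S) : Ω) ∈ Q := Q.inv_mem hq
  rw [h.act_map_mul a h1 hqi, h.act_map_mul a hq hx', h.act_act_inv a hx, h.act_inv' a hq]

/-- the subgroup `N_a` of `S` to which `a ∈ Aut_F(Q)` extends -/
noncomputable def Nsub (a : ↥(F.autGroup Q)) : Subgroup ↥S :=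
  (h.piHom.range).comap ((MulAut.conj a).toMonoidHom.comp h.piHom)

theorem mem_Nsub (a : ↥(F.autGroup Q)) (s : ↥S) :
    s ∈ h.Nsub a ↔ a * h.piHom s * a⁻¹ ∈ h.piHom.range := Iff.rfl

theorem mem_Nsub_of_mem (a : ↥(F.autGroup Q)) {q : ↥S} (hq : (q : Ω) ∈ Q) : q ∈ h.Nsub a := by
  rw [mem_Nsub, h.conj_piHom a hq]
  exact ⟨_, rfl⟩

theorem exists_extension (a : ↥(F.autGroup Q)) :
    ∃ ψ : ↥S → ↥S, IsFMap F (h.Nsub a) ψ ∧ ∀ q : ↥S, (q : Ω) ∈ Q → ψ q = h.act a q := by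
  have hφ : Q.subtype.comp ((a : MulAut Q)).toMonoidHom ∈ F.Hom Q := (mem_autGroup_iff F h.le _).mp a.2
  have hr : (Q.subtype.comp ((a : MulAut Q)).toMonoidHom).range = Q :=
    Cfsg.Agent.Lib.Helper90.IsNormal.range_eq F h.normal hφ
  obtain ⟨ψ', hψ', hext⟩ := h.receptive.2 Q _ hφ hr
  let ψ : ↥S → ↥S := fun s =>
    if hs : (s : Ω) ∈ extender S Q (Q.subtype.comp ((a : MulAut Q)).toMonoidHom) then
      ⟨ψ' ⟨s, hs⟩, hom_mem F hψ' _⟩ else 1
  have hψval : ∀ (s : ↥S) (hs : (s : Ω) ∈ extender S Q (Q.subtype.comp ((a : MulAut Q)).toMonoidHom)),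
      ((ψ s : ↥S) : Ω) = ψ' ⟨s, hs⟩ := by
    intro s hs
    simp only [ψ, dif_pos hs]
  refine ⟨ψ, ⟨_, ψ', hψ', ?_, ?_⟩, ?_⟩
  · intro s hs
    rw [mem_extender_iff]
    obtain ⟨s', hs'⟩ := (h.mem_Nsub a s).mp hs
    refine ⟨s.2, h.le_normalizer s.2, s', s'.2, fun x hx => ?_⟩
    have e : h.piHom s' * a = a * h.piHom s := by rw [hs']; group
    have e2 := congrArg (fun b : ↥(F.autGroup Q) => (((b : MulAut Q) x : Q) : Ω)) e
    simp only [Subgroup.coe_mul, MulAut.mul_apply] at e2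
    rw [h.piHom_apply] at e2
    show (((a : MulAut Q) ⟨(s : Ω) * x * (s : Ω)⁻¹, hx⟩ : Q) : Ω) =
      (s' : Ω) * (((a : MulAut Q) x : Q) : Ω) * (s' : Ω)⁻¹
    rw [e2]
    congr 2
  · intro s hs _
    exact (hψval s hs).symm
  · intro q hq
    have hqN : (q : Ω) ∈ extender S Q (Q.subtype.comp ((a : MulAut Q)).toMonoidHom) :=
      Cfsg.Agent.Lib.Helper87.le_extender h.le (fun x => h.le (Subtype.prop _)) hq
    apply Subtype.ext
    rw [hψval q hqN, h.act_coe a hq]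
    exact hext q hq hqN

theorem extension_pi' {a : ↥(F.autGroup Q)} {D : Subgroup ↥S} {ψ : ↥S → ↥S} (hψ : IsFMap F D ψ)
    (hQD : ∀ q : ↥S, (q : Ω) ∈ Q → q ∈ D)
    (hψQ : ∀ q : ↥S, (q : Ω) ∈ Q → ψ q = h.act a q) {s : ↥S} (hs : s ∈ D) :
    h.piHom (ψ s) = a * h.piHom s * a⁻¹ := by
  rw [h.piHom_eq_iff]
  intro x hx
  have hx' := h.act_mem a⁻¹ hx
  rw [h.act_piHom _ hx, h.act_mul _ _ hx, h.act_mul _ _ hx', h.act_piHom _ hx']
  have hc : ((s * h.act a⁻¹ x * s⁻¹ : ↥S) : Ω) ∈ Q := h.conj_mem s.2 hx'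
  rw [← hψQ _ hc, hψ.map_mul (Subgroup.mul_mem _ hs (hQD _ hx')) (Subgroup.inv_mem _ hs),
    hψ.map_mul hs (hQD _ hx'), hψ.map_inv hs, hψQ _ hx', h.act_act_inv a hx]

theorem extension_pi {a : ↥(F.autGroup Q)} {ψ : ↥S → ↥S} (hψ : IsFMap F (h.Nsub a) ψ)
    (hψQ : ∀ q : ↥S, (q : Ω) ∈ Q → ψ q = h.act a q) {s : ↥S} (hs : s ∈ h.Nsub a) :
    h.piHom (ψ s) = a * h.piHom s * a⁻¹ :=
  h.extension_pi' hψ (fun _ hq => h.mem_Nsub_of_mem a hq) hψQ hs

/-! ### The orbit set and the choices -/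

/-- the set of cosets of `Aut_S(Q)` in `Aut_F(Q)` -/
abbrev Orb (h : NC F p Q) : Type u := ↥(F.autGroup Q) ⧸ h.piHom.range

/-- the base point -/
noncomputable def c₀ : h.Orb := ((1 : ↥(F.autGroup Q)) : ↥(F.autGroup Q) ⧸ h.piHom.range)

theorem smul_c₀_iff (a : ↥(F.autGroup Q)) : a • h.c₀ = h.c₀ ↔ a ∈ h.piHom.range := by
  unfold c₀
  rw [MulAction.Quotient.smul_mk, QuotientGroup.eq]
  show (a * 1)⁻¹ * 1 ∈ h.piHom.range ↔ _
  rw [mul_one, mul_one, inv_mem_iff]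

theorem piHom_smul_c₀ (s : ↥S) : h.piHom s • h.c₀ = h.c₀ := (h.smul_c₀_iff _).mpr ⟨s, rfl⟩

theorem mem_Nsub_inv_iff (a : ↥(F.autGroup Q)) (s : ↥S) :
    s ∈ h.Nsub a⁻¹ ↔ h.piHom s • (a • h.c₀) = a • h.c₀ := by
  rw [mem_Nsub, ← h.smul_c₀_iff, inv_inv, mul_smul, mul_smul, inv_smul_eq_iff]

/-- elements of `Q` act trivially on the orbit set -/
theorem piHom_smul_of_mem {q : ↥S} (hq : (q : Ω) ∈ Q) (c : h.Orb) : h.piHom q • c = c := by
  induction c using QuotientGroup.induction_on with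
  | H a =>
    rw [MulAction.Quotient.smul_mk, QuotientGroup.eq]
    show (h.piHom q * a)⁻¹ * a ∈ h.piHom.range
    have hqi : ((q⁻¹ : ↥S) : Ω) ∈ Q := Q.inv_mem hq
    have e : (h.piHom q * a)⁻¹ * a = a⁻¹ * h.piHom q⁻¹ * a⁻¹⁻¹ := by
      rw [_root_.map_inv]; group
    rw [e, h.conj_piHom a⁻¹ hqi]
    exact ⟨_, rfl⟩

/-- the choices made in the construction -/
structure Choice (h : NC F p Q) where
  b : h.Orb → h.Orb
  lam : h.Orb → ↥S
  t : h.Orb → ↥(F.autGroup Q)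
  φb : h.Orb → ↥S → ↥S
  lam_smul : ∀ c, h.piHom (lam c) • b c = c
  b_smul : ∀ s c, b (h.piHom s • c) = b c
  b_base : b h.c₀ = h.c₀
  lam_base : lam h.c₀ = 1
  t_smul : ∀ c, t c • h.c₀ = c
  t_base : t h.c₀ = 1
  φb_map : ∀ c, IsFMap F (h.Nsub (t c)⁻¹) (φb c)
  φb_Q : ∀ c (q : ↥S), (q : Ω) ∈ Q → φb c q = h.act (t c)⁻¹ q
  φb_base : ∀ s, φb h.c₀ s = s

theorem exists_choice : Nonempty (Choice h) := by
  -- orbit representatives
  let _ : MulAction ↥S h.Orb := MulAction.compHom h.Orb h.piHom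
  have hsmul : ∀ (s : ↥S) (c : h.Orb), s • c = h.piHom s • c := fun _ _ => rfl
  let rep : h.Orb → h.Orb := fun c => (Quotient.mk (MulAction.orbitRel ↥S h.Orb) c).out
  have hrep : ∀ c : h.Orb, ∃ k : ↥S, h.piHom k • rep c = c := by
    intro c
    have h1 : Quotient.mk (MulAction.orbitRel ↥S h.Orb) (rep c) =
        Quotient.mk (MulAction.orbitRel ↥S h.Orb) c := Quotient.out_eq _
    have h3 : rep c ∈ MulAction.orbit ↥S c := Quotient.exact h1
    obtain ⟨k, hk⟩ := h3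
    refine ⟨k⁻¹, ?_⟩
    rw [← hsmul, ← hk, inv_smul_smul]
  choose kk hkk using hrep
  have hrep_smul : ∀ (s : ↥S) (c : h.Orb), rep (h.piHom s • c) = rep c := by
    intro s c
    have h1 : Quotient.mk (MulAction.orbitRel ↥S h.Orb) (h.piHom s • c) =
        Quotient.mk (MulAction.orbitRel ↥S h.Orb) c := by
      apply Quotient.sound
      show h.piHom s • c ∈ MulAction.orbit ↥S c
      exact ⟨s, rfl⟩
    show (Quotient.mk (MulAction.orbitRel ↥S h.Orb) (h.piHom s • c)).out =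
      (Quotient.mk (MulAction.orbitRel ↥S h.Orb) c).out
    rw [h1]
  -- representatives in `Aut_F(Q)`
  let t : h.Orb → ↥(F.autGroup Q) := fun c => if c = h.c₀ then 1 else Quotient.out c
  have ht_smul : ∀ c, t c • h.c₀ = c := by
    intro c
    by_cases hc : c = h.c₀
    · subst hc
      show (if h.c₀ = h.c₀ then (1 : ↥(F.autGroup Q)) else _) • h.c₀ = h.c₀
      rw [if_pos rfl, one_smul]
    · show (if c = h.c₀ then (1 : ↥(F.autGroup Q)) else _) • h.c₀ = c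
      rw [if_neg hc]
      unfold c₀
      rw [MulAction.Quotient.smul_mk]
      show ((Quotient.out c * 1 : ↥(F.autGroup Q)) : h.Orb) = c
      rw [mul_one]
      exact QuotientGroup.out_eq' c
  have ht_base : t h.c₀ = 1 := by
    show (if h.c₀ = h.c₀ then (1 : ↥(F.autGroup Q)) else _) = 1
    rw [if_pos rfl]
  -- extensions
  have hext : ∀ c : h.Orb, ∃ ψ : ↥S → ↥S, IsFMap F (h.Nsub (t c)⁻¹) ψ ∧
      (∀ q : ↥S, (q : Ω) ∈ Q → ψ q = h.act (t c)⁻¹ q) ∧ (c = h.c₀ → ∀ s, ψ s = s) := by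
    intro c
    by_cases hc : c = h.c₀
    · refine ⟨fun s => s, isFMap_id F _, fun q hq => ?_, fun _ s => rfl⟩
      rw [hc, ht_base, inv_one, h.act_one hq]
    · obtain ⟨ψ, h1, h2⟩ := h.exists_extension (t c)⁻¹
      exact ⟨ψ, h1, h2, fun h3 => absurd h3 hc⟩
  choose φb hφ1 hφ2 hφ3 using hext
  refine ⟨⟨fun c => if c = h.c₀ then h.c₀ else rep c, fun c => if c = h.c₀ then 1 else kk c, t, φb,
    ?_, ?_, ?_, ?_, ht_smul, ht_base, hφ1, hφ2, hφ3 _ rfl⟩⟩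
  · intro c
    by_cases hc : c = h.c₀
    · subst hc
      show h.piHom (if h.c₀ = h.c₀ then (1 : ↥S) else _) • (if h.c₀ = h.c₀ then h.c₀ else _) = h.c₀
      rw [if_pos rfl, if_pos rfl, _root_.map_one, one_smul]
    · show h.piHom (if c = h.c₀ then (1 : ↥S) else _) • (if c = h.c₀ then h.c₀ else _) = c
      rw [if_neg hc, if_neg hc]
      exact hkk c
  · intro s c
    by_cases hc : c = h.c₀
    · have h1 : h.piHom s • c = h.c₀ := by rw [hc]; exact h.piHom_smul_c₀ s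
      show (if h.piHom s • c = h.c₀ then h.c₀ else _) = (if c = h.c₀ then h.c₀ else _)
      rw [if_pos hc, if_pos h1]
    · have h1 : h.piHom s • c ≠ h.c₀ := by
        intro h1
        apply hc
        have h2 : c = (h.piHom s)⁻¹ • h.c₀ := eq_inv_smul_iff.mpr h1
        rw [h2, ← _root_.map_inv]
        exact h.piHom_smul_c₀ _
      show (if h.piHom s • c = h.c₀ then h.c₀ else _) = (if c = h.c₀ then h.c₀ else _)
      rw [if_neg hc, if_neg h1]
      exact hrep_smul s c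
  · show (if h.c₀ = h.c₀ then h.c₀ else _) = h.c₀
    rw [if_pos rfl]
  · show (if h.c₀ = h.c₀ then (1 : ↥S) else _) = 1
    rw [if_pos rfl]

/-- the stabilizer in `S` of a point of the orbit set -/
noncomputable def stab (c : h.Orb) : Subgroup ↥S :=
  (MulAction.stabilizer ↥(F.autGroup Q) c).comap h.piHom

theorem mem_stab (c : h.Orb) (s : ↥S) : s ∈ h.stab c ↔ h.piHom s • c = c := Iff.rfl

theorem mem_stab_of_mem {q : ↥S} (hq : (q : Ω) ∈ Q) (c : h.Orb) : q ∈ h.stab c :=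
  (h.mem_stab c q).mpr (h.piHom_smul_of_mem hq c)

namespace Choice

variable {h} (C : Choice h)

/-- monomial representatives -/
noncomputable def r (c : h.Orb) : ↥(F.autGroup Q) := h.piHom (C.lam c) * C.t (C.b c)

theorem r_smul (c : h.Orb) : C.r c • h.c₀ = c := by
  unfold r
  rw [mul_smul, C.t_smul, C.lam_smul]

theorem r_base : C.r h.c₀ = 1 := by
  unfold r
  rw [C.lam_base, C.b_base, C.t_base, _root_.map_one, one_mul]

/-- the cocycle -/
noncomputable def ε (s : ↥S) (c : h.Orb) : ↥S :=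
  C.φb (C.b c) ((C.lam (h.piHom s • c))⁻¹ * s * C.lam c)

theorem arg_mem (s : ↥S) (c : h.Orb) :
    (C.lam (h.piHom s • c))⁻¹ * s * C.lam c ∈ h.Nsub (C.t (C.b c))⁻¹ := by
  rw [h.mem_Nsub_inv_iff, C.t_smul, _root_.map_mul, _root_.map_mul, mul_smul, mul_smul, C.lam_smul,
    _root_.map_inv, inv_smul_eq_iff]
  have := C.lam_smul (h.piHom s • c)
  rw [C.b_smul] at this
  exact this.symm

theorem ε_mul (s s' : ↥S) (c : h.Orb) : C.ε (s * s') c = C.ε s (h.piHom s' • c) * C.ε s' c := by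
  unfold ε
  have h1 := C.arg_mem s (h.piHom s' • c)
  rw [C.b_smul] at h1
  rw [C.b_smul, ← (C.φb_map (C.b c)).map_mul h1 (C.arg_mem s' c)]
  congr 1
  rw [_root_.map_mul, mul_smul]
  group

theorem ε_π (s : ↥S) (c : h.Orb) :
    h.piHom (C.ε s c) = (C.r (h.piHom s • c))⁻¹ * h.piHom s * C.r c := by
  unfold ε r
  rw [h.extension_pi (C.φb_map (C.b c)) (C.φb_Q (C.b c)) (C.arg_mem s c), C.b_smul, inv_inv]
  simp only [_root_.map_mul, _root_.map_inv]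
  group

theorem ε_base (s : ↥S) : C.ε s h.c₀ = s := by
  unfold ε
  rw [h.piHom_smul_c₀, C.lam_base, C.b_base, C.φb_base, inv_one, one_mul, mul_one]

theorem ε_Q {q : ↥S} (hq : (q : Ω) ∈ Q) (c : h.Orb) : C.ε q c = h.act (C.r c)⁻¹ q := by
  unfold ε r
  rw [h.piHom_smul_of_mem hq]
  have h0 := h.act_piHom (C.lam c)⁻¹ hq
  rw [inv_inv] at h0
  have h1 : (((C.lam c)⁻¹ * q * C.lam c : ↥S) : Ω) ∈ Q := by
    rw [← h0]
    exact h.act_mem _ hq
  rw [C.φb_Q _ _ h1, mul_inv_rev, h.act_mul _ _ hq, ← _root_.map_inv, h0]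

theorem ε_isFMap (c : h.Orb) : IsFMap F (h.stab c) (fun s => C.ε s c) := by
  have h1 : IsFMap F (h.stab c) (fun s => (C.lam c)⁻¹ * s * (C.lam c)⁻¹⁻¹) := isFMap_conj F _ _
  have hm : ∀ s ∈ h.stab c, (C.lam c)⁻¹ * s * (C.lam c)⁻¹⁻¹ ∈ h.Nsub (C.t (C.b c))⁻¹ := by
    intro s hs
    have := C.arg_mem s c
    rw [(h.mem_stab c s).mp hs] at this
    rwa [inv_inv]
  refine (h1.comp (C.φb_map (C.b c)) hm).congr (fun s hs => ?_)
  show C.ε s c = _
  unfold ε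
  rw [(h.mem_stab c s).mp hs, inv_inv]

theorem ε_one (c : h.Orb) : C.ε 1 c = 1 := by
  have h1 := C.ε_mul 1 1 c
  rw [mul_one, _root_.map_one, one_smul] at h1
  exact mul_eq_left.mp h1.symm

end Choice

/-! ### The centre of `Q` -/

/-- the centre of `Q`, mapped into `S` -/
noncomputable def iHom : ↥(Subgroup.center ↥Q) →* ↥S :=
  (Subgroup.inclusion h.le).comp (Subgroup.center ↥Q).subtype

theorem iHom_coe (z : ↥(Subgroup.center ↥Q)) : ((h.iHom z : ↥S) : Ω) = ((z : ↥Q) : Ω) := rfl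

theorem iHom_mem (z : ↥(Subgroup.center ↥Q)) : ((h.iHom z : ↥S) : Ω) ∈ Q := (z : ↥Q).2

theorem iHom_injective : Function.Injective h.iHom := by
  intro z w hzw
  have := congrArg (fun s : ↥S => (s : Ω)) hzw
  exact Subtype.ext (Subtype.ext this)

/-- the action of `Aut_F(Q)` on the centre of `Q` -/
noncomputable def thetaHom (_h' : NC F p Q) : ↥(F.autGroup Q) →* MulAut ↥(Subgroup.center ↥Q) :=
  (centerAut ↥Q).comp (F.autGroup Q).subtype

theorem act_iHom (a : ↥(F.autGroup Q)) (z : ↥(Subgroup.center ↥Q)) :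
    h.act a (h.iHom z) = h.iHom (h.thetaHom a z) := by
  apply Subtype.ext
  rw [h.act_coe a (h.iHom_mem z)]
  rfl

theorem mem_iHom_range (s : ↥S) :
    s ∈ h.iHom.range ↔ (s : Ω) ∈ Q ∧ ∀ x ∈ Q, x * (s : Ω) = (s : Ω) * x := by
  constructor
  · rintro ⟨z, rfl⟩
    refine ⟨h.iHom_mem z, fun x hx => ?_⟩
    have := Subgroup.mem_center_iff.mp z.2 ⟨x, hx⟩
    exact congrArg (fun q : ↥Q => (q : Ω)) this
  · rintro ⟨hsQ, hc⟩
    refine ⟨⟨⟨s, hsQ⟩, Subgroup.mem_center_iff.mpr (fun g => Subtype.ext (hc g g.2))⟩, ?_⟩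
    exact Subtype.ext rfl

theorem piHom_eq_one_iff' (s : ↥S) : h.piHom s = 1 ↔ s ∈ h.iHom.range := by
  rw [h.piHom_eq_one_iff, h.mem_iHom_range]

theorem iHom_thetaHom_piHom (s : ↥S) (m : ↥(Subgroup.center ↥Q)) :
    h.iHom (h.thetaHom (h.piHom s) m) = s * h.iHom m * s⁻¹ := by
  rw [← h.act_iHom, h.act_piHom s (h.iHom_mem m)]

/-! ### Stability -/

theorem stable_aux [Finite S] [Fact p.Prime] (hS : IsPGroup p S) (C : Choice h) (a : ↥(F.autGroup Q)) :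
    ∃ (y : h.Orb → ↥S) (φ : ↥S → ↥S), (∀ c, h.piHom (y c) = (C.r (a • c))⁻¹ * a * C.r c) ∧
      ∀ s, a⁻¹ * h.piHom s * a ∈ h.piHom.range → h.piHom (φ s) = a⁻¹ * h.piHom s * a ∧
        ∀ c, y (h.piHom (φ s) • c) * C.ε (φ s) c = C.ε s (a • c) * y c := by
  obtain ⟨φ, hφ, hφQ⟩ := h.exists_extension a⁻¹
  have hK : ∀ s, s ∈ h.Nsub a⁻¹ ↔ a⁻¹ * h.piHom s * a ∈ h.piHom.range := by
    intro s
    rw [h.mem_Nsub, inv_inv]
  have hφπ : ∀ s ∈ h.Nsub a⁻¹, h.piHom (φ s) = a⁻¹ * h.piHom s * a := by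
    intro s hs
    rw [h.extension_pi hφ hφQ hs, inv_inv]
  -- the action of `K = N_{a⁻¹}` on the orbit set
  let κ : ↥(h.Nsub a⁻¹) →* ↥(F.autGroup Q) :=
    (MulAut.conj a⁻¹).toMonoidHom.comp (h.piHom.comp (h.Nsub a⁻¹).subtype)
  have hκ : ∀ k : ↥(h.Nsub a⁻¹), κ k = a⁻¹ * h.piHom k * a := by
    intro k
    show a⁻¹ * h.piHom k * a⁻¹⁻¹ = _
    rw [inv_inv]
  let _ : MulAction ↥(h.Nsub a⁻¹) h.Orb := MulAction.compHom h.Orb κ
  have hsm : ∀ (k : ↥(h.Nsub a⁻¹)) (c : h.Orb), k • c = (a⁻¹ * h.piHom k * a) • c := by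
    intro k c
    rw [← hκ k]
    rfl
  have hsm' : ∀ (k : ↥(h.Nsub a⁻¹)) (c : h.Orb), a • (k • c) = h.piHom k • (a • c) := by
    intro k c
    rw [hsm, ← mul_smul, ← mul_smul]
    congr 1
    group
  have hsmφ : ∀ (k : ↥(h.Nsub a⁻¹)) (c : h.Orb), k • c = h.piHom (φ k) • c := by
    intro k c
    rw [hsm, hφπ k k.2]
  obtain ⟨y, hy1, hy2⟩ := exists_twisted_section (K := ↥(h.Nsub a⁻¹)) (C := h.Orb) (T := ↥S)
    (fun k c => C.ε k (a • c)) (fun k c => C.ε (φ k) c)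
    (fun k k' c => by
      show C.ε ((k : ↥S) * (k' : ↥S)) (a • c) = C.ε k (a • (k' • c)) * C.ε k' (a • c)
      rw [C.ε_mul, hsm'])
    (fun k k' c => by
      show C.ε (φ ((k : ↥S) * (k' : ↥S))) c = C.ε (φ k) (k' • c) * C.ε (φ k') c
      rw [hφ.map_mul k.2 k'.2, C.ε_mul, hsmφ])
    (fun c v => h.piHom v = (C.r (a • c))⁻¹ * a * C.r c)
    (fun k c v hv => by
      show h.piHom (C.ε k (a • c) * v * (C.ε (φ k) c)⁻¹) = (C.r (a • (k • c)))⁻¹ * a * C.r (k • c)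
      rw [_root_.map_mul, _root_.map_mul, _root_.map_inv, C.ε_π, C.ε_π, hv, hsm', ← hsmφ, hφπ k k.2]
      group)
    (fun c => by
      -- a first lift of the required element
      have hy₁ : (C.r (a • c))⁻¹ * a * C.r c ∈ h.piHom.range := by
        rw [← h.smul_c₀_iff, mul_smul, mul_smul, C.r_smul, inv_smul_eq_iff, C.r_smul]
      obtain ⟨y₁, hy₁⟩ := hy₁
      -- the two maps on the stabilizer
      have hD1 : ∀ s ∈ h.Nsub a⁻¹ ⊓ h.stab (a • c), φ s ∈ h.stab c := by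
        intro s hs
        rw [h.mem_stab, hφπ s hs.1, mul_smul, mul_smul, (h.mem_stab _ _).mp hs.2, inv_smul_smul]
      have hψ₁ : IsFMap F (h.Nsub a⁻¹ ⊓ h.stab (a • c)) (fun s => C.ε (φ s) c) :=
        (hφ.mono inf_le_left).comp (C.ε_isFMap c) hD1
      have hψ₂ : IsFMap F (h.Nsub a⁻¹ ⊓ h.stab (a • c))
          (fun s => y₁⁻¹ * C.ε s (a • c) * y₁⁻¹⁻¹) :=
        ((C.ε_isFMap (a • c)).mono inf_le_right).comp (isFMap_conj F ⊤ y₁⁻¹) (fun _ _ => trivial)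
      have hQD : ∀ s : ↥S, (s : Ω) ∈ Q → s ∈ h.Nsub a⁻¹ ⊓ h.stab (a • c) :=
        fun s hs => ⟨h.mem_Nsub_of_mem _ hs, h.mem_stab_of_mem hs _⟩
      have hag : ∀ s : ↥S, (s : Ω) ∈ Q →
          (fun s => C.ε (φ s) c) s = (fun s => y₁⁻¹ * C.ε s (a • c) * y₁⁻¹⁻¹) s := by
        intro q hq
        show C.ε (φ q) c = y₁⁻¹ * C.ε q (a • c) * y₁⁻¹⁻¹
        have h1 : ((h.act a⁻¹ q : ↥S) : Ω) ∈ Q := h.act_mem _ hq
        have h2 : ((h.act (C.r (a • c))⁻¹ q : ↥S) : Ω) ∈ Q := h.act_mem _ hq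
        rw [hφQ q hq, C.ε_Q h1, C.ε_Q hq, ← h.act_piHom y₁⁻¹ h2, ← h.act_mul _ _ hq, ← h.act_mul _ _ hq,
          _root_.map_inv, hy₁]
        congr 1
        group
      obtain ⟨z, hzQ, hzc, hz⟩ := IsFMap.agree p hS h.sat h.centric hψ₁ hψ₂ hQD hag
      have hzD := hQD z hzQ
      have hπz : h.piHom z = 1 := (h.piHom_eq_one_iff z).mpr ⟨hzQ, hzc⟩
      have hw : h.piHom (C.ε (φ z) c) = 1 := by
        have h1 : ((h.act a⁻¹ z : ↥S) : Ω) ∈ Q := h.act_mem _ hzQ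
        rw [hφQ z hzQ, C.ε_Q h1, ← h.conj_piHom _ h1, ← h.conj_piHom _ hzQ, hπz]
        group
      refine ⟨y₁ * C.ε (φ z) c, ?_, fun k hk => ?_⟩
      · show h.piHom (y₁ * C.ε (φ z) c) = _
        rw [_root_.map_mul, hw, mul_one, hy₁]
      · have hkD : (k : ↥S) ∈ h.Nsub a⁻¹ ⊓ h.stab (a • c) := by
          refine ⟨k.2, (h.mem_stab _ _).mpr ?_⟩
          rw [← hsm', hk]
        have h3 := hz k hkD
        have e1 : C.ε (φ (z * (k : ↥S) * z⁻¹)) c = C.ε (φ (z * (k : ↥S))) c * C.ε (φ z⁻¹) c :=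
          hψ₁.map_mul (Subgroup.mul_mem _ hzD hkD) (Subgroup.inv_mem _ hzD)
        have e2 : C.ε (φ (z * (k : ↥S))) c = C.ε (φ z) c * C.ε (φ k) c := hψ₁.map_mul hzD hkD
        have e3 : C.ε (φ z⁻¹) c = (C.ε (φ z) c)⁻¹ := hψ₁.map_inv hzD
        have h5 : y₁⁻¹ * C.ε k (a • c) * y₁⁻¹⁻¹ = C.ε (φ z) c * C.ε (φ k) c * (C.ε (φ z) c)⁻¹ := by
          rw [← e3, ← e2, ← e1]
          exact h3
        show C.ε k (a • c) * (y₁ * C.ε (φ z) c) = y₁ * C.ε (φ z) c * C.ε (φ k) c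
        calc C.ε k (a • c) * (y₁ * C.ε (φ z) c)
            = y₁ * (y₁⁻¹ * C.ε k (a • c) * y₁⁻¹⁻¹) * C.ε (φ z) c := by group
          _ = y₁ * C.ε (φ z) c * C.ε (φ k) c := by rw [h5]; group)
  refine ⟨y, φ, hy1, fun s hs => ?_⟩
  have hsK : s ∈ h.Nsub a⁻¹ := (hK s).mpr hs
  refine ⟨hφπ s hsK, fun c => ?_⟩
  have := hy2 ⟨s, hsK⟩ c
  rw [hsmφ] at this
  exact this

/-! ### The model -/

/-- the data for the abstract construction -/
noncomputable def setup [Finite S] [Fact p.Prime] (hS : IsPGroup p S) (C : Choice h) :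
    ModelExist.Setup ↥S ↥(F.autGroup Q) ↥(Subgroup.center ↥Q) h.Orb where
  π := h.piHom
  i := h.iHom
  θ := h.thetaHom
  c₀ := h.c₀
  r := C.r
  ε := C.ε
  i_inj := h.iHom_injective
  ker_eq := h.piHom_eq_one_iff'
  θ_conj := h.iHom_thetaHom_piHom
  stab := h.smul_c₀_iff
  r_smul := C.r_smul
  r_base := C.r_base
  ε_mul := C.ε_mul
  ε_π := C.ε_π
  ε_base := C.ε_base
  ε_ker := fun m c => by rw [C.ε_Q (h.iHom_mem m), h.act_iHom]
  stable := h.stable_aux hS C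

theorem piHom_range_eq :
    h.piHom.range = (autInducedBy S Q).subgroupOf (F.autGroup Q) := by
  ext a
  rw [Subgroup.mem_subgroupOf, autInducedBy_eq_range h.le_normalizer]
  constructor
  · rintro ⟨s, rfl⟩
    exact ⟨s, rfl⟩
  · rintro ⟨s, hs⟩
    exact ⟨s, Subtype.ext hs⟩

theorem not_dvd_card_Orb [Finite S] [Fact p.Prime] : ¬ p ∣ Nat.card h.Orb := by
  obtain ⟨-, R, hR⟩ := Cfsg.Agent.Lib.Helper90.IsNormal.isFullyAutomized F h.sat h.normal
  have hfinA : Finite ↥(F.autGroup Q) := Cfsg.Agent.Lib.Helper87.finite_autGroup F h.le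
  have h1 := R.not_dvd_index
  rw [hR, ← h.piHom_range_eq] at h1
  exact h1

/-- **Existence of models**: a saturated fusion system with a normal centric subgroup has a model. -/
theorem exists_isModel [Finite S] [Fact p.Prime] (hS : IsPGroup p S) :
    ∃ (G : Type u) (_ : Group G) (ι : S →* G), F.IsModel p G ι := by
  obtain ⟨C⟩ := h.exists_choice
  have hfinA : Finite ↥(F.autGroup Q) := Cfsg.Agent.Lib.Helper87.finite_autGroup F h.le
  obtain ⟨G, hG, hfin, ι, ρ, hιinj, hρsurj, hρι, hker, hconj⟩ :=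
    ModelExist.Setup.exists_model p hS h.not_dvd_card_Orb (h.setup hS C)
  replace hρι : ∀ s, ρ (ι s) = h.piHom s := hρι
  replace hker : ∀ g, ρ g ∈ h.piHom.range → g ∈ ι.range := hker
  replace hconj : ∀ g : G, ∃ (c : h.Orb) (v : ↥S), ρ g = h.piHom v * (C.r c)⁻¹ ∧
      ∀ x x' : ↥S, g * ι x * g⁻¹ = ι x' → h.piHom x • c = c ∧ x' = v * C.ε x c * v⁻¹ := hconj
  -- conjugation on `Q` is given by `ρ`
  have hR3 : ∀ (g : G) (q : ↥S), (q : Ω) ∈ Q → g * ι q * g⁻¹ = ι (h.act (ρ g) q) := by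
    intro g q hq
    have h1 : ρ (g * ι q * g⁻¹) ∈ h.piHom.range := by
      rw [_root_.map_mul, _root_.map_mul, _root_.map_inv, hρι, h.conj_piHom _ hq]
      exact ⟨_, rfl⟩
    obtain ⟨x', hx'⟩ := hker _ h1
    obtain ⟨c, v, hρg, hcv⟩ := hconj g
    have h2 := (hcv q x' hx'.symm).2
    rw [← hx', h2, C.ε_Q hq, hρg, h.act_mul _ _ hq, h.act_piHom _ (h.act_mem _ hq)]
  -- conjugations are maps of the system
  have hback : ∀ (P : Subgroup Ω) (hP : P ≤ S) (φ : P →* Ω) (hφ : ∀ x : P, φ x ∈ S) (g : G),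
      (∀ x : P, ι ⟨φ x, hφ x⟩ = g * ι ⟨x, hP x.2⟩ * g⁻¹) → φ ∈ F.Hom P := by
    intro P hP φ hφ g hg
    obtain ⟨c, v, -, hcv⟩ := hconj g
    have hψ : IsFMap F (h.stab c) (fun s => v * C.ε s c * v⁻¹) :=
      (C.ε_isFMap c).comp (isFMap_conj F ⊤ v) (fun _ _ => trivial)
    refine hψ.hom_mem' hP (fun x => ?_) (fun x => ?_)
    · exact (h.mem_stab _ _).mpr (hcv _ _ (hg x).symm).1
    · have := (hcv _ _ (hg x).symm).2
      exact congrArg (fun s : ↥S => (s : Ω)) this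
  refine ⟨G, hG, ι, hfin, ⟨hιinj, fun P hP φ hφS =>
    ⟨fun hφ => ?_, fun ⟨g, hg⟩ => hback P hP φ hφS g hg⟩⟩, ?_, ?_⟩
  · -- maps of the system are conjugations
    obtain ⟨ψ, hψ, hψP, hψQ⟩ := h.normal.2 P φ hφ
    have hRS : P ⊔ Q ≤ S := hom_le F hψ
    have hψQmem : ψ.comp (Subgroup.inclusion (le_sup_right : Q ≤ P ⊔ Q)) ∈ F.Hom Q :=
      restrict_mem F le_sup_right hψ
    have hrange : (ψ.comp (Subgroup.inclusion (le_sup_right : Q ≤ P ⊔ Q))).range = Q := by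
      apply le_antisymm
      · rintro _ ⟨q, rfl⟩
        have h1 : (ψ.comp (Subgroup.inclusion (le_sup_right : Q ≤ P ⊔ Q))) q ∈
            (Q.subgroupOf (P ⊔ Q)).map ψ := ⟨Subgroup.inclusion le_sup_right q, q.2, rfl⟩
        exact hψQ.le h1
      · intro y hy
        have h1 : y ∈ (Q.subgroupOf (P ⊔ Q)).map ψ := hψQ.ge hy
        obtain ⟨x, hx, rfl⟩ := h1
        exact ⟨⟨x, hx⟩, rfl⟩
    obtain ⟨α, hα, hαv⟩ := Cfsg.Agent.Lib.Helper89.exists_aut_of_range_eq F hψQmem hrange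
    obtain ⟨h₀, hh₀⟩ := hρsurj ⟨α, hα⟩
    -- `ψ` as a function on `S`
    let D : Subgroup ↥S := (P ⊔ Q).comap S.subtype
    let ψf : ↥S → ↥S := fun s =>
      if hs : (s : Ω) ∈ P ⊔ Q then ⟨ψ ⟨s, hs⟩, hom_mem F hψ _⟩ else 1
    have hψf : ∀ (s : ↥S) (hs : (s : Ω) ∈ P ⊔ Q), ((ψf s : ↥S) : Ω) = ψ ⟨s, hs⟩ := by
      intro s hs
      simp only [ψf, dif_pos hs]
    have hψfmap : IsFMap F D ψf := ⟨P ⊔ Q, ψ, hψ, fun s hs => hs, fun s hs _ => (hψf s hs).symm⟩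
    have hQD : ∀ q : ↥S, (q : Ω) ∈ Q → q ∈ D := fun q hq => (le_sup_right : Q ≤ P ⊔ Q) hq
    have hψfQ : ∀ q : ↥S, (q : Ω) ∈ Q → ψf q = h.act ⟨α, hα⟩ q := by
      intro q hq
      apply Subtype.ext
      rw [hψf q ((le_sup_right : Q ≤ P ⊔ Q) hq), h.act_coe _ hq]
      exact (hαv ⟨q, hq⟩).symm
    -- conjugating back with `h₀`
    have hex : ∀ s : ↥S, s ∈ D → ∃ x' : ↥S, ι x' = h₀⁻¹ * ι (ψf s) * h₀ := by
      intro s hs
      have h1 : ρ (h₀⁻¹ * ι (ψf s) * h₀) ∈ h.piHom.range := by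
        rw [_root_.map_mul, _root_.map_mul, _root_.map_inv, hρι, hh₀,
          h.extension_pi' hψfmap hQD hψfQ hs]
        refine ⟨s, ?_⟩
        group
      exact hker _ h1
    let ψ₂ : ↥S → ↥S := fun s => if hs : s ∈ D then (hex s hs).choose else 1
    have hψ₂ : ∀ s ∈ D, ι (ψ₂ s) = h₀⁻¹ * ι (ψf s) * h₀ := by
      intro s hs
      simp only [ψ₂, dif_pos hs]
      exact (hex s hs).choose_spec
    obtain ⟨c', v', -, hcv'⟩ := hconj h₀⁻¹
    have hψ₂map : IsFMap F D ψ₂ := by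
      have h1 : IsFMap F (h.stab c') (fun s => v' * C.ε s c' * v'⁻¹) :=
        (C.ε_isFMap c').comp (isFMap_conj F ⊤ v') (fun _ _ => trivial)
      have h2 : ∀ s ∈ D, h₀⁻¹ * ι (ψf s) * h₀⁻¹⁻¹ = ι (ψ₂ s) := by
        intro s hs
        rw [inv_inv, hψ₂ s hs]
      refine (hψfmap.comp h1 (fun s hs => (h.mem_stab _ _).mpr (hcv' _ _ (h2 s hs)).1)).congr
        (fun s hs => ?_)
      exact (hcv' _ _ (h2 s hs)).2
    have hψ₂Q : ∀ q : ↥S, (q : Ω) ∈ Q → (fun s : ↥S => s) q = ψ₂ q := by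
      intro q hq
      apply hιinj
      show ι q = ι (ψ₂ q)
      have h3 := hR3 h₀ q hq
      rw [hh₀] at h3
      rw [hψ₂ q (hQD q hq), hψfQ q hq, ← h3]
      group
    obtain ⟨z, hzQ, hzc, hz⟩ := IsFMap.agree p hS h.sat h.centric (isFMap_id F D) hψ₂map hQD hψ₂Q
    refine ⟨h₀ * ι z, fun x => ?_⟩
    have hxD : (⟨x, hP x.2⟩ : ↥S) ∈ D := (le_sup_left : P ≤ P ⊔ Q) x.2
    have hxR : (((⟨x, hP x.2⟩ : ↥S)) : Ω) ∈ P ⊔ Q := (le_sup_left : P ≤ P ⊔ Q) x.2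
    have h4 : (⟨φ x, hφS x⟩ : ↥S) = ψf ⟨x, hP x.2⟩ := by
      apply Subtype.ext
      rw [hψf _ hxR]
      exact (hψP x).symm
    have h5 := hψ₂ _ hxD
    have h6 : ψ₂ ⟨x, hP x.2⟩ = z * ⟨x, hP x.2⟩ * z⁻¹ := hz _ hxD
    have h7 : ι (ψf ⟨x, hP x.2⟩) = h₀ * ι (ψ₂ ⟨x, hP x.2⟩) * h₀⁻¹ := by
      rw [h5]
      group
    rw [h4, h7, h6, _root_.map_mul, _root_.map_mul, _root_.map_inv]
    group
  · -- the image of `S` is a Sylow subgroup
    have hrange : ι.range = (h.piHom.range).comap ρ := by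
      ext g
      constructor
      · rintro ⟨s, rfl⟩
        exact ⟨s, (hρι s).symm⟩
      · intro hg
        exact hker g hg
    have hp : IsPGroup p ↥ι.range := hS.of_surjective ι.rangeRestrict ι.rangeRestrict_surjective
    have hidx : ¬ p ∣ ι.range.index := by
      rw [hrange, Subgroup.index_comap_of_surjective _ hρsurj]
      exact h.not_dvd_card_Orb
    exact ⟨hp.toSylow hidx, IsPGroup.toSylow_coe hp hidx⟩
  · -- the centralizer of `O_p(G)`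
    intro g hg
    have hNn : ((Q.comap S.subtype).map ι).Normal := by
      constructor
      rintro _ ⟨q, hq, rfl⟩ g
      rw [hR3 g q hq]
      exact ⟨_, h.act_mem _ hq, rfl⟩
    have hNp : IsPGroup p ↥((Q.comap S.subtype).map ι) := (hS.to_subgroup _).map ι
    have hNle : (Q.comap S.subtype).map ι ≤ pCore p G := le_sSup ⟨hNn, hNp⟩
    have h1 : ρ g = 1 := by
      rw [h.piHom_eq_iff]
      intro q hq
      apply hιinj
      rw [← hR3 g q hq, h.act_one hq]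
      have := Subgroup.mem_centralizer_iff.mp hg (ι q) (hNle ⟨q, hq, rfl⟩)
      rw [← this]
      group
    obtain ⟨s, rfl⟩ := hker g (by rw [h1]; exact Subgroup.one_mem _)
    rw [hρι] at h1
    exact hNle ⟨s, ((h.piHom_eq_one_iff s).mp h1).1, rfl⟩

end NC

end Cfsg.Agent.Lib.Helper90.ModelFusion
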