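import Mathlib
import Cfsg.Agent.Lib.Helper90.GTNormal

set_option autoImplicit false

/-!
Glauberman–Thompson type theorems for fusion systems: a non-inner system satisfying the hypotheses has a nontrivial
subgroup `Q` normal in `S` whose normalizer system is not inner (assuming the theorem over smaller groups).
-/

namespace Cfsg.Agent.Lib.Helper90.GT

open Cfsg Cfsg.FusionSystem
open Cfsg.Agent.Lib.Helper87 (hom_le hom_mem hom_congr restrict_mem finite_of_le card_le_of_le
  normalizerIn_le mem_normalizerIn le_normalizerIn normalizerSystem normalizerSystem_isNormalizerSystem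
  subtype_mem exists_isFullyNormalized exists_max_nat exists_isFIso_of_isConj map_congr_autGroup)

universe u

variable {Ω : Type u} [Group Ω] {S : Subgroup Ω}

/-- if all nontrivial subgroups normal in `S` satisfy `NI`, so do all nontrivial fully normalized subgroups -/
theorem NI_of_fullyNormalized [Finite S] {p : ℕ} [Fact p.Prime] (hS : IsPGroup p S)
    {W : ∀ (Q : Type u) [Group Q], Subgroup Q} (hW : IsCharPFunctor.{u} p W)
    (F : FusionSystem S) (D : Subgroup Ω) (hyp : Hyp W p F D)
    (IH : ∀ (T : Subgroup Ω) [Finite T], Nat.card T < Nat.card S → IsPGroup p T →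
      ∀ (E : FusionSystem T) (D' : Subgroup Ω), Hyp W p E D' → E = innerFusionSystem T)
    (hcon : ∀ Q : Subgroup Ω, Q ≠ ⊥ → Q ≤ S → normalizerIn S Q = S → NI F Q)
    (Q : Subgroup Ω) (hQ : F.IsFullyNormalized Q) (hQne : Q ≠ ⊥) : NI F Q := by
  by_contra hno
  obtain ⟨Q₁, ⟨hQ₁, hQ₁ne, hQ₁no⟩, hmax⟩ := exists_max_nat
    (fun Q : Subgroup Ω => F.IsFullyNormalized Q ∧ Q ≠ ⊥ ∧ ¬ NI F Q)
    (fun Q => Nat.card (normalizerIn S Q)) (Nat.card S) ⟨Q, hQ, hQne, hno⟩
    (fun Q' _ => card_le_of_le (normalizerIn_le S Q'))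
  by_cases hlt : Nat.card (normalizerIn S Q₁) < Nat.card S
  · apply hQ₁no
    apply step1 hS hW F D hyp IH Q₁ hQ₁ hlt
    intro Q' hQ' hQ'ne hcard
    by_contra hQ'no
    have := hmax Q' ⟨hQ', hQ'ne, hQ'no⟩
    omega
  · apply hQ₁no
    apply hcon Q₁ hQ₁ne hQ₁.1
    exact Subgroup.eq_of_le_of_card_ge (normalizerIn_le S Q₁) (not_lt.mp hlt)

/-- a non-inner system satisfying the hypotheses has a nontrivial subgroup normal in `S` failing `NI` -/
theorem exists_normal_not_NI [Finite S] {p : ℕ} [Fact p.Prime] (hS : IsPGroup p S)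
    {W : ∀ (Q : Type u) [Group Q], Subgroup Q} (hW : IsCharPFunctor.{u} p W)
    (F : FusionSystem S) (D : Subgroup Ω) (hyp : Hyp W p F D)
    (IH : ∀ (T : Subgroup Ω) [Finite T], Nat.card T < Nat.card S → IsPGroup p T →
      ∀ (E : FusionSystem T) (D' : Subgroup Ω), Hyp W p E D' → E = innerFusionSystem T)
    (hne : F ≠ innerFusionSystem S) :
    ∃ Q : Subgroup Ω, Q ≠ ⊥ ∧ Q ≤ S ∧ normalizerIn S Q = S ∧ ¬ NI F Q := by
  by_contra hcon
  push_neg at hcon
  apply hne
  apply Cfsg.Agent.S5083.result p hS F hyp.sat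
  intro P hP
  by_cases hPb : P = ⊥
  · subst hPb
    have : Subsingleton (MulAut (⊥ : Subgroup Ω)) := by
      constructor
      intro a b
      ext x
      have hx : x = 1 := Subsingleton.elim _ _
      rw [hx, map_one, map_one]
    exact IsPGroup.of_bot.to_le (le_of_eq (Subsingleton.elim _ _)) |>.to_le le_rfl
  · obtain ⟨P', hconj, hP'⟩ := exists_isFullyNormalized F hP
    obtain ⟨e, he⟩ := exists_isFIso_of_isConj F hconj
    have hP'ne : P' ≠ ⊥ := by
      intro h
      apply hPb
      subst h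
      rw [Subgroup.eq_bot_iff_forall]
      intro x hx
      have h1 : e ⟨x, hx⟩ = 1 := Subsingleton.elim _ _
      have h2 : (⟨x, hx⟩ : P) = 1 := e.injective (by rw [h1, map_one])
      exact congrArg Subtype.val h2
    have hNI := NI_of_fullyNormalized hS hW F D hyp IH hcon P' hP' hP'ne
    have hp' := isPGroup_autGroup_of_NI hS hP'.1 hNI
    rw [← map_congr_autGroup F he] at hp'
    exact hp'.of_equiv
      (Subgroup.equivMapOfInjective (F.autGroup P) (MulAut.congr e).toMonoidHom (MulAut.congr e).injective).symm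

end Cfsg.Agent.Lib.Helper90.GT
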