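import Mathlib
import Cfsg.Agent.Lib.Helper90.GTNormal
import Cfsg.Agent.Lib.Helper90.StabChain
import Cfsg.Agent.Lib.Helper91.FusionConstrained
import Cfsg.Agent.S5087
import Cfsg.Agent.S5080

set_option autoImplicit false

/-!
Glauberman–Thompson type theorems for fusion systems: if a saturated system is inner modulo a subgroup `Q₀` normal in
the system and of largest order among such subgroups, then `Q₀` is centric.
-/

namespace Cfsg.Agent.Lib.Helper90.GT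

open Cfsg Cfsg.FusionSystem
open Cfsg.Agent.Lib.Helper87 (hom_le hom_mem hom_congr restrict_mem finite_of_le card_le_of_le
  normalizerIn_le mem_normalizerIn le_normalizerIn subtype_mem mem_centralizerIn)

universe u

variable {Ω : Type u} [Group Ω] {S : Subgroup Ω}

/-- the subgroup of `Aut_F(P)` of the automorphisms fixing `Q₀ ∩ P` elementwise -/
def fixAut (F : FusionSystem S) (Q₀ P : Subgroup Ω) : Subgroup (F.autGroup P) where
  carrier := {α | ∀ x : P, (x : Ω) ∈ Q₀ → (α : MulAut P) x = x}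
  one_mem' := fun _ _ => rfl
  mul_mem' := by
    intro a b ha hb x hx
    show (a : MulAut P) ((b : MulAut P) x) = x
    rw [hb x hx, ha x hx]
  inv_mem' := by
    intro a ha x hx
    show (a : MulAut P)⁻¹ x = x
    have h := ha x hx
    calc (a : MulAut P)⁻¹ x = (a : MulAut P)⁻¹ ((a : MulAut P) x) := by rw [h]
      _ = x := MulAut.inv_apply_self _ _ _

theorem mem_fixAut {F : FusionSystem S} {Q₀ P : Subgroup Ω} {α : F.autGroup P} :
    α ∈ fixAut F Q₀ P ↔ ∀ x : P, (x : Ω) ∈ Q₀ → (α : MulAut P) x = x := Iff.rfl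

theorem fixAut_normal {F : FusionSystem S} {Q₀ P : Subgroup Ω} (hsc : F.StronglyClosed Q₀) (hPS : P ≤ S) :
    (fixAut F Q₀ P).Normal := by
  constructor
  intro β hβ a
  rw [mem_fixAut] at hβ ⊢
  intro x hx
  show (a : MulAut P) ((β : MulAut P) ((a : MulAut P)⁻¹ x)) = x
  have h1 : (((a : MulAut P)⁻¹ x : P) : Ω) ∈ Q₀ :=
    Cfsg.Agent.Lib.Helper88.aut_map_mem_of_stronglyClosed hsc hPS ((F.autGroup P).inv_mem a.2) hx
  rw [hβ _ h1]
  exact MulAut.apply_inv_self _ _ _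

/-- an automorphism in the system of `P ≥ Q₀` fixing `Q₀` elementwise has `p`-power order, if the system is inner
modulo `Q₀` -/
theorem pow_eq_one_of_fix [Finite S] {p : ℕ} [Fact p.Prime] (hS : IsPGroup p S) (F : FusionSystem S)
    {Q₀ : Subgroup Ω} (hQ₀ : F.IsNormal Q₀)
    (hmod : ∀ (P : Subgroup Ω) (φ : P →* Ω), φ ∈ F.Hom P → ∃ g ∈ S, ∀ x : P, (φ x)⁻¹ * (g * x * g⁻¹) ∈ Q₀)
    {P : Subgroup Ω} (hPS : P ≤ S) (hQP : Q₀ ≤ P) {α : MulAut P} (hα : α ∈ F.autGroup P)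
    (hfix : ∀ x : P, (x : Ω) ∈ Q₀ → α x = x) : ∃ k : ℕ, α ^ (p ^ k) = 1 := by
  have hφ := (Cfsg.Agent.Lib.Helper87.mem_autGroup_iff F hPS).mp hα
  obtain ⟨g, hg, hgα⟩ := hmod P _ hφ
  have hgα' : ∀ x : P, ((α x : P) : Ω)⁻¹ * (g * x * g⁻¹) ∈ Q₀ := hgα
  have hSn := normal_le_normalizer F hQ₀
  have hconj : ∀ s ∈ S, ∀ q ∈ Q₀, s * q * s⁻¹ ∈ Q₀ := fun s hs q hq =>
    (Subgroup.mem_normalizer_iff.mp (hSn hs) q).mp hq
  have hpow : ∀ n : ℕ, ∀ x : P, (((α ^ n) x : P) : Ω)⁻¹ * (g ^ n * x * (g ^ n)⁻¹) ∈ Q₀ := by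
    intro n
    induction n with
    | zero =>
      intro x
      simp
    | succ n ih =>
      intro x
      have h1 := ih x
      have h2 := hgα' ((α ^ n) x)
      have h3 := hconj g hg _ h1
      have e : (((α ^ (n + 1)) x : P) : Ω)⁻¹ * (g ^ (n + 1) * x * (g ^ (n + 1))⁻¹) =
          (((α ((α ^ n) x) : P) : Ω)⁻¹ * (g * (((α ^ n) x : P) : Ω) * g⁻¹)) *
            (g * ((((α ^ n) x : P) : Ω)⁻¹ * (g ^ n * x * (g ^ n)⁻¹)) * g⁻¹) := by
        rw [pow_succ' α n, MulAut.mul_apply, pow_succ' g n]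
        group
      rw [e]
      exact Q₀.mul_mem h2 h3
  obtain ⟨k, hk⟩ := hS ⟨g, hg⟩
  have hk' : g ^ (p ^ k) = 1 := by
    have := congrArg Subtype.val hk
    simpa using this
  -- `β = α ^ (p ^ k)` acts trivially modulo `Q₀`
  have hβ : ∀ x : P, x⁻¹ * (α ^ (p ^ k)) x ∈ Q₀.subgroupOf P := by
    intro x
    have h1 := hpow (p ^ k) x
    rw [hk'] at h1
    rw [Subgroup.mem_subgroupOf]
    have h2 := Q₀.inv_mem h1
    have e : ((((α ^ (p ^ k)) x : P) : Ω)⁻¹ * (1 * (x : Ω) * (1 : Ω)⁻¹))⁻¹ =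
        ((x⁻¹ * (α ^ (p ^ k)) x : P) : Ω) := by
      simp
    rw [e] at h2
    exact h2
  have hβfix : ∀ r ∈ Q₀.subgroupOf P, (α ^ (p ^ k)) r = r := by
    intro r hr
    have hr' : (r : Ω) ∈ Q₀ := Subgroup.mem_subgroupOf.mp hr
    have : ∀ n : ℕ, (α ^ n) r = r := by
      intro n
      induction n with
      | zero => rfl
      | succ n ih => rw [pow_succ', MulAut.mul_apply, ih, hfix r hr']
    exact this _
  have hfinQ : Finite ↥(Q₀.subgroupOf P) := by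
    have : Finite ↥P := finite_of_le hPS
    infer_instance
  obtain ⟨j, hj⟩ := (hS.to_le hPS |>.to_subgroup (Q₀.subgroupOf P)).exists_card_eq
  refine ⟨k + j, ?_⟩
  ext x
  have h1 := stab_pow_apply (α ^ (p ^ k)) (Q₀.subgroupOf P) hβfix x (hβ x) (p ^ j)
  have h2 : (x⁻¹ * (α ^ (p ^ k)) x) ^ (p ^ j) = 1 := by
    have h3 : (⟨x⁻¹ * (α ^ (p ^ k)) x, hβ x⟩ : ↥(Q₀.subgroupOf P)) ^ (p ^ j) = 1 := by
      rw [← hj]
      exact pow_card_eq_one'
    exact congrArg Subtype.val h3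
  rw [h2, mul_one] at h1
  rw [pow_add, pow_mul]
  exact congrArg Subtype.val h1

theorem fixAut_isPGroup [Finite S] {p : ℕ} [Fact p.Prime] (hS : IsPGroup p S) (F : FusionSystem S)
    {Q₀ : Subgroup Ω} (hQ₀ : F.IsNormal Q₀)
    (hmod : ∀ (P : Subgroup Ω) (φ : P →* Ω), φ ∈ F.Hom P → ∃ g ∈ S, ∀ x : P, (φ x)⁻¹ * (g * x * g⁻¹) ∈ Q₀)
    {P : Subgroup Ω} (hPS : P ≤ S) (hQP : Q₀ ≤ P) : IsPGroup p (fixAut F Q₀ P) := by
  intro a
  obtain ⟨k, hk⟩ := pow_eq_one_of_fix hS F hQ₀ hmod hPS hQP a.1.2 (mem_fixAut.mp a.2)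
  refine ⟨k, ?_⟩
  apply Subtype.ext
  apply Subtype.ext
  exact hk

/-- the centralizer of a subgroup normalized by `S` is normalized by `S` -/
theorem conj_mem_centralizerIn {Q₀ : Subgroup Ω} (hn : ∀ s ∈ S, ∀ q ∈ Q₀, s * q * s⁻¹ ∈ Q₀)
    {s c : Ω} (hs : s ∈ S) (hc : c ∈ centralizerIn S Q₀) : s * c * s⁻¹ ∈ centralizerIn S Q₀ := by
  rw [mem_centralizerIn] at hc ⊢
  refine ⟨S.mul_mem (S.mul_mem hs hc.1) (S.inv_mem hs), fun z hz => ?_⟩
  have h1 : s⁻¹ * z * s⁻¹⁻¹ ∈ Q₀ := hn _ (S.inv_mem hs) z hz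
  have h2 := hc.2 _ h1
  calc z * (s * c * s⁻¹) = s * ((s⁻¹ * z * s⁻¹⁻¹) * c) * s⁻¹ := by group
    _ = s * (c * (s⁻¹ * z * s⁻¹⁻¹)) * s⁻¹ := by rw [h2]
    _ = s * c * s⁻¹ * z := by group

/-- a centric radical subgroup containing `Q₀` contains `C_S(Q₀)` -/
theorem centralizerIn_le_of_centric_radical [Finite S] {p : ℕ} [Fact p.Prime] (hS : IsPGroup p S)
    (F : FusionSystem S) {Q₀ : Subgroup Ω} (hQ₀ : F.IsNormal Q₀)
    (hmod : ∀ (P : Subgroup Ω) (φ : P →* Ω), φ ∈ F.Hom P → ∃ g ∈ S, ∀ x : P, (φ x)⁻¹ * (g * x * g⁻¹) ∈ Q₀)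
    {P : Subgroup Ω} (hPc : F.IsCentric P) (hPr : F.IsRadical p P) (hQP : Q₀ ≤ P) :
    centralizerIn S Q₀ ≤ P := by
  have hPS : P ≤ S := hPc.1
  have hsc : F.StronglyClosed Q₀ := Cfsg.Agent.Lib.Helper90.IsNormal.stronglyClosed F hQ₀
  have hSn := normal_le_normalizer F hQ₀
  have hconj : ∀ s ∈ S, ∀ q ∈ Q₀, s * q * s⁻¹ ∈ Q₀ := fun s hs q hq =>
    (Subgroup.mem_normalizer_iff.mp (hSn hs) q).mp hq
  have hCS : centralizerIn S Q₀ ≤ S := inf_le_left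
  by_contra hno
  have hTS : P ⊔ centralizerIn S Q₀ ≤ S := sup_le hPS hCS
  have hfinT : Finite ↥(P ⊔ centralizerIn S Q₀) := finite_of_le hTS
  have hne : P ≠ P ⊔ centralizerIn S Q₀ := by
    intro h
    apply hno
    rw [h]
    exact le_sup_right
  obtain ⟨x, hx, hxP⟩ := Cfsg.Agent.Lib.Helper89.exists_mem_normalizerIn_not_mem
    (S := P ⊔ centralizerIn S Q₀) (hS.to_le hTS) le_sup_left hne
  obtain ⟨y, hy, c, hc, rfl⟩ := Cfsg.Agent.Lib.Helper88.exists_mul_of_mem_sup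
    (fun y hy t ht => conj_mem_centralizerIn hconj (hPS hy) ht) hx.1
  have hcN : c ∈ Subgroup.normalizer (P : Set Ω) := by
    have h1 : y ∈ Subgroup.normalizer (P : Set Ω) := Subgroup.le_normalizer hy
    have e : c = y⁻¹ * (y * c) := by group
    rw [e]
    exact Subgroup.mul_mem _ (Subgroup.inv_mem _ h1) hx.2
  apply hxP
  refine P.mul_mem hy ?_
  refine mem_of_conj_mem_normal_pGroup F hPc hPr (fixAut F Q₀ P) (fixAut_normal hsc hPS)
    (fixAut_isPGroup hS F hQ₀ hmod hPS hQP) c (hCS hc) hcN ?_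
  intro h
  rw [mem_fixAut]
  intro z hz
  apply Subtype.ext
  show c * (z : Ω) * c⁻¹ = z
  have := (mem_centralizerIn.mp hc).2 _ hz
  rw [← this]
  group

/-- if the system is inner modulo the subgroup `Q₀` normal in the system then `Q₀ C_S(Q₀)` is normal in the system -/
theorem isNormal_sup_centralizerIn [Finite S] {p : ℕ} [Fact p.Prime] (hS : IsPGroup p S)
    (F : FusionSystem S) (hF : F.IsSaturated p) {Q₀ : Subgroup Ω} (hQ₀ : F.IsNormal Q₀)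
    (hmod : ∀ (P : Subgroup Ω) (φ : P →* Ω), φ ∈ F.Hom P → ∃ g ∈ S, ∀ x : P, (φ x)⁻¹ * (g * x * g⁻¹) ∈ Q₀) :
    F.IsNormal (Q₀ ⊔ centralizerIn S Q₀) := by
  have hsc : F.StronglyClosed Q₀ := Cfsg.Agent.Lib.Helper90.IsNormal.stronglyClosed F hQ₀
  have hSn := normal_le_normalizer F hQ₀
  have hconj : ∀ s ∈ S, ∀ q ∈ Q₀, s * q * s⁻¹ ∈ Q₀ := fun s hs q hq =>
    (Subgroup.mem_normalizer_iff.mp (hSn hs) q).mp hq
  have hCS : centralizerIn S Q₀ ≤ S := inf_le_left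
  have hQ₀' := (Cfsg.Agent.S5087.result p hS F hF Q₀).mp hQ₀
  rw [Cfsg.Agent.S5087.result p hS F hF]
  intro P hP
  have hQP : Q₀ ≤ P := (hQ₀' P hP).1
  have hPS : P ≤ S := by
    rcases hP with rfl | hP
    · exact le_rfl
    · exact hP.1.1
  have hCP : centralizerIn S Q₀ ≤ P := by
    rcases hP with rfl | hP
    · exact hCS
    · exact centralizerIn_le_of_centric_radical hS F hQ₀ hmod hP.1
        (Cfsg.Agent.S5080.result p hS F hF P hP) hQP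
  refine ⟨sup_le hQP hCP, fun α hα => ?_⟩
  have hfinP : Finite ↥P := finite_of_le hPS
  have hle : ((Q₀ ⊔ centralizerIn S Q₀).subgroupOf P).map α.toMonoidHom ≤
      (Q₀ ⊔ centralizerIn S Q₀).subgroupOf P := by
    rintro _ ⟨x, hx, rfl⟩
    have hx' : (x : Ω) ∈ Q₀ ⊔ centralizerIn S Q₀ := Subgroup.mem_subgroupOf.mp hx
    obtain ⟨q, hq, c, hc, hxe⟩ := Cfsg.Agent.Lib.Helper88.exists_mul_of_mem_sup
      (fun y hy t ht => conj_mem_centralizerIn hconj (hsc.1 hy) ht) hx'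
    have hxe' : x = (⟨q, hQP hq⟩ : P) * ⟨c, hCP hc⟩ := Subtype.ext hxe
    rw [hxe']
    apply Subgroup.mem_subgroupOf.mpr
    show ((α (⟨q, hQP hq⟩ * ⟨c, hCP hc⟩) : P) : Ω) ∈ Q₀ ⊔ centralizerIn S Q₀
    rw [map_mul]
    refine Subgroup.mul_mem _ (Subgroup.mem_sup_left ?_) (Subgroup.mem_sup_right ?_)
    · exact Cfsg.Agent.Lib.Helper88.aut_map_mem_of_stronglyClosed hsc hPS hα hq
    · rw [mem_centralizerIn]
      refine ⟨hPS (α ⟨c, hCP hc⟩).2, fun z hz => ?_⟩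
      have hz' : ((α⁻¹ ⟨z, hQP hz⟩ : P) : Ω) ∈ Q₀ :=
        Cfsg.Agent.Lib.Helper88.aut_map_mem_of_stronglyClosed hsc hPS ((F.autGroup P).inv_mem hα) hz
      have h1 := (mem_centralizerIn.mp hc).2 _ hz'
      have h2 : (α⁻¹ ⟨z, hQP hz⟩ : P) * ⟨c, hCP hc⟩ = ⟨c, hCP hc⟩ * (α⁻¹ ⟨z, hQP hz⟩ : P) :=
        Subtype.ext h1
      have h3 := congrArg α h2
      rw [map_mul, map_mul, MulAut.apply_inv_self] at h3
      exact congrArg Subtype.val h3
  have hcard : Nat.card (((Q₀ ⊔ centralizerIn S Q₀).subgroupOf P).map α.toMonoidHom) =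
      Nat.card ((Q₀ ⊔ centralizerIn S Q₀).subgroupOf P) :=
    Subgroup.card_map_of_injective α.injective
  exact Subgroup.eq_of_le_of_card_ge hle hcard.ge

set_option maxHeartbeats 400000 in
/-- if the system is inner modulo a subgroup `Q₀` normal in the system of largest order, then `Q₀` is centric -/
theorem isCentric_of_inner_mod [Finite S] {p : ℕ} [Fact p.Prime] (hS : IsPGroup p S)
    (F : FusionSystem S) (hF : F.IsSaturated p) {Q₀ : Subgroup Ω} (hQ₀ : F.IsNormal Q₀)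
    (hmax : ∀ Q : Subgroup Ω, F.IsNormal Q → Nat.card Q ≤ Nat.card Q₀)
    (hmod : ∀ (P : Subgroup Ω) (φ : P →* Ω), φ ∈ F.Hom P → ∃ g ∈ S, ∀ x : P, (φ x)⁻¹ * (g * x * g⁻¹) ∈ Q₀) :
    F.IsCentric Q₀ := by
  have hR := isNormal_sup_centralizerIn hS F hF hQ₀ hmod
  have hfinR : Finite ↥(Q₀ ⊔ centralizerIn S Q₀) := finite_of_le hR.1
  have heq : Q₀ = Q₀ ⊔ centralizerIn S Q₀ :=
    Subgroup.eq_of_le_of_card_ge (H := Q₀) (K := Q₀ ⊔ centralizerIn S Q₀) le_sup_left (hmax _ hR)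
  have hC : centralizerIn S Q₀ ≤ Q₀ := le_sup_right.trans heq.ge
  refine ⟨hQ₀.1, fun Q' hconj => ?_⟩
  rw [Cfsg.Agent.Lib.Helper91.eq_of_isConj_of_isNormal F hQ₀ hconj]
  exact hC

end Cfsg.Agent.Lib.Helper90.GT
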