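import Mathlib
import Cfsg.Agent.Lib.Helper90.GTNormal

set_option autoImplicit false

/-!
Glauberman–Thompson type theorems for fusion systems: the passage to the factor system modulo a subgroup normal in the
system.
-/

namespace Cfsg.Agent.Lib.Helper90.GT

open Cfsg Cfsg.FusionSystem
open Cfsg.Agent.Lib.Helper87 (hom_le hom_mem hom_congr restrict_mem finite_of_le card_le_of_le
  normalizerIn_le mem_normalizerIn le_normalizerIn subtype_mem)
open Cfsg.Agent.Lib.Helper88 (mem_preimageAlong preimageAlong_le kernel_le_preimageAlong exists_preimage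
  factorSystem isFactorSystem_factorSystem preimageAlong_imageAlong imageAlong_le exists_induced_of_saturated
  preimageAlong_mono mem_normalizer_preimageAlong isSaturated_of_isFactorSystem stronglyClosed_sup)

universe u

variable {Ω : Type u} [Group Ω] {S : Subgroup Ω}

/-- Modulo a subgroup `Q₀` normal in the system, the system is inner, if the theorem holds for the factor system and
`NI` holds for the subgroups normal in `S` properly containing `Q₀`. -/
theorem inner_mod_aux' [Finite S] {p : ℕ} [Fact p.Prime] (hS : IsPGroup p S)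
    {W : ∀ (Q : Type u) [Group Q], Subgroup Q} (hW : IsCharPFunctor.{u} p W)
    (F : FusionSystem S) (D : Subgroup Ω) (hFsat : F.IsSaturated p) (hDcl : F.StronglyClosed D)
    {Q₀ : Subgroup Ω} (hQ₀ : F.IsNormal Q₀)
    {Ω' : Type u} [Group Ω'] {S' : Subgroup Ω'} [Finite S'] (hS' : IsPGroup p S') (θ : S →* Ω')
    (hker : ∀ s : S, θ s = 1 ↔ (s : Ω) ∈ Q₀) (hrange : θ.range = S')
    (IH : ∀ (E : FusionSystem S') (D' : Subgroup Ω'), Hyp W p E D' → E = innerFusionSystem S')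
    (hL : ∀ L : Subgroup Ω, Q₀ ≤ L → L ≤ S → normalizerIn S L = S → Q₀ ≠ L → NI F L)
    (hDQ : ¬ D ≤ Q₀) :
    ∀ (P : Subgroup Ω) (φ : P →* Ω), φ ∈ F.Hom P → ∃ g ∈ S, ∀ x : P, (φ x)⁻¹ * (g * x * g⁻¹) ∈ Q₀ := by
  have hsc : F.StronglyClosed Q₀ := Cfsg.Agent.Lib.Helper90.IsNormal.stronglyClosed F hQ₀
  have hDS : D ≤ S := hDcl.1
  have hE := isFactorSystem_factorSystem F Q₀ hsc θ hker hrange
  have hEsat : (factorSystem F Q₀ hsc θ hker hrange).IsSaturated p :=
    isSaturated_of_isFactorSystem p hS F hFsat hsc θ _ hE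
  have hDbS' : imageAlong θ D ≤ S' := imageAlong_le θ hrange D
  have hpre : preimageAlong θ (imageAlong θ D) = D ⊔ Q₀ := preimageAlong_imageAlong θ hsc.1 hker hDS
  have hDQsc : F.StronglyClosed (D ⊔ Q₀) := stronglyClosed_sup p hS F hFsat hDcl hsc
  -- the image of `D` is strongly closed
  have hDbsc : (factorSystem F Q₀ hsc θ hker hrange).StronglyClosed (imageAlong θ D) := by
    refine ⟨hDbS', fun R' hR' φ' hφ' y => ?_⟩
    obtain ⟨hR'S', φ, hφ, hR, hφS, hRR', hind⟩ := (hE.2.2.2 R' φ').mp hφ'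
    obtain ⟨s, hsS, hsR, hs⟩ := exists_preimage θ hrange hR'S' y
    have hle : preimageAlong θ R' ≤ D ⊔ Q₀ := by
      rw [← hpre]
      exact preimageAlong_mono θ hR'
    have h1 : φ ⟨s, hsR⟩ ∈ D ⊔ Q₀ := hDQsc.2 _ hle φ hφ ⟨s, hsR⟩
    rw [← hpre] at h1
    obtain ⟨hz, hmem⟩ := (mem_preimageAlong θ _ _).mp h1
    have h2 := hind ⟨s, hsR⟩
    have e : (⟨θ ⟨((⟨s, hsR⟩ : preimageAlong θ R') : Ω), hR hsR⟩, hRR' ⟨s, hsR⟩⟩ : R') = y :=
      Subtype.ext hs
    rw [e] at h2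
    rw [h2]
    exact hmem
  have hfinDb : Finite ↥(imageAlong θ D) := finite_of_le hDbS'
  have hDbp : IsPGroup p ↥(imageAlong θ D) := hS'.to_le hDbS'
  have hDbne : imageAlong θ D ≠ ⊥ := by
    intro h
    apply hDQ
    intro d hd
    have h1 : θ ⟨d, hDS hd⟩ ∈ imageAlong θ D := ⟨⟨d, hDS hd⟩, Subgroup.mem_subgroupOf.mpr hd, rfl⟩
    rw [h, Subgroup.mem_bot] at h1
    exact (hker _).mp h1
  have hWbne : inducedFunctor W (imageAlong θ D) ≠ ⊥ := inducedFunctor_ne_bot hW _ hDbp hDbne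
  have hWbD : inducedFunctor W (imageAlong θ D) ≤ imageAlong θ D := inducedFunctor_le _
  have hWbS' : inducedFunctor W (imageAlong θ D) ≤ S' := hWbD.trans hDbS'
  have hS'n : S' ≤ Subgroup.normalizer (inducedFunctor W (imageAlong θ D) : Set Ω') :=
    (closed_le_normalizer _ hDbsc).trans (normalizer_le_normalizer_inducedFunctor hW _ hDbp)
  -- the preimage `L` of `W` of the image of `D`
  have hQL : Q₀ ≤ preimageAlong θ (inducedFunctor W (imageAlong θ D)) :=
    kernel_le_preimageAlong θ hsc.1 hker _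
  have hLS : preimageAlong θ (inducedFunctor W (imageAlong θ D)) ≤ S := preimageAlong_le θ _
  have hLN : normalizerIn S (preimageAlong θ (inducedFunctor W (imageAlong θ D))) = S := by
    apply le_antisymm (normalizerIn_le S _)
    intro g hg
    refine ⟨hg, mem_normalizer_preimageAlong θ hg (hS'n ?_)⟩
    rw [← hrange]
    exact ⟨_, rfl⟩
  have hQLne : Q₀ ≠ preimageAlong θ (inducedFunctor W (imageAlong θ D)) := by
    intro h
    apply hWbne
    rw [Subgroup.eq_bot_iff_forall]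
    intro w hw
    obtain ⟨s, hsS, hsL, hs⟩ := exists_preimage θ hrange hWbS' ⟨w, hw⟩
    rw [← h] at hsL
    have hs' : θ ⟨s, hsS⟩ = w := hs
    rw [← hs']
    exact (hker _).mpr hsL
  have hNIL : NI F (preimageAlong θ (inducedFunctor W (imageAlong θ D))) := hL _ hQL hLS hLN hQLne
  -- `NI` for the factor system
  have hNIb : NI (factorSystem F Q₀ hsc θ hker hrange) (inducedFunctor W (imageAlong θ D)) := by
    intro R' ψ' hψ' hWR' hR'N hmap
    obtain ⟨hR'S', ψ, hψ, hR, hψS, hRR', hind⟩ := (hE.2.2.2 R' ψ').mp hψ'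
    have hLR : preimageAlong θ (inducedFunctor W (imageAlong θ D)) ≤ preimageAlong θ R' :=
      preimageAlong_mono θ hWR'
    have hRN : preimageAlong θ R' ≤ normalizerIn S (preimageAlong θ (inducedFunctor W (imageAlong θ D))) := by
      rw [hLN]
      exact hR
    have hfinL : Finite ↥(preimageAlong θ (inducedFunctor W (imageAlong θ D))) := finite_of_le hLS
    have hmapL : ((preimageAlong θ (inducedFunctor W (imageAlong θ D))).subgroupOf (preimageAlong θ R')).map ψ =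
        preimageAlong θ (inducedFunctor W (imageAlong θ D)) := by
      have hle : ((preimageAlong θ (inducedFunctor W (imageAlong θ D))).subgroupOf (preimageAlong θ R')).map ψ ≤
          preimageAlong θ (inducedFunctor W (imageAlong θ D)) := by
        rintro _ ⟨x, hx, rfl⟩
        have hxL : (x : Ω) ∈ preimageAlong θ (inducedFunctor W (imageAlong θ D)) := Subgroup.mem_subgroupOf.mp hx
        obtain ⟨hxS, hxW⟩ := (mem_preimageAlong θ _ _).mp hxL
        rw [mem_preimageAlong]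
        refine ⟨hψS x, ?_⟩
        rw [← hind x]
        have h3 : ψ' ⟨θ ⟨(x : Ω), hR x.2⟩, hRR' x⟩ ∈
            ((inducedFunctor W (imageAlong θ D)).subgroupOf R').map ψ' :=
          ⟨⟨θ ⟨(x : Ω), hR x.2⟩, hRR' x⟩, Subgroup.mem_subgroupOf.mpr hxW, rfl⟩
        rw [hmap] at h3
        exact h3
      have hcard : Nat.card (((preimageAlong θ (inducedFunctor W (imageAlong θ D))).subgroupOf
          (preimageAlong θ R')).map ψ) = Nat.card (preimageAlong θ (inducedFunctor W (imageAlong θ D))) := by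
        rw [Subgroup.card_map_of_injective (F.injective_of_mem hψ)]
        exact Nat.card_congr (Subgroup.subgroupOfEquivOfLe hLR).toEquiv
      exact Subgroup.eq_of_le_of_card_ge hle hcard.ge
    obtain ⟨g, hg, hgψ⟩ := hNIL _ ψ hψ hLR hRN hmapL
    refine ⟨θ ⟨g, hg⟩, ?_, fun y => ?_⟩
    · rw [← hrange]
      exact ⟨_, rfl⟩
    · obtain ⟨s, hsS, hsR, hs⟩ := exists_preimage θ hrange hR'S' y
      have h2 := hind ⟨s, hsR⟩
      have e : (⟨θ ⟨((⟨s, hsR⟩ : preimageAlong θ R') : Ω), hR hsR⟩, hRR' ⟨s, hsR⟩⟩ : R') = y :=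
        Subtype.ext hs
      rw [e] at h2
      rw [h2, ← hs]
      have e2 : (⟨ψ ⟨s, hsR⟩, hψS ⟨s, hsR⟩⟩ : S) = ⟨g, hg⟩ * ⟨s, hsS⟩ * ⟨g, hg⟩⁻¹ :=
        Subtype.ext (hgψ ⟨s, hsR⟩)
      rw [e2, map_mul, map_mul, map_inv]
  have hEin : factorSystem F Q₀ hsc θ hker hrange = innerFusionSystem S' :=
    IH _ (imageAlong θ D) ⟨hEsat, hDbsc, hNIb⟩
  -- conclusion
  intro P φ hφ
  obtain ⟨φ', ⟨ψ, hψ, hindψ⟩, hP, hφS, hPP', hind⟩ :=
    exists_induced_of_saturated p hS F hFsat hsc θ hker hrange hφ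
  have hφ'E : φ' ∈ (factorSystem F Q₀ hsc θ hker hrange).Hom (imageAlong θ P) :=
    (hE.2.2.2 _ φ').mpr ⟨imageAlong_le θ hrange P, ψ, hψ, hindψ⟩
  rw [hEin] at hφ'E
  obtain ⟨-, gb, hgb, hgφ'⟩ := hφ'E
  rw [← hrange] at hgb
  obtain ⟨g, rfl⟩ := hgb
  refine ⟨g, g.2, fun x => ?_⟩
  have h1 := hind x
  rw [hgφ'] at h1
  have h2 : θ (⟨φ x, hφS x⟩⁻¹ * (g * ⟨x, hP x.2⟩ * g⁻¹)) = 1 := by
    rw [map_mul, map_inv, ← h1, map_mul, map_mul, map_inv]
    group
  exact (hker _).mp h2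

/-- the same, with the hypotheses bundled -/
theorem inner_mod_aux [Finite S] {p : ℕ} [Fact p.Prime] (hS : IsPGroup p S)
    {W : ∀ (Q : Type u) [Group Q], Subgroup Q} (hW : IsCharPFunctor.{u} p W)
    (F : FusionSystem S) (D : Subgroup Ω) (hyp : Hyp W p F D) {Q₀ : Subgroup Ω} (hQ₀ : F.IsNormal Q₀)
    {Ω' : Type u} [Group Ω'] {S' : Subgroup Ω'} [Finite S'] (hS' : IsPGroup p S') (θ : S →* Ω')
    (hker : ∀ s : S, θ s = 1 ↔ (s : Ω) ∈ Q₀) (hrange : θ.range = S')
    (IH : ∀ (E : FusionSystem S') (D' : Subgroup Ω'), Hyp W p E D' → E = innerFusionSystem S')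
    (hL : ∀ L : Subgroup Ω, Q₀ ≤ L → L ≤ S → normalizerIn S L = S → Q₀ ≠ L → NI F L)
    (hDQ : ¬ D ≤ Q₀) :
    ∀ (P : Subgroup Ω) (φ : P →* Ω), φ ∈ F.Hom P → ∃ g ∈ S, ∀ x : P, (φ x)⁻¹ * (g * x * g⁻¹) ∈ Q₀ :=
  inner_mod_aux' hS hW F D hyp.sat hyp.closed hQ₀ hS' θ hker hrange IH hL hDQ

end Cfsg.Agent.Lib.Helper90.GT
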