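import Mathlib
import Cfsg.Agent.Lib.Helper90.GTCaseA
import Cfsg.Agent.Lib.Helper90.GTQuot
import Cfsg.Agent.Lib.Helper90.GTCentric
import Cfsg.Agent.Lib.Helper90.GTModel
import Cfsg.Agent.Lib.Helper90.ModelFusion

set_option autoImplicit false

/-!
Glauberman–Thompson type theorems for fusion systems: the main induction.
-/

namespace Cfsg.Agent.Lib.Helper90.GT

open Cfsg Cfsg.FusionSystem
open Cfsg.Agent.Lib.Helper87 (hom_le hom_mem hom_congr restrict_mem finite_of_le card_le_of_le
  normalizerIn_le mem_normalizerIn le_normalizerIn normalizerSystem normalizerSystem_isNormalizerSystem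
  subtype_mem)

universe u

variable {Ω : Type u} [Group Ω] {S : Subgroup Ω}

set_option maxHeartbeats 400000 in
/-- the step of the main induction: `Q₀` is a subgroup normal in the system of largest order, the theorem holds over
smaller groups, and over groups of the same order for systems having a larger normal subgroup -/
theorem core_step [Finite S] {p : ℕ} [Fact p.Prime] (hS : IsPGroup p S)
    {W : ∀ (Q : Type u) [Group Q], Subgroup Q} (hW : IsCharPFunctor.{u} p W)
    (GI : ∀ (L : Type u) [Group L] [Finite L] (P : Sylow p L) (D' : Subgroup L),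
      Cfsg.IsStronglyClosed D' (P : Subgroup L) →
      Cfsg.HasNormalPComplement p ↥(Subgroup.normalizer ((inducedFunctor W D' : Subgroup L) : Set L)) →
      Cfsg.HasNormalPComplement p L)
    (F : FusionSystem S) (D : Subgroup Ω) (hyp : Hyp W p F D)
    (IHsmall : ∀ (Ω' : Type u) [Group Ω'] (T : Subgroup Ω') [Finite T], Nat.card T < Nat.card S →
      IsPGroup p T → ∀ (E : FusionSystem T) (D' : Subgroup Ω'), Hyp W p E D' → E = innerFusionSystem T)
    (Q₀ : Subgroup Ω) (hQ₀ : F.IsNormal Q₀)
    (hmaxQ₀ : ∀ Q : Subgroup Ω, F.IsNormal Q → Nat.card Q ≤ Nat.card Q₀)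
    (IHbig : ∀ (T : Subgroup Ω) [Finite T], Nat.card T = Nat.card S → IsPGroup p T →
      ∀ (E : FusionSystem T) (D' : Subgroup Ω), Hyp W p E D' →
        (∃ Q : Subgroup Ω, E.IsNormal Q ∧ Nat.card Q₀ < Nat.card Q) → E = innerFusionSystem T) :
    F = innerFusionSystem S := by
  have hQ₀S : Q₀ ≤ S := hQ₀.1
  have hfinQ₀ : Finite ↥Q₀ := finite_of_le hQ₀S
  have hstar : ∀ Q : Subgroup Ω, Q ≤ S → normalizerIn S Q = S → Nat.card Q₀ < Nat.card Q → NI F Q := by
    intro Q hQS hN hlt
    apply NI_of_normalizerSystem_eq_inner F hQS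
    have hfin : Finite (normalizerIn S Q) := finite_of_le (normalizerIn_le S Q)
    exact IHbig (normalizerIn S Q) (by rw [hN]) (hS.to_le (normalizerIn_le S Q)) _ D
      (hyp_normalizerSystem hS F D hyp hQS hN)
      ⟨Q, Cfsg.Agent.S5126.isNormal_normalizerSystem F Q hQS _ (normalizerSystem_isNormalizerSystem F Q hQS), hlt⟩
  by_cases hQ₀b : Q₀ = ⊥
  · by_contra hne
    obtain ⟨Q, hQne, hQS, hN, hno⟩ := exists_normal_not_NI hS hW F D hyp (IHsmall Ω) hne
    apply hno
    apply hstar Q hQS hN
    have hfinQ : Finite ↥Q := finite_of_le hQS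
    rw [hQ₀b, Subgroup.card_bot]
    exact (Subgroup.one_lt_card_iff_ne_bot Q).mpr hQne
  · by_cases hDQ : D ≤ Q₀
    · exact inner_of_isNormal_of_NI F (isNormal_inducedFunctor hS hW F
        (isNormal_of_le_of_stronglyClosed F hQ₀ hyp.closed hDQ)) hyp.ni
    · have hSn := normal_le_normalizer F hQ₀
      have hNn : (Q₀.subgroupOf S).Normal := by
        constructor
        intro n hn g
        rw [Subgroup.mem_subgroupOf] at hn ⊢
        exact (Subgroup.mem_normalizer_iff.mp (hSn g.2) _).mp hn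
      have hker : ∀ s : S, QuotientGroup.mk' (Q₀.subgroupOf S) s = 1 ↔ (s : Ω) ∈ Q₀ := by
        intro s
        rw [QuotientGroup.mk'_apply, QuotientGroup.eq_one_iff]
        exact Subgroup.mem_subgroupOf
      have hrange : (QuotientGroup.mk' (Q₀.subgroupOf S)).range = ⊤ :=
        MonoidHom.range_eq_top.mpr (QuotientGroup.mk'_surjective _)
      have hS'p : IsPGroup p ↥(⊤ : Subgroup (↥S ⧸ Q₀.subgroupOf S)) :=
        (hS.to_quotient (Q₀.subgroupOf S)).to_subgroup ⊤
      have hcardN : Nat.card (Q₀.subgroupOf S) = Nat.card Q₀ :=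
        Nat.card_congr (Subgroup.subgroupOfEquivOfLe hQ₀S).toEquiv
      have hcard : Nat.card ↥(⊤ : Subgroup (↥S ⧸ Q₀.subgroupOf S)) < Nat.card S := by
        rw [Subgroup.card_top, Subgroup.card_eq_card_quotient_mul_card_subgroup (Q₀.subgroupOf S), hcardN]
        have h1 : 1 < Nat.card Q₀ := (Subgroup.one_lt_card_iff_ne_bot Q₀).mpr hQ₀b
        have h2 : 0 < Nat.card (↥S ⧸ Q₀.subgroupOf S) := Nat.card_pos
        nlinarith
      have hL : ∀ L : Subgroup Ω, Q₀ ≤ L → L ≤ S → normalizerIn S L = S → Q₀ ≠ L → NI F L := by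
        intro L hQL hLS hN hne
        apply hstar L hLS hN
        have hfinL : Finite ↥L := finite_of_le hLS
        by_contra hle
        exact hne (Subgroup.eq_of_le_of_card_ge hQL (not_lt.mp hle))
      have hmod := inner_mod_aux hS hW F D hyp hQ₀ hS'p (QuotientGroup.mk' (Q₀.subgroupOf S)) hker hrange
        (IHsmall _ ⊤ hcard hS'p) hL hDQ
      have hcen := isCentric_of_inner_mod hS F hyp.sat hQ₀ hmaxQ₀ hmod
      obtain ⟨G, _, ι, hM⟩ :=
        Cfsg.Agent.Lib.Helper90.ModelFusion.NC.exists_isModel ⟨hyp.sat, hQ₀, hcen⟩ hS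
      obtain ⟨hfinG, hι, ⟨T, hT⟩, -⟩ := hM
      exact inner_of_realized hS hW GI F D hyp hι T hT

set_option maxHeartbeats 400000 in
/-- the main induction -/
theorem main_aux {p : ℕ} [Fact p.Prime]
    {W : ∀ (Q : Type u) [Group Q], Subgroup Q} (hW : IsCharPFunctor.{u} p W)
    (GI : ∀ (L : Type u) [Group L] [Finite L] (P : Sylow p L) (D' : Subgroup L),
      Cfsg.IsStronglyClosed D' (P : Subgroup L) →
      Cfsg.HasNormalPComplement p ↥(Subgroup.normalizer ((inducedFunctor W D' : Subgroup L) : Set L)) →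
      Cfsg.HasNormalPComplement p L) :
    ∀ (n k : ℕ) (Ω : Type u) [Group Ω] (S : Subgroup Ω) [Finite S], Nat.card S = n → IsPGroup p S →
      ∀ (F : FusionSystem S) (D : Subgroup Ω), Hyp W p F D →
        (∃ Q₀ : Subgroup Ω, F.IsNormal Q₀ ∧ n + 1 ≤ Nat.card Q₀ + k) → F = innerFusionSystem S := by
  intro n
  induction n using Nat.strong_induction_on with
  | _ n IHn =>
    intro k
    induction k with
    | zero =>
      intro Ω _ S _ hn hS F D hyp ⟨Q₀, hQ₀, hle⟩
      exfalso
      have := card_le_of_le hQ₀.1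
      omega
    | succ k IHk =>
      intro Ω _ S _ hn hS F D hyp ⟨Q₀, hQ₀, hle⟩
      by_cases hex : ∃ Q : Subgroup Ω, F.IsNormal Q ∧ n + 1 ≤ Nat.card Q + k
      · exact IHk Ω S hn hS F D hyp hex
      · push_neg at hex
        have hmaxQ₀ : ∀ Q : Subgroup Ω, F.IsNormal Q → Nat.card Q ≤ Nat.card Q₀ := by
          intro Q hQ
          have := hex Q hQ
          omega
        apply core_step hS hW GI F D hyp ?_ Q₀ hQ₀ hmaxQ₀ ?_
        · intro Ω' _ T _ hlt hT E D' hypE
          exact IHn (Nat.card T) (hn ▸ hlt) (Nat.card T) Ω' T rfl hT E D' hypE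
            ⟨⊥, Cfsg.Agent.Lib.Helper88.isNormal_bot E, by rw [Subgroup.card_bot]; omega⟩
        · intro T _ hcard hT E D' hypE ⟨Q, hQ, hlt⟩
          have := hex Q₀ hQ₀
          exact IHk Ω T (hcard.trans hn) hT E D' hypE ⟨Q, hQ, by omega⟩

/-- **Glauberman–Thompson type theorem for fusion systems**: if `W` is a characteristic functor for which the theorem
holds in finite groups, `F` is a saturated system over the finite `p`-group `S`, `D` is strongly closed in `F` and
the normalizer system of `W(D)` is inner, then `F` is inner. -/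
theorem inner_of_hyp [Finite S] {p : ℕ} [Fact p.Prime] (hS : IsPGroup p S)
    {W : ∀ (Q : Type u) [Group Q], Subgroup Q} (hW : IsCharPFunctor.{u} p W)
    (GI : ∀ (L : Type u) [Group L] [Finite L] (P : Sylow p L) (D' : Subgroup L),
      Cfsg.IsStronglyClosed D' (P : Subgroup L) →
      Cfsg.HasNormalPComplement p ↥(Subgroup.normalizer ((inducedFunctor W D' : Subgroup L) : Set L)) →
      Cfsg.HasNormalPComplement p L)
    (F : FusionSystem S) (D : Subgroup Ω) (hyp : Hyp W p F D) : F = innerFusionSystem S :=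
  main_aux hW GI (Nat.card S) (Nat.card S) Ω S rfl hS F D hyp
    ⟨⊥, Cfsg.Agent.Lib.Helper88.isNormal_bot F, by rw [Subgroup.card_bot]; omega⟩

end Cfsg.Agent.Lib.Helper90.GT
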