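import Mathlib
import Cfsg.Agent.Lib.Helper90.GTMain
import Cfsg.Agent.Lib.Helper88.FusionFrat7

set_option autoImplicit false

/-!
Sparse fusion systems are constrained (given a Glauberman–Thompson type theorem for a characteristic functor), and
non-inner saturated systems contain non-inner constrained saturated subsystems.
-/

namespace Cfsg.Agent.Lib.Helper90.GT

open Cfsg Cfsg.FusionSystem
open Cfsg.Agent.Lib.Helper87 (hom_le hom_mem hom_congr restrict_mem finite_of_le card_le_of_le
  normalizerIn_le mem_normalizerIn le_normalizerIn normalizerSystem normalizerSystem_isNormalizerSystem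
  subtype_mem exists_max_nat castSys' castSys'_hom castSys'_isSaturated)

universe u

variable {Ω : Type u} [Group Ω] {S : Subgroup Ω}

/-- the set of all maps of the system -/
def morSet (F : FusionSystem S) : Set (Σ P : Subgroup Ω, (P →* Ω)) := {x | x.2 ∈ F.Hom x.1}

theorem morSet_mono {E F : FusionSystem S} (h : E ≤ F) : morSet E ⊆ morSet F :=
  fun x hx => h x.1 hx

theorem le_of_morSet_subset {E F : FusionSystem S} (h : morSet E ⊆ morSet F) : E ≤ F :=
  fun P φ hφ => h (a := ⟨P, φ⟩) hφ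

theorem morSet_finite [Finite S] (F : FusionSystem S) : (morSet F).Finite := by
  have hfin : Finite (Set (↥S × ↥S)) := inferInstance
  let g : morSet F → Set (↥S × ↥S) := fun x =>
    {ab | ∃ h : (ab.1 : Ω) ∈ x.1.1, x.1.2 ⟨ab.1, h⟩ = (ab.2 : Ω)}
  have hg : Function.Injective g := by
    rintro ⟨⟨P, φ⟩, hφ⟩ ⟨⟨P', φ'⟩, hφ'⟩ hxy
    have hφ : φ ∈ F.Hom P := hφ
    have hφ' : φ' ∈ F.Hom P' := hφ'
    have hxy' : ∀ ab : ↥S × ↥S, (∃ h : (ab.1 : Ω) ∈ P, φ ⟨ab.1, h⟩ = (ab.2 : Ω)) ↔
        (∃ h : (ab.1 : Ω) ∈ P', φ' ⟨ab.1, h⟩ = (ab.2 : Ω)) := fun ab => by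
      have := congrArg (fun t : Set (↥S × ↥S) => ab ∈ t) hxy
      exact iff_of_eq this
    have hPP' : P = P' := by
      apply le_antisymm
      · intro a ha
        obtain ⟨h, -⟩ := (hxy' (⟨a, hom_le F hφ ha⟩, ⟨φ ⟨a, ha⟩, hom_mem F hφ _⟩)).mp ⟨ha, rfl⟩
        exact h
      · intro a ha
        obtain ⟨h, -⟩ := (hxy' (⟨a, hom_le F hφ' ha⟩, ⟨φ' ⟨a, ha⟩, hom_mem F hφ' _⟩)).mpr ⟨ha, rfl⟩
        exact h
    subst hPP'
    have hφφ' : φ = φ' := by
      ext a
      obtain ⟨h, he⟩ := (hxy' (⟨a, hom_le F hφ a.2⟩, ⟨φ a, hom_mem F hφ _⟩)).mp ⟨a.2, rfl⟩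
      exact he.symm
    subst hφφ'
    rfl
  have : Finite (morSet F) := Finite.of_injective g hg
  exact Set.toFinite _

theorem isNormal_castSys' {T T' : Subgroup Ω} (h : T = T') (E : FusionSystem T) (Q : Subgroup Ω) :
    (castSys' h E).IsNormal Q ↔ E.IsNormal Q := by
  subst h
  rfl

set_option maxHeartbeats 400000 in
/-- a saturated system whose only saturated subsystems over `S` are itself and the inner system is constrained, given
a Glauberman–Thompson type theorem -/
theorem constrained_of_sparse [Finite S] {p : ℕ} [Fact p.Prime] (hS : IsPGroup p S)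
    {W : ∀ (Q : Type u) [Group Q], Subgroup Q} (hW : IsCharPFunctor.{u} p W)
    (GI : ∀ (L : Type u) [Group L] [Finite L] (P : Sylow p L) (D' : Subgroup L),
      Cfsg.IsStronglyClosed D' (P : Subgroup L) →
      Cfsg.HasNormalPComplement p ↥(Subgroup.normalizer ((inducedFunctor W D' : Subgroup L) : Set L)) →
      Cfsg.HasNormalPComplement p L)
    (F : FusionSystem S) (hF : F.IsSaturated p)
    (hsparse : ∀ E : FusionSystem S, E.IsSaturated p → E ≤ F → E = F ∨ E = innerFusionSystem S) :
    F.IsConstrained p := by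
  obtain ⟨Q₀, hQ₀, hmax⟩ := exists_max_nat (fun Q : Subgroup Ω => F.IsNormal Q)
    (fun Q => Nat.card Q) (Nat.card S) ⟨⊥, Cfsg.Agent.Lib.Helper88.isNormal_bot F⟩
    (fun Q hQ => card_le_of_le hQ.1)
  refine ⟨hF, Q₀, hQ₀, ?_⟩
  have hQ₀S : Q₀ ≤ S := hQ₀.1
  have hfinQ₀ : Finite ↥Q₀ := finite_of_le hQ₀S
  have hstar : ∀ L : Subgroup Ω, L ≤ S → normalizerIn S L = S → Nat.card Q₀ < Nat.card L → NI F L := by
    intro L hLS hN hlt
    have hFL := normalizerSystem_isNormalizerSystem F L hLS
    have hsat : (castSys' hN (normalizerSystem F L hLS)).IsSaturated p :=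
      (castSys'_isSaturated hN _ p).mpr
        (Cfsg.Agent.S5098.result p hS F hF L (isFullyNormalized_of_normalizerIn_eq F hLS hN) _ hFL)
    have hle : castSys' hN (normalizerSystem F L hLS) ≤ F := by
      intro P φ hφ
      rw [castSys'_hom, hFL P] at hφ
      exact hφ.1
    have hnorm : (castSys' hN (normalizerSystem F L hLS)).IsNormal L :=
      (isNormal_castSys' hN _ L).mpr (Cfsg.Agent.S5126.isNormal_normalizerSystem F L hLS _ hFL)
    rcases hsparse _ hsat hle with h | h
    · exfalso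
      rw [h] at hnorm
      have := hmax L hnorm
      omega
    · intro R ψ hψ hLR hRN hmap
      have h2 : ψ ∈ (castSys' hN (normalizerSystem F L hLS)).Hom R := by
        rw [castSys'_hom, hFL R]
        exact mem_normalizerHom_of_le F hψ hLR hRN hmap
      rw [h] at h2
      obtain ⟨-, g, hg, hgψ⟩ := h2
      exact ⟨g, hg, hgψ⟩
  by_cases hSQ : S ≤ Q₀
  · have hQS : Q₀ = S := le_antisymm hQ₀S hSQ
    refine ⟨hQ₀S, fun Q' hconj => ?_⟩
    rw [Cfsg.Agent.Lib.Helper91.eq_of_isConj_of_isNormal F hQ₀ hconj, hQS]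
    exact inf_le_left
  · have hSn := normal_le_normalizer F hQ₀
    have hNn : (Q₀.subgroupOf S).Normal := by
      constructor
      intro n hn g
      rw [Subgroup.mem_subgroupOf] at hn ⊢
      exact (Subgroup.mem_normalizer_iff.mp (hSn g.2) _).mp hn
    have hker : ∀ s : S, QuotientGroup.mk' (Q₀.subgroupOf S) s = 1 ↔ (s : Ω) ∈ Q₀ := by
      intro s
      rw [QuotientGroup.mk'_apply, QuotientGroup.eq_one_iff]
      exact Subgroup.mem_subgroupOf
    have hrange : (QuotientGroup.mk' (Q₀.subgroupOf S)).range = ⊤ :=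
      MonoidHom.range_eq_top.mpr (QuotientGroup.mk'_surjective _)
    have hS'p : IsPGroup p ↥(⊤ : Subgroup (↥S ⧸ Q₀.subgroupOf S)) :=
      (hS.to_quotient (Q₀.subgroupOf S)).to_subgroup ⊤
    have hL : ∀ L : Subgroup Ω, Q₀ ≤ L → L ≤ S → normalizerIn S L = S → Q₀ ≠ L → NI F L := by
      intro L hQL hLS hN hne
      apply hstar L hLS hN
      have hfinL : Finite ↥L := finite_of_le hLS
      by_contra hle
      exact hne (Subgroup.eq_of_le_of_card_ge hQL (not_lt.mp hle))
    have hmod := inner_mod_aux' hS hW F S hF (Cfsg.Agent.Lib.Helper88.stronglyClosed_self F) hQ₀ hS'p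
      (QuotientGroup.mk' (Q₀.subgroupOf S)) hker hrange
      (fun E D' hyp' => inner_of_hyp hS'p hW GI E D' hyp') hL hSQ
    exact isCentric_of_inner_mod hS F hF hQ₀ hmax hmod

set_option maxHeartbeats 400000 in
/-- a non-inner saturated system contains a non-inner constrained system over the same group -/
theorem exists_constrained_le [Finite S] {p : ℕ} [Fact p.Prime] (hS : IsPGroup p S)
    {W : ∀ (Q : Type u) [Group Q], Subgroup Q} (hW : IsCharPFunctor.{u} p W)
    (GI : ∀ (L : Type u) [Group L] [Finite L] (P : Sylow p L) (D' : Subgroup L),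
      Cfsg.IsStronglyClosed D' (P : Subgroup L) →
      Cfsg.HasNormalPComplement p ↥(Subgroup.normalizer ((inducedFunctor W D' : Subgroup L) : Set L)) →
      Cfsg.HasNormalPComplement p L) :
    ∀ (n : ℕ) (F : FusionSystem S), (morSet F).ncard = n → F.IsSaturated p → F ≠ innerFusionSystem S →
      ∃ E : FusionSystem S, E ≤ F ∧ E.IsConstrained p ∧ E ≠ innerFusionSystem S := by
  intro n
  induction n using Nat.strong_induction_on with
  | _ n IH =>
    intro F hn hF hne
    by_cases hsparse : ∀ E : FusionSystem S, E.IsSaturated p → E ≤ F → E = F ∨ E = innerFusionSystem S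
    · exact ⟨F, fun P => subset_rfl, constrained_of_sparse hS hW GI F hF hsparse, hne⟩
    · push_neg at hsparse
      obtain ⟨E, hEsat, hEF, hEne, hEin⟩ := hsparse
      have hsub : morSet E ⊆ morSet F := morSet_mono hEF
      have hlt : (morSet E).ncard < n := by
        rw [← hn]
        apply Set.ncard_lt_ncard _ (morSet_finite F)
        refine ⟨hsub, fun h => hEne ?_⟩
        exact Cfsg.Agent.Lib.Helper89.fusionSystem_le_antisymm hEF (le_of_morSet_subset h)
      obtain ⟨E', hE'E, hE'c, hE'ne⟩ := IH _ hlt E rfl hEsat hEin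
      exact ⟨E', fun P => (hE'E P).trans (hEF P), hE'c, hE'ne⟩

end Cfsg.Agent.Lib.Helper90.GT
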