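import Mathlib
import Cfsg.Agent.Lib.Helper87.FusionGroup

set_option autoImplicit false

/-!
Sylow subgroups and normal subgroups: `Sy ∩ N` is a Sylow subgroup of the normal subgroup `N`;
Frattini decomposition with respect to `Sy ∩ N`.
-/

namespace Cfsg.Agent.Lib.Helper90

open Cfsg.Agent.Lib.Helper87
open scoped Pointwise

variable {G : Type*} [Group G] [Finite G] {p : ℕ} [Fact p.Prime]

/-- The intersection of a Sylow `p`-subgroup with a normal subgroup `N` is a Sylow `p`-subgroup of `N`. -/
theorem exists_sylow_eq_subgroupOf (Sy : Sylow p G) (N : Subgroup G) [N.Normal] :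
    ∃ P : Sylow p N, (P : Subgroup N) = (Sy : Subgroup G).subgroupOf N := by
  obtain ⟨Q⟩ : Nonempty (Sylow p N) := inferInstance
  have hQ' : IsPGroup p ((Q : Subgroup N).map N.subtype) := Q.isPGroup'.map _
  obtain ⟨g, hg⟩ := exists_conj_le_sylow Sy hQ'
  have hgN : ((Q : Subgroup N).map N.subtype).map (MulAut.conj g).toMonoidHom ≤ N := by
    rintro _ ⟨_, ⟨x, -, rfl⟩, rfl⟩
    exact (inferInstance : N.Normal).conj_mem _ x.2 g
  have hp : IsPGroup p ((Sy : Subgroup G).subgroupOf N) := Sy.isPGroup'.comap_subtype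
  refine sylow_of_card_ge Q hp ?_
  have h1 : Nat.card (Q : Subgroup N) =
      Nat.card (((Q : Subgroup N).map N.subtype).map (MulAut.conj g).toMonoidHom) := by
    rw [card_map_conj, Subgroup.card_map_of_injective (Subgroup.subtype_injective N)]
  rw [h1]
  have hle : ((Q : Subgroup N).map N.subtype).map (MulAut.conj g).toMonoidHom ≤ (Sy : Subgroup G) ⊓ N :=
    le_inf hg hgN
  calc Nat.card (((Q : Subgroup N).map N.subtype).map (MulAut.conj g).toMonoidHom)
      ≤ Nat.card ((Sy : Subgroup G) ⊓ N : Subgroup G) :=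
        Nat.card_le_card_of_injective (Subgroup.inclusion hle) (Subgroup.inclusion_injective hle)
    _ = Nat.card ((Sy : Subgroup G).subgroupOf N) := by
        rw [← Subgroup.subgroupOf_map_subtype,
          Subgroup.card_map_of_injective (Subgroup.subtype_injective N)]

/-- Frattini decomposition: if `N` is normal and `Sy` is a Sylow `p`-subgroup, every element is a product
of an element normalizing `Sy ∩ N` and an element of `N`. -/
theorem exists_mul_of_normal (Sy : Sylow p G) (N : Subgroup G) [N.Normal] (a : G) :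
    ∃ ν ∈ Subgroup.normalizer (((Sy : Subgroup G) ⊓ N : Subgroup G) : Set G), ∃ n ∈ N, a = ν * n := by
  obtain ⟨P, hP⟩ := exists_sylow_eq_subgroupOf Sy N
  have h := Sylow.normalizer_sup_eq_top P
  rw [hP, Subgroup.subgroupOf_map_subtype] at h
  have ha : a ∈ (Subgroup.normalizer (((Sy : Subgroup G) ⊓ N : Subgroup G) : Set G) ⊔ N : Subgroup G) := by
    rw [h]; trivial
  have h2 := Subgroup.mul_normal (Subgroup.normalizer (((Sy : Subgroup G) ⊓ N : Subgroup G) : Set G)) N
  have ha' : a ∈ ((Subgroup.normalizer (((Sy : Subgroup G) ⊓ N : Subgroup G) : Set G) ⊔ N : Subgroup G) : Set G) := ha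
  rw [h2] at ha'
  obtain ⟨ν, hν, n, hn, rfl⟩ := Set.mem_mul.mp ha'
  exact ⟨ν, hν, n, hn, rfl⟩

end Cfsg.Agent.Lib.Helper90
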