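import Mathlib
import Cfsg.Prelude.Def_GeometricClasses
import Cfsg.Agent.Lib.Helper18.Symp
import Cfsg.Agent.Lib.Helper63.SLMaxD3

/-!
# K-SpMax-D3': the degree of a self-adjoint field subalgebra with `f (k v) v = 0` divides `m`
-/

set_option autoImplicit false

namespace Cfsg.Agent.Lib.Helper90.SpMax

open Cfsg Cfsg.Geo Matrix
open scoped Matrix

section
variable {F : Type*} [Field F] {m : ℕ}

/-- the standard symplectic form as a Mathlib bilinear form -/
noncomputable def sBf (m : ℕ) (F : Type*) [Field F] : LinearMap.BilinForm F (Fin m ⊕ Fin m → F) :=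
  Matrix.toBilin' (Matrix.J (Fin m) F)

theorem sBf_apply (u v : Fin m ⊕ Fin m → F) : sBf m F u v = Cfsg.sympForm m F u v := by
  unfold sBf Cfsg.sympForm
  rw [Matrix.toBilin'_apply']

theorem sBf_nondegenerate : (sBf m F).Nondegenerate := by
  unfold sBf
  rw [Matrix.nondegenerate_toBilin'_iff]
  apply Matrix.nondegenerate_of_det_ne_zero
  intro h
  have := Matrix.J_det_mul_J_det (Fin m) F
  rw [h] at this
  simp at this

theorem sf_add_left (x y v : Fin m ⊕ Fin m → F) :
    Cfsg.sympForm m F (x + y) v = Cfsg.sympForm m F x v + Cfsg.sympForm m F y v := by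
  rw [← sBf_apply, ← sBf_apply, ← sBf_apply, map_add, LinearMap.add_apply]

theorem sf_add_right (v x y : Fin m ⊕ Fin m → F) :
    Cfsg.sympForm m F v (x + y) = Cfsg.sympForm m F v x + Cfsg.sympForm m F v y := by
  rw [← sBf_apply, ← sBf_apply, ← sBf_apply, map_add]

/-- the cyclic `K`-submodule generated by `x` -/
def cyc (K : Subalgebra F (Matrix (Fin m ⊕ Fin m) (Fin m ⊕ Fin m) F)) (x : Fin m ⊕ Fin m → F) :
    Submodule F (Fin m ⊕ Fin m → F) where
  carrier := {y | ∃ k ∈ K, k *ᵥ x = y}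
  add_mem' := by
    rintro a b ⟨k, hk, rfl⟩ ⟨k', hk', rfl⟩
    exact ⟨k + k', K.add_mem hk hk', Matrix.add_mulVec _ _ _⟩
  zero_mem' := ⟨0, K.zero_mem, Matrix.zero_mulVec _⟩
  smul_mem' := by
    rintro c a ⟨k, hk, rfl⟩
    exact ⟨c • k, K.smul_mem hk c, Matrix.smul_mulVec _ _ _⟩

theorem mem_cyc (K : Subalgebra F (Matrix (Fin m ⊕ Fin m) (Fin m ⊕ Fin m) F))
    (x y : Fin m ⊕ Fin m → F) : y ∈ cyc K x ↔ ∃ k ∈ K, k *ᵥ x = y := Iff.rfl

/-- the restricted action of `K` on an invariant subspace -/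
def restrictHom (K : Subalgebra F (Matrix (Fin m ⊕ Fin m) (Fin m ⊕ Fin m) F))
    (L : Submodule F (Fin m ⊕ Fin m → F)) (hinv : ∀ k ∈ K, ∀ x ∈ L, k *ᵥ x ∈ L) :
    K →ₐ[F] Module.End F L where
  toFun k := (Matrix.toLin' k.1).restrict (fun x hx => by
    rw [Matrix.toLin'_apply]; exact hinv k.1 k.2 x hx)
  map_one' := by
    ext x
    simp
  map_mul' a b := by
    ext x
    simp [Matrix.toLin'_mul]
  map_zero' := by
    ext x
    simp
  map_add' a b := by
    ext x
    simp [Matrix.add_mulVec]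
  commutes' c := by
    ext x
    simp [Algebra.algebraMap_eq_smul_one, Matrix.smul_mulVec]

end

variable {F : Type*} [Field F] [Fintype F] {m : ℕ}

/-- **K-SpMax-D3'** -/
theorem dvd_of_isSelfAdjointFor {r : ℕ}
    (K : Subalgebra F (Matrix (Fin m ⊕ Fin m) (Fin m ⊕ Fin m) F))
    (hK : IsFieldSubalgebra r K) (hsa : IsSelfAdjointFor (sympForm m F) K)
    (halt : ∀ k ∈ K, ∀ v : Fin m ⊕ Fin m → F, sympForm m F (k *ᵥ v) v = 0) : r ∣ m := by
  classical
  rcases Nat.eq_zero_or_pos m with hm | hm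
  · subst hm; exact dvd_zero r
  haveI : Nonempty (Fin m ⊕ Fin m) := ⟨Sum.inl ⟨0, hm⟩⟩
  -- skew symmetry
  have hskew : ∀ u v : Fin m ⊕ Fin m → F, sympForm m F u v = - sympForm m F v u :=
    Cfsg.Agent.Lib.Helper18.sympForm_swap m
  -- the family of invariant totally singular subspaces
  let 𝒮 : Set (Submodule F (Fin m ⊕ Fin m → F)) :=
    {L | (∀ k ∈ K, ∀ x ∈ L, k *ᵥ x ∈ L) ∧ ∀ x ∈ L, ∀ y ∈ L, sympForm m F x y = 0}
  have hbot : (⊥ : Submodule F (Fin m ⊕ Fin m → F)) ∈ 𝒮 := by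
    refine ⟨?_, ?_⟩
    · intro k _ x hx
      rw [Submodule.mem_bot] at hx ⊢
      rw [hx, Matrix.mulVec_zero]
    · intro x hx y hy
      rw [Submodule.mem_bot] at hx
      rw [hx, ← sBf_apply, map_zero, LinearMap.zero_apply]
  obtain ⟨L, hL, hmax⟩ := WellFounded.has_min
    (wellFounded_gt : WellFounded (α := Submodule F (Fin m ⊕ Fin m → F)) (· > ·)) 𝒮 ⟨⊥, hbot⟩
  obtain ⟨hLinv, hLts⟩ := hL
  -- `L^⊥ ≤ L`
  have hperp : (sBf m F).orthogonal L ≤ L := by
    intro x hx
    rw [LinearMap.BilinForm.mem_orthogonal_iff] at hx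
    have hx' : ∀ n ∈ L, sympForm m F n x = 0 := fun n hn => by rw [← sBf_apply]; exact hx n hn
    have hL' : L ⊔ cyc K x ∈ 𝒮 := by
      refine ⟨?_, ?_⟩
      · intro k hk y hy
        obtain ⟨l, hl, c, ⟨a, ha, rfl⟩, rfl⟩ := Submodule.mem_sup.mp hy
        rw [Matrix.mulVec_add]
        refine Submodule.add_mem_sup (hLinv k hk l hl) ⟨k * a, K.mul_mem hk ha, ?_⟩
        rw [Matrix.mulVec_mulVec]
      · intro y hy y' hy'
        obtain ⟨l, hl, c, ⟨a, ha, rfl⟩, rfl⟩ := Submodule.mem_sup.mp hy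
        obtain ⟨l', hl', c', ⟨b, hb, rfl⟩, rfl⟩ := Submodule.mem_sup.mp hy'
        rw [sf_add_left, sf_add_right, sf_add_right, hLts l hl l' hl']
        have h1 : sympForm m F l (b *ᵥ x) = 0 := by
          rw [← hsa b hb l x]
          exact hx' _ (hLinv b hb l hl)
        have h2 : sympForm m F (a *ᵥ x) l' = 0 := by
          rw [hskew, ← hsa a ha l' x, hx' _ (hLinv a ha l' hl'), neg_zero]
        have h3 : sympForm m F (a *ᵥ x) (b *ᵥ x) = 0 := by
          rw [hsa a ha x (b *ᵥ x), Matrix.mulVec_mulVec, hskew, halt (a * b) (K.mul_mem ha hb) x,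
            neg_zero]
        rw [h1, h2, h3]
        ring
    have hle : L ≤ L ⊔ cyc K x := le_sup_left
    have heq : L ⊔ cyc K x = L := by
      by_contra hne
      exact hmax _ hL' (lt_of_le_of_ne hle (Ne.symm hne))
    rw [← heq]
    exact Submodule.mem_sup_right ⟨1, K.one_mem, Matrix.one_mulVec x⟩
  have hperp' : L ≤ (sBf m F).orthogonal L := by
    intro x hx
    rw [LinearMap.BilinForm.mem_orthogonal_iff]
    intro n hn
    rw [sBf_apply]
    exact hLts n hn x hx
  have hLeq : (sBf m F).orthogonal L = L := le_antisymm hperp hperp'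
  have hdim : Module.finrank F L = m := by
    have h1 := LinearMap.BilinForm.finrank_orthogonal (sBf_nondegenerate (m := m) (F := F)) L
    rw [hLeq, Module.finrank_pi, Fintype.card_sum, Fintype.card_fin] at h1
    have h2 : Module.finrank F L ≤ m + m := by
      have := Submodule.finrank_le L
      rwa [Module.finrank_pi, Fintype.card_sum, Fintype.card_fin] at this
    omega
  -- the field structure on `K`
  haveI : Nontrivial K := ⟨⟨0, 1, fun h => zero_ne_one (congrArg Subtype.val h)⟩⟩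
  have hfield : IsField K :=
    { exists_pair_ne := ⟨0, 1, zero_ne_one⟩
      mul_comm := fun x y => Subtype.ext (hK.comm x x.2 y y.2)
      mul_inv_cancel := fun {a} ha => by
        obtain ⟨y, hy, hxy⟩ := hK.inv a a.2 (fun h => ha (Subtype.ext h))
        exact ⟨⟨y, hy⟩, Subtype.ext hxy⟩ }
  letI : Field K := hfield.toField
  have h1 := Cfsg.Agent.Lib.Helper63.SLMax.finrank_dvd_of_algHom (F := F) (L := K) (V := L)
    (restrictHom K L hLinv)
  rw [hK.finrank_eq, hdim] at h1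
  exact h1

end Cfsg.Agent.Lib.Helper90.SpMax
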