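import Mathlib
import Cfsg.Prelude.Def_GeometricClasses
import Cfsg.Agent.Lib.Helper11.SpMax
import Cfsg.Agent.Lib.Helper90.SpMaxD3p

/-!
# K-SpMax-N6: `Sp_{2m}(q)`, `q` odd, `m ≥ 2`, does not normalise an absolutely irreducible
2-group of exponent 4 with centre of order 2 inside the similarity group
-/

set_option autoImplicit false

namespace Cfsg.Agent.Lib.Helper90.SpMax

open Cfsg Cfsg.Geo Matrix Cfsg.Agent.Lib.Helper11.SpMax
open scoped Matrix MatrixGroups

section
variable {F : Type*} [Field F] {m : ℕ}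

theorem sf_smul_left (c : F) (x v : Fin m ⊕ Fin m → F) :
    Cfsg.sympForm m F (c • x) v = c * Cfsg.sympForm m F x v := by
  rw [← sBf_apply, ← sBf_apply, map_smul, LinearMap.smul_apply, smul_eq_mul]

theorem sf_smul_right (c : F) (v x : Fin m ⊕ Fin m → F) :
    Cfsg.sympForm m F v (c • x) = c * Cfsg.sympForm m F v x := by
  rw [← sBf_apply, ← sBf_apply, map_smul, smul_eq_mul]

theorem sf_self (v : Fin m ⊕ Fin m → F) : Cfsg.sympForm m F v v = 0 :=
  Cfsg.Agent.Lib.Helper18.sympForm_self m v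

theorem sf_swap (u v : Fin m ⊕ Fin m → F) : Cfsg.sympForm m F u v = - Cfsg.sympForm m F v u :=
  Cfsg.Agent.Lib.Helper18.sympForm_swap m u v

theorem sf_sub_left (x y v : Fin m ⊕ Fin m → F) :
    Cfsg.sympForm m F (x - y) v = Cfsg.sympForm m F x v - Cfsg.sympForm m F y v := by
  rw [← sBf_apply, ← sBf_apply, ← sBf_apply, map_sub, LinearMap.sub_apply]

theorem sf_sub_right (v x y : Fin m ⊕ Fin m → F) :
    Cfsg.sympForm m F v (x - y) = Cfsg.sympForm m F v x - Cfsg.sympForm m F v y := by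
  rw [← sBf_apply, ← sBf_apply, ← sBf_apply, map_sub]

theorem sf_exists_ne (u : Fin m ⊕ Fin m → F) (hu : u ≠ 0) :
    ∃ x : Fin m ⊕ Fin m → F, Cfsg.sympForm m F x u ≠ 0 := by
  obtain ⟨x, _, hx⟩ := exists_perp_sep m (⊥ : Submodule F (Fin m ⊕ Fin m → F)) u
    (by rwa [Submodule.mem_bot])
  refine ⟨x, ?_⟩
  rw [sf_swap]
  exact neg_ne_zero.mpr hx

/-- Step A: if `Sp` normalises `R` (of exponent dividing 4, odd characteristic) then every `g ∈ R`
maps each `u` with `f u (g u) = 0` to a multiple of `u`. -/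
theorem eigen_of_normalizes (R : Subgroup (GL (Fin m ⊕ Fin m) F))
    (hN : spGL m F ≤ subgroupNormalizer R) (h2 : (2 : F) ≠ 0) (hexp : ∀ r ∈ R, r ^ 4 = 1)
    (g : GL (Fin m ⊕ Fin m) F) (hg : g ∈ R) (lam : Fˣ)
    (hlam : ∀ u v, sympForm m F (g.1 *ᵥ u) (g.1 *ᵥ v) = (lam : F) * sympForm m F u v)
    (u : Fin m ⊕ Fin m → F) (hu : sympForm m F u (g.1 *ᵥ u) = 0) :
    ∃ μ : F, g.1 *ᵥ u = μ • u := by
  by_cases hu0 : u = 0
  · exact ⟨0, by rw [hu0, Matrix.mulVec_zero, smul_zero]⟩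
  have htn : tg m u 1 ∈ Subgroup.normalizer (R : Set (GL (Fin m ⊕ Fin m) F)) := hN (tg_mem m u 1)
  have hcR : tg m u 1 * g * (tg m u 1)⁻¹ * g⁻¹ ∈ R :=
    R.mul_mem ((Subgroup.mem_normalizer_iff.mp htn g).mp hg) (R.inv_mem hg)
  set c : GL (Fin m ⊕ Fin m) F := tg m u 1 * g * (tg m u 1)⁻¹ * g⁻¹ with hc
  have hc4 : c ^ 4 = 1 := hexp c hcR
  have hgu : sympForm m F (g.1 *ᵥ u) u = 0 := by rw [sf_swap, hu, neg_zero]
  -- the action of `c`
  have hact : ∀ x, c.1 *ᵥ x = x + (sympForm m F x u • u -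
      ((lam : F)⁻¹ * sympForm m F x (g.1 *ᵥ u)) • (g.1 *ᵥ u)) := by
    intro x
    have hy : sympForm m F (g⁻¹.1 *ᵥ x) u = (lam : F)⁻¹ * sympForm m F x (g.1 *ᵥ u) := by
      have := hlam (g⁻¹.1 *ᵥ x) u
      rw [gl_act_inv] at this
      rw [this, ← mul_assoc, inv_mul_cancel₀ lam.ne_zero, one_mul]
    rw [hc, gl_mul_act, gl_mul_act, gl_mul_act, tg_inv, tg_act, tg_act, Matrix.mulVec_add,
      Matrix.mulVec_smul, gl_act_inv, hy, sf_add_left, sf_smul_left, hgu]
    simp only [one_mul, mul_zero, add_zero, neg_mul, neg_smul]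
    abel
  clear_value c
  -- abbreviations
  have hNN : ∀ x (a : F), c.1 *ᵥ (x + a • (sympForm m F x u • u -
      ((lam : F)⁻¹ * sympForm m F x (g.1 *ᵥ u)) • (g.1 *ᵥ u))) =
      x + (a + 1) • (sympForm m F x u • u -
      ((lam : F)⁻¹ * sympForm m F x (g.1 *ᵥ u)) • (g.1 *ᵥ u)) := by
    intro x a
    rw [hact]
    have e1 : sympForm m F (x + a • (sympForm m F x u • u -
        ((lam : F)⁻¹ * sympForm m F x (g.1 *ᵥ u)) • (g.1 *ᵥ u))) u = sympForm m F x u := by
      rw [sf_add_left, sf_smul_left, sf_sub_left, sf_smul_left, sf_smul_left, sf_self, hgu]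
      ring
    have e2 : sympForm m F (x + a • (sympForm m F x u • u -
        ((lam : F)⁻¹ * sympForm m F x (g.1 *ᵥ u)) • (g.1 *ᵥ u))) (g.1 *ᵥ u) =
        sympForm m F x (g.1 *ᵥ u) := by
      rw [sf_add_left, sf_smul_left, sf_sub_left, sf_smul_left, sf_smul_left, sf_self, hu]
      ring
    rw [e1, e2, add_smul, one_smul]
    abel
  have hzero : ∀ x, sympForm m F x u • u -
      ((lam : F)⁻¹ * sympForm m F x (g.1 *ᵥ u)) • (g.1 *ᵥ u) = 0 := by
    intro x
    have h4 : c ^ 4 = c * (c * (c * c)) := by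
      rw [pow_succ, pow_succ, pow_succ, pow_one]
      simp only [mul_assoc]
    have h5 : (c ^ 4).1 *ᵥ x = x := by rw [hc4, Units.val_one, Matrix.one_mulVec]
    rw [h4, gl_mul_act, gl_mul_act, gl_mul_act] at h5
    have h6 : c.1 *ᵥ x = x + (0 + 1 : F) • (sympForm m F x u • u -
        ((lam : F)⁻¹ * sympForm m F x (g.1 *ᵥ u)) • (g.1 *ᵥ u)) := by
      have := hNN x 0
      rwa [zero_smul, add_zero] at this
    rw [h6, hNN, hNN, hNN] at h5
    have h7 : (0 + 1 + 1 + 1 + 1 : F) • (sympForm m F x u • u -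
        ((lam : F)⁻¹ * sympForm m F x (g.1 *ᵥ u)) • (g.1 *ᵥ u)) = 0 := by
      have := congrArg (fun w => w - x) h5
      simpa using this
    have h8 : (0 + 1 + 1 + 1 + 1 : F) ≠ 0 := by
      have : (0 + 1 + 1 + 1 + 1 : F) = 2 * 2 := by ring
      rw [this]
      exact mul_ne_zero h2 h2
    exact (smul_eq_zero.mp h7).resolve_left h8
  obtain ⟨x, hx⟩ := sf_exists_ne u hu0
  have h1 : sympForm m F x u • u = ((lam : F)⁻¹ * sympForm m F x (g.1 *ᵥ u)) • (g.1 *ᵥ u) :=
    sub_eq_zero.mp (hzero x)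
  have hk : (lam : F)⁻¹ * sympForm m F x (g.1 *ᵥ u) ≠ 0 := by
    intro hk
    rw [hk, zero_smul] at h1
    exact hu0 ((smul_eq_zero.mp h1).resolve_left hx)
  refine ⟨((lam : F)⁻¹ * sympForm m F x (g.1 *ᵥ u))⁻¹ * sympForm m F x u, ?_⟩
  rw [mul_smul, h1, smul_smul, inv_mul_cancel₀ hk, one_smul]

theorem mat_ext_mulVec {A B : Matrix (Fin m ⊕ Fin m) (Fin m ⊕ Fin m) F}
    (h : ∀ x : Fin m ⊕ Fin m → F, A *ᵥ x = B *ᵥ x) : A = B :=
  Matrix.toLin'.injective (LinearMap.ext fun v => by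
    rw [Matrix.toLin'_apply, Matrix.toLin'_apply]; exact h v)

/-- Step (ii): a non-scalar involution all of whose `f (·) (A ·)`-singular vectors are eigenvectors
does not exist for `m ≥ 2`. -/
theorem invol_false (hm : 2 ≤ m) (h2 : (2 : F) ≠ 0)
    (A : Matrix (Fin m ⊕ Fin m) (Fin m ⊕ Fin m) F)
    (hAA : A * A = 1) (hA1 : A ≠ 1) (hAm1 : A ≠ -1)
    (hstar : ∀ u, sympForm m F u (A *ᵥ u) = 0 → ∃ μ : F, A *ᵥ u = μ • u) : False := by
  have hAAv : ∀ x, A *ᵥ (A *ᵥ x) = x := fun x => by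
    rw [Matrix.mulVec_mulVec, hAA, Matrix.one_mulVec]
  -- orthogonality is impossible between the two eigenspaces
  have hC : ∀ a b, A *ᵥ a = a → A *ᵥ b = -b → a ≠ 0 → b ≠ 0 → sympForm m F a b ≠ 0 := by
    intro a b ha hb ha0 hb0 hab
    have hAu : A *ᵥ (a + b) = a - b := by rw [Matrix.mulVec_add, ha, hb, sub_eq_add_neg]
    have hAu' : A *ᵥ (a - b) = a + b := by
      rw [Matrix.mulVec_sub, ha, hb, sub_neg_eq_add]
    have h0 : sympForm m F (a + b) (A *ᵥ (a + b)) = 0 := by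
      rw [hAu, sf_add_left, sf_sub_right, sf_sub_right, sf_self, sf_self, sf_swap b a, hab]
      ring
    obtain ⟨μ, hμ⟩ := hstar (a + b) h0
    have e1 : a - b = μ • (a + b) := by rw [← hAu]; exact hμ
    have e2 : a + b = μ • (a - b) := by
      have := congrArg (fun w => A *ᵥ w) e1
      rw [hAu', Matrix.mulVec_smul, hAu] at this
      exact this
    have h3 : (2 * (1 - μ)) • a = ((a - b) - μ • (a + b)) + ((a + b) - μ • (a - b)) := by module
    have h4 : (2 * (1 + μ)) • b = ((a + b) - μ • (a - b)) - ((a - b) - μ • (a + b)) := by module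
    rw [sub_eq_zero.mpr e1, sub_eq_zero.mpr e2, add_zero] at h3
    rw [sub_eq_zero.mpr e1, sub_eq_zero.mpr e2, sub_zero] at h4
    have h5 : 1 - μ = 0 := by
      rcases smul_eq_zero.mp h3 with h | h
      · exact (mul_eq_zero.mp h).resolve_left h2
      · exact absurd h ha0
    have h6 : 1 + μ = 0 := by
      rcases smul_eq_zero.mp h4 with h | h
      · exact (mul_eq_zero.mp h).resolve_left h2
      · exact absurd h hb0
    apply h2
    linear_combination h5 + h6
  -- nonzero eigenvectors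
  obtain ⟨x₀, hx₀⟩ : ∃ x, A *ᵥ x ≠ x := by
    by_contra hcon
    push Not at hcon
    exact hA1 (mat_ext_mulVec fun x => by rw [hcon x, Matrix.one_mulVec])
  obtain ⟨y₀, hy₀⟩ : ∃ y, A *ᵥ y ≠ -y := by
    by_contra hcon
    push Not at hcon
    exact hAm1 (mat_ext_mulVec fun x => by rw [hcon x, Matrix.neg_mulVec, Matrix.one_mulVec])
  set b₀ := x₀ - A *ᵥ x₀ with hb₀
  set a₀ := y₀ + A *ᵥ y₀ with ha₀
  have hb₀A : A *ᵥ b₀ = -b₀ := by rw [hb₀, Matrix.mulVec_sub, hAAv]; abel
  have ha₀A : A *ᵥ a₀ = a₀ := by rw [ha₀, Matrix.mulVec_add, hAAv]; abel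
  have hb₀0 : b₀ ≠ 0 := by
    rw [hb₀]; exact sub_ne_zero.mpr (Ne.symm hx₀)
  have ha₀0 : a₀ ≠ 0 := by
    rw [ha₀]
    intro h
    exact hy₀ (eq_neg_of_add_eq_zero_right h)
  have hab₀ : sympForm m F a₀ b₀ ≠ 0 := hC a₀ b₀ ha₀A hb₀A ha₀0 hb₀0
  -- the two eigenspaces are lines
  have hminus : ∀ b, A *ᵥ b = -b → b ∈ Submodule.span F ({a₀, b₀} : Set (Fin m ⊕ Fin m → F)) := by
    intro b hb
    have hb' : A *ᵥ (sympForm m F a₀ b₀ • b - sympForm m F a₀ b • b₀) =
        -(sympForm m F a₀ b₀ • b - sympForm m F a₀ b • b₀) := by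
      rw [Matrix.mulVec_sub, Matrix.mulVec_smul, Matrix.mulVec_smul, hb, hb₀A]
      module
    have hf : sympForm m F a₀ (sympForm m F a₀ b₀ • b - sympForm m F a₀ b • b₀) = 0 := by
      rw [sf_sub_right, sf_smul_right, sf_smul_right]; ring
    have hz : sympForm m F a₀ b₀ • b - sympForm m F a₀ b • b₀ = 0 := by
      by_contra hne
      exact hC a₀ _ ha₀A hb' ha₀0 hne hf
    have : b = ((sympForm m F a₀ b₀)⁻¹ * sympForm m F a₀ b) • b₀ := by
      have h1 : sympForm m F a₀ b₀ • b = sympForm m F a₀ b • b₀ := sub_eq_zero.mp hz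
      rw [mul_smul, ← h1, smul_smul, inv_mul_cancel₀ hab₀, one_smul]
    rw [this]
    exact Submodule.smul_mem _ _ (Submodule.subset_span (by simp))
  have hplus : ∀ a, A *ᵥ a = a → a ∈ Submodule.span F ({a₀, b₀} : Set (Fin m ⊕ Fin m → F)) := by
    intro a ha
    have ha' : A *ᵥ (sympForm m F a₀ b₀ • a - sympForm m F a b₀ • a₀) =
        sympForm m F a₀ b₀ • a - sympForm m F a b₀ • a₀ := by
      rw [Matrix.mulVec_sub, Matrix.mulVec_smul, Matrix.mulVec_smul, ha, ha₀A]
    have hf : sympForm m F (sympForm m F a₀ b₀ • a - sympForm m F a b₀ • a₀) b₀ = 0 := by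
      rw [sf_sub_left, sf_smul_left, sf_smul_left]; ring
    have hz : sympForm m F a₀ b₀ • a - sympForm m F a b₀ • a₀ = 0 := by
      by_contra hne
      exact hC _ b₀ ha' hb₀A hne hb₀0 hf
    have : a = ((sympForm m F a₀ b₀)⁻¹ * sympForm m F a b₀) • a₀ := by
      have h1 : sympForm m F a₀ b₀ • a = sympForm m F a b₀ • a₀ := sub_eq_zero.mp hz
      rw [mul_smul, ← h1, smul_smul, inv_mul_cancel₀ hab₀, one_smul]
    rw [this]
    exact Submodule.smul_mem _ _ (Submodule.subset_span (by simp))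
  have htop : (⊤ : Submodule F (Fin m ⊕ Fin m → F)) ≤
      Submodule.span F ({a₀, b₀} : Set (Fin m ⊕ Fin m → F)) := by
    intro x _
    have h1 : x = (2 : F)⁻¹ • ((x + A *ᵥ x) + (x - A *ᵥ x)) := by
      have : (x + A *ᵥ x) + (x - A *ᵥ x) = (2 : F) • x := by module
      rw [this, smul_smul, inv_mul_cancel₀ h2, one_smul]
    rw [h1]
    apply Submodule.smul_mem
    apply Submodule.add_mem
    · apply hplus
      rw [Matrix.mulVec_add, hAAv]; abel
    · apply hminus
      rw [Matrix.mulVec_sub, hAAv]; abel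
  have hfr : Module.finrank F (Fin m ⊕ Fin m → F) = m + m := by
    rw [Module.finrank_pi, Fintype.card_sum, Fintype.card_fin]
  have h1 := Submodule.finrank_mono htop
  rw [finrank_top, hfr] at h1
  classical
  have h3 : Module.finrank F (Submodule.span F ({a₀, b₀} : Set (Fin m ⊕ Fin m → F))) ≤ 2 := by
    have := finrank_span_finset_le_card (R := F) ({a₀, b₀} : Finset (Fin m ⊕ Fin m → F))
    have hc : ({a₀, b₀} : Finset (Fin m ⊕ Fin m → F)).card ≤ 2 := Finset.card_le_two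
    have hcoe : (({a₀, b₀} : Finset (Fin m ⊕ Fin m → F)) : Set (Fin m ⊕ Fin m → F)) = {a₀, b₀} := by
      simp
    rw [hcoe] at this
    unfold Set.finrank at this
    omega
  omega

/-- anticommutation from three squares equal to `-1` -/
theorem anticomm_of_sq {X Y : Matrix (Fin m ⊕ Fin m) (Fin m ⊕ Fin m) F} (hX : X * X = -1)
    (hY : Y * Y = -1) (hXY : (X * Y) * (X * Y) = -1) : Y * X = -(X * Y) := by
  calc Y * X = (X * X) * (Y * X) * (Y * Y) := by rw [hX, hY]; simp
    _ = X * ((X * Y) * (X * Y)) * Y := by simp only [Matrix.mul_assoc]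
    _ = -(X * Y) := by rw [hXY]; simp

/-- Step (i): a multiplicatively closed set of matrices of exponent 4 whose central elements are
`± 1`, acting irreducibly in dimension `2m ≥ 4` over a field where `-1` is a sum of two squares,
contains a non-scalar involution. -/
theorem exists_noncentral_invol (hm : 2 ≤ m) (h2 : (2 : F) ≠ 0)
    (S : Set (Matrix (Fin m ⊕ Fin m) (Fin m ⊕ Fin m) F))
    (hSmul : ∀ A B, A ∈ S → B ∈ S → A * B ∈ S)
    (hS4 : ∀ A ∈ S, (A * A) * (A * A) = 1)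
    (hirr : ActsIrreducibly S)
    (hcen : ∀ M ∈ S, (∀ s ∈ S, M * s = s * M) → M = 1 ∨ M = -1)
    (hnon : ∃ M ∈ S, M ≠ 1 ∧ M ≠ -1)
    (hab : ∃ a b : F, a ^ 2 + b ^ 2 = -1) :
    ∃ A ∈ S, A * A = 1 ∧ A ≠ 1 ∧ A ≠ -1 := by
  classical
  by_contra hno
  push Not at hno
  have hno' : ∀ A ∈ S, A * A = 1 → A = 1 ∨ A = -1 := by
    intro A hA hAA
    by_cases h1 : A = 1
    · exact Or.inl h1
    · exact Or.inr (hno A hA hAA h1)
  have hsq : ∀ A ∈ S, A ≠ 1 → A ≠ -1 → A * A = -1 := by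
    intro A hA h1 hm1
    rcases hno' (A * A) (hSmul A A hA hA) (hS4 A hA) with h | h
    · rcases hno' A hA h with h' | h'
      · exact absurd h' h1
      · exact absurd h' hm1
    · exact h
  haveI : Nonempty (Fin m ⊕ Fin m) := ⟨Sum.inl ⟨0, by omega⟩⟩
  have hone_ne : (1 : Matrix (Fin m ⊕ Fin m) (Fin m ⊕ Fin m) F) ≠ 0 := one_ne_zero
  obtain ⟨G, hGS, hG1, hGm1⟩ := hnon
  -- a non-commuting partner
  obtain ⟨H, hHS, hGH⟩ : ∃ H ∈ S, G * H ≠ H * G := by
    by_contra hcon
    push Not at hcon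
    rcases hcen G hGS hcon with h | h
    · exact hG1 h
    · exact hGm1 h
  have hH1 : H ≠ 1 := by rintro rfl; exact hGH (by rw [Matrix.mul_one, Matrix.one_mul])
  have hHm1 : H ≠ -1 := by rintro rfl; exact hGH (by simp)
  have hGHS : G * H ∈ S := hSmul G H hGS hHS
  have hGH1 : G * H ≠ 1 := by
    intro h
    exact hGH (by rw [h, _root_.mul_eq_one_comm.mp h])
  have hGHm1 : G * H ≠ -1 := by
    intro h
    have h' : (-G) * H = 1 := by rw [Matrix.neg_mul, h, neg_neg]
    have h'' : H * (-G) = 1 := _root_.mul_eq_one_comm.mp h'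
    apply hGH
    rw [h]
    rw [Matrix.mul_neg] at h''
    rw [← h'', neg_neg]
  have hG2 := hsq G hGS hG1 hGm1
  have hH2 := hsq H hHS hH1 hHm1
  have hGH2 := hsq (G * H) hGHS hGH1 hGHm1
  have hHG : H * G = -(G * H) := anticomm_of_sq hG2 hH2 hGH2
  -- `S ⊆ {±1, ±G, ±H, ±GH}`
  have hQ : ∀ K ∈ S, K = 1 ∨ K = -1 ∨ K = G ∨ K = -G ∨ K = H ∨ K = -H ∨ K = G * H ∨
      K = -(G * H) := by
    intro K hKS
    by_contra hcon
    push Not at hcon
    obtain ⟨k1, k2, k3, k4, k5, k6, k7, k8⟩ := hcon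
    have hK2 := hsq K hKS k1 k2
    -- general principle: `K` anticommutes with `X ∈ S` of square `-1` when `K ≠ ± X`
    have hanti : ∀ X ∈ S, X * X = -1 → K ≠ X → K ≠ -X → X * K = -(K * X) := by
      intro X hXS hX2 hKX hKmX
      have hKX1 : K * X ≠ 1 := by
        intro h
        apply hKmX
        have h1 : K * X * X = X := by rw [h, Matrix.one_mul]
        rw [Matrix.mul_assoc, hX2, Matrix.mul_neg, Matrix.mul_one] at h1
        rw [← h1, neg_neg]
      have hKXm1 : K * X ≠ -1 := by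
        intro h
        apply hKX
        have h1 : K * X * X = -X := by rw [h, Matrix.neg_mul, Matrix.one_mul]
        rw [Matrix.mul_assoc, hX2, Matrix.mul_neg, Matrix.mul_one] at h1
        exact neg_injective h1
      exact anticomm_of_sq hK2 hX2 (hsq (K * X) (hSmul K X hKS hXS) hKX1 hKXm1)
    have a1 := hanti G hGS hG2 k3 k4
    have a2 := hanti H hHS hH2 k5 k6
    have a3 := hanti (G * H) hGHS hGH2 k7 k8
    have a4 : G * H * K = K * (G * H) := by
      rw [Matrix.mul_assoc, a2, Matrix.mul_neg, ← Matrix.mul_assoc, a1, Matrix.neg_mul, neg_neg,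
        Matrix.mul_assoc]
    rw [a4] at a3
    have a5 : (2 : F) • (K * (G * H)) = 0 := by
      rw [two_smul]
      nth_rewrite 1 [a3]
      exact neg_add_cancel _
    have a6 : K * (G * H) = 0 := (smul_eq_zero.mp a5).resolve_left h2
    have a7 : K * (G * H) * (G * H) = 0 := by rw [a6, Matrix.zero_mul]
    rw [Matrix.mul_assoc, hGH2, Matrix.mul_neg, Matrix.mul_one, neg_eq_zero] at a7
    rw [a7, Matrix.zero_mul] at hK2
    exact hone_ne (neg_eq_zero.mp hK2.symm)
  -- the operator `P = a G + b H`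
  obtain ⟨a, b, hab⟩ := hab
  set P : Matrix (Fin m ⊕ Fin m) (Fin m ⊕ Fin m) F := a • G + b • H with hP
  have hPP : P * P = 1 := by
    have e1 : P * P = (a * a) • (G * G) + (a * b) • (G * H) + (b * a) • (H * G) +
        (b * b) • (H * H) := by
      rw [hP]
      simp only [Matrix.add_mul, Matrix.mul_add, Matrix.smul_mul, Matrix.mul_smul]
      module
    rw [e1, hG2, hH2, hHG]
    have e2 : (a * a) • (-1 : Matrix (Fin m ⊕ Fin m) (Fin m ⊕ Fin m) F) + (a * b) • (G * H) +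
        (b * a) • -(G * H) + (b * b) • (-1 : Matrix (Fin m ⊕ Fin m) (Fin m ⊕ Fin m) F) =
        (-(a ^ 2 + b ^ 2)) • (1 : Matrix (Fin m ⊕ Fin m) (Fin m ⊕ Fin m) F) := by
      module
    rw [e2, hab, neg_neg, one_smul]
  -- an eigenvector of `P`
  obtain ⟨v, hv0, ε, hε, hPv⟩ : ∃ v : Fin m ⊕ Fin m → F, v ≠ 0 ∧ ∃ ε : F, ε * ε = 1 ∧
      P *ᵥ v = ε • v := by
    obtain ⟨i⟩ := ‹Nonempty (Fin m ⊕ Fin m)›
    set w : Fin m ⊕ Fin m → F := Pi.single i 1 with hw
    have hw0 : w ≠ 0 := by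
      intro h
      have := congrFun h i
      rw [hw, Pi.single_eq_same] at this
      exact one_ne_zero this
    by_cases hv : P *ᵥ w + w = 0
    · refine ⟨w, hw0, -1, by ring, ?_⟩
      rw [neg_one_smul]
      exact eq_neg_of_add_eq_zero_left hv
    · refine ⟨P *ᵥ w + w, hv, 1, by ring, ?_⟩
      rw [Matrix.mulVec_add, Matrix.mulVec_mulVec, hPP, Matrix.one_mulVec, one_smul, add_comm]
  -- the invariant subspace
  set W : Submodule F (Fin m ⊕ Fin m → F) :=
    Submodule.span F ({G *ᵥ v, H *ᵥ v, (G * H) *ᵥ v} : Set (Fin m ⊕ Fin m → F)) with hW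
  have hGvW : G *ᵥ v ∈ W := Submodule.subset_span (by simp)
  have hHvW : H *ᵥ v ∈ W := Submodule.subset_span (by simp)
  have hGHvW : (G * H) *ᵥ v ∈ W := Submodule.subset_span (by simp)
  have hvW : v ∈ W := by
    have h1 : v = ε • (a • (G *ᵥ v) + b • (H *ᵥ v)) := by
      have : P *ᵥ v = a • (G *ᵥ v) + b • (H *ᵥ v) := by
        rw [hP, Matrix.add_mulVec, Matrix.smul_mulVec, Matrix.smul_mulVec]
      rw [← this, hPv, smul_smul, hε, one_smul]
    rw [h1]
    exact W.smul_mem _ (W.add_mem (W.smul_mem _ hGvW) (W.smul_mem _ hHvW))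
  have hGW : ∀ x ∈ W, G *ᵥ x ∈ W := by
    intro x hx
    induction hx using Submodule.span_induction with
    | mem y hy =>
      rcases hy with rfl | rfl | rfl
      · rw [Matrix.mulVec_mulVec, hG2, Matrix.neg_mulVec, Matrix.one_mulVec]
        exact W.neg_mem hvW
      · rw [Matrix.mulVec_mulVec]; exact hGHvW
      · rw [Matrix.mulVec_mulVec, ← Matrix.mul_assoc, hG2, Matrix.neg_mul, Matrix.one_mul,
          Matrix.neg_mulVec]
        exact W.neg_mem hHvW
    | zero => rw [Matrix.mulVec_zero]; exact W.zero_mem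
    | add y z _ _ hy hz => rw [Matrix.mulVec_add]; exact W.add_mem hy hz
    | smul c y _ hy => rw [Matrix.mulVec_smul]; exact W.smul_mem c hy
  have hHW : ∀ x ∈ W, H *ᵥ x ∈ W := by
    intro x hx
    induction hx using Submodule.span_induction with
    | mem y hy =>
      rcases hy with rfl | rfl | rfl
      · rw [Matrix.mulVec_mulVec, hHG, Matrix.neg_mulVec]
        exact W.neg_mem hGHvW
      · rw [Matrix.mulVec_mulVec, hH2, Matrix.neg_mulVec, Matrix.one_mulVec]
        exact W.neg_mem hvW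
      · rw [Matrix.mulVec_mulVec, ← Matrix.mul_assoc, hHG, Matrix.neg_mul, Matrix.mul_assoc, hH2,
          Matrix.mul_neg, Matrix.mul_one, neg_neg]
        exact hGvW
    | zero => rw [Matrix.mulVec_zero]; exact W.zero_mem
    | add y z _ _ hy hz => rw [Matrix.mulVec_add]; exact W.add_mem hy hz
    | smul c y _ hy => rw [Matrix.mulVec_smul]; exact W.smul_mem c hy
  have hinv : ∀ K ∈ S, W.map (Matrix.toLin' K) ≤ W := by
    intro K hKS
    rintro _ ⟨x, hx, rfl⟩
    rw [Matrix.toLin'_apply]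
    rcases hQ K hKS with rfl | rfl | rfl | rfl | rfl | rfl | rfl | rfl
    · rw [Matrix.one_mulVec]; exact hx
    · rw [Matrix.neg_mulVec, Matrix.one_mulVec]; exact W.neg_mem hx
    · exact hGW x hx
    · rw [Matrix.neg_mulVec]; exact W.neg_mem (hGW x hx)
    · exact hHW x hx
    · rw [Matrix.neg_mulVec]; exact W.neg_mem (hHW x hx)
    · rw [← Matrix.mulVec_mulVec]; exact hGW _ (hHW x hx)
    · rw [Matrix.neg_mulVec, ← Matrix.mulVec_mulVec]; exact W.neg_mem (hGW _ (hHW x hx))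
  rcases hirr W hinv with hbot | htop
  · rw [hbot, Submodule.mem_bot] at hvW
    exact hv0 hvW
  · have hfr : Module.finrank F (Fin m ⊕ Fin m → F) = m + m := by
      rw [Module.finrank_pi, Fintype.card_sum, Fintype.card_fin]
    have h3 : Module.finrank F (Submodule.span F
        ({G *ᵥ v, H *ᵥ v, (G * H) *ᵥ v} : Set (Fin m ⊕ Fin m → F))) ≤ 3 := by
      have := finrank_span_finset_le_card (R := F)
        ({G *ᵥ v, H *ᵥ v, (G * H) *ᵥ v} : Finset (Fin m ⊕ Fin m → F))
      have hc : ({G *ᵥ v, H *ᵥ v, (G * H) *ᵥ v} : Finset (Fin m ⊕ Fin m → F)).card ≤ 3 :=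
        Finset.card_le_three
      have hcoe : (({G *ᵥ v, H *ᵥ v, (G * H) *ᵥ v} : Finset (Fin m ⊕ Fin m → F)) :
          Set (Fin m ⊕ Fin m → F)) = {G *ᵥ v, H *ᵥ v, (G * H) *ᵥ v} := by
        simp
      rw [hcoe] at this
      unfold Set.finrank at this
      omega
    have h4 : Module.finrank F W ≤ 3 := h3
    rw [htop, finrank_top, hfr] at h4
    omega

end

variable {F : Type*} [Field F] [Fintype F] {m : ℕ}

/-- **K-SpMax-N6** -/
theorem sp_not_le_subgroupNormalizer (hm : 2 ≤ m) (hodd : Odd (Fintype.card F))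
    (R : Subgroup (GL (Fin m ⊕ Fin m) F)) (hR : IsSymplecticTypeGroup 2 R)
    (habs : ActsAbsolutelyIrreducibly (matrixSet R)) (hsim : R ≤ similarityGroup (sympForm m F))
    (hZ : Nat.card (Subgroup.center R) = 2) : ¬ spGL m F ≤ subgroupNormalizer R := by
  classical
  intro hN
  have h2 : (2 : F) ≠ 0 := by
    apply Ring.two_ne_zero
    intro hch
    have := FiniteField.even_card_of_char_two hch
    rcases hodd with ⟨k, hk⟩
    omega
  have hexp : ∀ r ∈ R, r ^ 4 = 1 := by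
    intro r hr
    have h1 : (⟨r, hr⟩ : R) ^ Monoid.exponent R = 1 := Monoid.pow_exponent_eq_one _
    rw [hR.exponent_eq] at h1
    have h3 : (2 * Nat.gcd 2 2) = 4 := by norm_num
    rw [h3] at h1
    have := congrArg Subtype.val h1
    simpa using this
  haveI : Nonempty (Fin m ⊕ Fin m) := ⟨Sum.inl ⟨0, by omega⟩⟩
  have hmemS : ∀ g ∈ R, g.1 ∈ matrixSet R := fun g hg => ⟨g, hg, rfl⟩
  -- the central involution is `-1`
  obtain ⟨z, hz1, hzu⟩ := (Nat.card_eq_two_iff' (1 : Subgroup.center R)).mp hZ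
  have hzcomm : ∀ s ∈ matrixSet R, z.1.1.1 * s = s * z.1.1.1 := by
    rintro _ ⟨h, hh, rfl⟩
    have h1 := Subgroup.mem_center_iff.mp z.2 ⟨h, hh⟩
    have h2' := congrArg (fun x : R => x.1.1) h1
    simp only [Subgroup.coe_mul, Units.val_mul] at h2'
    exact h2'.symm
  obtain ⟨c, hc⟩ := habs.2 z.1.1.1 hzcomm
  have hzz : z * z = 1 := by
    by_contra hne
    have h1 := hzu (z * z) hne
    exact hz1 (mul_eq_left.mp h1)
  have hzzM : z.1.1.1 * z.1.1.1 = 1 := by
    have h1 := congrArg (fun x : Subgroup.center R => x.1.1.1) hzz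
    simpa using h1
  have hcc : c * c = 1 := by
    rw [hc, Matrix.smul_mul, Matrix.mul_smul, Matrix.one_mul, smul_smul] at hzzM
    obtain ⟨i⟩ := ‹Nonempty (Fin m ⊕ Fin m)›
    have := congrFun (congrFun hzzM i) i
    simpa using this
  have hzM : z.1.1.1 = -1 := by
    have h3 : (c - 1) * (c + 1) = 0 := by linear_combination hcc
    rcases mul_eq_zero.mp h3 with h | h
    · exfalso
      apply hz1
      have hc1 : c = 1 := by linear_combination h
      rw [hc1, one_smul] at hc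
      apply Subtype.ext
      apply Subtype.ext
      apply Units.ext
      exact hc
    · have hc1 : c = -1 := by linear_combination h
      rw [hc, hc1, neg_one_smul]
  -- central elements of the matrix set are `± 1`
  have hcen : ∀ M ∈ matrixSet R, (∀ s ∈ matrixSet R, M * s = s * M) → M = 1 ∨ M = -1 := by
    rintro _ ⟨g, hg, rfl⟩ hcomm
    have hgc : (⟨g, hg⟩ : R) ∈ Subgroup.center R := by
      rw [Subgroup.mem_center_iff]
      intro h
      apply Subtype.ext
      apply Units.ext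
      simp only [Subgroup.coe_mul, Units.val_mul]
      exact (hcomm h.1.1 (hmemS h.1 h.2)).symm
    by_cases h1 : (⟨⟨g, hg⟩, hgc⟩ : Subgroup.center R) = 1
    · left
      have := congrArg (fun x : Subgroup.center R => x.1.1.1) h1
      simpa using this
    · right
      have := congrArg (fun x : Subgroup.center R => x.1.1.1) (hzu _ h1)
      simp only at this
      show g.1 = -1
      rw [this, hzM]
  -- some element is not `± 1`
  have hnon : ∃ M ∈ matrixSet R, M ≠ 1 ∧ M ≠ -1 := by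
    by_contra hcon
    push Not at hcon
    have hall : ∀ s ∈ matrixSet R, s = 1 ∨ s = -1 := by
      intro s hs
      by_cases h1 : s = 1
      · exact Or.inl h1
      · exact Or.inr (hcon s hs h1)
    set E : Matrix (Fin m ⊕ Fin m) (Fin m ⊕ Fin m) F :=
      Matrix.of fun a b => if a = Sum.inl ⟨0, by omega⟩ ∧ b = Sum.inr ⟨0, by omega⟩ then 1 else 0
      with hE
    obtain ⟨c', hc'⟩ := habs.2 E (by
      intro s hs
      rcases hall s hs with rfl | rfl
      · rw [Matrix.mul_one, Matrix.one_mul]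
      · rw [Matrix.mul_neg, Matrix.neg_mul, Matrix.mul_one, Matrix.one_mul])
    have := congrFun (congrFun hc' (Sum.inl ⟨0, by omega⟩)) (Sum.inr ⟨0, by omega⟩)
    simp [hE] at this
  -- `-1` is a sum of two squares
  have hab : ∃ a b : F, a ^ 2 + b ^ 2 = -1 := by
    haveI : NeZero (ringChar F) := ⟨CharP.char_ne_zero_of_finite F (ringChar F)⟩
    obtain ⟨a, b, hab⟩ := CharP.sq_add_sq F (ringChar F) (-1)
    exact ⟨a, b, by rw [hab]; simp⟩
  obtain ⟨A, ⟨g, hg, rfl⟩, hAA, hA1, hAm1⟩ := exists_noncentral_invol hm h2 (matrixSet R)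
    (by
      rintro _ _ ⟨g, hg, rfl⟩ ⟨h, hh, rfl⟩
      exact ⟨g * h, R.mul_mem hg hh, Units.val_mul g h⟩)
    (by
      rintro _ ⟨g, hg, rfl⟩
      have h1 := hexp g hg
      have e : (g * g) * (g * g) = g ^ 4 := by
        rw [pow_succ, pow_succ, pow_succ, pow_one]
        simp only [mul_assoc]
      rw [← e] at h1
      have := congrArg Units.val h1
      simpa using this)
    habs.1 hcen hnon hab
  obtain ⟨lam, hlam⟩ := hsim hg
  exact invol_false hm h2 g.1 hAA hA1 hAm1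
    (fun u hu => eigen_of_normalizes R hN h2 hexp g hg lam hlam u hu)

end Cfsg.Agent.Lib.Helper90.SpMax
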