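import Cfsg.Agent.Lib.Helper45.AltFreeDefs
import Cfsg.Agent.Lib.Helper18.AltFreeR
import Cfsg.Agent.Lib.Helper97.AltFreePerf

/-!
# S2276 keystone K-BB (`base_B`): two elements of order three, each with at least two 3-cycles
-/

set_option autoImplicit false

namespace Cfsg.Agent.Lib.Helper90.AltFree

open Equiv Equiv.Perm Cfsg.Agent.Lib.Helper45.AltFree

variable {α : Type*} [Fintype α] [DecidableEq α]

/-- `(0 1 2)(3 4 5)` -/
def u6 : Perm (Fin 6) := ⟨![1, 2, 0, 4, 5, 3], ![2, 0, 1, 5, 3, 4], by decide, by decide⟩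

/-- `(0 1 3)(2 5 4)` -/
def y6 : Perm (Fin 6) := ⟨![1, 3, 5, 0, 2, 4], ![3, 0, 4, 1, 5, 2], by decide, by decide⟩

/-- `(2 3)(4 5)` -/
def rho6 : Perm (Fin 6) := ⟨![0, 1, 3, 2, 5, 4], ![0, 1, 3, 2, 5, 4], by decide, by decide⟩

/-- `(0 3)(1 4)(2 5)` -/
def tau6 : Perm (Fin 6) := ⟨![3, 4, 5, 0, 1, 2], ![3, 4, 5, 0, 1, 2], by decide, by decide⟩

set_option maxRecDepth 8000 in
theorem rho6_conj : rho6 * u6 * rho6⁻¹ = y6 := by decide

set_option maxRecDepth 8000 in
theorem rho6_tau6_conj : (rho6 * tau6) * u6 * (rho6 * tau6)⁻¹ = y6 := by decide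

set_option maxRecDepth 8000 in
theorem u6_comm : u6 = y6⁻¹ * u6 * y6 * (y6⁻¹ * u6 * y6⁻¹) * (y6⁻¹ * u6 * y6)⁻¹ *
    (y6⁻¹ * u6 * y6⁻¹)⁻¹ := by decide

set_option maxRecDepth 8000 in
theorem y6_comm : y6 = u6⁻¹ * y6 * u6 * (u6⁻¹ * y6 * u6⁻¹) * (u6⁻¹ * y6 * u6)⁻¹ *
    (u6⁻¹ * y6 * u6⁻¹)⁻¹ := by decide

set_option maxRecDepth 8000 in
theorem u6y6_pow : (u6 * y6) ^ 5 = 1 := by decide

theorem u6y6_ne : u6 * y6 ≠ 1 := by decide

theorem u6_ne : u6 ≠ 1 := by decide

/-- the model pair on six points is good. -/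
theorem good_u6_y6 : Good 3 u6 y6 := by
  refine ⟨?_, ?_⟩
  · rintro ⟨k, hk⟩
    haveI : Fact (Nat.Prime 5) := ⟨by norm_num⟩
    have h5 : orderOf (u6 * y6) = 5 := orderOf_eq_prime u6y6_pow u6y6_ne
    rw [h5] at hk
    rcases k with _ | k
    · norm_num at hk
    · have : 3 ∣ 5 := by rw [hk]; exact dvd_pow_self 3 (Nat.succ_ne_zero k)
      omega
  · have hu : u6 ∈ Subgroup.closure ({u6, y6} : Set (Perm (Fin 6))) :=
      Subgroup.subset_closure (by simp)
    have hy : y6 ∈ Subgroup.closure ({u6, y6} : Set (Perm (Fin 6))) :=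
      Subgroup.subset_closure (by simp)
    exact Cfsg.Agent.Lib.Helper97.AltFree.not_solvable_of_perfect_gens _ u6 y6
      (y6⁻¹ * u6 * y6) (y6⁻¹ * u6 * y6⁻¹) (u6⁻¹ * y6 * u6) (u6⁻¹ * y6 * u6⁻¹)
      hu hy
      (mul_mem (mul_mem (inv_mem hy) hu) hy) (mul_mem (mul_mem (inv_mem hy) hu) (inv_mem hy))
      (mul_mem (mul_mem (inv_mem hu) hy) hu) (mul_mem (mul_mem (inv_mem hu) hy) (inv_mem hu))
      u6_comm y6_comm u6_ne

omit [Fintype α] [DecidableEq α] in
/-- the six points of two distinct 3-cycles of `u` are distinct. -/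
theorem orbit6_injective (u : Perm α) (hu3 : u ^ 3 = 1) (a₁ a₂ : α)
    (ha₁ : u a₁ ≠ a₁) (ha₂ : u a₂ ≠ a₂) (ha : ¬ u.SameCycle a₁ a₂) :
    Function.Injective ![a₁, u a₁, u (u a₁), a₂, u a₂, u (u a₂)] := by
  have hu3' : ∀ x, u (u (u x)) = x := fun x => by
    have := congrArg (fun f : Perm α => f x) hu3
    simpa [pow_succ, Perm.mul_apply] using this
  have hX : ∀ x y, u.SameCycle a₁ x → u.SameCycle a₂ y → x ≠ y := by
    intro x y hx hy hxy
    subst hxy
    exact ha (hx.trans hy.symm)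
  have s10 : u.SameCycle a₁ a₁ := SameCycle.refl _ _
  have s11 : u.SameCycle a₁ (u a₁) := sameCycle_apply_right.mpr s10
  have s12 : u.SameCycle a₁ (u (u a₁)) := sameCycle_apply_right.mpr s11
  have s20 : u.SameCycle a₂ a₂ := SameCycle.refl _ _
  have s21 : u.SameCycle a₂ (u a₂) := sameCycle_apply_right.mpr s20
  have s22 : u.SameCycle a₂ (u (u a₂)) := sameCycle_apply_right.mpr s21
  have e1 : ∀ a, u a ≠ a → u (u a) ≠ u a := fun a h hh => h (u.injective hh)
  have e2 : ∀ a, u a ≠ a → u (u a) ≠ a := by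
    intro a h hh
    apply h
    have := hu3' a
    rw [hh] at this
    exact this
  have h01 := ha₁
  have h12 := e1 a₁ ha₁
  have h02 := e2 a₁ ha₁
  have h34 := ha₂
  have h45 := e1 a₂ ha₂
  have h35 := e2 a₂ ha₂
  have c00 := hX _ _ s10 s20
  have c01 := hX _ _ s10 s21
  have c02 := hX _ _ s10 s22
  have c10 := hX _ _ s11 s20
  have c11 := hX _ _ s11 s21
  have c12 := hX _ _ s11 s22
  have c20 := hX _ _ s12 s20
  have c21 := hX _ _ s12 s21
  have c22 := hX _ _ s12 s22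
  intro i j hij
  fin_cases i <;> fin_cases j <;> first | rfl | (exfalso; simp at hij; first | exact h01 hij | exact h01 hij.symm | exact h12 hij | exact h12 hij.symm | exact h02 hij | exact h02 hij.symm | exact h34 hij | exact h34 hij.symm | exact h45 hij | exact h45 hij.symm | exact h35 hij | exact h35 hij.symm | exact c00 hij | exact c00 hij.symm | exact c01 hij | exact c01 hij.symm | exact c02 hij | exact c02 hij.symm | exact c10 hij | exact c10 hij.symm | exact c11 hij | exact c11 hij.symm | exact c12 hij | exact c12 hij.symm | exact c20 hij | exact c20 hij.symm | exact c21 hij | exact c21 hij.symm | exact c22 hij | exact c22 hij.symm)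

omit [Fintype α] [DecidableEq α] in
/-- transporting the model: if `g` maps the points `c i` to `v (ρ i)`, `w` acts on the `c i` as
`u6`, and `ρ u6 ρ⁻¹ = y6`, then `g w g⁻¹` acts on the `v j` as `y6`. -/
theorem conj_model (g w : Perm α) (c v : Fin 6 → α) (ρ : Perm (Fin 6))
    (hg : ∀ i, g (c i) = v (ρ i)) (hw : ∀ i, w (c i) = c (u6 i)) (hρ : ρ * u6 * ρ⁻¹ = y6) :
    ∀ j, (g * w * g⁻¹) (v j) = v (y6 j) := by
  intro j
  have h1 : v j = g (c (ρ⁻¹ j)) := by rw [hg]; simp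
  have h2 : g⁻¹ (g (c (ρ⁻¹ j))) = c (ρ⁻¹ j) := by simp
  rw [Perm.mul_apply, Perm.mul_apply, h1, h2, hw, hg, ← hρ]
  simp [Perm.mul_apply]

omit [Fintype α] in
/-- the product of three swaps exchanging the two triples of points. -/
theorem theta_apply (c : Fin 6 → α) (hc : Function.Injective c) (i : Fin 6) :
    (swap (c 0) (c 3) * swap (c 1) (c 4) * swap (c 2) (c 5)) (c i) = c (tau6 i) := by
  have hne : ∀ {i j : Fin 6}, i ≠ j → c i ≠ c j := fun h => hc.ne h
  fin_cases i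
  · show (swap (c 0) (c 3) * swap (c 1) (c 4) * swap (c 2) (c 5)) (c 0) = c 3
    rw [Perm.mul_apply, Perm.mul_apply,
      swap_apply_of_ne_of_ne (hne (by decide)) (hne (by decide)),
      swap_apply_of_ne_of_ne (hne (by decide)) (hne (by decide)), swap_apply_left]
  · show (swap (c 0) (c 3) * swap (c 1) (c 4) * swap (c 2) (c 5)) (c 1) = c 4
    rw [Perm.mul_apply, Perm.mul_apply,
      swap_apply_of_ne_of_ne (hne (by decide)) (hne (by decide)),
      swap_apply_left, swap_apply_of_ne_of_ne (hne (by decide)) (hne (by decide))]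
  · show (swap (c 0) (c 3) * swap (c 1) (c 4) * swap (c 2) (c 5)) (c 2) = c 5
    rw [Perm.mul_apply, Perm.mul_apply, swap_apply_left,
      swap_apply_of_ne_of_ne (hne (by decide)) (hne (by decide)),
      swap_apply_of_ne_of_ne (hne (by decide)) (hne (by decide))]
  · show (swap (c 0) (c 3) * swap (c 1) (c 4) * swap (c 2) (c 5)) (c 3) = c 0
    rw [Perm.mul_apply, Perm.mul_apply,
      swap_apply_of_ne_of_ne (hne (by decide)) (hne (by decide)),
      swap_apply_of_ne_of_ne (hne (by decide)) (hne (by decide)), swap_apply_right]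
  · show (swap (c 0) (c 3) * swap (c 1) (c 4) * swap (c 2) (c 5)) (c 4) = c 1
    rw [Perm.mul_apply, Perm.mul_apply,
      swap_apply_of_ne_of_ne (hne (by decide)) (hne (by decide)),
      swap_apply_right, swap_apply_of_ne_of_ne (hne (by decide)) (hne (by decide))]
  · show (swap (c 0) (c 3) * swap (c 1) (c 4) * swap (c 2) (c 5)) (c 5) = c 2
    rw [Perm.mul_apply, Perm.mul_apply, swap_apply_right,
      swap_apply_of_ne_of_ne (hne (by decide)) (hne (by decide)),
      swap_apply_of_ne_of_ne (hne (by decide)) (hne (by decide))]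

theorem theta_sign (c : Fin 6 → α) (hc : Function.Injective c) :
    Perm.sign (swap (c 0) (c 3) * swap (c 1) (c 4) * swap (c 2) (c 5)) = -1 := by
  have hne : ∀ {i j : Fin 6}, i ≠ j → c i ≠ c j := fun h => hc.ne h
  rw [Perm.sign_mul, Perm.sign_mul, Perm.sign_swap (hne (by decide)),
    Perm.sign_swap (hne (by decide)), Perm.sign_swap (hne (by decide))]
  decide

/-- **K-BB** -/
theorem base_B (u w : Perm α) (hu3 : u ^ 3 = 1) (hw3 : w ^ 3 = 1) (a₁ a₂ b₁ b₂ : α)
    (ha₁ : u a₁ ≠ a₁) (ha₂ : u a₂ ≠ a₂) (ha : ¬ u.SameCycle a₁ a₂)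
    (hb₁ : w b₁ ≠ b₁) (hb₂ : w b₂ ≠ b₂) (hb : ¬ w.SameCycle b₁ b₂) :
    ∃ g ∈ alternatingGroup α, Good 3 u (g * w * g⁻¹) := by
  have hu3' : ∀ x, u (u (u x)) = x := fun x => by
    have := congrArg (fun f : Perm α => f x) hu3
    simpa [pow_succ, Perm.mul_apply] using this
  have hw3' : ∀ x, w (w (w x)) = x := fun x => by
    have := congrArg (fun f : Perm α => f x) hw3
    simpa [pow_succ, Perm.mul_apply] using this
  have hvinj := orbit6_injective u hu3 a₁ a₂ ha₁ ha₂ ha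
  have hcinj := orbit6_injective w hw3 b₁ b₂ hb₁ hb₂ hb
  have hux : ∀ i, u (![a₁, u a₁, u (u a₁), a₂, u a₂, u (u a₂)] i) =
      ![a₁, u a₁, u (u a₁), a₂, u a₂, u (u a₂)] (u6 i) := by
    intro i
    fin_cases i <;> simp [u6, hu3']
  have hwc : ∀ i, w (![b₁, w b₁, w (w b₁), b₂, w b₂, w (w b₂)] i) =
      ![b₁, w b₁, w (w b₁), b₂, w b₂, w (w b₂)] (u6 i) := by
    intro i
    fin_cases i <;> simp [u6, hw3']
  generalize ![a₁, u a₁, u (u a₁), a₂, u a₂, u (u a₂)] = v at hvinj hux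
  generalize ![b₁, w b₁, w (w b₁), b₂, w b₂, w (w b₂)] = c at hcinj hwc
  obtain ⟨g₀, hg₀⟩ := Equiv.Perm.exists_extending_pair c (v ∘ rho6) hcinj
    (hvinj.comp rho6.injective)
  rcases Int.units_eq_one_or (Perm.sign g₀) with hs | hs
  · refine ⟨g₀, mem_alternatingGroup.mpr hs, ?_⟩
    exact Cfsg.Agent.Lib.Helper18.AltFree.good_of_embedding 3 Nat.prime_three u (g₀ * w * g₀⁻¹)
      u6 y6 v hvinj hux (conj_model g₀ w c v rho6 hg₀ hwc rho6_conj) good_u6_y6
  · set θ : Perm α := swap (c 0) (c 3) * swap (c 1) (c 4) * swap (c 2) (c 5) with hθ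
    have hsg : Perm.sign (g₀ * θ) = 1 := by
      rw [Perm.sign_mul, hs, hθ, theta_sign c hcinj]
      decide
    have hg : ∀ i, (g₀ * θ) (c i) = v ((rho6 * tau6) i) := by
      intro i
      rw [Perm.mul_apply, hθ, theta_apply c hcinj i, hg₀]
      rfl
    refine ⟨g₀ * θ, mem_alternatingGroup.mpr hsg, ?_⟩
    exact Cfsg.Agent.Lib.Helper18.AltFree.good_of_embedding 3 Nat.prime_three u
      ((g₀ * θ) * w * (g₀ * θ)⁻¹)
      u6 y6 v hvinj hux (conj_model (g₀ * θ) w c v (rho6 * tau6) hg hwc rho6_tau6_conj) good_u6_y6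

end Cfsg.Agent.Lib.Helper90.AltFree
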