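import Mathlib

/-!
# K-UTi-A2 (keystone 595312, architect helper46, S5953): `r`-th roots of norm-one scalars in `F_{q²}`
-/

set_option autoImplicit false
set_option linter.unusedSectionVars false
set_option linter.unusedVariables false

namespace Cfsg.Agent.Lib.Helper90.UTi

universe u

variable {F : Type u} [Field F] [Fintype F] {q : ℕ}

/-- `2 ≤ q` when `|F| = q²` -/
theorem two_le_of_card (hq : Fintype.card F = q ^ 2) : 2 ≤ q := by
  have h1 : 1 < Fintype.card F := Fintype.one_lt_card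
  rw [hq] at h1
  by_contra h
  have : q ≤ 1 := by omega
  have h2 : q ^ 2 ≤ 1 ^ 2 := Nat.pow_le_pow_left this 2
  omega

/-- if `r ∤ q + 1` every norm-one scalar is the `r`-th power of a norm-one scalar -/
theorem exists_normOne_root' (hq : Fintype.card F = q ^ 2) (r : ℕ) [Fact r.Prime]
    (z : F) (hz : z ^ (q + 1) = 1) (hrq : ¬ r ∣ q + 1) :
    ∃ w : F, w ^ (q + 1) = 1 ∧ w ^ r = z := by
  have hr : r.Prime := Fact.out
  have hq2 := two_le_of_card hq
  have hcop : Nat.Coprime r (q + 1) := (Nat.Prime.coprime_iff_not_dvd hr).mpr hrq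
  obtain ⟨s, -, hs⟩ := Nat.exists_mul_mod_eq_one_of_coprime hcop (by omega : 1 < q + 1)
  have hdm := Nat.div_add_mod (r * s) (q + 1)
  rw [hs] at hdm
  refine ⟨z ^ s, ?_, ?_⟩
  · rw [← pow_mul, mul_comm, pow_mul, hz, one_pow]
  · rw [← pow_mul, mul_comm s r, ← hdm, pow_add, pow_mul, hz, one_pow, one_mul, pow_one]

/-- **K-UTi-A2** `r`-th roots of norm-one scalars -/
theorem exists_normOne_root (hq : Fintype.card F = q ^ 2) (r : ℕ) [Fact r.Prime] (hr2 : r ≠ 2)
    (z : F) (hz : z ^ (q + 1) = 1) (hl : ∃ l : F, l ^ r = z) :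
    ∃ w : F, w ^ (q + 1) = 1 ∧ w ^ r = z := by
  have hr : r.Prime := Fact.out
  have hq2 := two_le_of_card hq
  by_cases hrq : r ∣ q + 1
  · obtain ⟨l, hlz⟩ := hl
    refine ⟨l, ?_, hlz⟩
    have hz0 : z ≠ 0 := by
      intro h
      rw [h, zero_pow (by omega)] at hz
      exact zero_ne_one hz
    have hl0 : l ≠ 0 := by
      intro h
      rw [h, zero_pow hr.ne_zero] at hlz
      exact hz0 hlz.symm
    -- `r ∤ q - 1`
    have hrq1 : ¬ r ∣ q - 1 := by
      intro h
      have h2 : r ∣ (q + 1) - (q - 1) := Nat.dvd_sub hrq h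
      have h3 : (q + 1) - (q - 1) = 2 := by omega
      rw [h3] at h2
      exact hr2 ((Nat.prime_dvd_prime_iff_eq hr Nat.prime_two).mp h2)
    have hcop : Nat.Coprime r (q - 1) := (Nat.Prime.coprime_iff_not_dvd hr).mpr hrq1
    have hcard : l ^ (q ^ 2 - 1) = 1 := by
      rw [← hq]
      exact FiniteField.pow_card_sub_one_eq_one l hl0
    have hfac : q ^ 2 - 1 = (q + 1) * (q - 1) := by
      obtain ⟨q', rfl⟩ : ∃ q', q = q' + 1 := ⟨q - 1, by omega⟩
      have : (q' + 1) ^ 2 = (q' + 1 + 1) * q' + 1 := by ring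
      rw [this]
      simp
    have h1 : (l ^ (q + 1)) ^ (q - 1) = 1 := by rw [← pow_mul, ← hfac]; exact hcard
    have h2 : (l ^ (q + 1)) ^ r = 1 := by
      rw [← pow_mul, mul_comm, pow_mul, hlz]; exact hz
    have h3 := pow_gcd_eq_one.mpr ⟨h2, h1⟩
    rw [Nat.Coprime.gcd_eq_one hcop, pow_one] at h3
    exact h3
  · exact exists_normOne_root' hq r z hz hrq

end Cfsg.Agent.Lib.Helper90.UTi
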