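import Mathlib
import Cfsg.Agent.Lib.Helper48.StODefs
import Cfsg.Agent.Lib.Helper90.StOC8

/-!
K-StO-C8a (254721, S2547 pack, architect helper48; parallel hand): triangular = unipotent times
diagonal, for `B` (upper) and `B⁻` (lower triangular isometries of `quadFormOdd`).
Built on `Cfsg.Agent.Lib.Helper90.StOC8`.
-/

set_option autoImplicit false
set_option linter.unusedSectionVars false
set_option linter.unusedVariables false

namespace Cfsg.Agent.Lib.Helper90.StO

open Cfsg Cfsg.Agent.Lib.Helper48.StO Matrix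

variable {m : ℕ} {F : Type*} [Field F]

/-! ### the upper triangular case -/

theorem exists_diag_unip [Fintype F] (p : ℕ) [Fact p.Prime] [CharP F p] (b : OG m F)
    (hb : b ∈ Bsub m F) : ∃ d ∈ Tsub m F, ∃ k : ℕ, (b * d⁻¹) ^ (p ^ k) = 1 := by
  refine ⟨c8_dG b hb, c8_dG_mem_T b hb, 2 * m + 1, ?_⟩
  apply mat_injective
  rw [c8_mat_pow, mat_one]
  have hdB : c8_dG b hb ∈ Bsub m F := c8_dG_mem_B b hb
  have hdiB : (c8_dG b hb)⁻¹ ∈ Bsub m F := inv_mem hdB
  have hu : b * (c8_dG b hb)⁻¹ ∈ Bsub m F := mul_mem hb hdiB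
  apply c8_unitri_pow p _ (c8_upper_of_mem hu)
  intro a
  rw [mat_mul, c8_diag_mul _ _ (c8_upper_of_mem hb) (c8_upper_of_mem hdiB)]
  have h1 : mat b a a = mat (c8_dG b hb) a a := by
    rw [c8_mat_dG, Matrix.diagonal_apply_eq]
  rw [h1, ← c8_diag_mul _ _ (c8_upper_of_mem hdB) (c8_upper_of_mem hdiB), mat_mul_mat_inv,
    Matrix.one_apply_eq]

/-! ### the lower triangular case -/

theorem c8a_lower_of_mem {b : OG m F} (hb : b ∈ Bminus m F) :
    ∀ a c, pos m a < pos m c → mat b a c = 0 :=
  (mem_Bminus_iff b).1 hb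

/-- the diagonal of a product of lower triangular matrices -/
theorem c8a_diag_mul (A A' : Matrix (OI m) (OI m) F)
    (hA : ∀ a b, pos m a < pos m b → A a b = 0) (hA' : ∀ a b, pos m a < pos m b → A' a b = 0)
    (a : OI m) : (A * A') a a = A a a * A' a a := by
  rw [Matrix.mul_apply]
  apply Finset.sum_eq_single a
  · intro c _ hc
    rcases lt_or_gt_of_ne (fun h => hc (pos_injective m h)) with h | h
    · rw [hA' c a h, mul_zero]
    · rw [hA a c h, zero_mul]
  · intro h
    exact absurd (Finset.mem_univ a) h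

/-- `Q` of the column `z` of a lower triangular isometry -/
theorem c8a_diag_z (b : OG m F) (hb : b ∈ Bminus m F) : mat b zI zI ^ 2 = 1 := by
  have hA := c8a_lower_of_mem hb
  have h := quad_mulVec b (Pi.single zI 1)
  rw [c8_mulVec_single] at h
  unfold Cfsg.quadFormOdd at h
  have e1 : ∑ i : Fin m, mat b (Sum.inr (Sum.inl i)) zI * mat b (Sum.inr (Sum.inr i)) zI = 0 := by
    apply Finset.sum_eq_zero
    intro i _
    have : pos m (eI i) < pos m (zI : OI m) := by
      show i.val < m
      exact i.2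
    rw [hA _ _ this, zero_mul]
  have e2 : ∑ i : Fin m, (Pi.single (zI : OI m) (1 : F) : OI m → F) (Sum.inr (Sum.inl i)) *
      (Pi.single (zI : OI m) (1 : F) : OI m → F) (Sum.inr (Sum.inr i)) = 0 := by
    apply Finset.sum_eq_zero
    intro i _
    rw [Pi.single_apply, if_neg (by simp), zero_mul]
  rw [e1, e2, add_zero, add_zero] at h
  rw [h]
  simp

/-- the diagonal entries at `e_i`, `f_i` of a lower triangular isometry are inverse to each other -/
theorem c8a_diag_ef (b : OG m F) (hb : b ∈ Bminus m F) (i : Fin m) :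
    mat b (eI i) (eI i) * mat b (fI i) (fI i) = 1 := by
  have hA := c8a_lower_of_mem hb
  have h1 := quad_mulVec b (Pi.single (eI i) 1 + Pi.single (fI i) 1)
  have h2 := quad_mulVec b (Pi.single (eI i) 1)
  rw [Matrix.mulVec_add, c8_mulVec_single, c8_mulVec_single] at h1
  rw [c8_mulVec_single] at h2
  unfold Cfsg.quadFormOdd at h1 h2
  -- right hand sides
  have r1 : ((Pi.single (eI i) (1 : F) + Pi.single (fI i) (1 : F) : OI m → F) (Sum.inl ())) ^ 2 +
      ∑ j : Fin m, (Pi.single (eI i) (1 : F) + Pi.single (fI i) (1 : F) : OI m → F)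
        (Sum.inr (Sum.inl j)) *
        (Pi.single (eI i) (1 : F) + Pi.single (fI i) (1 : F) : OI m → F) (Sum.inr (Sum.inr j)) =
      1 := by
    rw [Finset.sum_eq_single i]
    · simp
    · intro j _ hj
      have : (Sum.inr (Sum.inl j) : OI m) ≠ eI i := fun h => hj (Sum.inl.inj (Sum.inr.inj h))
      simp [Pi.single_apply, this]
    · intro h
      exact absurd (Finset.mem_univ i) h
  have r2 : ((Pi.single (eI i) (1 : F) : OI m → F) (Sum.inl ())) ^ 2 +
      ∑ j : Fin m, (Pi.single (eI i) (1 : F) : OI m → F) (Sum.inr (Sum.inl j)) *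
        (Pi.single (eI i) (1 : F) : OI m → F) (Sum.inr (Sum.inr j)) = 0 := by
    rw [Finset.sum_eq_zero]
    · simp
    · intro j _
      have hz' : (Pi.single (eI i) (1 : F) : OI m → F) (Sum.inr (Sum.inr j)) = 0 := by
        rw [Pi.single_apply, if_neg (by simp)]
      rw [hz', mul_zero]
  rw [r1] at h1
  rw [r2] at h2
  -- left hand sides
  have z0 : mat b (Sum.inl ()) (fI i) = 0 := by
    apply hA
    show m < 2 * m - i.val
    have := i.2; omega
  have e0 : ∀ j : Fin m, mat b (Sum.inr (Sum.inl j)) (fI i) = 0 := by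
    intro j
    apply hA
    show j.val < 2 * m - i.val
    have := i.2; have := j.2; omega
  simp only [Pi.add_apply, z0, e0, add_zero] at h1
  have e3 : ∑ j : Fin m, mat b (Sum.inr (Sum.inl j)) (eI i) * mat b (Sum.inr (Sum.inr j)) (fI i) =
      mat b (eI i) (eI i) * mat b (fI i) (fI i) := by
    apply Finset.sum_eq_single i
    · intro j _ hj
      rcases lt_or_gt_of_ne (fun h => hj (Fin.ext h) : (j : ℕ) ≠ (i : ℕ)) with h | h
      · have : pos m (eI j) < pos m (eI i) := h
        rw [hA _ _ this, zero_mul]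
      · have : pos m (fI j) < pos m (fI i) := by
          show 2 * m - j.val < 2 * m - i.val
          have := i.2; have := j.2; omega
        rw [hA _ _ this, mul_zero]
    · intro h
      exact absurd (Finset.mem_univ i) h
  rw [← e3]
  have e4 : ∑ j : Fin m, mat b (Sum.inr (Sum.inl j)) (eI i) *
      (mat b (Sum.inr (Sum.inr j)) (eI i) + mat b (Sum.inr (Sum.inr j)) (fI i)) =
      ∑ j : Fin m, mat b (Sum.inr (Sum.inl j)) (eI i) * mat b (Sum.inr (Sum.inr j)) (eI i) +
      ∑ j : Fin m, mat b (Sum.inr (Sum.inl j)) (eI i) * mat b (Sum.inr (Sum.inr j)) (fI i) := by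
    rw [← Finset.sum_add_distrib]
    apply Finset.sum_congr rfl
    intro j _
    ring
  rw [e4] at h1
  linear_combination h1 - h2

theorem c8a_diag_dual (b : OG m F) (hb : b ∈ Bminus m F) (a : OI m) :
    mat b a a * mat b (dualE m a) (dualE m a) = 1 := by
  rcases a with a | a | a
  · have := c8a_diag_z b hb
    show mat b zI zI * mat b zI zI = 1
    rw [← sq]; exact this
  · exact c8a_diag_ef b hb a
  · show mat b (fI a) (fI a) * mat b (eI a) (eI a) = 1
    rw [mul_comm]; exact c8a_diag_ef b hb a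

/-- the diagonal part of an element of `B⁻`, as an element of the group -/
def c8a_dG (b : OG m F) (hb : b ∈ Bminus m F) : OG m F :=
  ⟨⟨Matrix.diagonal (fun a => mat b a a),
      Matrix.diagonal (fun a => mat b (dualE m a) (dualE m a)),
      by
        rw [Matrix.diagonal_mul_diagonal, ← Matrix.diagonal_one]
        congr 1
        funext a
        exact c8a_diag_dual b hb a,
      by
        rw [Matrix.diagonal_mul_diagonal, ← Matrix.diagonal_one]
        congr 1
        funext a
        rw [mul_comm]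
        exact c8a_diag_dual b hb a⟩,
    fun u _ => c8_diagonal_pres (fun a => mat b a a) (c8a_diag_z b hb)
      (fun i => c8a_diag_ef b hb i) u⟩

theorem c8a_mat_dG (b : OG m F) (hb : b ∈ Bminus m F) :
    mat (c8a_dG b hb) = Matrix.diagonal (fun a => mat b a a) := rfl

theorem c8a_dG_mem_T (b : OG m F) (hb : b ∈ Bminus m F) : c8a_dG b hb ∈ Tsub m F := by
  rw [mem_Tsub_iff]
  intro a c hac
  rw [c8a_mat_dG]
  exact Matrix.diagonal_apply_ne _ hac

/-- a lower unitriangular matrix has `p`-power order in characteristic `p` -/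
theorem c8a_unitri_pow (p : ℕ) [Fact p.Prime] [CharP F p]
    (A : Matrix (OI m) (OI m) F)
    (hA : ∀ a b, pos m a < pos m b → A a b = 0) (hA1 : ∀ a, A a a = 1) :
    A ^ (p ^ (2 * m + 1)) = 1 := by
  have h := c8_unitri_pow p Aᵀ (fun a b hab => by rw [Matrix.transpose_apply]; exact hA b a hab)
    (fun a => by rw [Matrix.transpose_apply]; exact hA1 a)
  rw [← Matrix.transpose_pow] at h
  have h' := congrArg Matrix.transpose h
  rw [Matrix.transpose_transpose, Matrix.transpose_one] at h'
  exact h'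

theorem exists_diag_unip_minus [Fintype F] (p : ℕ) [Fact p.Prime] [CharP F p] (b : OG m F)
    (hb : b ∈ Bminus m F) : ∃ d ∈ Tsub m F, ∃ k : ℕ, (b * d⁻¹) ^ (p ^ k) = 1 := by
  refine ⟨c8a_dG b hb, c8a_dG_mem_T b hb, 2 * m + 1, ?_⟩
  apply mat_injective
  rw [c8_mat_pow, mat_one]
  have hdB : c8a_dG b hb ∈ Bminus m F := (c8a_dG_mem_T b hb).2
  have hdiB : (c8a_dG b hb)⁻¹ ∈ Bminus m F := inv_mem hdB
  have hu : b * (c8a_dG b hb)⁻¹ ∈ Bminus m F := mul_mem hb hdiB
  apply c8a_unitri_pow p _ (c8a_lower_of_mem hu)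
  intro a
  rw [mat_mul, c8a_diag_mul _ _ (c8a_lower_of_mem hb) (c8a_lower_of_mem hdiB)]
  have h1 : mat b a a = mat (c8a_dG b hb) a a := by
    rw [c8a_mat_dG, Matrix.diagonal_apply_eq]
  rw [h1, ← c8a_diag_mul _ _ (c8a_lower_of_mem hdB) (c8a_lower_of_mem hdiB), mat_mul_mat_inv,
    Matrix.one_apply_eq]

end Cfsg.Agent.Lib.Helper90.StO
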