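import Cfsg.Prelude.Def_GeometricClasses
import Cfsg.Agent.S5635
import Cfsg.Agent.Lib.Helper95.Transvection

/-!
# K-SLMax-X7: over `F₅` the monomial subgroup of `SL₄` is not maximal

In coordinates `x` with respect to the four lines, the set
`X = {w(x) = 1} ∪ {w(x) = 2} ∪ {w(x) = 4 ∧ p(x) = 1}`, where `w(x) = ∑ xᵢ⁴` (the weight) and
`p(x) = (∏ xᵢ)²`, is preserved by the monomial matrices of determinant one and by the Hadamard
matrix `H₂ ⊗ H₂` (of determinant `16 = 1`), but not by all transvections.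
-/

set_option autoImplicit false

namespace Cfsg.Agent.Lib.Helper90.SLMax

open Cfsg Cfsg.Geo Matrix Cfsg.Agent.Lib.Helper95
open scoped Matrix MatrixGroups

section
variable {F : Type*} [Field F]

local notation "V4" => (Fin 4 → F)
local notation "M4" => Matrix (Fin 4) (Fin 4) F
local notation "GL4" => Matrix.GeneralLinearGroup (Fin 4) F

/-- the weight of a coordinate vector, as an element of `F` (valid when `a ^ 4 = 1` for `a ≠ 0`) -/
def Wt (x : V4) : F := ∑ i, x i ^ 4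

/-- the square of the product of the coordinates -/
def Pr (x : V4) : F := (∏ i, x i) ^ 2

/-- the invariant set, in coordinates -/
def InX (x : V4) : Prop := Wt x = 1 ∨ Wt x = 2 ∨ (Wt x = 4 ∧ Pr x = 1)

/-- the invariant set, four explicit coordinates -/
def InX4 {R : Type*} [CommRing R] (a b c d : R) : Prop :=
  a ^ 4 + b ^ 4 + c ^ 4 + d ^ 4 = 1 ∨ a ^ 4 + b ^ 4 + c ^ 4 + d ^ 4 = 2 ∨
    (a ^ 4 + b ^ 4 + c ^ 4 + d ^ 4 = 4 ∧ (a * b * c * d) ^ 2 = 1)

theorem InX_iff (x : V4) : InX x ↔ InX4 (x 0) (x 1) (x 2) (x 3) := by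
  unfold InX InX4 Wt Pr
  rw [Fin.sum_univ_four, Fin.prod_univ_four]

/-- the Hadamard matrix `H₂ ⊗ H₂` -/
def H4 (F : Type*) [Field F] : Matrix (Fin 4) (Fin 4) F :=
  !![1, 1, 1, 1; 1, -1, 1, -1; 1, 1, -1, -1; 1, -1, -1, 1]

theorem H4_det : (H4 F).det = 16 := by
  unfold H4
  rw [Matrix.det_succ_row_zero]
  simp [Fin.sum_univ_succ, Matrix.det_fin_three, Fin.succAbove, Matrix.submatrix]
  ring

theorem H4_mulVec (x : V4) : H4 F *ᵥ x =
    ![x 0 + x 1 + x 2 + x 3, x 0 - x 1 + x 2 - x 3, x 0 + x 1 - x 2 - x 3,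
      x 0 - x 1 - x 2 + x 3] := by
  ext i
  fin_cases i <;> simp [H4, Matrix.mulVec, dotProduct, Fin.sum_univ_four] <;> ring

theorem brute5 : ∀ a b c d : ZMod 5,
    InX4 a b c d ↔ InX4 (a + b + c + d) (a - b + c - d) (a + b - c - d) (a - b - c + d) := by
  unfold InX4
  decide

theorem InX4_map (φ : ZMod 5 ≃+* F) (a b c d : ZMod 5) :
    InX4 (φ a) (φ b) (φ c) (φ d) ↔ InX4 a b c d := by
  unfold InX4
  have e1 : φ a ^ 4 + φ b ^ 4 + φ c ^ 4 + φ d ^ 4 = φ (a ^ 4 + b ^ 4 + c ^ 4 + d ^ 4) := by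
    simp only [map_add, map_pow]
  have e2 : (φ a * φ b * φ c * φ d) ^ 2 = φ ((a * b * c * d) ^ 2) := by
    simp only [map_mul, map_pow]
  have c1 : ∀ y : ZMod 5, φ y = 1 ↔ y = 1 := fun y =>
    ⟨fun h => φ.injective (h.trans (map_one φ).symm), fun h => h ▸ map_one φ⟩
  have c2 : ∀ y : ZMod 5, φ y = 2 ↔ y = 2 := fun y =>
    ⟨fun h => φ.injective (h.trans (map_ofNat φ 2).symm), fun h => h ▸ map_ofNat φ 2⟩
  have c4 : ∀ y : ZMod 5, φ y = 4 ↔ y = 4 := fun y =>
    ⟨fun h => φ.injective (h.trans (map_ofNat φ 4).symm), fun h => h ▸ map_ofNat φ 4⟩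
  rw [e1, e2, c1, c2, c4, c1]

theorem brute [Fintype F] (hq : Fintype.card F = 5) (a b c d : F) :
    InX4 a b c d ↔ InX4 (a + b + c + d) (a - b + c - d) (a + b - c - d) (a - b - c + d) := by
  have φ : ZMod 5 ≃+* F := ZMod.ringEquivOfPrime F (by norm_num) hq
  obtain ⟨a, rfl⟩ := φ.surjective a
  obtain ⟨b, rfl⟩ := φ.surjective b
  obtain ⟨c, rfl⟩ := φ.surjective c
  obtain ⟨d, rfl⟩ := φ.surjective d
  have h1 : φ a + φ b + φ c + φ d = φ (a + b + c + d) := by simp only [map_add]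
  have h2 : φ a - φ b + φ c - φ d = φ (a - b + c - d) := by simp only [map_add, map_sub]
  have h3 : φ a + φ b - φ c - φ d = φ (a + b - c - d) := by simp only [map_add, map_sub]
  have h4 : φ a - φ b - φ c + φ d = φ (a - b - c + d) := by simp only [map_add, map_sub]
  rw [h1, h2, h3, h4, InX4_map, InX4_map]
  exact brute5 a b c d

theorem five_eq_zero [Fintype F] (hq : Fintype.card F = 5) : (5 : F) = 0 := by
  have := Nat.cast_card_eq_zero F
  rw [hq] at this
  exact_mod_cast this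


/-- coordinates of a vector -/
def cv {D : Fin 4 → Submodule F (Fin 4 → F)} (C : Cfsg.Agent.S5635.Coord D) (v : V4) : V4 := fun i => C.φ i ⬝ᵥ v

theorem cv_add {D : Fin 4 → Submodule F (Fin 4 → F)} (C : Cfsg.Agent.S5635.Coord D) (v w : V4) : cv C (v + w) = cv C v + cv C w := by
  ext i
  simp [cv, dotProduct_add]

theorem cv_smul {D : Fin 4 → Submodule F (Fin 4 → F)} (C : Cfsg.Agent.S5635.Coord D) (c : F) (v : V4) : cv C (c • v) = c • cv C v := by
  ext i
  simp [cv, dotProduct_smul]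

theorem cv_d {D : Fin 4 → Submodule F (Fin 4 → F)} (C : Cfsg.Agent.S5635.Coord D) (j : Fin 4) : cv C (C.d j) = Pi.single j 1 := by
  ext i
  simp only [cv, C.φ_dd, Pi.single_apply]

/-- the matrix whose rows are the coordinate functionals -/
def Phi {D : Fin 4 → Submodule F (Fin 4 → F)} (C : Cfsg.Agent.S5635.Coord D) : M4 := Matrix.of fun i j => C.φ i j

/-- the matrix whose columns are the basis vectors -/
def Bas {D : Fin 4 → Submodule F (Fin 4 → F)} (C : Cfsg.Agent.S5635.Coord D) : M4 := Matrix.of fun i j => C.d j i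

theorem Phi_mulVec {D : Fin 4 → Submodule F (Fin 4 → F)} (C : Cfsg.Agent.S5635.Coord D) (v : V4) : Phi C *ᵥ v = cv C v := rfl

theorem Phi_mul_Bas {D : Fin 4 → Submodule F (Fin 4 → F)} (C : Cfsg.Agent.S5635.Coord D) : Phi C * Bas C = 1 := by
  ext i j
  rw [Matrix.mul_apply, Matrix.one_apply, ← C.φ_dd i j]
  rfl

theorem Bas_mul_Phi {D : Fin 4 → Submodule F (Fin 4 → F)} (C : Cfsg.Agent.S5635.Coord D) : Bas C * Phi C = 1 :=
  _root_.mul_eq_one_comm.mp (Phi_mul_Bas C)

theorem det_Phi_Bas {D : Fin 4 → Submodule F (Fin 4 → F)} (C : Cfsg.Agent.S5635.Coord D) : (Phi C).det * (Bas C).det = 1 := by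
  rw [← Matrix.det_mul, Phi_mul_Bas, Matrix.det_one]

/-- the stabiliser of the invariant set -/
def stabX {D : Fin 4 → Submodule F (Fin 4 → F)} (C : Cfsg.Agent.S5635.Coord D) : Subgroup GL4 where
  carrier := {g | ∀ v : V4, InX (cv C (g.1 *ᵥ v)) ↔ InX (cv C v)}
  one_mem' := by
    intro v
    simp
  mul_mem' := by
    intro a b ha hb v
    rw [Cfsg.Agent.S5635.gl_mul_act, ha, hb]
  inv_mem' := by
    intro a ha v
    have := ha (a⁻¹.1 *ᵥ v)
    rw [Cfsg.Agent.S5635.gl_act_inv] at this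
    exact this.symm

theorem mem_stabX {D : Fin 4 → Submodule F (Fin 4 → F)} (C : Cfsg.Agent.S5635.Coord D) (g : GL4) :
    g ∈ stabX C ↔ ∀ v : V4, InX (cv C (g.1 *ᵥ v)) ↔ InX (cv C v) := Iff.rfl

/-- monomial matrices of determinant one preserve the set -/
theorem stab_inf_sl_le [Fintype F] (hq : Fintype.card F = 5) {D : Fin 4 → Submodule F (Fin 4 → F)} (C : Cfsg.Agent.S5635.Coord D)
    (hT : iSup D = ⊤) :
    decompositionStabilizer D ⊓ specialLinear (Fin 4) F ≤ stabX C := by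
  rintro g ⟨⟨σ, hσ⟩, hdet⟩
  have hdet' : g.1.det = 1 := (Cfsg.Agent.S5635.mem_SL_iff g).mp hdet
  -- the scalars
  have h1 : ∀ i, ∃ t : F, t • C.d (σ i) = g.1 *ᵥ C.d i := by
    intro i
    apply C.span (σ i)
    rw [← hσ i]
    exact ⟨C.d i, C.d_mem i, by rw [Matrix.toLin'_apply]⟩
  choose t ht using h1
  -- coordinates of the image
  have hkey : ∀ (v : V4) (k i : Fin 4), cv C (g.1 *ᵥ v) k = ∑ j, cv C v j * (t j * if k = σ j then 1 else 0) := by
    intro v k i
    have hv := C.expansion hT v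
    calc cv C (g.1 *ᵥ v) k = C.φ k ⬝ᵥ (g.1 *ᵥ ∑ j, (C.φ j ⬝ᵥ v) • C.d j) := by rw [hv]; rfl
      _ = ∑ j, cv C v j * (t j * if k = σ j then 1 else 0) := by
        rw [Matrix.mulVec_sum, dotProduct_sum]
        apply Finset.sum_congr rfl
        intro j _
        rw [Matrix.mulVec_smul, ← ht j, dotProduct_smul, dotProduct_smul, C.φ_dd]
        simp [cv, smul_eq_mul]
  have hcoord : ∀ (v : V4) (i : Fin 4), cv C (g.1 *ᵥ v) (σ i) = t i * cv C v i := by
    intro v i
    rw [hkey v (σ i) i]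
    simp only [σ.injective.eq_iff]
    rw [Finset.sum_eq_single i]
    · simp [mul_comm]
    · intro j _ hji
      simp [Ne.symm hji]
    · intro h; exact absurd (Finset.mem_univ i) h
  -- the scalars are nonzero
  have htne : ∀ i, t i ≠ 0 := by
    intro i hti
    have h0 : g.1 *ᵥ C.d i = 0 := by rw [← ht i, hti, zero_smul]
    have h1 : C.d i = 0 := by
      have := Cfsg.Agent.S5635.gl_inv_act g (C.d i)
      rw [h0, Matrix.mulVec_zero] at this
      exact this.symm
    have h2 := C.φ_d i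
    rw [h1, dotProduct_zero] at h2
    exact zero_ne_one h2
  have ht4 : ∀ i, t i ^ 4 = 1 := by
    intro i
    have := FiniteField.pow_card_sub_one_eq_one (t i) (htne i)
    rwa [hq] at this
  -- the determinant
  have hprod : (∏ i, t i) ^ 2 = 1 := by
    set N : M4 := Phi C * g.1 * Bas C with hN
    have hNdet : N.det = 1 := by
      rw [hN, Matrix.det_mul, Matrix.det_mul, hdet', mul_one, det_Phi_Bas]
    have hNentry : ∀ k i, N k i = t i * if k = σ i then 1 else 0 := by
      intro k i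
      have e1 : N k i = cv C (g.1 *ᵥ C.d i) k := by
        rw [hN, Matrix.mul_assoc, Matrix.mul_apply]
        show ∑ j, Phi C k j * (g.1 * Bas C) j i = C.φ k ⬝ᵥ (g.1 *ᵥ C.d i)
        unfold dotProduct
        apply Finset.sum_congr rfl
        intro j _
        congr 1
      rw [e1, ← ht i, cv_smul, Pi.smul_apply, cv_d, Pi.single_apply, smul_eq_mul]
    have hNN : Nᵀ * N = Matrix.diagonal fun i => t i ^ 2 := by
      ext i j
      rw [Matrix.mul_apply, Matrix.diagonal_apply]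
      simp only [Matrix.transpose_apply, hNentry]
      by_cases hij : i = j
      · subst hij
        rw [if_pos rfl, Finset.sum_eq_single (σ i)]
        · simp; ring
        · intro k _ hk
          simp [hk]
        · intro h; exact absurd (Finset.mem_univ _) h
      · rw [if_neg hij]
        apply Finset.sum_eq_zero
        intro k _
        by_cases h1 : k = σ i
        · have h2 : k ≠ σ j := fun h2 => hij (σ.injective (h1.symm.trans h2))
          simp [h2]
        · simp [h1]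
    have := congrArg Matrix.det hNN
    rw [Matrix.det_mul, Matrix.det_transpose, hNdet, Matrix.det_diagonal, Finset.prod_pow] at this
    rw [← this, mul_one]
  -- invariance of weight and product
  intro v
  have hW : Wt (cv C (g.1 *ᵥ v)) = Wt (cv C v) := by
    unfold Wt
    rw [← Equiv.sum_comp σ (fun k => cv C (g.1 *ᵥ v) k ^ 4)]
    apply Finset.sum_congr rfl
    intro i _
    rw [hcoord, mul_pow, ht4, one_mul]
  have hP : Pr (cv C (g.1 *ᵥ v)) = Pr (cv C v) := by
    unfold Pr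
    rw [← Equiv.prod_comp σ (fun k => cv C (g.1 *ᵥ v) k)]
    simp only [hcoord]
    rw [Finset.prod_mul_distrib, mul_pow, hprod, one_mul]
  unfold InX
  rw [hW, hP]

/-- the Hadamard element of `GL₄` in the coordinates `C` -/
noncomputable def hadGL [Fintype F] (hq : Fintype.card F = 5) {D : Fin 4 → Submodule F (Fin 4 → F)} (C : Cfsg.Agent.S5635.Coord D) : GL4 :=
  Matrix.GeneralLinearGroup.mkOfDetNeZero (Bas C * H4 F * Phi C) (by
    rw [Matrix.det_mul, Matrix.det_mul, H4_det, mul_comm (Bas C).det, mul_assoc, mul_comm (Bas C).det,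
      det_Phi_Bas, mul_one]
    have h5 := five_eq_zero hq
    intro h16
    have : (1 : F) = 0 := by linear_combination h16 - 3 * h5
    exact one_ne_zero this)

theorem hadGL_val [Fintype F] (hq : Fintype.card F = 5) {D : Fin 4 → Submodule F (Fin 4 → F)} (C : Cfsg.Agent.S5635.Coord D) :
    (hadGL hq C).1 = Bas C * H4 F * Phi C := rfl

theorem hadGL_det [Fintype F] (hq : Fintype.card F = 5) {D : Fin 4 → Submodule F (Fin 4 → F)} (C : Cfsg.Agent.S5635.Coord D) :
    (hadGL hq C).1.det = 1 := by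
  rw [hadGL_val, Matrix.det_mul, Matrix.det_mul, H4_det, mul_comm (Bas C).det, mul_assoc,
    mul_comm (Bas C).det, det_Phi_Bas, mul_one]
  have h5 := five_eq_zero hq
  linear_combination 3 * h5

theorem cv_hadGL [Fintype F] (hq : Fintype.card F = 5) {D : Fin 4 → Submodule F (Fin 4 → F)} (C : Cfsg.Agent.S5635.Coord D) (v : V4) :
    cv C ((hadGL hq C).1 *ᵥ v) = H4 F *ᵥ cv C v := by
  rw [hadGL_val, ← Phi_mulVec, ← Phi_mulVec, Matrix.mulVec_mulVec, ← Matrix.mul_assoc,
    ← Matrix.mul_assoc, Phi_mul_Bas, Matrix.one_mul, Matrix.mulVec_mulVec]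

theorem hadGL_mem_stabX [Fintype F] (hq : Fintype.card F = 5) {D : Fin 4 → Submodule F (Fin 4 → F)} (C : Cfsg.Agent.S5635.Coord D) :
    hadGL hq C ∈ stabX C := by
  rw [mem_stabX]
  intro v
  rw [cv_hadGL, InX_iff, InX_iff, H4_mulVec]
  exact (brute hq _ _ _ _).symm

theorem hadGL_not_mem [Fintype F] (hq : Fintype.card F = 5) {D : Fin 4 → Submodule F (Fin 4 → F)} (C : Cfsg.Agent.S5635.Coord D) :
    hadGL hq C ∉ decompositionStabilizer D := by
  rintro ⟨σ, hσ⟩
  have h1 : (hadGL hq C).1 *ᵥ C.d 0 ∈ D (σ 0) := by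
    rw [← hσ 0]
    exact ⟨C.d 0, C.d_mem 0, by rw [Matrix.toLin'_apply]⟩
  obtain ⟨c, hc⟩ := C.span (σ 0) _ h1
  have h2 : cv C ((hadGL hq C).1 *ᵥ C.d 0) = c • Pi.single (σ 0) 1 := by
    rw [← hc, cv_smul, cv_d]
  rw [cv_hadGL, cv_d, H4_mulVec] at h2
  -- a coordinate different from `σ 0`
  obtain ⟨j, hj⟩ : ∃ j : Fin 4, j ≠ σ 0 := by
    by_cases h : σ 0 = 0
    · exact ⟨1, by rw [h]; decide⟩
    · exact ⟨0, fun h' => h h'.symm⟩
  have h3 := congrFun h2 j
  have h4 : (c • Pi.single (σ 0) (1 : F) : Fin 4 → F) j = 0 := by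
    rw [Pi.smul_apply, Pi.single_apply, if_neg hj, smul_zero]
  rw [h4] at h3
  fin_cases j <;> simp at h3

/-- a transvection not preserving the set -/
theorem tv_not_mem [Fintype F] (hq : Fintype.card F = 5) {D : Fin 4 → Submodule F (Fin 4 → F)} (C : Cfsg.Agent.S5635.Coord D) :
    tvGL (C.φ 0) (C.d 1) (by rw [C.φ_dd]; simp) ∉ stabX C := by
  intro hmem
  rw [mem_stabX] at hmem
  have h := hmem (C.d 0 + C.d 2)
  have h5 := five_eq_zero hq
  have e1 : cv C (C.d 0 + C.d 2) = ![1, 0, 1, 0] := by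
    rw [cv_add, cv_d, cv_d]
    ext i
    fin_cases i <;> simp
  have e2 : cv C ((tvGL (C.φ 0) (C.d 1) (by rw [C.φ_dd]; simp)).1 *ᵥ (C.d 0 + C.d 2)) =
      ![1, 1, 1, 0] := by
    rw [tvGL_val, tvMat_mulVec, cv_add, cv_smul, cv_add, cv_d, cv_d, cv_d]
    have : C.φ 0 ⬝ᵥ (C.d 0 + C.d 2) = 1 := by
      rw [dotProduct_add, C.φ_dd, C.φ_dd]
      simp
    rw [this]
    ext i
    fin_cases i <;> simp
  rw [e1, e2, InX_iff, InX_iff] at h
  have hR : InX4 (1 : F) 0 1 0 := by
    unfold InX4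
    right; left
    norm_num
  have hL := h.mpr hR
  unfold InX4 at hL
  have h1 : (1 : F) ≠ 0 := one_ne_zero
  rcases hL with hL | hL | ⟨hL, _⟩
  · apply h1
    have : (3 : F) = 1 := by
      have : (1 : F) ^ 4 + 1 ^ 4 + 1 ^ 4 + 0 ^ 4 = 3 := by norm_num
      rw [← this]; exact hL
    linear_combination h5 - 2 * this
  · apply h1
    have : (3 : F) = 2 := by
      have : (1 : F) ^ 4 + 1 ^ 4 + 1 ^ 4 + 0 ^ 4 = 3 := by norm_num
      rw [← this]; exact hL
    linear_combination this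
  · apply h1
    have : (3 : F) = 4 := by
      have : (1 : F) ^ 4 + 1 ^ 4 + 1 ^ 4 + 0 ^ 4 = 3 := by norm_num
      rw [← this]; exact hL
    linear_combination -this

end

/-- **K-SLMax-X7** -/
theorem not_isMaximalIn_lines_of_card_five {F : Type*} [Field F] [Fintype F]
    (hq : Fintype.card F = 5)
    (D : Fin 4 → Submodule F (Fin 4 → F)) (hD : IsMDecomposition 1 D) :
    ¬ IsMaximalIn (specialLinear (Fin 4) F)
      (decompositionStabilizer D ⊓ specialLinear (Fin 4) F) := by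
  obtain ⟨C⟩ := Cfsg.Agent.S5635.exists_coord D hD
  rintro ⟨_, hmax⟩
  rcases hmax (stabX C ⊓ specialLinear (Fin 4) F)
    (le_inf (stab_inf_sl_le hq C hD.iSup_eq_top) inf_le_right) inf_le_right with h | h
  · have h1 : hadGL hq C ∈ stabX C ⊓ specialLinear (Fin 4) F :=
      ⟨hadGL_mem_stabX hq C, (Cfsg.Agent.S5635.mem_SL_iff _).mpr (hadGL_det hq C)⟩
    rw [h] at h1
    exact hadGL_not_mem hq C h1.1
  · have h1 : tvGL (C.φ 0) (C.d 1) (by rw [C.φ_dd]; simp) ∈ specialLinear (Fin 4) F :=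
      tvGL_mem_specialLinear _ _ _
    rw [← h] at h1
    exact tv_not_mem hq C h1.1

end Cfsg.Agent.Lib.Helper90.SLMax
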