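import Mathlib
import Cfsg.Agent.Lib.Helper53.StOmDefs

/-!
K-StOm (S2549 pack, architect helper53), C8-type leaf: `|B : T|` is a power of `p` for the block
upper triangular isometries of `quadFormMinus m F a b` (any `a b`, any characteristic).
`δ : B → B`, `b ↦` block diagonal part of `b`, is an idempotent endomorphism with image `T` and
kernel the block unitriangular matrices of `B`, a `p`-group.
(Twin of Helper90.StOC8 / Helper48.StSpC8 / Helper21.StSUC8.)
-/

set_option autoImplicit false
set_option linter.unusedSectionVars false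
set_option linter.unusedVariables false

namespace Cfsg.Agent.Lib.Helper90.StOm

open Cfsg Cfsg.Agent.Lib.Helper53.StOm Matrix

variable {m : ℕ} {F : Type*} [Field F] {a b : F}

/-! ### block diagonal part of a matrix -/

/-- the block diagonal part of a matrix, for the classes of `pos` -/
def c8_D (A : Matrix (MI m) (MI m) F) : Matrix (MI m) (MI m) F :=
  fun x y => if pos m x = pos m y then A x y else 0

theorem c8_D_apply (A : Matrix (MI m) (MI m) F) (x y : MI m) :
    c8_D A x y = if pos m x = pos m y then A x y else 0 := rfl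

theorem c8_D_one : c8_D (1 : Matrix (MI m) (MI m) F) = 1 := by
  ext x y
  rw [c8_D_apply, Matrix.one_apply]
  by_cases h : x = y
  · subst h; simp
  · simp [h]

theorem c8_D_D (A : Matrix (MI m) (MI m) F) : c8_D (c8_D A) = c8_D A := by
  ext x y
  rw [c8_D_apply, c8_D_apply]
  split_ifs <;> rfl

/-- block upper triangular matrices: the block diagonal part is multiplicative -/
theorem c8_D_mul (A A' : Matrix (MI m) (MI m) F)
    (hA : ∀ x y, pos m y < pos m x → A x y = 0) (hA' : ∀ x y, pos m y < pos m x → A' x y = 0) :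
    c8_D (A * A') = c8_D A * c8_D A' := by
  ext x y
  rw [c8_D_apply, Matrix.mul_apply, Matrix.mul_apply]
  by_cases hxy : pos m x = pos m y
  · rw [if_pos hxy]
    apply Finset.sum_congr rfl
    intro c _
    rw [c8_D_apply, c8_D_apply]
    by_cases h1 : pos m x = pos m c
    · rw [if_pos h1, if_pos (h1.symm.trans hxy)]
    · rw [if_neg h1, zero_mul]
      rcases lt_or_gt_of_ne h1 with h | h
      · rw [hA' c y (by omega), mul_zero]
      · rw [hA x c h, zero_mul]
  · rw [if_neg hxy]
    symm
    apply Finset.sum_eq_zero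
    intro c _
    rw [c8_D_apply, c8_D_apply]
    by_cases h1 : pos m x = pos m c
    · rw [if_neg (fun h2 => hxy (h1.trans h2)), mul_zero]
    · rw [if_neg h1, zero_mul]

theorem c8_upper_of_mem {g : OG m F a b} (hg : g ∈ Bsub m F a b) :
    ∀ x y, pos m y < pos m x → mat g x y = 0 :=
  (mem_Bsub_iff g).1 hg

theorem c8_mulVec_single (A : Matrix (MI m) (MI m) F) (c : MI m) :
    A *ᵥ Pi.single c 1 = fun x => A x c := by
  funext x
  simp [Matrix.mulVec, dotProduct, Pi.single_apply]

/-! ### the block diagonal part of an upper triangular isometry is an isometry -/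

/-- the `z`-block of an upper triangular isometry preserves the binary form -/
theorem c8_block_z (g : OG m F a b) (hg : g ∈ Bsub m F a b) (s t : F) :
    phi a b (mat g (zI 0) (zI 0) * s + mat g (zI 0) (zI 1) * t)
      (mat g (zI 1) (zI 0) * s + mat g (zI 1) (zI 1) * t) = phi a b s t := by
  have hA := c8_upper_of_mem hg
  have h := quad_mulVec g (s • Pi.single (zI 0) 1 + t • Pi.single (zI 1) 1)
  rw [Matrix.mulVec_add, Matrix.mulVec_smul, Matrix.mulVec_smul, c8_mulVec_single,
    c8_mulVec_single] at h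
  unfold Cfsg.quadFormMinus at h
  have f0 : ∀ (i : Fin m) (j : Fin 2), mat g (Sum.inl (Sum.inr i)) (zI j) = 0 := by
    intro i j
    apply hA
    show m < 2 * m - i.val
    have := i.2; omega
  have e1 : ∀ (i : Fin m), (s • Pi.single (zI 0) (1 : F) + t • Pi.single (zI 1) (1 : F) :
      MI m → F) (Sum.inl (Sum.inl i)) = 0 := by
    intro i
    simp [Pi.single_apply]
  simp only [Pi.add_apply, Pi.smul_apply, smul_eq_mul, f0, mul_zero, add_zero,
    Finset.sum_const_zero, zero_add] at h
  have e2 : (s • Pi.single (zI 0) (1 : F) + t • Pi.single (zI 1) (1 : F) : MI m → F)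
      (Sum.inr 0) = s := by
    simp [Pi.single_apply]
  have e3 : (s • Pi.single (zI 0) (1 : F) + t • Pi.single (zI 1) (1 : F) : MI m → F)
      (Sum.inr 1) = t := by
    simp [Pi.single_apply]
  have e4 : ∑ i : Fin m, (s • Pi.single (zI 0) (1 : F) + t • Pi.single (zI 1) (1 : F) :
      MI m → F) (Sum.inl (Sum.inl i)) *
      (s • Pi.single (zI 0) (1 : F) + t • Pi.single (zI 1) (1 : F) : MI m → F)
        (Sum.inl (Sum.inr i)) = 0 := by
    apply Finset.sum_eq_zero
    intro i _
    rw [e1, zero_mul]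
  unfold phi
  have h' := h
  simp only [Pi.single_apply] at h'
  simp only [show ((Sum.inr 0 : MI m) = zI 0) from rfl, show ((Sum.inr 1 : MI m) = zI 1) from rfl,
    if_true] at h'
  simp at h'
  linear_combination h'

/-- the diagonal entries at `e_i`, `f_i` of an upper triangular isometry are inverse to each other -/
theorem c8_diag_ef (g : OG m F a b) (hg : g ∈ Bsub m F a b) (i : Fin m) :
    mat g (eI i) (eI i) * mat g (fI i) (fI i) = 1 := by
  have hA := c8_upper_of_mem hg
  have h1 := quad_mulVec g (Pi.single (eI i) 1 + Pi.single (fI i) 1)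
  have h2 := quad_mulVec g (Pi.single (fI i) 1)
  rw [Matrix.mulVec_add, c8_mulVec_single, c8_mulVec_single] at h1
  rw [c8_mulVec_single] at h2
  unfold Cfsg.quadFormMinus at h1 h2
  -- right hand sides
  have r1 : (∑ j : Fin m, (Pi.single (eI i) (1 : F) + Pi.single (fI i) (1 : F) : MI m → F)
        (Sum.inl (Sum.inl j)) *
        (Pi.single (eI i) (1 : F) + Pi.single (fI i) (1 : F) : MI m → F) (Sum.inl (Sum.inr j))) +
      ((Pi.single (eI i) (1 : F) + Pi.single (fI i) (1 : F) : MI m → F) (Sum.inr 0) ^ 2 +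
        a * (Pi.single (eI i) (1 : F) + Pi.single (fI i) (1 : F) : MI m → F) (Sum.inr 0) *
          (Pi.single (eI i) (1 : F) + Pi.single (fI i) (1 : F) : MI m → F) (Sum.inr 1) +
        b * (Pi.single (eI i) (1 : F) + Pi.single (fI i) (1 : F) : MI m → F) (Sum.inr 1) ^ 2) =
      1 := by
    rw [Finset.sum_eq_single i]
    · simp
    · intro j _ hj
      have : (Sum.inl (Sum.inl j) : MI m) ≠ eI i := fun h => hj (Sum.inl.inj (Sum.inl.inj h))
      simp [Pi.single_apply, this]
    · intro h
      exact absurd (Finset.mem_univ i) h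
  have r2 : (∑ j : Fin m, (Pi.single (fI i) (1 : F) : MI m → F) (Sum.inl (Sum.inl j)) *
        (Pi.single (fI i) (1 : F) : MI m → F) (Sum.inl (Sum.inr j))) +
      ((Pi.single (fI i) (1 : F) : MI m → F) (Sum.inr 0) ^ 2 +
        a * (Pi.single (fI i) (1 : F) : MI m → F) (Sum.inr 0) *
          (Pi.single (fI i) (1 : F) : MI m → F) (Sum.inr 1) +
        b * (Pi.single (fI i) (1 : F) : MI m → F) (Sum.inr 1) ^ 2) = 0 := by
    rw [Finset.sum_eq_zero]
    · simp
    · intro j _
      rw [Pi.single_apply, if_neg (by simp), zero_mul]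
  rw [r1] at h1
  rw [r2] at h2
  -- left hand sides
  have z0 : ∀ j : Fin 2, mat g (Sum.inr j) (eI i) = 0 := by
    intro j
    apply hA
    show i.val < m
    exact i.2
  have f0 : ∀ j : Fin m, mat g (Sum.inl (Sum.inr j)) (eI i) = 0 := by
    intro j
    apply hA
    show i.val < 2 * m - j.val
    have := i.2; have := j.2; omega
  simp only [Pi.add_apply, z0, f0, zero_add] at h1
  have e3 : ∑ j : Fin m, mat g (Sum.inl (Sum.inl j)) (eI i) * mat g (Sum.inl (Sum.inr j)) (fI i) =
      mat g (eI i) (eI i) * mat g (fI i) (fI i) := by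
    apply Finset.sum_eq_single i
    · intro j _ hj
      rcases lt_or_gt_of_ne (fun h => hj (Fin.ext h) : (j : ℕ) ≠ (i : ℕ)) with h | h
      · have : pos m (fI i) < pos m (fI j) := by
          show 2 * m - i.val < 2 * m - j.val
          have := i.2; have := j.2; omega
        rw [hA _ _ this, mul_zero]
      · have : pos m (eI i) < pos m (eI j) := h
        rw [hA _ _ this, zero_mul]
    · intro h
      exact absurd (Finset.mem_univ i) h
  rw [← e3]
  have e4 : ∑ j : Fin m, (mat g (Sum.inl (Sum.inl j)) (eI i) + mat g (Sum.inl (Sum.inl j)) (fI i)) *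
      mat g (Sum.inl (Sum.inr j)) (fI i) =
      ∑ j : Fin m, mat g (Sum.inl (Sum.inl j)) (eI i) * mat g (Sum.inl (Sum.inr j)) (fI i) +
      ∑ j : Fin m, mat g (Sum.inl (Sum.inl j)) (fI i) * mat g (Sum.inl (Sum.inr j)) (fI i) := by
    rw [← Finset.sum_add_distrib]
    apply Finset.sum_congr rfl
    intro j _
    ring
  rw [e4] at h1
  linear_combination h1 - h2

/-- the block diagonal part of a matrix whose `z`-block preserves the binary form and whose
diagonal entries at `e_i`, `f_i` are inverse to each other preserves `Q` -/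
theorem c8_D_pres_of (A : Matrix (MI m) (MI m) F)
    (hzz : ∀ s t : F, phi a b (A (zI 0) (zI 0) * s + A (zI 0) (zI 1) * t)
      (A (zI 1) (zI 0) * s + A (zI 1) (zI 1) * t) = phi a b s t)
    (hef : ∀ i : Fin m, A (eI i) (eI i) * A (fI i) (fI i) = 1) (u : MI m → F) :
    Cfsg.quadFormMinus m F a b (c8_D A *ᵥ u) = Cfsg.quadFormMinus m F a b u := by
  have he : ∀ i : Fin m, (c8_D (A) *ᵥ u) (Sum.inl (Sum.inl i)) =
      A (eI i) (eI i) * u (Sum.inl (Sum.inl i)) := by
    intro i
    show ∑ y, c8_D (A) (eI i) y * u y = _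
    rw [Finset.sum_eq_single (eI i)]
    · rw [c8_D_apply, if_pos rfl]
    · intro y _ hy
      rw [c8_D_apply, if_neg, zero_mul]
      intro h
      rcases pos_eq_imp m _ _ h with h' | ⟨h', _⟩
      · exact hy h'.symm
      · have := i.2
        simp only [pos] at h'
        omega
    · intro h
      exact absurd (Finset.mem_univ _) h
  have hf : ∀ i : Fin m, (c8_D (A) *ᵥ u) (Sum.inl (Sum.inr i)) =
      A (fI i) (fI i) * u (Sum.inl (Sum.inr i)) := by
    intro i
    show ∑ y, c8_D (A) (fI i) y * u y = _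
    rw [Finset.sum_eq_single (fI i)]
    · rw [c8_D_apply, if_pos rfl]
    · intro y _ hy
      rw [c8_D_apply, if_neg, zero_mul]
      intro h
      rcases pos_eq_imp m _ _ h with h' | ⟨h', _⟩
      · exact hy h'.symm
      · have := i.2
        simp only [pos] at h'
        omega
    · intro h
      exact absurd (Finset.mem_univ _) h
  have hz : ∀ j : Fin 2, (c8_D (A) *ᵥ u) (Sum.inr j) =
      A (zI j) (zI 0) * u (Sum.inr 0) + A (zI j) (zI 1) * u (Sum.inr 1) := by
    intro j
    show ∑ y, c8_D (A) (zI j) y * u y = _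
    rw [Fintype.sum_sum_type, Fin.sum_univ_two]
    have : ∑ y : Fin m ⊕ Fin m, c8_D (A) (zI j) (Sum.inl y) * u (Sum.inl y) = 0 := by
      apply Finset.sum_eq_zero
      intro y _
      rw [c8_D_apply, if_neg, zero_mul]
      rcases y with y | y
      · show m ≠ y.val
        have := y.2; omega
      · show m ≠ 2 * m - y.val
        have := y.2; omega
    rw [this, zero_add, c8_D_apply, c8_D_apply,
      if_pos (show pos m (zI j) = pos m (Sum.inr 0) from rfl),
      if_pos (show pos m (zI j) = pos m (Sum.inr 1) from rfl)]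
  unfold Cfsg.quadFormMinus
  simp only [he, hf, hz]
  have hphi := hzz (u (Sum.inr 0)) (u (Sum.inr 1))
  unfold phi at hphi
  have hsum : ∑ i : Fin m, A (eI i) (eI i) * u (Sum.inl (Sum.inl i)) *
      (A (fI i) (fI i) * u (Sum.inl (Sum.inr i))) =
      ∑ i : Fin m, u (Sum.inl (Sum.inl i)) * u (Sum.inl (Sum.inr i)) := by
    apply Finset.sum_congr rfl
    intro i _
    have := hef i
    calc A (eI i) (eI i) * u (Sum.inl (Sum.inl i)) *
          (A (fI i) (fI i) * u (Sum.inl (Sum.inr i)))
        = (A (eI i) (eI i) * A (fI i) (fI i)) *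
          (u (Sum.inl (Sum.inl i)) * u (Sum.inl (Sum.inr i))) := by ring
      _ = u (Sum.inl (Sum.inl i)) * u (Sum.inl (Sum.inr i)) := by rw [this, one_mul]
  rw [hsum]
  congr 1

/-- the block diagonal part of an upper triangular isometry preserves `Q` -/
theorem c8_D_pres (g : OG m F a b) (hg : g ∈ Bsub m F a b) (u : MI m → F) :
    Cfsg.quadFormMinus m F a b (c8_D (mat g) *ᵥ u) = Cfsg.quadFormMinus m F a b u :=
  c8_D_pres_of (mat g) (c8_block_z g hg) (c8_diag_ef g hg) u

/-! ### strictly block upper triangular matrices are nilpotent -/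

theorem c8_pow_apply_eq_zero (N : Matrix (MI m) (MI m) F)
    (hN : ∀ x y, pos m y ≤ pos m x → N x y = 0) (k : ℕ) :
    ∀ x y, pos m y < pos m x + k → (N ^ k) x y = 0 := by
  induction k with
  | zero =>
    intro x y h
    rw [pow_zero, Matrix.one_apply, if_neg]
    rintro rfl
    omega
  | succ k ih =>
    intro x y h
    rw [pow_succ, Matrix.mul_apply]
    apply Finset.sum_eq_zero
    intro c _
    by_cases hc : pos m c < pos m x + k
    · rw [ih x c hc, zero_mul]
    · rw [hN c y (by omega), mul_zero]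

theorem c8_pos_le (x : MI m) : pos m x ≤ 2 * m := by
  rcases x with (x | x) | x
  · show x.val ≤ 2 * m
    have := x.2; omega
  · show 2 * m - x.val ≤ 2 * m
    omega
  · show m ≤ 2 * m
    omega

theorem c8_pow_eq_zero (N : Matrix (MI m) (MI m) F)
    (hN : ∀ x y, pos m y ≤ pos m x → N x y = 0) : N ^ (2 * m + 1) = 0 := by
  ext x y
  rw [c8_pow_apply_eq_zero N hN (2 * m + 1) x y (by have := c8_pos_le y; omega)]
  rfl

/-- a block unitriangular matrix has `p`-power order in characteristic `p` -/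
theorem c8_unitri_pow (p : ℕ) [Fact p.Prime] [CharP F p]
    (A : Matrix (MI m) (MI m) F)
    (hA : ∀ x y, pos m y < pos m x → A x y = 0) (hA1 : c8_D A = 1) :
    A ^ (p ^ (2 * m + 1)) = 1 := by
  have hN : ∀ x y, pos m y ≤ pos m x → (A - 1) x y = 0 := by
    intro x y hxy
    rw [Matrix.sub_apply]
    rcases eq_or_lt_of_le hxy with h | h
    · have h1 := congrFun (congrFun hA1 x) y
      rw [c8_D_apply, if_pos h.symm] at h1
      rw [h1, sub_self]
    · rw [hA x y h, Matrix.one_apply, if_neg, sub_zero]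
      rintro rfl
      exact lt_irrefl _ h
  have h0 : (A - 1) ^ (2 * m + 1) = 0 := c8_pow_eq_zero _ hN
  have hle : 2 * m + 1 ≤ p ^ (2 * m + 1) :=
    le_of_lt (Nat.lt_pow_self (Fact.out : p.Prime).one_lt)
  have h1 : (A - 1) ^ (p ^ (2 * m + 1)) = 0 := by
    rw [← Nat.sub_add_cancel hle, pow_add, h0, mul_zero]
  have h2 : A = (A - 1) + 1 := by abel
  rw [h2, add_pow_char_pow_of_commute p (2 * m + 1) (Commute.one_right _), h1, one_pow, zero_add]

/-! ### the block diagonal part as a group element -/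

theorem c8_D_mul_inv (g : OG m F a b) (hg : g ∈ Bsub m F a b) :
    c8_D (mat g) * c8_D (mat g⁻¹) = 1 := by
  rw [← c8_D_mul _ _ (c8_upper_of_mem hg) (c8_upper_of_mem (inv_mem hg)), mat_mul_mat_inv, c8_D_one]

theorem c8_D_inv_mul (g : OG m F a b) (hg : g ∈ Bsub m F a b) :
    c8_D (mat g⁻¹) * c8_D (mat g) = 1 := by
  rw [← c8_D_mul _ _ (c8_upper_of_mem (inv_mem hg)) (c8_upper_of_mem hg), mat_inv_mul_mat, c8_D_one]

/-- the block diagonal part of an element of `B`, as an element of the group -/
def c8_dG (g : OG m F a b) (hg : g ∈ Bsub m F a b) : OG m F a b :=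
  ⟨⟨c8_D (mat g), c8_D (mat g⁻¹), c8_D_mul_inv g hg, c8_D_inv_mul g hg⟩,
    fun u _ => c8_D_pres g hg u⟩

theorem c8_mat_dG (g : OG m F a b) (hg : g ∈ Bsub m F a b) :
    mat (c8_dG g hg) = c8_D (mat g) := rfl

theorem c8_dG_mem_T (g : OG m F a b) (hg : g ∈ Bsub m F a b) : c8_dG g hg ∈ Tsub m F a b := by
  rw [mem_Tsub_iff]
  intro x y hxy
  rw [c8_mat_dG, c8_D_apply, if_neg hxy]

theorem c8_dG_mem_B (g : OG m F a b) (hg : g ∈ Bsub m F a b) : c8_dG g hg ∈ Bsub m F a b :=
  (c8_dG_mem_T g hg).1

/-- the block diagonal part, as an endomorphism of `B` -/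
def c8_delta : ↥(Bsub m F a b) →* ↥(Bsub m F a b) where
  toFun g := ⟨c8_dG g.1 g.2, c8_dG_mem_B g.1 g.2⟩
  map_one' := by
    apply Subtype.ext
    apply mat_injective
    show c8_D (1 : Matrix (MI m) (MI m) F) = 1
    exact c8_D_one
  map_mul' g g' := by
    apply Subtype.ext
    apply mat_injective
    show c8_D (mat g.1 * mat g'.1) = c8_D (mat g.1) * c8_D (mat g'.1)
    exact c8_D_mul _ _ (c8_upper_of_mem g.2) (c8_upper_of_mem g'.2)

theorem c8_mat_delta (g : ↥(Bsub m F a b)) : mat (c8_delta g).1 = c8_D (mat g.1) := rfl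

theorem c8_delta_delta (g : ↥(Bsub m F a b)) : c8_delta (c8_delta g) = c8_delta g := by
  apply Subtype.ext
  apply mat_injective
  rw [c8_mat_delta, c8_mat_delta, c8_D_D]

theorem c8_mem_ker_iff (g : ↥(Bsub m F a b)) :
    g ∈ (c8_delta (m := m) (F := F) (a := a) (b := b)).ker ↔ c8_D (mat g.1) = 1 := by
  rw [MonoidHom.mem_ker]
  constructor
  · intro h
    rw [← c8_mat_delta, h]
    rfl
  · intro h
    apply Subtype.ext
    apply mat_injective
    rw [c8_mat_delta, h]
    rfl

theorem c8_isComplement :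
    Subgroup.IsComplement' (c8_delta (m := m) (F := F) (a := a) (b := b)).ker
      ((Tsub m F a b).subgroupOf (Bsub m F a b)) := by
  apply Subgroup.isComplement'_of_disjoint_and_mul_eq_univ
  · rw [Subgroup.disjoint_def]
    intro x hx hxT
    have h1 := (c8_mem_ker_iff x).1 hx
    have h2 := (mem_Tsub_iff x.1).1 (Subgroup.mem_subgroupOf.mp hxT)
    apply Subtype.ext
    apply mat_injective
    ext y z
    show _ = (1 : Matrix (MI m) (MI m) F) y z
    by_cases hyz : pos m y = pos m z
    · have := congrFun (congrFun h1 y) z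
      rw [c8_D_apply, if_pos hyz] at this
      exact this
    · rw [h2 y z hyz, Matrix.one_apply, if_neg]
      rintro rfl
      exact hyz rfl
  · rw [Set.eq_univ_iff_forall]
    intro g
    refine ⟨g * (c8_delta g)⁻¹, ?_, c8_delta g, ?_, ?_⟩
    · show g * (c8_delta g)⁻¹ ∈ (c8_delta (m := m) (F := F) (a := a) (b := b)).ker
      rw [MonoidHom.mem_ker, map_mul, map_inv, c8_delta_delta, mul_inv_cancel]
    · show c8_delta g ∈ (Tsub m F a b).subgroupOf (Bsub m F a b)
      rw [Subgroup.mem_subgroupOf]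
      exact c8_dG_mem_T g.1 g.2
    · show g * (c8_delta g)⁻¹ * c8_delta g = g
      rw [inv_mul_cancel_right]

theorem c8_mat_pow (g : OG m F a b) (k : ℕ) : mat (g ^ k) = mat g ^ k := by
  induction k with
  | zero => rw [pow_zero, pow_zero, mat_one]
  | succ k ih => rw [pow_succ, pow_succ, mat_mul, ih]

theorem c8_ker_isPGroup (p : ℕ) [Fact p.Prime] [CharP F p] :
    IsPGroup p ↥(c8_delta (m := m) (F := F) (a := a) (b := b)).ker := by
  intro g
  refine ⟨2 * m + 1, ?_⟩
  have h1 := (c8_mem_ker_iff g.1).1 g.2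
  have h2 := c8_unitri_pow p (mat g.1.1) (c8_upper_of_mem g.1.2) h1
  apply Subtype.ext
  apply Subtype.ext
  apply mat_injective
  rw [Subgroup.coe_pow, Subgroup.coe_pow, c8_mat_pow]
  exact h2

/-- `|B : T|` is a power of `p` -/
theorem relIndex_T_B [Fintype F] (p : ℕ) [Fact p.Prime] [CharP F p] :
    ∃ k : ℕ, (Tsub m F a b).relIndex (Bsub m F a b) = p ^ k := by
  classical
  have : Finite (OG m F a b) := Finite.of_injective mat mat_injective
  have h1 : (Tsub m F a b).relIndex (Bsub m F a b) =
      Nat.card ↥(c8_delta (m := m) (F := F) (a := a) (b := b)).ker :=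
    (c8_isComplement (m := m) (F := F) (a := a) (b := b)).index_eq_card
  rw [h1]
  exact (IsPGroup.iff_card).mp (c8_ker_isPGroup p)

/-- triangular = unipotent times block diagonal (upper triangular case) -/
theorem exists_diag_unip [Fintype F] (p : ℕ) [Fact p.Prime] [CharP F p] (g : OG m F a b)
    (hg : g ∈ Bsub m F a b) : ∃ d ∈ Tsub m F a b, ∃ k : ℕ, (g * d⁻¹) ^ (p ^ k) = 1 := by
  refine ⟨c8_dG g hg, c8_dG_mem_T g hg, 2 * m + 1, ?_⟩
  have hk : (⟨g, hg⟩ : ↥(Bsub m F a b)) * (c8_delta ⟨g, hg⟩)⁻¹ ∈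
      (c8_delta (m := m) (F := F) (a := a) (b := b)).ker := by
    rw [MonoidHom.mem_ker, map_mul, map_inv, c8_delta_delta, mul_inv_cancel]
  have h1 := (c8_mem_ker_iff _).1 hk
  have h2 := c8_unitri_pow p _ (c8_upper_of_mem
    ((⟨g, hg⟩ : ↥(Bsub m F a b)) * (c8_delta ⟨g, hg⟩)⁻¹).2) h1
  apply mat_injective
  rw [c8_mat_pow, mat_one]
  exact h2

end Cfsg.Agent.Lib.Helper90.StOm
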