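import Mathlib
import Cfsg.Agent.Lib.Helper53.StOmDefs
import Cfsg.Agent.Lib.Helper90.StOmC8

/-!
K-StOm (S2549 pack, architect helper53), C8a-type leaf, lower triangular case:
`b ∈ B⁻` is (unipotent) times (block diagonal), for the isometries of `quadFormMinus m F a b`.
Built on `Cfsg.Agent.Lib.Helper90.StOmC8`.
-/

set_option autoImplicit false
set_option linter.unusedSectionVars false
set_option linter.unusedVariables false

namespace Cfsg.Agent.Lib.Helper90.StOm

open Cfsg Cfsg.Agent.Lib.Helper53.StOm Matrix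

variable {m : ℕ} {F : Type*} [Field F] {a b : F}

theorem c8a_lower_of_mem {g : OG m F a b} (hg : g ∈ Bminus m F a b) :
    ∀ x y, pos m x < pos m y → mat g x y = 0 :=
  (mem_Bminus_iff g).1 hg

theorem c8a_D_transpose (A : Matrix (MI m) (MI m) F) : c8_D Aᵀ = (c8_D A)ᵀ := by
  ext x y
  rw [Matrix.transpose_apply, c8_D_apply, c8_D_apply, Matrix.transpose_apply]
  by_cases h : pos m x = pos m y
  · rw [if_pos h, if_pos h.symm]
  · rw [if_neg h, if_neg (fun h' => h h'.symm)]

/-- block lower triangular matrices: the block diagonal part is multiplicative -/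
theorem c8a_D_mul (A A' : Matrix (MI m) (MI m) F)
    (hA : ∀ x y, pos m x < pos m y → A x y = 0) (hA' : ∀ x y, pos m x < pos m y → A' x y = 0) :
    c8_D (A * A') = c8_D A * c8_D A' := by
  have h := c8_D_mul A'ᵀ Aᵀ (fun x y hxy => by rw [Matrix.transpose_apply]; exact hA' y x hxy)
    (fun x y hxy => by rw [Matrix.transpose_apply]; exact hA y x hxy)
  rw [← Matrix.transpose_mul, c8a_D_transpose, c8a_D_transpose, c8a_D_transpose,
    ← Matrix.transpose_mul] at h
  exact Matrix.transpose_injective h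

/-- the `z`-block of a lower triangular isometry preserves the binary form -/
theorem c8a_block_z (g : OG m F a b) (hg : g ∈ Bminus m F a b) (s t : F) :
    phi a b (mat g (zI 0) (zI 0) * s + mat g (zI 0) (zI 1) * t)
      (mat g (zI 1) (zI 0) * s + mat g (zI 1) (zI 1) * t) = phi a b s t := by
  have hA := c8a_lower_of_mem hg
  have h := quad_mulVec g (s • Pi.single (zI 0) 1 + t • Pi.single (zI 1) 1)
  rw [Matrix.mulVec_add, Matrix.mulVec_smul, Matrix.mulVec_smul, c8_mulVec_single,
    c8_mulVec_single] at h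
  unfold Cfsg.quadFormMinus at h
  have f0 : ∀ (i : Fin m) (j : Fin 2), mat g (Sum.inl (Sum.inl i)) (zI j) = 0 := by
    intro i j
    apply hA
    show i.val < m
    exact i.2
  have e1 : ∀ (i : Fin m), (s • Pi.single (zI 0) (1 : F) + t • Pi.single (zI 1) (1 : F) :
      MI m → F) (Sum.inl (Sum.inl i)) = 0 := by
    intro i
    simp [Pi.single_apply]
  simp only [Pi.add_apply, Pi.smul_apply, smul_eq_mul, f0, mul_zero, add_zero, zero_mul,
    Finset.sum_const_zero, zero_add] at h
  unfold phi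
  have h' := h
  simp only [Pi.single_apply] at h'
  simp only [show ((Sum.inr 0 : MI m) = zI 0) from rfl, show ((Sum.inr 1 : MI m) = zI 1) from rfl,
    if_true] at h'
  simp at h'
  linear_combination h'

/-- the diagonal entries at `e_i`, `f_i` of a lower triangular isometry are inverse to each other -/
theorem c8a_diag_ef (g : OG m F a b) (hg : g ∈ Bminus m F a b) (i : Fin m) :
    mat g (eI i) (eI i) * mat g (fI i) (fI i) = 1 := by
  have hA := c8a_lower_of_mem hg
  have h1 := quad_mulVec g (Pi.single (eI i) 1 + Pi.single (fI i) 1)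
  have h2 := quad_mulVec g (Pi.single (eI i) 1)
  rw [Matrix.mulVec_add, c8_mulVec_single, c8_mulVec_single] at h1
  rw [c8_mulVec_single] at h2
  unfold Cfsg.quadFormMinus at h1 h2
  -- right hand sides
  have r1 : (∑ j : Fin m, (Pi.single (eI i) (1 : F) + Pi.single (fI i) (1 : F) : MI m → F)
        (Sum.inl (Sum.inl j)) *
        (Pi.single (eI i) (1 : F) + Pi.single (fI i) (1 : F) : MI m → F) (Sum.inl (Sum.inr j))) +
      ((Pi.single (eI i) (1 : F) + Pi.single (fI i) (1 : F) : MI m → F) (Sum.inr 0) ^ 2 +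
        a * (Pi.single (eI i) (1 : F) + Pi.single (fI i) (1 : F) : MI m → F) (Sum.inr 0) *
          (Pi.single (eI i) (1 : F) + Pi.single (fI i) (1 : F) : MI m → F) (Sum.inr 1) +
        b * (Pi.single (eI i) (1 : F) + Pi.single (fI i) (1 : F) : MI m → F) (Sum.inr 1) ^ 2) =
      1 := by
    rw [Finset.sum_eq_single i]
    · simp
    · intro j _ hj
      have : (Sum.inl (Sum.inl j) : MI m) ≠ eI i := fun h => hj (Sum.inl.inj (Sum.inl.inj h))
      simp [Pi.single_apply, this]
    · intro h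
      exact absurd (Finset.mem_univ i) h
  have r2 : (∑ j : Fin m, (Pi.single (eI i) (1 : F) : MI m → F) (Sum.inl (Sum.inl j)) *
        (Pi.single (eI i) (1 : F) : MI m → F) (Sum.inl (Sum.inr j))) +
      ((Pi.single (eI i) (1 : F) : MI m → F) (Sum.inr 0) ^ 2 +
        a * (Pi.single (eI i) (1 : F) : MI m → F) (Sum.inr 0) *
          (Pi.single (eI i) (1 : F) : MI m → F) (Sum.inr 1) +
        b * (Pi.single (eI i) (1 : F) : MI m → F) (Sum.inr 1) ^ 2) = 0 := by
    rw [Finset.sum_eq_zero]
    · simp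
    · intro j _
      have hz' : (Pi.single (eI i) (1 : F) : MI m → F) (Sum.inl (Sum.inr j)) = 0 := by
        rw [Pi.single_apply, if_neg (by simp)]
      rw [hz', mul_zero]
  rw [r1] at h1
  rw [r2] at h2
  -- left hand sides
  have z0 : ∀ j : Fin 2, mat g (Sum.inr j) (fI i) = 0 := by
    intro j
    apply hA
    show m < 2 * m - i.val
    have := i.2; omega
  have e0 : ∀ j : Fin m, mat g (Sum.inl (Sum.inl j)) (fI i) = 0 := by
    intro j
    apply hA
    show j.val < 2 * m - i.val
    have := i.2; have := j.2; omega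
  simp only [Pi.add_apply, z0, e0, add_zero] at h1
  have e3 : ∑ j : Fin m, mat g (Sum.inl (Sum.inl j)) (eI i) * mat g (Sum.inl (Sum.inr j)) (fI i) =
      mat g (eI i) (eI i) * mat g (fI i) (fI i) := by
    apply Finset.sum_eq_single i
    · intro j _ hj
      rcases lt_or_gt_of_ne (fun h => hj (Fin.ext h) : (j : ℕ) ≠ (i : ℕ)) with h | h
      · have : pos m (eI j) < pos m (eI i) := h
        rw [hA _ _ this, zero_mul]
      · have : pos m (fI j) < pos m (fI i) := by
          show 2 * m - j.val < 2 * m - i.val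
          have := i.2; have := j.2; omega
        rw [hA _ _ this, mul_zero]
    · intro h
      exact absurd (Finset.mem_univ i) h
  rw [← e3]
  have e4 : ∑ j : Fin m, mat g (Sum.inl (Sum.inl j)) (eI i) *
      (mat g (Sum.inl (Sum.inr j)) (eI i) + mat g (Sum.inl (Sum.inr j)) (fI i)) =
      ∑ j : Fin m, mat g (Sum.inl (Sum.inl j)) (eI i) * mat g (Sum.inl (Sum.inr j)) (eI i) +
      ∑ j : Fin m, mat g (Sum.inl (Sum.inl j)) (eI i) * mat g (Sum.inl (Sum.inr j)) (fI i) := by
    rw [← Finset.sum_add_distrib]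
    apply Finset.sum_congr rfl
    intro j _
    ring
  rw [e4] at h1
  linear_combination h1 - h2

theorem c8a_D_mul_inv (g : OG m F a b) (hg : g ∈ Bminus m F a b) :
    c8_D (mat g) * c8_D (mat g⁻¹) = 1 := by
  rw [← c8a_D_mul _ _ (c8a_lower_of_mem hg) (c8a_lower_of_mem (inv_mem hg)), mat_mul_mat_inv,
    c8_D_one]

theorem c8a_D_inv_mul (g : OG m F a b) (hg : g ∈ Bminus m F a b) :
    c8_D (mat g⁻¹) * c8_D (mat g) = 1 := by
  rw [← c8a_D_mul _ _ (c8a_lower_of_mem (inv_mem hg)) (c8a_lower_of_mem hg), mat_inv_mul_mat,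
    c8_D_one]

/-- the block diagonal part of an element of `B⁻`, as an element of the group -/
def c8a_dG (g : OG m F a b) (hg : g ∈ Bminus m F a b) : OG m F a b :=
  ⟨⟨c8_D (mat g), c8_D (mat g⁻¹), c8a_D_mul_inv g hg, c8a_D_inv_mul g hg⟩,
    fun u _ => c8_D_pres_of (mat g) (c8a_block_z g hg) (c8a_diag_ef g hg) u⟩

theorem c8a_mat_dG (g : OG m F a b) (hg : g ∈ Bminus m F a b) :
    mat (c8a_dG g hg) = c8_D (mat g) := rfl

theorem c8a_dG_mem_T (g : OG m F a b) (hg : g ∈ Bminus m F a b) :
    c8a_dG g hg ∈ Tsub m F a b := by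
  rw [mem_Tsub_iff]
  intro x y hxy
  rw [c8a_mat_dG, c8_D_apply, if_neg hxy]

/-- a block lower unitriangular matrix has `p`-power order in characteristic `p` -/
theorem c8a_unitri_pow (p : ℕ) [Fact p.Prime] [CharP F p]
    (A : Matrix (MI m) (MI m) F)
    (hA : ∀ x y, pos m x < pos m y → A x y = 0) (hA1 : c8_D A = 1) :
    A ^ (p ^ (2 * m + 1)) = 1 := by
  have h := c8_unitri_pow p Aᵀ (fun x y hxy => by rw [Matrix.transpose_apply]; exact hA y x hxy)
    (by rw [c8a_D_transpose, hA1, Matrix.transpose_one])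
  rw [← Matrix.transpose_pow] at h
  have h' := congrArg Matrix.transpose h
  rw [Matrix.transpose_transpose, Matrix.transpose_one] at h'
  exact h'

/-- triangular = unipotent times block diagonal (lower triangular case) -/
theorem exists_diag_unip_minus [Fintype F] (p : ℕ) [Fact p.Prime] [CharP F p] (g : OG m F a b)
    (hg : g ∈ Bminus m F a b) : ∃ d ∈ Tsub m F a b, ∃ k : ℕ, (g * d⁻¹) ^ (p ^ k) = 1 := by
  refine ⟨c8a_dG g hg, c8a_dG_mem_T g hg, 2 * m + 1, ?_⟩
  apply mat_injective
  rw [c8_mat_pow, mat_one]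
  have hdB : c8a_dG g hg ∈ Bminus m F a b := (c8a_dG_mem_T g hg).2
  have hdiB : (c8a_dG g hg)⁻¹ ∈ Bminus m F a b := inv_mem hdB
  have hu : g * (c8a_dG g hg)⁻¹ ∈ Bminus m F a b := mul_mem hg hdiB
  apply c8a_unitri_pow p _ (c8a_lower_of_mem hu)
  rw [mat_mul, c8a_D_mul _ _ (c8a_lower_of_mem hg) (c8a_lower_of_mem hdiB)]
  have h1 : c8_D (mat g) = c8_D (mat (c8a_dG g hg)) := by
    rw [c8a_mat_dG, c8_D_D]
  rw [h1, ← c8a_D_mul _ _ (c8a_lower_of_mem hdB) (c8a_lower_of_mem hdiB), mat_mul_mat_inv,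
    c8_D_one]

end Cfsg.Agent.Lib.Helper90.StOm
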