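import Mathlib
import Cfsg.Agent.Lib.Helper88.FusionFactor6
import Cfsg.Agent.Lib.Helper90.FusionNormal
import Cfsg.Agent.Lib.Helper90.Involves

set_option autoImplicit false

/-!
Factor systems `F/Q` (`Q` normal in `F`): full preimages of fully normalized / centric subgroups of `F/Q` are fully
normalized / centric in `F`.
-/

namespace Cfsg.Agent.Lib.Helper90.QM

open Cfsg Cfsg.FusionSystem
open Cfsg.Agent.Lib.Helper87 (hom_le hom_mem finite_of_le card_le_of_le normalizerIn_le mem_centralizerIn)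
open Cfsg.Agent.Lib.Helper88 (mem_preimageAlong preimageAlong_le kernel_le_preimageAlong exists_preimage
  preimageAlong_range exists_inducedAlong resHom resHom_coe resHom_surjective resHom_eq_one_iff
  mem_normalizer_preimageAlong)

universe u v w

variable {Ω : Type u} [Group Ω] {S : Subgroup Ω} {Ω' : Type v} [Group Ω'] {S' : Subgroup Ω'}

/-- a group surjecting onto a group involving `H` involves `H` -/
theorem involves_of_surjective {H : Type w} [Group H] {G : Type u} [Group G] {G' : Type v} [Group G']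
    (π : G →* G') (hπ : Function.Surjective π) (h : Cfsg.Involves H G') : Cfsg.Involves H G := by
  obtain ⟨K', f, hf⟩ := Cfsg.Agent.Lib.Helper90.exists_hom_of_involves h
  refine Cfsg.Agent.Lib.Helper90.involves_of_hom (K'.comap π).subtype (f.comp (π.subgroupComap K'))
    (Subgroup.subtype_injective _) ?_
  intro x
  obtain ⟨k, hk⟩ := hf x
  obtain ⟨g, hg⟩ := hπ k
  refine ⟨⟨g, ?_⟩, ?_⟩
  · show π g ∈ K'
    rw [hg]
    exact k.2
  · show f (π.subgroupComap K' ⟨g, _⟩) = x
    rw [← hk]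
    congr 1
    exact Subtype.ext hg

/-- order of a full preimage -/
theorem card_preimageAlong [Finite S] (θ : S →* Ω') {Q : Subgroup Ω} (hQS : Q ≤ S)
    (hker : ∀ s : S, θ s = 1 ↔ (s : Ω) ∈ Q) (hrange : θ.range = S') {P' : Subgroup Ω'} (hP' : P' ≤ S') :
    Nat.card (preimageAlong θ P') = Nat.card Q * Nat.card P' := by
  have hfin : Finite ↥(preimageAlong θ P') := finite_of_le (preimageAlong_le θ P')
  have hQle : Q ≤ preimageAlong θ P' := kernel_le_preimageAlong θ hQS hker P'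
  have hkereq : (resHom θ P').ker = Q.subgroupOf (preimageAlong θ P') := by
    ext x
    rw [MonoidHom.mem_ker, resHom_eq_one_iff θ hker P' x, Subgroup.mem_subgroupOf]
  have h1 := Subgroup.card_eq_card_quotient_mul_card_subgroup (resHom θ P').ker
  have h2 : Nat.card (↥(preimageAlong θ P') ⧸ (resHom θ P').ker) = Nat.card P' :=
    Nat.card_congr (QuotientGroup.quotientKerEquivOfSurjective _ (resHom_surjective θ hrange hP')).toEquiv
  have h3 : Nat.card (resHom θ P').ker = Nat.card Q := by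
    rw [hkereq]
    exact Nat.card_congr (Subgroup.subgroupOfEquivOfLe hQle).toEquiv
  rw [h1, h2, h3, mul_comm]

/-- the normalizer of a full preimage is the full preimage of the normalizer -/
theorem normalizerIn_preimageAlong [Finite S] (θ : S →* Ω') (hrange : θ.range = S') {P' : Subgroup Ω'}
    (hP' : P' ≤ S') :
    normalizerIn S (preimageAlong θ P') = preimageAlong θ (normalizerIn S' P') := by
  have hfinS' : Finite ↥S' := by
    rw [← hrange]
    exact Finite.of_surjective θ.rangeRestrict θ.rangeRestrict_surjective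
  have hfinP' : Finite ↥P' := Finite.of_injective (Subgroup.inclusion hP') (Subgroup.inclusion_injective _)
  ext x
  rw [mem_preimageAlong]
  constructor
  · rintro ⟨hxS, hxN⟩
    refine ⟨hxS, ?_, ?_⟩
    · rw [← hrange]
      exact ⟨_, rfl⟩
    · apply Cfsg.Agent.Lib.Helper87.mem_normalizer_of_conj_mem
      intro y hy
      obtain ⟨s, hsS, hsP, hs⟩ := exists_preimage θ hrange hP' ⟨y, hy⟩
      have hs' : θ ⟨s, hsS⟩ = y := hs
      have h1 : x * s * x⁻¹ ∈ preimageAlong θ P' := (Subgroup.mem_normalizer_iff.mp hxN s).mp hsP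
      obtain ⟨h2, h3⟩ := (mem_preimageAlong θ P' _).mp h1
      have e : (⟨x * s * x⁻¹, h2⟩ : S) = ⟨x, hxS⟩ * ⟨s, hsS⟩ * ⟨x, hxS⟩⁻¹ := rfl
      rw [e, map_mul, map_mul, map_inv, hs'] at h3
      exact h3
  · rintro ⟨hxS, -, hxN⟩
    exact ⟨hxS, mem_normalizer_preimageAlong θ hxS hxN⟩

variable [Finite S] (F : FusionSystem S) {Q : Subgroup Ω} (θ : S →* Ω') (E : FusionSystem S')

/-- conjugates of a full preimage are full preimages of conjugates -/
theorem isConj_preimageAlong (hQ : F.StronglyClosed Q) (hE : F.IsFactorSystem Q θ E) {R' : Subgroup Ω'}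
    (hR'S' : R' ≤ S') {R₁ : Subgroup Ω} (h : F.IsConj (preimageAlong θ R') R₁) :
    ∃ R₁' : Subgroup Ω', E.IsConj R' R₁' ∧ R₁ = preimageAlong θ R₁' ∧ R₁' ≤ S' := by
  obtain ⟨φ, hφ, rfl⟩ := h
  obtain ⟨φ', hind⟩ := exists_inducedAlong F hQ θ hE.2.1 hE.2.2.1 hR'S' hφ
  have hφ' : φ' ∈ E.Hom R' := (hE.2.2.2 R' φ').mpr ⟨hR'S', φ, hφ, hind⟩
  refine ⟨φ'.range, ⟨φ', hφ', rfl⟩, preimageAlong_range F hQ θ hE.2.1 hE.2.2.1 hR'S' hφ hind, ?_⟩
  rintro _ ⟨y, rfl⟩
  exact (E.le_of_mem hφ').2 y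

/-- the full preimage of a fully normalized subgroup of the factor system is fully normalized -/
theorem isFullyNormalized_preimageAlong (hQ : F.StronglyClosed Q) (hE : F.IsFactorSystem Q θ E)
    {R' : Subgroup Ω'} (hR' : E.IsFullyNormalized R') : F.IsFullyNormalized (preimageAlong θ R') := by
  refine ⟨preimageAlong_le θ R', fun R₁ hconj => ?_⟩
  obtain ⟨R₁', hconj', rfl, hR₁'S'⟩ := isConj_preimageAlong F θ E hQ hE hR'.1 hconj
  rw [normalizerIn_preimageAlong θ hE.2.2.1 hR'.1, normalizerIn_preimageAlong θ hE.2.2.1 hR₁'S',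
    card_preimageAlong θ hE.1 hE.2.1 hE.2.2.1 (normalizerIn_le S' R'),
    card_preimageAlong θ hE.1 hE.2.1 hE.2.2.1 (normalizerIn_le S' R₁')]
  exact Nat.mul_le_mul_left _ (hR'.2 R₁' hconj')

/-- the full preimage of a centric subgroup of the factor system is centric -/
theorem isCentric_preimageAlong (hQ : F.StronglyClosed Q) (hE : F.IsFactorSystem Q θ E)
    {R' : Subgroup Ω'} (hR' : E.IsCentric R') : F.IsCentric (preimageAlong θ R') := by
  refine ⟨preimageAlong_le θ R', fun R₁ hconj => ?_⟩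
  obtain ⟨R₁', hconj', rfl, hR₁'S'⟩ := isConj_preimageAlong F θ E hQ hE hR'.1 hconj
  intro c hc
  obtain ⟨hcS, hcc⟩ := mem_centralizerIn.mp hc
  rw [mem_preimageAlong]
  refine ⟨hcS, hR'.2 R₁' hconj' ?_⟩
  rw [mem_centralizerIn]
  refine ⟨?_, fun y hy => ?_⟩
  · rw [← hE.2.2.1]
    exact ⟨_, rfl⟩
  · obtain ⟨s, hsS, hsP, hs⟩ := exists_preimage θ hE.2.2.1 hR₁'S' ⟨y, hy⟩
    have hs' : θ ⟨s, hsS⟩ = y := hs
    have h1 : s * c = c * s := hcc s hsP
    have h2 : (⟨s, hsS⟩ : S) * ⟨c, hcS⟩ = ⟨c, hcS⟩ * ⟨s, hsS⟩ := Subtype.ext h1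
    rw [← hs', ← map_mul, h2, map_mul]

end Cfsg.Agent.Lib.Helper90.QM
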