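import Mathlib
import Cfsg.Agent.Lib.Helper90.QuotModel1

set_option autoImplicit false

/-!
The normalizer system of a full preimage, modulo the kernel, is the normalizer system in the factor system:
`N_F(R)/Q = N_{F/Q}(R/Q)`.
-/

namespace Cfsg.Agent.Lib.Helper90.QM

open Cfsg Cfsg.FusionSystem
open Cfsg.Agent.Lib.Helper87 (hom_le hom_mem finite_of_le normalizerIn_le)
open Cfsg.Agent.Lib.Helper88 (mem_preimageAlong preimageAlong_le kernel_le_preimageAlong exists_preimage
  exists_inducedAlong preimageAlong_mono restrict_mem)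

universe u v

variable {Ω : Type u} [Group Ω] {S : Subgroup Ω} {Ω' : Type v} [Group Ω'] {S' : Subgroup Ω'}

/-- an injective homomorphism mapping a finite subgroup into itself maps it onto itself -/
theorem map_subgroupOf_eq_of_forall_mem {A R : Subgroup Ω} [Finite R] (hRA : R ≤ A) (ψ : A →* Ω)
    (hinj : Function.Injective ψ) (h : ∀ r : A, (r : Ω) ∈ R → ψ r ∈ R) : (R.subgroupOf A).map ψ = R := by
  have hle : (R.subgroupOf A).map ψ ≤ R := by
    rintro _ ⟨r, hr, rfl⟩
    exact h r hr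
  refine Subgroup.eq_of_le_of_card_ge hle ?_
  rw [Subgroup.card_map_of_injective hinj]
  exact (Nat.card_congr (Subgroup.subgroupOfEquivOfLe hRA).toEquiv).ge

/-- full preimages along a restriction -/
theorem preimageAlong_comp_inclusion (θ : S →* Ω') {T : Subgroup Ω} (hTS : T ≤ S) (T' : Subgroup Ω')
    (hT : T = preimageAlong θ T') {P' : Subgroup Ω'} (hP' : P' ≤ T') :
    preimageAlong (θ.comp (Subgroup.inclusion hTS)) P' = preimageAlong θ P' := by
  ext x
  rw [mem_preimageAlong, mem_preimageAlong]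
  constructor
  · rintro ⟨hxT, h⟩
    exact ⟨hTS hxT, h⟩
  · rintro ⟨hxS, h⟩
    have hxT : x ∈ T := by
      rw [hT, mem_preimageAlong]
      exact ⟨hxS, hP' h⟩
    exact ⟨hxT, h⟩

/-- the full preimage of a join -/
theorem preimageAlong_sup (θ : S →* Ω') (hrange : θ.range = S') {P' R' : Subgroup Ω'} (hP' : P' ≤ S')
    (hR' : R' ≤ S') : preimageAlong θ P' ⊔ preimageAlong θ R' = preimageAlong θ (P' ⊔ R') := by
  unfold preimageAlong
  rw [← Subgroup.map_sup, Subgroup.comap_sup_eq_of_le_range θ (hrange ▸ hP') (hrange ▸ hR')]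

variable [Finite S] (F : FusionSystem S) {Q : Subgroup Ω} (θ : S →* Ω') (E : FusionSystem S')

set_option maxHeartbeats 1000000 in
/-- `N_F(R)/Q = N_{F/Q}(R/Q)` for the full preimage `R` of `R/Q` -/
theorem isFactorSystem_normalizer (hQ : F.StronglyClosed Q) (hE : F.IsFactorSystem Q θ E) {R' : Subgroup Ω'}
    (hR' : R' ≤ S') (N : FusionSystem (normalizerIn S (preimageAlong θ R')))
    (hN : F.IsNormalizerSystem (preimageAlong θ R') N)
    (N' : FusionSystem (normalizerIn S' R')) (hN' : E.IsNormalizerSystem R' N') :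
    N.IsFactorSystem Q (θ.comp (Subgroup.inclusion (normalizerIn_le S (preimageAlong θ R')))) N' := by
  obtain ⟨hQS, hker, hrange, hiff⟩ := hE
  have hTeq : normalizerIn S (preimageAlong θ R') = preimageAlong θ (normalizerIn S' R') :=
    normalizerIn_preimageAlong θ hrange hR'
  have hTS : normalizerIn S (preimageAlong θ R') ≤ S := normalizerIn_le S _
  have hT'S' : normalizerIn S' R' ≤ S' := normalizerIn_le S' R'
  haveI : Finite ↥(preimageAlong θ R') := finite_of_le (preimageAlong_le θ R')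
  refine ⟨?_, ?_, ?_, ?_⟩
  · intro q hq
    rw [hTeq, mem_preimageAlong]
    refine ⟨hQS hq, ?_⟩
    rw [(hker ⟨q, hQS hq⟩).mpr hq]
    exact one_mem _
  · intro t
    exact hker (Subgroup.inclusion hTS t)
  · ext y
    constructor
    · rintro ⟨t, rfl⟩
      have h0 : (t : Ω) ∈ preimageAlong θ (normalizerIn S' R') := hTeq ▸ t.2
      rw [mem_preimageAlong] at h0
      obtain ⟨h1, h2⟩ := h0
      exact h2
    · intro hy
      have hyS' : y ∈ S' := hT'S' hy
      rw [← hrange] at hyS'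
      obtain ⟨s, rfl⟩ := hyS'
      have hsT : (s : Ω) ∈ normalizerIn S (preimageAlong θ R') := by
        rw [hTeq, mem_preimageAlong]
        exact ⟨s.2, hy⟩
      exact ⟨⟨s, hsT⟩, rfl⟩
  · intro P' φ'
    constructor
    · intro h
      rw [hN' P'] at h
      obtain ⟨hφ'E, hP'T', hφ'T', ψ', hψ', hext', hmap'⟩ := h
      have hP'S' : P' ≤ S' := hP'T'.trans hT'S'
      refine ⟨hP'T', ?_⟩
      obtain ⟨hsupS', ψ, hψ, hD, hψS, hDsup, hind⟩ := (hiff (P' ⊔ R') ψ').mp hψ'
      have key : ∀ P : Subgroup Ω, P = preimageAlong θ P' → ∃ φ ∈ N.Hom P,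
          InducedAlong (θ.comp (Subgroup.inclusion hTS)) φ φ' := by
        rintro P rfl
        have hPD : preimageAlong θ P' ≤ preimageAlong θ (P' ⊔ R') := preimageAlong_mono θ le_sup_left
        have hRD : preimageAlong θ R' ≤ preimageAlong θ (P' ⊔ R') := preimageAlong_mono θ le_sup_right
        have hPT : preimageAlong θ P' ≤ normalizerIn S (preimageAlong θ R') := by
          rw [hTeq]
          exact preimageAlong_mono θ hP'T'
        have hψR : ∀ r : ↥(preimageAlong θ (P' ⊔ R')), (r : Ω) ∈ preimageAlong θ R' →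
            ψ r ∈ preimageAlong θ R' := by
          intro r hr
          rw [mem_preimageAlong]
          refine ⟨hψS r, ?_⟩
          rw [← hind r]
          obtain ⟨hr1, hr2⟩ := (mem_preimageAlong θ R' _).mp hr
          have h1 : ψ' ⟨θ ⟨r, hD r.2⟩, hDsup r⟩ ∈ (R'.subgroupOf (P' ⊔ R')).map ψ' := ⟨_, hr2, rfl⟩
          rw [hmap'] at h1
          exact h1
        have hφF : ψ.comp (Subgroup.inclusion hPD) ∈ F.Hom (preimageAlong θ P') := restrict_mem F hPD hψ
        have hxP' : ∀ x : ↥(preimageAlong θ P'), θ ⟨x, hD (hPD x.2)⟩ ∈ P' := by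
          intro x
          obtain ⟨h1, h2⟩ := (mem_preimageAlong θ P' _).mp x.2
          exact h2
        have hφval : ∀ x : ↥(preimageAlong θ P'),
            φ' ⟨θ ⟨x, hD (hPD x.2)⟩, hxP' x⟩ = θ ⟨ψ (Subgroup.inclusion hPD x), hψS _⟩ := by
          intro x
          rw [← hind (Subgroup.inclusion hPD x), ← hext' ⟨θ ⟨x, hD (hPD x.2)⟩, hxP' x⟩]
          rfl
        have hφT : ∀ x : ↥(preimageAlong θ P'),
            (ψ.comp (Subgroup.inclusion hPD)) x ∈ normalizerIn S (preimageAlong θ R') := by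
          intro x
          rw [hTeq, mem_preimageAlong]
          refine ⟨hψS _, ?_⟩
          show θ ⟨ψ (Subgroup.inclusion hPD x), hψS _⟩ ∈ _
          rw [← hφval]
          exact hφ'T' _
        refine ⟨ψ.comp (Subgroup.inclusion hPD), ?_, hPT, hφT, hxP', hφval⟩
        rw [hN]
        refine ⟨hφF, hPT, hφT, ψ.comp (Subgroup.inclusion (sup_le hPD hRD)), restrict_mem F _ hψ,
          fun x => rfl, ?_⟩
        apply map_subgroupOf_eq_of_forall_mem le_sup_right _
          (F.injective_of_mem (restrict_mem F (sup_le hPD hRD) hψ))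
        intro r hr
        exact hψR _ hr
      exact key _ (preimageAlong_comp_inclusion θ hTS _ hTeq hP'T')
    · rintro ⟨hP'T', φ, hφ, hind⟩
      have hP'S' : P' ≤ S' := hP'T'.trans hT'S'
      have hsupS' : P' ⊔ R' ≤ S' := sup_le hP'S' hR'
      have key : ∀ P : Subgroup Ω, P = preimageAlong θ P' → ∀ φ : P →* Ω, φ ∈ N.Hom P →
          InducedAlong (θ.comp (Subgroup.inclusion hTS)) φ φ' → φ' ∈ N'.Hom P' := by
        rintro P rfl φ hφ ⟨hPT, hφT, hPP', hind⟩
        rw [hN] at hφ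
        obtain ⟨hφF, -, -, ψ, hψ, hext, hmap⟩ := hφ
        have hindθ : InducedAlong θ φ φ' := ⟨preimageAlong_le θ P', fun x => hTS (hφT x), hPP', hind⟩
        have hφ'E : φ' ∈ E.Hom P' := (hiff P' φ').mpr ⟨hP'S', φ, hφF, hindθ⟩
        have key2 : ∀ D : Subgroup Ω, D = preimageAlong θ (P' ⊔ R') → ∀ ψ : D →* Ω, ψ ∈ F.Hom D →
            ∃ ψ' : ↥(P' ⊔ R') →* Ω', InducedAlong θ ψ ψ' ∧ ψ' ∈ E.Hom (P' ⊔ R') := by
          rintro D rfl ψ hψ
          obtain ⟨ψ', hψ'⟩ := exists_inducedAlong F hQ θ hker hrange hsupS' hψ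
          exact ⟨ψ', hψ', (hiff _ ψ').mpr ⟨hsupS', ψ, hψ, hψ'⟩⟩
        obtain ⟨ψ', ⟨hD, hψS, hDsup, hindψ⟩, hψ'E⟩ := key2 _ (preimageAlong_sup θ hrange hP'S' hR') ψ hψ
        -- values of `φ'` and `ψ'`
        have hφ'val : ∀ (s : Ω) (hsP : s ∈ preimageAlong θ P') (y : P'), θ ⟨s, hTS (hPT hsP)⟩ = (y : Ω') →
            φ' y = θ ⟨φ ⟨s, hsP⟩, hTS (hφT ⟨s, hsP⟩)⟩ := by
          intro s hsP y hsy
          have h4 : (⟨θ ⟨s, hTS (hPT hsP)⟩, hPP' ⟨s, hsP⟩⟩ : P') = y := Subtype.ext hsy
          have h3 := hind ⟨s, hsP⟩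
          rw [← h4]
          exact h3
        have hψ'val : ∀ (s : Ω) (hsD : s ∈ preimageAlong θ P' ⊔ preimageAlong θ R') (y : ↥(P' ⊔ R')),
            θ ⟨s, hD hsD⟩ = (y : Ω') → ψ' y = θ ⟨ψ ⟨s, hsD⟩, hψS ⟨s, hsD⟩⟩ := by
          intro s hsD y hsy
          have h4 : (⟨θ ⟨s, hD hsD⟩, hDsup ⟨s, hsD⟩⟩ : ↥(P' ⊔ R')) = y := Subtype.ext hsy
          have h3 := hindψ ⟨s, hsD⟩
          rw [← h4]
          exact h3
        rw [hN']
        refine ⟨hφ'E, hP'T', ?_, ψ', hψ'E, ?_, ?_⟩
        · intro y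
          obtain ⟨s, hs, hsP, hsy⟩ := exists_preimage θ hrange hP'S' y
          rw [hφ'val s hsP y hsy]
          have h0 : φ ⟨s, hsP⟩ ∈ preimageAlong θ (normalizerIn S' R') := hTeq ▸ hφT ⟨s, hsP⟩
          rw [mem_preimageAlong] at h0
          exact h0.2
        · intro y
          obtain ⟨s, hs, hsP, hsy⟩ := exists_preimage θ hrange hP'S' y
          rw [hφ'val s hsP y hsy, hψ'val s (le_sup_left (a := preimageAlong θ P') hsP) _ hsy]
          have h6 := hext ⟨s, hsP⟩
          congr 1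
          exact Subtype.ext h6
        · ext z
          constructor
          · rintro ⟨y, hy, rfl⟩
            have hy' : (y : Ω') ∈ R' := hy
            obtain ⟨s, hs, hsR, hsy⟩ := exists_preimage θ hrange hR' ⟨(y : Ω'), hy'⟩
            rw [hψ'val s (le_sup_right (b := preimageAlong θ R') hsR) y hsy]
            have h7 : ψ ⟨s, le_sup_right (b := preimageAlong θ R') hsR⟩ ∈
                (((preimageAlong θ R').subgroupOf (preimageAlong θ P' ⊔ preimageAlong θ R')).map ψ) :=
              ⟨_, hsR, rfl⟩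
            rw [hmap, mem_preimageAlong] at h7
            exact h7.2
          · intro hz
            obtain ⟨s, hs, hsR, hsy⟩ := exists_preimage θ hrange hR' ⟨z, hz⟩
            have h7 : s ∈ (((preimageAlong θ R').subgroupOf (preimageAlong θ P' ⊔ preimageAlong θ R')).map ψ) := by
              rw [hmap]
              exact hsR
            obtain ⟨r₀, hr₀, hr₀s⟩ := h7
            have hr₀' : (r₀ : Ω) ∈ preimageAlong θ R' := hr₀
            obtain ⟨h8, h9⟩ := (mem_preimageAlong θ R' _).mp hr₀'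
            refine ⟨⟨θ ⟨r₀, h8⟩, le_sup_right (b := R') h9⟩, h9, ?_⟩
            rw [hψ'val r₀ r₀.2 _ rfl]
            have hsy' : θ ⟨s, hs⟩ = z := hsy
            rw [← hsy']
            congr 1
            exact Subtype.ext hr₀s
      exact key _ (preimageAlong_comp_inclusion θ hTS _ hTeq hP'T') φ hφ hind

end Cfsg.Agent.Lib.Helper90.QM
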