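import Mathlib

/-!
# K-TH (S1632, architect helper94): one-dimensional Gaussian sums, bounded uniformly in a real shift

`gauss_unif`: for `α > 0` there is `C` with `∑_k exp(-α (k - s)² + β (k - s)) ≤ C` for ALL real `s`.
`cgauss_unif`: the same for `‖cexp (c (k - w - s)²)‖`, `Re c < 0`, `w` complex, `s` real.
-/

set_option autoImplicit false
set_option linter.unusedSimpArgs false

namespace Cfsg.Agent.Lib.Helper90.TH

open Complex

/-- the dominating family is summable -/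
theorem gauss_dom_summable (α : ℝ) (hα : 0 < α) (S : ℝ) :
    Summable (fun n : ℤ => Real.exp (-α * (n : ℝ) ^ 2 + S * |(n : ℝ)|)) := by
  have h := summable_pow_mul_jacobiTheta₂_term_bound (S / (2 * Real.pi)) (T := α / Real.pi)
    (div_pos hα Real.pi_pos) 0
  refine h.congr ?_
  intro n
  have hpi : Real.pi ≠ 0 := Real.pi_ne_zero
  simp only [pow_zero, one_mul, Int.cast_abs]
  congr 1
  field_simp
  ring

/-- Gaussian sums over `ℤ` are bounded uniformly in a real shift -/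
theorem gauss_unif (α : ℝ) (hα : 0 < α) (β : ℝ) :
    ∃ C : ℝ, ∀ s : ℝ,
      Summable (fun k : ℤ => Real.exp (-α * ((k : ℝ) - s) ^ 2 + β * ((k : ℝ) - s))) ∧
      ∑' k : ℤ, Real.exp (-α * ((k : ℝ) - s) ^ 2 + β * ((k : ℝ) - s)) ≤ C := by
  have hD : Summable (fun n : ℤ => Real.exp |β| *
      Real.exp (-α * (n : ℝ) ^ 2 + (2 * α + |β|) * |(n : ℝ)|)) :=
    (gauss_dom_summable α hα (2 * α + |β|)).mul_left _
  refine ⟨∑' n : ℤ, Real.exp |β| * Real.exp (-α * (n : ℝ) ^ 2 + (2 * α + |β|) * |(n : ℝ)|), ?_⟩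
  intro s
  obtain ⟨j, hj⟩ : ∃ j : ℤ, j = ⌊s⌋ := ⟨_, rfl⟩
  obtain ⟨f, hf⟩ : ∃ f : ℝ, f = s - (j : ℝ) := ⟨_, rfl⟩
  have hf0 : 0 ≤ f := by rw [hf, hj]; linarith [Int.floor_le s]
  have hf1 : f ≤ 1 := by rw [hf, hj]; linarith [Int.lt_floor_add_one s]
  -- the shifted family is dominated
  have hdom : ∀ k : ℤ, Real.exp (-α * (((k + j : ℤ) : ℝ) - s) ^ 2 + β * (((k + j : ℤ) : ℝ) - s)) ≤
      Real.exp |β| * Real.exp (-α * (k : ℝ) ^ 2 + (2 * α + |β|) * |(k : ℝ)|) := by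
    intro k
    rw [← Real.exp_add, Real.exp_le_exp]
    have e : ((k + j : ℤ) : ℝ) - s = (k : ℝ) - f := by rw [hf]; push_cast; ring
    rw [e]
    obtain ⟨K, hK⟩ : ∃ K : ℝ, K = (k : ℝ) := ⟨_, rfl⟩
    rw [← hK]
    have h1 : β * (K - f) ≤ |β| * (|K| + 1) := by
      calc β * (K - f) ≤ |β * (K - f)| := le_abs_self _
        _ = |β| * |K - f| := abs_mul _ _
        _ ≤ |β| * (|K| + 1) := by
          apply mul_le_mul_of_nonneg_left _ (abs_nonneg _)
          calc |K - f| ≤ |K| + |f| := abs_sub _ _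
            _ ≤ |K| + 1 := by rw [abs_of_nonneg hf0]; linarith
    have h2 : K * f ≤ |K| := by
      calc K * f ≤ |K| * f := mul_le_mul_of_nonneg_right (le_abs_self K) hf0
        _ ≤ |K| * 1 := mul_le_mul_of_nonneg_left hf1 (abs_nonneg K)
        _ = |K| := mul_one _
    have h3 : 0 ≤ α * f ^ 2 := by positivity
    have h4 : α * (K * f) ≤ α * |K| := mul_le_mul_of_nonneg_left h2 hα.le
    have e2 : -α * (K - f) ^ 2 = -α * K ^ 2 + 2 * (α * (K * f)) - α * f ^ 2 := by ring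
    rw [e2]
    nlinarith [h1, h3, h4]
  have hsum : Summable (fun k : ℤ =>
      Real.exp (-α * (((k + j : ℤ) : ℝ) - s) ^ 2 + β * (((k + j : ℤ) : ℝ) - s))) :=
    Summable.of_nonneg_of_le (fun k => (Real.exp_pos _).le) hdom hD
  have hsum' : Summable (fun k : ℤ => Real.exp (-α * ((k : ℝ) - s) ^ 2 + β * ((k : ℝ) - s))) :=
    ((Equiv.addRight j).summable_iff (f := fun k : ℤ =>
      Real.exp (-α * ((k : ℝ) - s) ^ 2 + β * ((k : ℝ) - s)))).mp hsum
  refine ⟨hsum', ?_⟩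
  have heq : ∑' k : ℤ, Real.exp (-α * ((k : ℝ) - s) ^ 2 + β * ((k : ℝ) - s)) =
      ∑' k : ℤ, Real.exp (-α * (((k + j : ℤ) : ℝ) - s) ^ 2 + β * (((k + j : ℤ) : ℝ) - s)) :=
    ((Equiv.addRight j).tsum_eq (fun k : ℤ =>
      Real.exp (-α * ((k : ℝ) - s) ^ 2 + β * ((k : ℝ) - s)))).symm
  rw [heq]
  exact Summable.tsum_le_tsum hdom hsum hD

/-- complex Gaussian sums over `ℤ` are bounded uniformly in a real shift -/
theorem cgauss_unif (c : ℂ) (hc : c.re < 0) (w : ℂ) :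
    ∃ C : ℝ, ∀ s : ℝ, Summable (fun k : ℤ => ‖cexp (c * ((k : ℂ) - w - (s : ℂ)) ^ 2)‖) ∧
      ∑' k : ℤ, ‖cexp (c * ((k : ℂ) - w - (s : ℂ)) ^ 2)‖ ≤ C := by
  obtain ⟨C, hC⟩ := gauss_unif (-c.re) (by linarith) (2 * c.im * w.im)
  have key : ∀ (s : ℝ) (k : ℤ), ‖cexp (c * ((k : ℂ) - w - (s : ℂ)) ^ 2)‖ =
      Real.exp (-c.re * w.im ^ 2) * Real.exp (-(-c.re) * ((k : ℝ) - (s + w.re)) ^ 2 +
        2 * c.im * w.im * ((k : ℝ) - (s + w.re))) := by
    intro s k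
    rw [Complex.norm_exp, ← Real.exp_add]
    congr 1
    have hu : (k : ℂ) - w - (s : ℂ) =
        (((k : ℝ) - (s + w.re) : ℝ) : ℂ) - ((w.im : ℝ) : ℂ) * I := by
      apply Complex.ext <;> simp
      ring
    rw [hu]
    simp only [pow_two, Complex.mul_re, Complex.mul_im, Complex.sub_re, Complex.sub_im,
      Complex.ofReal_re, Complex.ofReal_im, Complex.I_re, Complex.I_im, mul_zero, mul_one,
      sub_zero, zero_mul, add_zero, zero_add, zero_sub]
    ring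
  refine ⟨Real.exp (-c.re * w.im ^ 2) * C, ?_⟩
  intro s
  obtain ⟨h1, h2⟩ := hC (s + w.re)
  constructor
  · refine (h1.mul_left (Real.exp (-c.re * w.im ^ 2))).congr ?_
    intro k
    rw [key]
  · rw [tsum_congr (key s), tsum_mul_left]
    exact mul_le_mul_of_nonneg_left h2 (Real.exp_pos _).le

end Cfsg.Agent.Lib.Helper90.TH
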