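import Mathlib
import Cfsg.Agent.Lib.Helper69.StNDefs

/-!
K-StN-H2c (keystone 240121, S2401 pack, architect helper69): every element of `Nmon Y` is
(torus element) * (word in the simple reflections `sS Y a`).
-/

set_option autoImplicit false

namespace Cfsg.Agent.Lib.Helper90.StN

open Cfsg.Agent.Lib.Helper69.StN Matrix

variable {K : Type*} [Field K] {S : Type*} [Group S]
variable {k : ℕ} {Y : Fin (k + 1) → Fin (k + 1) → K → S}

/-- the set of (torus) * (word) -/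
def h2cP (Y : Fin (k + 1) → Fin (k + 1) → K → S) : Set S :=
  {m | ∃ h ∈ Htor Y, ∃ l : List (Fin k), m = h * (l.map (sS Y)).prod}

theorem h2c_word_mem_Nmon (l : List (Fin k)) : (l.map (sS Y)).prod ∈ Nmon Y := by
  apply Subgroup.list_prod_mem
  intro x hx
  rw [List.mem_map] at hx
  obtain ⟨a, _, rfl⟩ := hx
  exact sS_mem_Nmon Y a

theorem h2c_one_mem : (1 : S) ∈ h2cP Y :=
  ⟨1, Subgroup.one_mem _, [], by simp⟩

theorem h2c_Htor_mem {h : S} (hh' : h ∈ Htor Y) : h ∈ h2cP Y :=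
  ⟨h, hh', [], by simp⟩

theorem h2c_sS_mem (a : Fin k) : sS Y a ∈ h2cP Y :=
  ⟨1, Subgroup.one_mem _, [a], by simp⟩

theorem h2c_mul_mem
    (hconj : ∀ {m h : S}, m ∈ Nmon Y → h ∈ Htor Y → m * h * m⁻¹ ∈ Htor Y)
    {x y : S} (hx : x ∈ h2cP Y) (hy : y ∈ h2cP Y) : x * y ∈ h2cP Y := by
  obtain ⟨h1, hh1, l1, rfl⟩ := hx
  obtain ⟨h2, hh2, l2, rfl⟩ := hy
  refine ⟨h1 * ((l1.map (sS Y)).prod * h2 * ((l1.map (sS Y)).prod)⁻¹),
    Subgroup.mul_mem _ hh1 (hconj (h2c_word_mem_Nmon l1) hh2), l1 ++ l2, ?_⟩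
  rw [List.map_append, List.prod_append]
  group

theorem h2c_sS_inv_mem (hX : IsSt Y) (a : Fin k) : (sS Y a)⁻¹ ∈ h2cP Y := by
  have hne : a.castSucc ≠ a.succ := (Fin.castSucc_lt_succ (i := a)).ne
  refine ⟨hh Y a.castSucc a.succ (-1), hh_mem_Htor Y hne (neg_ne_zero.mpr one_ne_zero), [a], ?_⟩
  unfold sS
  rw [hX.w_inv hne, hX.w_eq_hh_mul hne (-1)]
  simp [sS]

theorem h2c_word_inv_mem (hX : IsSt Y)
    (hconj : ∀ {m h : S}, m ∈ Nmon Y → h ∈ Htor Y → m * h * m⁻¹ ∈ Htor Y)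
    (l : List (Fin k)) : ((l.map (sS Y)).prod)⁻¹ ∈ h2cP Y := by
  induction l with
  | nil => simpa using h2c_one_mem (Y := Y)
  | cons a l ih =>
    rw [List.map_cons, List.prod_cons, _root_.mul_inv_rev]
    exact h2c_mul_mem hconj ih (h2c_sS_inv_mem hX a)

theorem h2c_inv_mem (hX : IsSt Y)
    (hconj : ∀ {m h : S}, m ∈ Nmon Y → h ∈ Htor Y → m * h * m⁻¹ ∈ Htor Y)
    {x : S} (hx : x ∈ h2cP Y) : x⁻¹ ∈ h2cP Y := by
  obtain ⟨h1, hh1, l1, rfl⟩ := hx
  rw [_root_.mul_inv_rev]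
  exact h2c_mul_mem hconj (h2c_word_inv_mem hX hconj l1)
    (h2c_Htor_mem (Subgroup.inv_mem _ hh1))

/-- `w Y i j 1 ∈ P` for `i < j`, by induction on `j - i` -/
theorem h2c_w_one_mem_of_lt (hX : IsSt Y) (hA : HasActsW Y)
    (hconj : ∀ {m h : S}, m ∈ Nmon Y → h ∈ Htor Y → m * h * m⁻¹ ∈ Htor Y) :
    ∀ (d : ℕ) (i j : Fin (k + 1)), i.val + d + 1 = j.val → w Y i j (1 : K) ∈ h2cP Y := by
  intro d
  induction d with
  | zero =>
    intro i j hij
    have hik : i.val < k := by have := j.2; omega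
    have e1 : (⟨i.val, hik⟩ : Fin k).castSucc = i := Fin.ext rfl
    have e2 : (⟨i.val, hik⟩ : Fin k).succ = j := Fin.ext (by simp; omega)
    have : w Y i j (1 : K) = sS Y ⟨i.val, hik⟩ := by
      unfold sS
      rw [e1, e2]
    rw [this]
    exact h2c_sS_mem _
  | succ d ih =>
    intro i j hij
    have hik : i.val < k := by have := j.2; omega
    obtain ⟨i', hi'⟩ : ∃ i' : Fin (k + 1), i'.val = i.val + 1 := ⟨⟨i.val + 1, by omega⟩, rfl⟩
    have e1 : (⟨i.val, hik⟩ : Fin k).castSucc = i := Fin.ext rfl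
    have e2 : (⟨i.val, hik⟩ : Fin k).succ = i' := Fin.ext (by simp; omega)
    have hii' : i ≠ i' := fun h => by rw [h] at hi'; omega
    have hi'j : i' ≠ j := fun h => by rw [h] at hi'; omega
    have hji : j ≠ i := fun h => by rw [h] at hij; omega
    have hs : sS Y ⟨i.val, hik⟩ = w Y i i' (1 : K) := by
      unfold sS
      rw [e1, e2]
    have hIH : w Y i' j (1 : K) ∈ h2cP Y := ih i' j (by omega)
    have hc := hX.conj_w_of_acts (hA i i' hii' 1 one_ne_zero) hi'j (v := (1 : K)) one_ne_zero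
    rw [Equiv.swap_apply_right, Equiv.swap_apply_of_ne_of_ne hji hi'j.symm] at hc
    have hd1 : dW i i' (1 : K) i' = 1 := by
      unfold dW
      rw [if_neg hii'.symm, if_pos rfl]
    have hd2 : dW i i' (1 : K) j = 1 := by
      unfold dW
      rw [if_neg hji, if_neg hi'j.symm]
    rw [hd1, hd2, one_mul, inv_one, mul_one] at hc
    rw [← hc, ← hs]
    exact h2c_mul_mem hconj (h2c_mul_mem hconj (h2c_sS_mem _) hIH) (h2c_sS_inv_mem hX _)

theorem h2c_w_one_mem (hX : IsSt Y) (hA : HasActsW Y)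
    (hsymm : ∀ {i j : Fin (k + 1)}, i ≠ j → ∀ {u : K}, u ≠ 0 → w Y i j u = w Y j i (-u⁻¹))
    (hconj : ∀ {m h : S}, m ∈ Nmon Y → h ∈ Htor Y → m * h * m⁻¹ ∈ Htor Y)
    {i j : Fin (k + 1)} (hij : i ≠ j) : w Y i j (1 : K) ∈ h2cP Y := by
  rcases lt_or_gt_of_ne hij with h | h
  · exact h2c_w_one_mem_of_lt hX hA hconj (j.val - i.val - 1) i j
      (by have : i.val < j.val := h; omega)
  · rw [hsymm hij one_ne_zero, inv_one, hX.w_eq_hh_mul hij.symm (-1)]
    exact h2c_mul_mem hconj (h2c_Htor_mem (hh_mem_Htor Y hij.symm (neg_ne_zero.mpr one_ne_zero)))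
      (h2c_w_one_mem_of_lt hX hA hconj (i.val - j.val - 1) j i
        (by have : j.val < i.val := h; omega))

theorem nmon_word (hX : IsSt Y) (hA : HasActsW Y)
    (hsymm : ∀ {i j : Fin (k + 1)}, i ≠ j → ∀ {u : K}, u ≠ 0 → w Y i j u = w Y j i (-u⁻¹))
    (hconj : ∀ {m h : S}, m ∈ Nmon Y → h ∈ Htor Y → m * h * m⁻¹ ∈ Htor Y) :
    ∀ m ∈ Nmon Y, ∃ h ∈ Htor Y, ∃ l : List (Fin k), m = h * (l.map (sS Y)).prod := by
  intro m hm
  change m ∈ h2cP Y
  unfold Nmon at hm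
  induction hm using Subgroup.closure_induction with
  | mem x hx =>
    obtain ⟨i, j, u, hij, hu, rfl⟩ := hx
    rw [hX.w_eq_hh_mul hij u]
    exact h2c_mul_mem hconj (h2c_Htor_mem (hh_mem_Htor Y hij hu))
      (h2c_w_one_mem hX hA hsymm hconj hij)
  | one => exact h2c_one_mem
  | mul x y _ _ hx hy => exact h2c_mul_mem hconj hx hy
  | inv x _ hx => exact h2c_inv_mem hX hconj hx

end Cfsg.Agent.Lib.Helper90.StN
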