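import Mathlib
import Cfsg.Prelude.Def_JordanBlocks
import Cfsg.Agent.Lib.Helper73.UCDefs
import Cfsg.Agent.Lib.Helper73.SPCDefs

/-!
# K-SPC LEAF C16 (keystone 267625, S2676, architect helper73): the product of the orbit counts is `spWeight`
-/

set_option autoImplicit false
set_option linter.unusedVariables false
set_option linter.unusedSectionVars false

namespace Cfsg.Agent.Lib.Helper90.SPC

open Matrix Cfsg.Agent.Lib.Helper73.UC Cfsg.Agent.Lib.Helper73.SPC

variable {F : Type*} [Field F]

/-- the fibre of `d` over `i` has `count i` elements -/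
theorem card_fibre_eq_count {n t : ℕ} (μ : Nat.Partition n) (d : Fin t → ℕ)
    (hμ : Multiset.map d Finset.univ.val = μ.parts) (i : ℕ) :
    Fintype.card {k : Fin t // d k = i} = μ.parts.count i := by
  rw [← hμ, Multiset.count_map, Fintype.card_subtype]
  rw [← Finset.filter_val, Finset.card_def]
  congr 2
  ext k
  simp [eq_comm]

/-- LEAF C16. -/
theorem prod_orbCount_eq_spWeight {n t : ℕ} (μ : Nat.Partition n) (d : Fin t → ℕ)
    (hd : ∀ k, 1 ≤ d k) (hμ : Multiset.map d Finset.univ.val = μ.parts)
    (hE : ∀ i : ℕ, Even i →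
      orbCount (1 : Matrix {k : Fin t // d k = i} {k : Fin t // d k = i} F)
        (SymND {k : Fin t // d k = i} i) = if Fintype.card {k : Fin t // d k = i} = 0 then 1 else 2)
    (hO : ∀ i : ℕ, Odd i →
      orbCount (1 : Matrix {k : Fin t // d k = i} {k : Fin t // d k = i} F)
        (SymND {k : Fin t // d k = i} i) = if Even (Fintype.card {k : Fin t // d k = i}) then 1 else 0) :
    ∏ i ∈ Finset.range (Finset.univ.sup d + 1),
        orbCount (1 : Matrix {k : Fin t // d k = i} {k : Fin t // d k = i} F)
          (SymND {k : Fin t // d k = i} i) = spWeight μ := by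
  classical
  have hcnt := card_fibre_eq_count μ d hμ
  -- membership in the range
  have hmemR : ∀ i, i ∈ μ.parts → i ∈ Finset.range (Finset.univ.sup d + 1) := by
    intro i hi
    rw [← hμ, Multiset.mem_map] at hi
    obtain ⟨k, _, rfl⟩ := hi
    rw [Finset.mem_range, Nat.lt_succ_iff]
    exact Finset.le_sup (Finset.mem_univ k)
  unfold spWeight
  split_ifs with hall
  · -- all odd parts have even multiplicity
    have hval : ∀ i ∈ Finset.range (Finset.univ.sup d + 1),
        orbCount (1 : Matrix {k : Fin t // d k = i} {k : Fin t // d k = i} F)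
          (SymND {k : Fin t // d k = i} i) = if (Even i ∧ i ∈ μ.parts) then 2 else 1 := by
      intro i _
      rcases Nat.even_or_odd i with hi | hi
      · rw [hE i hi, hcnt i]
        by_cases hc : μ.parts.count i = 0
        · rw [if_pos hc, if_neg]
          rintro ⟨_, h⟩
          exact (Multiset.count_eq_zero.mp hc) h
        · rw [if_neg hc, if_pos]
          exact ⟨hi, Multiset.count_ne_zero.mp hc⟩
      · rw [hO i hi, hcnt i, if_pos (hall i hi), if_neg]
        rintro ⟨h, _⟩
        exact (Nat.not_even_iff_odd.mpr hi) h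
    rw [Finset.prod_congr rfl hval, Finset.prod_ite, Finset.prod_const, Finset.prod_const_one, mul_one]
    congr 1
    apply congrArg Finset.card
    ext i
    simp only [Finset.mem_filter, Multiset.mem_toFinset]
    constructor
    · rintro ⟨_, h1, h2⟩
      exact ⟨h2, h1⟩
    · rintro ⟨h2, h1⟩
      exact ⟨hmemR i h2, h1, h2⟩
  · -- some odd part has odd multiplicity
    push Not at hall
    obtain ⟨j, hj, hjc⟩ := hall
    have hjm : j ∈ μ.parts := by
      apply Multiset.count_ne_zero.mp
      intro h0
      rw [h0] at hjc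
      exact hjc Even.zero
    apply Finset.prod_eq_zero (hmemR j hjm)
    rw [hO j hj, hcnt j, if_neg hjc]

end Cfsg.Agent.Lib.Helper90.SPC
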