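import Mathlib
import Cfsg.Agent.Lib.Helper74.MinIdxDefs
import Cfsg.Agent.Lib.Helper53.MinIdxK3
import Cfsg.Agent.Lib.Helper53.MinIdxK4
import Cfsg.Agent.Lib.Helper18.MinIdxK6
import Cfsg.Agent.Lib.Helper26.MinIdxK7
import Cfsg.Agent.Lib.Helper59.MinIdxK19
import Cfsg.Agent.Lib.Helper39.MinIdxK20

/-!
# S2140 keystone K21 (level 1): case (B) `d = N - 1` is impossible (assembly of K3, K4, K6, K7a, K19, K20).

Uses the delivered leaves directly (Helper53 K3/K4, Helper18 K6, Helper26 K7, Helper59 K19, Helper39 K20).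
-/

set_option autoImplicit false

namespace Cfsg.Agent.Lib.Helper90.MinIdx

open Matrix Cfsg.Agent.Lib.Helper74.MinIdx
open Cfsg.Agent.Lib.Helper53.MinIdx (K3_star K4_orbits)
open Cfsg.Agent.Lib.Helper18.MinIdx (K6_card_Qst K6_isTv K6_le K6_normal K6_comm)
open Cfsg.Agent.Lib.Helper26.MinIdx (K7_exists_map)
open Cfsg.Agent.Lib.Helper59.MinIdx (K19_hyperplane)
open Cfsg.Agent.Lib.Helper39.MinIdx (K20_no_line_system)

variable {ι : Type*} [Fintype ι] [DecidableEq ι] {F : Type*} [Field F]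

/-- arithmetic: from `d (q-1) = q (Q-1)` and `d + s Q = s (d+1)` (`Q > 1`) we get `s = q`. -/
theorem s0_eq_q (d s q Q : ℕ) (hq : 1 ≤ q) (hQ : 2 ≤ Q)
    (h1 : d * (q - 1) = q * (Q - 1)) (h2 : d + s * Q = s * (d + 1)) : s = q := by
  have e1 : (d : ℤ) * ((q : ℤ) - 1) = (q : ℤ) * ((Q : ℤ) - 1) := by
    have := congrArg (Nat.cast : ℕ → ℤ) h1
    rw [Nat.cast_mul, Nat.cast_mul, Nat.cast_sub hq, Nat.cast_sub (by omega : 1 ≤ Q)] at this
    simpa using this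
  have e2 : (d : ℤ) + (s : ℤ) * (Q : ℤ) = (s : ℤ) * ((d : ℤ) + 1) := by
    exact_mod_cast h2
  have key : ((q : ℤ) - (s : ℤ)) * ((Q : ℤ) - 1) = 0 := by
    linear_combination ((q : ℤ) - 1) * e2 - (1 - (s : ℤ)) * e1
  have hQ1 : ((Q : ℤ) - 1) ≠ 0 := by
    have : (2 : ℤ) ≤ (Q : ℤ) := by exact_mod_cast hQ
    omega
  rcases mul_eq_zero.mp key with h | h
  · have : (q : ℤ) = (s : ℤ) := by linarith
    exact_mod_cast this.symm
  · exact absurd h hQ1

/-- K21: case (B) is impossible. -/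
theorem K21_caseB [Fintype F] (hn : 3 ≤ Fintype.card ι) (H : Subgroup (SpecialLinearGroup ι F))
    (hfix : ∀ g : SpecialLinearGroup ι F, IsTv g →
      Nat.card (MulAction.fixedBy (SpecialLinearGroup ι F ⧸ H) g) +
        Fintype.card F ^ (Fintype.card ι - 1) = H.index)
    (htrans : ∀ v : ι → F, v ≠ 0 → ∀ g : SpecialLinearGroup ι F, ∃ a ∈ Pst v, ∃ h ∈ H, g = a * h)
    (hidx : H.index * (Fintype.card F - 1) =
      Fintype.card F * (Fintype.card F ^ (Fintype.card ι - 1) - 1)) : False := by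
  have hq : 2 ≤ Fintype.card F := Fintype.one_lt_card
  have hQ2 : 2 ≤ Fintype.card F ^ (Fintype.card ι - 1) := by
    calc 2 ≤ Fintype.card F := hq
      _ = Fintype.card F ^ 1 := (pow_one _).symm
      _ ≤ Fintype.card F ^ (Fintype.card ι - 1) := Nat.pow_le_pow_right (by omega) (by omega)
  -- for every centre `v`
  have hfixQ : ∀ v : ι → F, v ≠ 0 → ∀ x ∈ Qst v, x ≠ 1 →
      Nat.card (MulAction.fixedBy (SpecialLinearGroup ι F ⧸ H) x) + Nat.card (Qst v) = H.index := by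
    intro v hv x hx hx1
    rw [K6_card_Qst v hv]
    exact hfix x (K6_isTv v hv x hx hx1)
  have hs0 : ∀ v : ι → F, v ≠ 0 → H.relIndex (Qst v) = Fintype.card F := by
    intro v hv
    have h4 := K4_orbits (Qst v) (Pst v) H (K6_le v) (K6_normal v) (htrans v hv) (hfixQ v hv)
    rw [K6_card_Qst v hv] at h4
    exact s0_eq_q _ _ _ _ (by omega) hQ2 hidx h4
  have hstar : ∀ v : ι → F, v ≠ 0 → ∀ M₀ : Subgroup (SpecialLinearGroup ι F), M₀ ≤ Qst v →
      (M₀.relIndex (Qst v)).Prime → ∀ a ∈ Pst v,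
      (∀ t ∈ Qst v, t ∈ H → t ∈ M₀) → (∀ t ∈ Qst v, a⁻¹ * t * a ∈ H → t ∈ M₀) →
      ∃ t ∈ Qst v, t⁻¹ * a ∈ H := by
    intro v hv M₀ hM hp a _ h1 h2
    exact K3_star (Qst v) H M₀ (K6_comm v) (hfixQ v hv) hM hp a h1 h2
  have hex : ∀ v : ι → F, v ≠ 0 → ∃ u : ι → F, u ∉ Submodule.span F {v} ∧
      ∀ (φ : ι → F) (h : φ ⬝ᵥ v = 0), tv v φ h ∈ H ↔ φ ⬝ᵥ u = 0 := by
    intro v hv
    exact K19_hyperplane v hv H (hs0 v hv) (hstar v hv)
  classical
  let u : (ι → F) → (ι → F) := fun v => if hv : v ≠ 0 then Classical.choose (hex v hv) else 0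
  have hu_spec : ∀ v (hv : v ≠ 0), u v ∉ Submodule.span F {v} ∧
      ∀ (φ : ι → F) (h : φ ⬝ᵥ v = 0), tv v φ h ∈ H ↔ φ ⬝ᵥ u v = 0 := by
    intro v hv
    have : u v = Classical.choose (hex v hv) := by
      simp only [u, dif_pos hv]
    rw [this]
    exact Classical.choose_spec (hex v hv)
  have htransH : ∀ v w : ι → F, v ≠ 0 → w ≠ 0 →
      ∃ h ∈ H, ∃ c : F, (h : Matrix ι ι F) *ᵥ v = c • w := by
    intro v w hv hw
    obtain ⟨g, hg⟩ := K7_exists_map (by omega : 2 ≤ Fintype.card ι) v w hv hw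
    obtain ⟨a, ha, h, hh, hgah⟩ := htrans w hw g
    refine ⟨h, hh, ?_⟩
    have hainv : a⁻¹ ∈ Pst w := (Pst w).inv_mem ha
    obtain ⟨c, hc⟩ := mem_Pst.mp hainv
    refine ⟨(c : F), ?_⟩
    have hh' : h = a⁻¹ * g := by rw [hgah]; group
    rw [hh', Matrix.SpecialLinearGroup.coe_mul, ← Matrix.mulVec_mulVec, hg, hc]
  exact K20_no_line_system hn H htransH u (fun v hv => (hu_spec v hv).1)
    (fun v hv => (hu_spec v hv).2)

end Cfsg.Agent.Lib.Helper90.MinIdx
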