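import Mathlib
import Cfsg.Agent.Lib.Helper74.MinIdxDefs
import Cfsg.Agent.Lib.Helper81.MinIdxK1
import Cfsg.Agent.Lib.Helper26.MinIdxK5
import Cfsg.Agent.Lib.Helper18.MinIdxK6
import Cfsg.Agent.Lib.Helper07.SLGen

/-!
# S2140 keystone K9 (level 1): proper subgroups of `SL_n(q)`, `n ≥ 3`, have index `≥ q^(n-1)`;
if the index is `< (q^n-1)/(q-1)` every transvection fixes exactly `index - q^(n-1)` cosets.

Uses the delivered leaves K1 (helper81), K5 (helper26), K6 (helper18) directly (no dependence on the hub).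
-/

set_option autoImplicit false

namespace Cfsg.Agent.Lib.Helper90.MinIdx

open Matrix Cfsg.Agent.Lib.Helper74.MinIdx
open Cfsg.Agent.Lib.Helper26.MinIdx (K5_conj)
open Cfsg.Agent.Lib.Helper18.MinIdx (K6_tv_inj K6_isTv K6_card_Qst)
open Cfsg.Agent.Lib.Helper81.MinIdx (K1_burnside)

variable {ι : Type*} [Fintype ι] [DecidableEq ι] {F : Type*} [Field F]

/-- a transvection is not the identity. -/
theorem isTv_ne_one (g : SpecialLinearGroup ι F) (hg : IsTv g) : g ≠ 1 := by
  obtain ⟨v, φ, h, hv, hφ, rfl⟩ := hg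
  intro h1
  have h2 : tv v φ h = tv v 0 (zero_dotProduct v) := by rw [h1, tv_zero_right]
  exact hφ (K6_tv_inj v hv φ 0 h (zero_dotProduct v) h2)

/-- elementary transvections `1 + c E_ij` (`c ≠ 0`) are transvections. -/
theorem isTv_transvection {i j : ι} (hij : i ≠ j) (c : F) (hc : c ≠ 0) :
    IsTv (Matrix.SpecialLinearGroup.transvection hij c) := by
  have hdot : (Pi.single j (1 : F) : ι → F) ⬝ᵥ (Pi.single i c : ι → F) = 0 := by
    rw [single_dotProduct, one_mul, Pi.single_eq_of_ne hij.symm]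
  refine ⟨Pi.single i c, Pi.single j 1, hdot, ?_, ?_, ?_⟩
  · intro h
    have := congrFun h i
    simp at this
    exact hc this
  · intro h
    have := congrFun h j
    simp at this
  · apply Subtype.ext
    rw [Matrix.SpecialLinearGroup.transvection_coe, coe_tv, tvM]
    congr 1
    ext a b
    rw [vecMulVec_apply, Matrix.single_apply, Pi.single_apply, Pi.single_apply]
    by_cases ha : a = i <;> by_cases hb : b = j
    · simp [ha, hb]
    · have hb' : ¬ j = b := fun h => hb h.symm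
      simp [ha, hb, hb']
    · have ha' : ¬ i = a := fun h => ha h.symm
      simp [ha, hb, ha']
    · have ha' : ¬ i = a := fun h => ha h.symm
      simp [ha, hb, ha']

/-- conjugate elements have equinumerous fixed-point sets. -/
theorem card_fixedBy_conj {G : Type*} [Group G] (α : Type*) [MulAction G α] (x t : G) :
    Nat.card (MulAction.fixedBy α (x * t * x⁻¹)) = Nat.card (MulAction.fixedBy α t) := by
  refine (Nat.card_congr ?_).symm
  refine
    { toFun := fun a => ⟨x • (a : α), ?_⟩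
      invFun := fun b => ⟨x⁻¹ • (b : α), ?_⟩
      left_inv := fun a => by apply Subtype.ext; simp
      right_inv := fun b => by apply Subtype.ext; simp }
  · rw [MulAction.mem_fixedBy]
    have := a.2
    rw [MulAction.mem_fixedBy] at this
    rw [← mul_smul, inv_mul_cancel_right, mul_smul, this]
  · rw [MulAction.mem_fixedBy]
    have := b.2
    rw [MulAction.mem_fixedBy] at this
    calc t • x⁻¹ • (b : α) = x⁻¹ • (x * t * x⁻¹) • (b : α) := by
          rw [← mul_smul, ← mul_smul]; congr 1; group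
      _ = x⁻¹ • (b : α) := by rw [this]

/-- the common set-up: a base transvection group `Q`, Burnside bound of `K1`. -/
theorem K9_setup [Fintype F] (hn : 3 ≤ Fintype.card ι) (H : Subgroup (SpecialLinearGroup ι F))
    (hH : H ≠ ⊤) :
    ∃ v : ι → F, v ≠ 0 ∧ (∃ t ∈ Qst v, IsTv t) ∧
      Nat.card (Qst v) ≤ H.index ∧
      (H.index < 2 * Nat.card (Qst v) → ∀ x ∈ Qst v, x ≠ 1 →
        Nat.card (MulAction.fixedBy (SpecialLinearGroup ι F ⧸ H) x) + Nat.card (Qst v) = H.index) := by
  have hne : Nonempty ι := by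
    rw [← Fintype.card_pos_iff]; omega
  obtain ⟨i0⟩ := hne
  obtain ⟨j0, hj0⟩ : ∃ j0 : ι, j0 ≠ i0 := by
    have : 1 < Fintype.card ι := by omega
    rw [Fintype.one_lt_card_iff_nontrivial] at this
    exact exists_ne i0
  set v : ι → F := Pi.single i0 1 with hvdef
  have hv : v ≠ 0 := by
    intro h
    have := congrFun h i0
    simp [hvdef] at this
  -- a base transvection in `Q`
  have hdot0 : (Pi.single j0 (1 : F) : ι → F) ⬝ᵥ v = 0 := by
    rw [hvdef, single_dotProduct, one_mul, Pi.single_eq_of_ne hj0]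
  set t0 := tv v (Pi.single j0 1) hdot0 with ht0
  have ht0Q : t0 ∈ Qst v := tv_mem_Qst v _ hdot0
  have ht0tv : IsTv t0 := by
    refine ⟨v, Pi.single j0 1, hdot0, hv, ?_, rfl⟩
    intro h
    have := congrFun h j0
    simp at this
  have ht01 : t0 ≠ 1 := isTv_ne_one t0 ht0tv
  have hconj : ∀ x ∈ Qst v, ∀ y ∈ Qst v, x ≠ 1 → y ≠ 1 →
      ∃ g : SpecialLinearGroup ι F, g * x * g⁻¹ = y := by
    intro x hx y hy hx1 hy1
    exact K5_conj hn x y (K6_isTv v hv x hx hx1) (K6_isTv v hv y hy hy1)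
  have hgen : Subgroup.normalClosure ((Qst v : Subgroup (SpecialLinearGroup ι F)) :
      Set (SpecialLinearGroup ι F)) = ⊤ := by
    apply Cfsg.Agent.Lib.Helper07.eq_top_of_transvection_mem
    intro i j hij c
    by_cases hc : c = 0
    · rw [hc, Matrix.SpecialLinearGroup.transvection_coeff_zero]
      exact Subgroup.one_mem _
    · obtain ⟨x, hx⟩ := K5_conj hn t0 _ ht0tv (isTv_transvection hij c hc)
      rw [← hx]
      exact Subgroup.normalClosure_normal.conj_mem _ (Subgroup.subset_normalClosure ht0Q) x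
  have hfin : Finite (SpecialLinearGroup ι F) := inferInstance
  obtain ⟨h1, h2⟩ := K1_burnside (Qst v) H hconj hgen hH
  exact ⟨v, hv, ⟨t0, ht0Q, ht0tv⟩, h1, h2⟩

/-- K9a: every proper subgroup of `SL_n(q)`, `n ≥ 3`, has index at least `q^(n-1)`. -/
theorem K9_index_ge [Fintype F] (hn : 3 ≤ Fintype.card ι) (H : Subgroup (SpecialLinearGroup ι F))
    (hH : H ≠ ⊤) : Fintype.card F ^ (Fintype.card ι - 1) ≤ H.index := by
  obtain ⟨v, hv, _, h1, _⟩ := K9_setup hn H hH
  rw [K6_card_Qst v hv] at h1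
  exact h1

/-- the number of points is less than `2 q^(n-1)`. -/
theorem points_le (q n : ℕ) (hq : 2 ≤ q) (hn : 1 ≤ n) :
    (q ^ n - 1) / (q - 1) ≤ 2 * q ^ (n - 1) := by
  obtain ⟨k, rfl⟩ : ∃ k, n = k + 1 := ⟨n - 1, by omega⟩
  obtain ⟨s, rfl⟩ : ∃ s, q = s + 2 := ⟨q - 2, by omega⟩
  apply Nat.div_le_of_le_mul
  rw [Nat.add_sub_cancel, pow_succ]
  have h1 : (s + 2) ^ k * (s + 2) ≤ (s + 2 - 1) * (2 * (s + 2) ^ k) := by
    have : s + 2 - 1 = s + 1 := by omega
    rw [this]
    nlinarith [Nat.zero_le ((s + 2) ^ k), Nat.zero_le s]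
  exact le_trans (Nat.sub_le _ _) h1

/-- K9b: if the index is less than the number of points, every transvection moves exactly
`q^(n-1)` cosets. -/
theorem K9_fix [Fintype F] (hn : 3 ≤ Fintype.card ι) (H : Subgroup (SpecialLinearGroup ι F))
    (hH : H ≠ ⊤)
    (hlt : H.index < (Fintype.card F ^ Fintype.card ι - 1) / (Fintype.card F - 1))
    (g : SpecialLinearGroup ι F) (hg : IsTv g) :
    Nat.card (MulAction.fixedBy (SpecialLinearGroup ι F ⧸ H) g) +
      Fintype.card F ^ (Fintype.card ι - 1) = H.index := by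
  obtain ⟨v, hv, ⟨t0, ht0Q, ht0tv⟩, _, h2⟩ := K9_setup hn H hH
  rw [K6_card_Qst v hv] at h2
  have hq : 2 ≤ Fintype.card F := Fintype.one_lt_card
  have hlt2 : H.index < 2 * Fintype.card F ^ (Fintype.card ι - 1) :=
    lt_of_lt_of_le hlt (points_le _ _ hq (by omega))
  have h3 := h2 hlt2 t0 ht0Q (isTv_ne_one t0 ht0tv)
  obtain ⟨x, hx⟩ := K5_conj hn t0 g ht0tv hg
  rw [← hx, card_fixedBy_conj]
  exact h3

end Cfsg.Agent.Lib.Helper90.MinIdx
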