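import Mathlib
import Cfsg.Prelude.Def_GeometricClasses
import Cfsg.Agent.Lib.Helper61.AschDefs
import Cfsg.Agent.Lib.Helper46.AschEDefs

/-!
# Uniqueness half of K-O10m-Y4 / K-O10m-Y5 (row S5850, architect helper91)

`V = F^n`, `n = 2 r`, `E` a self-adjoint field subalgebra of degree `r` for the polar form `B` of a non-degenerate quadratic
form.  The matrices `d` commuting with `E` such that `B (d x) x = 0` for all `x` form a one-dimensional `E`-space:
if `d₀ ≠ 0` is one of them, every other one is `s * d₀` with `s ∈ E`.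
-/

set_option autoImplicit false

namespace Cfsg.Agent.Lib.Helper90.O10m

open Cfsg Cfsg.Geo
open scoped Matrix Kronecker MatrixGroups

section
variable {F : Type*} [Field F] [Fintype F] {n : ℕ}

local notation "V" => (Fin n → F)
local notation "Mat" => Matrix (Fin n) (Fin n) F

/-- in characteristic 2 every element of a finite field subalgebra is a square -/
theorem exists_sq_of_char_two (h2 : (2 : F) = 0) {r : ℕ} (E : Subalgebra F Mat) (hE : IsFieldSubalgebra r E)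
    (k : Mat) (hk : k ∈ E) : ∃ l ∈ E, k = l * l := by
  have hadd : ∀ M : Mat, M + M = 0 := by
    intro M
    rw [← two_smul F M, h2, zero_smul]
  have hinj : Function.Injective (fun x : E => x * x) := by
    intro x y hxy
    have hxy' : (x : Mat) * x = y * y := congrArg Subtype.val hxy
    have hz : ((x : Mat) - y) * ((x : Mat) - y) = 0 := by
      have hc := hE.comm x x.2 y y.2
      calc ((x : Mat) - y) * ((x : Mat) - y)
          = (x : Mat) * x - x * y - y * x + y * y := by noncomm_ring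
        _ = (x : Mat) * x + y * y - ((x : Mat) * y + x * y) := by rw [← hc]; abel
        _ = 0 := by rw [hadd ((x : Mat) * y), sub_zero, hxy', hadd]
    by_contra hne
    have hne' : (x : Mat) - y ≠ 0 := by
      intro h
      apply hne
      exact Subtype.ext (sub_eq_zero.mp h)
    obtain ⟨w, hw, hzw⟩ := hE.inv _ (E.sub_mem x.2 y.2) hne'
    apply hne'
    calc (x : Mat) - y = ((x : Mat) - y) * (((x : Mat) - y) * w) := by rw [hzw, mul_one]
      _ = (((x : Mat) - y) * ((x : Mat) - y)) * w := by rw [mul_assoc]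
      _ = 0 := by rw [hz, zero_mul]
  have hsurj := Finite.surjective_of_injective hinj
  obtain ⟨l, hl⟩ := hsurj ⟨k, hk⟩
  refine ⟨l, l.2, ?_⟩
  have h0 := congrArg Subtype.val hl
  exact h0.symm

/-- the orbit map `c ↦ c v` of a subalgebra -/
def orbMap (E : Subalgebra F Mat) (v : V) : E →ₗ[F] V where
  toFun c := c.1 *ᵥ v
  map_add' a b := by simp [Matrix.add_mulVec]
  map_smul' c a := by simp [Matrix.smul_mulVec]

theorem orbMap_apply (E : Subalgebra F Mat) (v : V) (c : E) : orbMap E v c = c.1 *ᵥ v := rfl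

theorem orbMap_injective {r : ℕ} (E : Subalgebra F Mat) (hE : IsFieldSubalgebra r E) (v : V) (hv : v ≠ 0) :
    Function.Injective (orbMap E v) := by
  rw [← LinearMap.ker_eq_bot, LinearMap.ker_eq_bot']
  intro c hc
  by_contra hne
  have hne' : (c : Mat) ≠ 0 := fun h => hne (Subtype.ext h)
  obtain ⟨c', hc', hcc⟩ := hE.inv c c.2 hne'
  apply hv
  have h1 : (c' * (c : Mat)) *ᵥ v = v := by
    rw [← hE.comm c c.2 c' hc', hcc, Matrix.one_mulVec]
  rw [← h1, ← Matrix.mulVec_mulVec]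
  have : (c : Mat) *ᵥ v = 0 := hc
  rw [this, Matrix.mulVec_zero]

/-- coordinates: `V = E v₁ ⊕ E v₂` when `n = 2 r` -/
theorem exists_coordinates {r : ℕ} (hr : 0 < r) (hn : n = 2 * r) (E : Subalgebra F Mat)
    (hE : IsFieldSubalgebra r E) :
    ∃ v₁ v₂ : V, ∀ x : V, ∃ a ∈ E, ∃ b ∈ E, x = a *ᵥ v₁ + b *ᵥ v₂ := by
  have hnpos : 0 < n := by omega
  obtain ⟨v₁, hv₁⟩ : ∃ v₁ : V, v₁ ≠ 0 := by
    refine ⟨Pi.single ⟨0, hnpos⟩ 1, ?_⟩
    intro h
    have := congrFun h ⟨0, hnpos⟩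
    simp at this
  have hdim : ∀ v : V, v ≠ 0 → Module.finrank F (LinearMap.range (orbMap E v)) = r := by
    intro v hv
    rw [LinearMap.finrank_range_of_inj (orbMap_injective E hE v hv), hE.finrank_eq]
  have hne : LinearMap.range (orbMap E v₁) ≠ ⊤ := by
    intro h
    have h1 := hdim v₁ hv₁
    rw [h, finrank_top, Module.finrank_fin_fun] at h1
    omega
  obtain ⟨v₂, -, hv₂⟩ := SetLike.exists_of_lt (lt_top_iff_ne_top.2 hne)
  have hv₂0 : v₂ ≠ 0 := by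
    intro h
    apply hv₂
    rw [h]
    exact Submodule.zero_mem _
  have hinf : LinearMap.range (orbMap E v₁) ⊓ LinearMap.range (orbMap E v₂) = ⊥ := by
    rw [Submodule.eq_bot_iff]
    rintro w ⟨⟨a, ha⟩, ⟨b, hb⟩⟩
    by_contra hw
    apply hv₂
    have hb0 : (b : Mat) ≠ 0 := by
      intro h
      apply hw
      rw [← hb, orbMap_apply, h, Matrix.zero_mulVec]
    obtain ⟨b', hb', hbb⟩ := hE.inv b b.2 hb0
    refine ⟨⟨b' * a.1, E.mul_mem hb' a.2⟩, ?_⟩
    rw [orbMap_apply]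
    show (b' * (a : Mat)) *ᵥ v₁ = v₂
    rw [← Matrix.mulVec_mulVec]
    have ha' : (a : Mat) *ᵥ v₁ = w := ha
    have hb'' : (b : Mat) *ᵥ v₂ = w := hb
    rw [ha', ← hb'', Matrix.mulVec_mulVec, ← hE.comm b b.2 b' hb', hbb, Matrix.one_mulVec]
  have hsup : LinearMap.range (orbMap E v₁) ⊔ LinearMap.range (orbMap E v₂) = ⊤ := by
    apply Submodule.eq_top_of_finrank_eq
    have h1 := Submodule.finrank_sup_add_finrank_inf_eq (LinearMap.range (orbMap E v₁))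
      (LinearMap.range (orbMap E v₂))
    rw [hinf, finrank_bot, add_zero, hdim v₁ hv₁, hdim v₂ hv₂0] at h1
    rw [h1, Module.finrank_fin_fun]
    omega
  refine ⟨v₁, v₂, fun x => ?_⟩
  have hx : x ∈ LinearMap.range (orbMap E v₁) ⊔ LinearMap.range (orbMap E v₂) := by
    rw [hsup]; trivial
  obtain ⟨y, ⟨a, rfl⟩, z, ⟨b, rfl⟩, rfl⟩ := Submodule.mem_sup.1 hx
  exact ⟨a, a.2, b, b.2, rfl⟩

variable (Q : (Fin n → F) → F) (hQ : IsNondegenerateQuadraticForm Q) {r : ℕ}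
  (E : Subalgebra F (Matrix (Fin n) (Fin n) F))
  (hE : IsFieldSubalgebra r E) (hsa : IsSelfAdjointFor (QuadraticMap.polar Q) E)

include hQ in
theorem beta_skew (d : Mat) (h : ∀ x : V, QuadraticMap.polar Q (d *ᵥ x) x = 0) (x y : V) :
    QuadraticMap.polar Q (d *ᵥ x) y = - QuadraticMap.polar Q (d *ᵥ y) x := by
  have hb := hQ.polar_bilinear
  have h1 := h (x + y)
  rw [Matrix.mulVec_add, hb.add_left, hb.add_right, hb.add_right, h x, h y] at h1
  linear_combination h1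

include hsa in
theorem beta_bal (d : Mat) (hdE : ∀ e ∈ E, e * d = d * e) (e : Mat) (he : e ∈ E) (x y : V) :
    QuadraticMap.polar Q (d *ᵥ (e *ᵥ x)) y = QuadraticMap.polar Q (d *ᵥ x) (e *ᵥ y) := by
  rw [Matrix.mulVec_mulVec, ← hdE e he, ← Matrix.mulVec_mulVec, hsa e he]

include hQ hE hsa in
theorem beta_diag (d : Mat) (hdE : ∀ e ∈ E, e * d = d * e)
    (h : ∀ x : V, QuadraticMap.polar Q (d *ᵥ x) x = 0) (c : Mat) (hc : c ∈ E) (x : V) :
    QuadraticMap.polar Q (d *ᵥ (c *ᵥ x)) x = 0 := by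
  by_cases h2 : (2 : F) = 0
  · obtain ⟨l, hl, rfl⟩ := exists_sq_of_char_two h2 E hE c hc
    rw [← Matrix.mulVec_mulVec, beta_bal Q E hsa d hdE l hl (l *ᵥ x) x]
    exact h _
  · have h1 := beta_bal Q E hsa d hdE c hc x x
    have h3 := beta_skew Q hQ d h x (c *ᵥ x)
    have h4 : (2 : F) * QuadraticMap.polar Q (d *ᵥ (c *ᵥ x)) x = 0 := by
      rw [two_mul]
      nth_rewrite 2 [h1]
      rw [h3]
      ring
    exact (mul_eq_zero.1 h4).resolve_left h2

include hQ hE hsa in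
theorem beta_cyc (d : Mat) (hdE : ∀ e ∈ E, e * d = d * e)
    (h : ∀ x : V, QuadraticMap.polar Q (d *ᵥ x) x = 0) (a b : Mat) (ha : a ∈ E) (hb : b ∈ E) (v : V) :
    QuadraticMap.polar Q (d *ᵥ (a *ᵥ v)) (b *ᵥ v) = 0 := by
  rw [← beta_bal Q E hsa d hdE b hb (a *ᵥ v) v, Matrix.mulVec_mulVec v b a]
  exact beta_diag Q hQ E hE hsa d hdE h (b * a) (E.mul_mem hb ha) v

include hQ hE hsa in
/-- the form `B (d ·) ·` in the coordinates `(v₁, v₂)` -/
theorem beta_formula (d : Mat) (hdE : ∀ e ∈ E, e * d = d * e)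
    (h : ∀ x : V, QuadraticMap.polar Q (d *ᵥ x) x = 0) (v₁ v₂ : V) (a b a' b' : Mat)
    (ha : a ∈ E) (hb : b ∈ E) (ha' : a' ∈ E) (hb' : b' ∈ E) :
    QuadraticMap.polar Q (d *ᵥ (a *ᵥ v₁ + b *ᵥ v₂)) (a' *ᵥ v₁ + b' *ᵥ v₂) =
      QuadraticMap.polar Q (d *ᵥ ((b' * a) *ᵥ v₁)) v₂ - QuadraticMap.polar Q (d *ᵥ ((b * a') *ᵥ v₁)) v₂ := by
  have hbl := hQ.polar_bilinear
  rw [Matrix.mulVec_add, hbl.add_left, hbl.add_right, hbl.add_right,
    beta_cyc Q hQ E hE hsa d hdE h a a' ha ha' v₁, beta_cyc Q hQ E hE hsa d hdE h b b' hb hb' v₂]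
  have e1 : QuadraticMap.polar Q (d *ᵥ (a *ᵥ v₁)) (b' *ᵥ v₂) =
      QuadraticMap.polar Q (d *ᵥ ((b' * a) *ᵥ v₁)) v₂ := by
    rw [← Matrix.mulVec_mulVec, beta_bal Q E hsa d hdE b' hb' (a *ᵥ v₁) v₂]
  have e2 : QuadraticMap.polar Q (d *ᵥ (b *ᵥ v₂)) (a' *ᵥ v₁) =
      - QuadraticMap.polar Q (d *ᵥ ((b * a') *ᵥ v₁)) v₂ := by
    rw [beta_skew Q hQ d h (b *ᵥ v₂) (a' *ᵥ v₁), ← Matrix.mulVec_mulVec,
      beta_bal Q E hsa d hdE b hb (a' *ᵥ v₁) v₂]
  rw [e1, e2]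
  ring

/-- the functional `c ↦ B (d (c v₁)) v₂` on `E` -/
noncomputable def psi (d : Mat) (v₁ v₂ : V) : E →ₗ[F] F where
  toFun c := QuadraticMap.polar Q (d *ᵥ (c.1 *ᵥ v₁)) v₂
  map_add' a b := by
    have hbl := hQ.polar_bilinear
    show QuadraticMap.polar Q (d *ᵥ (((a : Mat) + (b : Mat)) *ᵥ v₁)) v₂ = _
    rw [Matrix.add_mulVec, Matrix.mulVec_add, hbl.add_left]
  map_smul' c a := by
    have hbl := hQ.polar_bilinear
    show QuadraticMap.polar Q (d *ᵥ ((c • (a : Mat)) *ᵥ v₁)) v₂ = _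
    rw [Matrix.smul_mulVec, Matrix.mulVec_smul, hbl.smul_left]
    rfl

theorem psi_apply (d : Mat) (v₁ v₂ : V) (c : E) :
    psi Q hQ E d v₁ v₂ c = QuadraticMap.polar Q (d *ᵥ (c.1 *ᵥ v₁)) v₂ := rfl

include hQ hE hsa in
/-- **Uniqueness** (general `n = 2 r`). -/
theorem exists_mem_eq_mul_of_commute_alternating_gen (hr : 0 < r) (hn : n = 2 * r) (d₀ d : Mat)
    (hd₀E : ∀ e ∈ E, e * d₀ = d₀ * e) (hdE : ∀ e ∈ E, e * d = d * e)
    (h₀ : ∀ x : V, QuadraticMap.polar Q (d₀ *ᵥ x) x = 0)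
    (h : ∀ x : V, QuadraticMap.polar Q (d *ᵥ x) x = 0) (hd₀ : d₀ ≠ 0) : ∃ s ∈ E, d = s * d₀ := by
  obtain ⟨v₁, v₂, hcoord⟩ := exists_coordinates hr hn E hE
  have hbl := hQ.polar_bilinear
  -- a vector orthogonal to everything is zero
  have hnd : ∀ w : V, (∀ y : V, QuadraticMap.polar Q w y = 0) → w = 0 := by
    intro w hw
    by_contra hne
    obtain ⟨-, y, hy⟩ := hQ.nondegenerate w hne
    exact hy (hw y)
  have hmat : ∀ A A' : Mat, (∀ x : V, A *ᵥ x = A' *ᵥ x) → A = A' := by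
    intro A A' hAA
    apply Matrix.toLin'.injective
    apply LinearMap.ext
    intro x
    rw [Matrix.toLin'_apply, Matrix.toLin'_apply, hAA x]
  -- `ψ₀ ≠ 0`
  have hψ₀ : psi Q hQ E d₀ v₁ v₂ ≠ 0 := by
    intro hz
    apply hd₀
    apply hmat
    intro x
    rw [Matrix.zero_mulVec]
    apply hnd
    intro y
    obtain ⟨a, ha, b, hb, rfl⟩ := hcoord x
    obtain ⟨a', ha', b', hb', rfl⟩ := hcoord y
    rw [beta_formula Q hQ E hE hsa d₀ hd₀E h₀ v₁ v₂ a b a' b' ha hb ha' hb']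
    have e1 := LinearMap.congr_fun hz ⟨b' * a, E.mul_mem hb' ha⟩
    have e2 := LinearMap.congr_fun hz ⟨b * a', E.mul_mem hb ha'⟩
    rw [psi_apply] at e1 e2
    rw [e1, e2]
    simp
  -- the map `s ↦ ψ₀ (s ·)`
  obtain ⟨Φ, hΦ⟩ : ∃ Φ : E →ₗ[F] Module.Dual F E, ∀ s c : E, Φ s c = psi Q hQ E d₀ v₁ v₂ (s * c) :=
    ⟨(LinearMap.mul F E).compr₂ (psi Q hQ E d₀ v₁ v₂), fun s c => rfl⟩
  have hΦinj : Function.Injective Φ := by
    rw [← LinearMap.ker_eq_bot, LinearMap.ker_eq_bot']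
    intro s hs
    by_contra hne
    have hne' : (s : Mat) ≠ 0 := fun h => hne (Subtype.ext h)
    obtain ⟨s', hs', hss⟩ := hE.inv s s.2 hne'
    apply hψ₀
    apply LinearMap.ext
    intro c
    have h1 := LinearMap.congr_fun hs (⟨s', hs'⟩ * c)
    rw [hΦ] at h1
    have h2 : s * (⟨s', hs'⟩ * c) = c := by
      apply Subtype.ext
      show (s : Mat) * (s' * (c : Mat)) = c
      rw [← mul_assoc, hss, one_mul]
    rw [h2] at h1
    rw [h1]
    rfl
  have hΦsurj : Function.Surjective Φ := by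
    have hfr : Module.finrank F E = Module.finrank F (Module.Dual F E) :=
      (Subspace.dual_finrank_eq : Module.finrank F (Module.Dual F E) = Module.finrank F E).symm
    exact (LinearMap.injective_iff_surjective_of_finrank_eq_finrank hfr).1 hΦinj
  obtain ⟨s, hs⟩ := hΦsurj (psi Q hQ E d v₁ v₂)
  refine ⟨s, s.2, ?_⟩
  rw [hd₀E s s.2]
  apply hmat
  intro x
  have hsub : d *ᵥ x - (d₀ * (s : Mat)) *ᵥ x = 0 := by
    apply hnd
    intro y
    obtain ⟨a, ha, b, hb, rfl⟩ := hcoord x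
    obtain ⟨a', ha', b', hb', rfl⟩ := hcoord y
    have hsx : (d₀ * (s : Mat)) *ᵥ (a *ᵥ v₁ + b *ᵥ v₂) =
        d₀ *ᵥ (((s : Mat) * a) *ᵥ v₁ + ((s : Mat) * b) *ᵥ v₂) := by
      rw [← Matrix.mulVec_mulVec, Matrix.mulVec_add, Matrix.mulVec_mulVec, Matrix.mulVec_mulVec]
    have hsubl : ∀ w w' y' : V, QuadraticMap.polar Q (w - w') y' =
        QuadraticMap.polar Q w y' - QuadraticMap.polar Q w' y' := by
      intro w w' y'
      have e1 := hbl.add_left (w - w') w' y'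
      rw [sub_add_cancel] at e1
      rw [e1]
      ring
    rw [hsubl, hsx, beta_formula Q hQ E hE hsa d hdE h v₁ v₂ a b a' b' ha hb ha' hb',
      beta_formula Q hQ E hE hsa d₀ hd₀E h₀ v₁ v₂ _ _ a' b' (E.mul_mem s.2 ha) (E.mul_mem s.2 hb) ha' hb']
    have e1 := LinearMap.congr_fun hs ⟨b' * a, E.mul_mem hb' ha⟩
    have e2 := LinearMap.congr_fun hs ⟨b * a', E.mul_mem hb ha'⟩
    rw [hΦ, psi_apply, psi_apply] at e1 e2
    have c1 : b' * ((s : Mat) * a) = (s : Mat) * (b' * a) := by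
      rw [← mul_assoc, hE.comm b' hb' s s.2, mul_assoc]
    have c2 : (s : Mat) * b * a' = (s : Mat) * (b * a') := mul_assoc _ _ _
    rw [c1, c2]
    have e1' : QuadraticMap.polar Q (d₀ *ᵥ (((s : Mat) * (b' * a)) *ᵥ v₁)) v₂ =
        QuadraticMap.polar Q (d *ᵥ ((b' * a) *ᵥ v₁)) v₂ := e1
    have e2' : QuadraticMap.polar Q (d₀ *ᵥ (((s : Mat) * (b * a')) *ᵥ v₁)) v₂ =
        QuadraticMap.polar Q (d *ᵥ ((b * a') *ᵥ v₁)) v₂ := e2
    rw [e1', e2']
    ring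
  exact sub_eq_zero.1 hsub

end

/-- **Uniqueness half of K-O10m-Y4 / Y5** (`n = 10`, `[E : F] = 5`). -/
theorem exists_mem_eq_mul_of_commute_alternating {F : Type*} [Field F] [Fintype F]
    (Q : (Fin 10 → F) → F) (hQ : IsNondegenerateQuadraticForm Q)
    (E : Subalgebra F (Matrix (Fin 10) (Fin 10) F)) (hE : IsFieldSubalgebra 5 E)
    (hsa : IsSelfAdjointFor (QuadraticMap.polar Q) E) (d₀ d : Matrix (Fin 10) (Fin 10) F)
    (hd₀E : ∀ e ∈ E, e * d₀ = d₀ * e) (hdE : ∀ e ∈ E, e * d = d * e)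
    (h₀ : ∀ x : Fin 10 → F, QuadraticMap.polar Q (d₀ *ᵥ x) x = 0)
    (h : ∀ x : Fin 10 → F, QuadraticMap.polar Q (d *ᵥ x) x = 0) (hd₀ : d₀ ≠ 0) : ∃ s ∈ E, d = s * d₀ :=
  exists_mem_eq_mul_of_commute_alternating_gen Q hQ E hE hsa (by norm_num) (by norm_num) d₀ d hd₀E hdE h₀ h hd₀

end Cfsg.Agent.Lib.Helper90.O10m
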