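import Cfsg.Agent.Lib.Helper38.OhP.Defs
import Cfsg.Agent.Lib.Helper42.OPb5a
import Cfsg.Agent.Lib.Helper65.OPb3

/-!
# K-OhP LEAF I4 (keystone 597427, S5974, architect helper38)

`x² = -1`, `-1` a nonsquare, `2 ≠ 0`: an invariant nondegenerate subspace `W` is of plus type iff `4 ∣ dim W`.
From helper42's inductive statement `opb5a_aux` (all invariant nondegenerate subspaces) and helper65's
`even_finrank_of_sq_neg_one`, with `B := pB Q`.
-/

set_option autoImplicit false
set_option linter.unusedVariables false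

namespace Cfsg.Agent.Lib.Helper90.OhP

open Module Cfsg.Agent.Lib.Helper98.Elus Cfsg.Agent.Lib.Helper98.Sy Cfsg.Agent.Lib.Helper38.OhP

universe u
variable {F : Type u} [Field F] {V : Type u} [AddCommGroup V] [Module F V]

/-- LEAF I4. -/
theorem plusQ_iff_of_sq_neg_one [Fintype F] (h2 : (2 : F) ≠ 0) (hm1 : ¬ IsSquare (-1 : F))
    [FiniteDimensional F V] (Q : QuadraticForm F V) (hV : NonDeg (pB Q) ⊤) (x : V →ₗ[F] V)
    (hx : x * x = -1) (hiso : QIso Q x) (W : Submodule F V) (hW : Inv x W)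
    (hWnd : NonDeg (pB Q) W) : PlusQ Q W ↔ 4 ∣ finrank F W := by
  have hev : Even (finrank F W) :=
    Cfsg.Agent.Lib.Helper65.OPb.even_finrank_of_sq_neg_one h2 (pB Q) (pB_symm Q) x hx hiso.iso W hW hWnd
  obtain ⟨e, he⟩ := hev
  have he2 : finrank F W = 2 * e := by omega
  rw [plusQ_iff_plus h2 Q W,
    Cfsg.Agent.Lib.Helper42.OPb.opb5a_aux h2 hm1 (pB Q) (pB_symm Q) x hx hiso.iso e W hW hWnd he2, he2]
  constructor
  · rintro ⟨k, hk⟩
    exact ⟨k, by omega⟩
  · rintro ⟨k, hk⟩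
    exact ⟨k, by omega⟩

end Cfsg.Agent.Lib.Helper90.OhP
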