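import Mathlib
import Cfsg.Prelude.Def_FusionSystem
import Cfsg.Agent.Lib.Helper87.FusionBasic
import Cfsg.Agent.Lib.Helper88.FusionBasic
import Cfsg.Agent.Lib.Helper89.FusionAut
import Cfsg.Agent.Lib.Helper90.FusionAut
import Cfsg.Agent.Lib.Helper90.FusionCenter
import Cfsg.Agent.Lib.Helper90.FusionRadical
import Cfsg.Agent.S5106

set_option autoImplicit false

/-!
Invariant (weakly normal) subsystems: `Aut_F(T)` permutes the subgroups normal in `E`, and the subgroup generated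
by the `F`-conjugates of a subgroup normal in `E` is normal in `F`.
-/

namespace Cfsg.Agent.Lib.Helper90

open Cfsg Cfsg.FusionSystem
open Cfsg.Agent.Lib.Helper87 (hom_le hom_mem restrict_mem finite_of_le hom_congr subtype_mem)

variable {Ω : Type*} [Group Ω] {S T : Subgroup Ω}

/-- The image `α(P ∩ T)` of a subgroup under an automorphism `α` of `T`, as a subgroup of the ambient group. -/
def autMap (α : MulAut T) (P : Subgroup Ω) : Subgroup Ω :=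
  (P.subgroupOf T).map (T.subtype.comp α.toMonoidHom)

theorem mem_autMap (α : MulAut T) (P : Subgroup Ω) (y : Ω) :
    y ∈ autMap α P ↔ ∃ t : T, (t : Ω) ∈ P ∧ ((α t : T) : Ω) = y := by
  unfold autMap
  constructor
  · rintro ⟨t, ht, rfl⟩
    exact ⟨t, Subgroup.mem_subgroupOf.mp ht, rfl⟩
  · rintro ⟨t, ht, rfl⟩
    exact ⟨t, Subgroup.mem_subgroupOf.mpr ht, rfl⟩

theorem autMap_le (α : MulAut T) (P : Subgroup Ω) : autMap α P ≤ T := by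
  intro y hy
  obtain ⟨t, -, rfl⟩ := (mem_autMap α P y).mp hy
  exact (α t).2

theorem apply_mem_autMap (α : MulAut T) {P : Subgroup Ω} (t : T) (ht : (t : Ω) ∈ P) :
    ((α t : T) : Ω) ∈ autMap α P := (mem_autMap α P _).mpr ⟨t, ht, rfl⟩

/-- The invariance condition, restated. -/
theorem IsInvariantIn.exists_conj {E : FusionSystem T} {F : FusionSystem S} (h : E.IsInvariantIn F)
    {P : Subgroup Ω} (hPT : P ≤ T) {φ : P →* Ω} (hφ : φ ∈ E.Hom P) {α : MulAut T} (hα : α ∈ F.autGroup T) :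
    ∃ χ ∈ E.Hom (autMap α P), ∀ (t : T) (ht : (t : Ω) ∈ P),
      χ ⟨α t, apply_mem_autMap α t ht⟩ = ((α ⟨φ ⟨t, ht⟩, hom_mem E hφ ⟨t, ht⟩⟩ : T) : Ω) := by
  obtain ⟨χ, hχ, hχx⟩ := h.2.2.1 P hPT φ hφ α hα
  exact ⟨χ, hχ, fun t ht => hχx ⟨t, ht⟩ (hom_mem E hφ ⟨t, ht⟩) (apply_mem_autMap α t ht)⟩

/-- The Frattini condition, restated. -/
theorem IsInvariantIn.frattini {E : FusionSystem T} {F : FusionSystem S} (h : E.IsInvariantIn F)
    {P : Subgroup Ω} (hPT : P ≤ T) {φ : P →* Ω} (hφ : φ ∈ F.Hom P) :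
    ∃ α ∈ F.autGroup T, ∃ φ₀, ∃ hφ₀ : φ₀ ∈ E.Hom P,
      ∀ x : P, φ x = ((α ⟨φ₀ x, hom_mem E hφ₀ x⟩ : T) : Ω) := by
  obtain ⟨α, hα, φ₀, hφ₀, hx⟩ := h.2.2.2 P hPT φ hφ
  exact ⟨α, hα, φ₀, hφ₀, fun x => hx x (hom_mem E hφ₀ x)⟩

/-- `Aut_F(T)` permutes the subgroups normal in a weakly normal subsystem `E` over `T`. -/
theorem isNormal_autMap [Finite S] {p : ℕ} [Fact p.Prime] (hS : IsPGroup p S) {E : FusionSystem T}
    {F : FusionSystem S} (hE : E.IsWeaklyNormalIn F p) {R : Subgroup Ω} (hR : E.IsNormal R) {α : MulAut T}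
    (hα : α ∈ F.autGroup T) : E.IsNormal (autMap α R) := by
  have hEsat : E.IsSaturated p := hE.1
  have hinv : E.IsInvariantIn F := hE.2.2
  have hTS : T ≤ S := hinv.2.1.1
  haveI : Finite T := finite_of_le hTS
  have hTp : IsPGroup p T := hS.to_le hTS
  have hRT : R ≤ T := hR.1
  rw [Cfsg.Agent.S5106.result p hTp E hEsat (autMap α R) (autMap_le α R)]
  intro P hPR φ hφ
  have hPT : P ≤ T := hPR.trans (autMap_le α R)
  have hβ : α⁻¹ ∈ F.autGroup T := Subgroup.inv_mem _ hα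
  obtain ⟨χ, hχ, hχx⟩ := IsInvariantIn.exists_conj hinv hPT hφ hβ
  have hP₁R : autMap α⁻¹ P ≤ R := by
    intro y hy
    obtain ⟨t, ht, rfl⟩ := (mem_autMap _ _ _).mp hy
    obtain ⟨r, hr, hrt⟩ := (mem_autMap _ _ _).mp (hPR ht)
    have e : α r = t := Subtype.ext hrt
    rw [← e, MulAut.inv_apply_self]
    exact hr
  obtain ⟨γ, hγ, hγx⟩ :=
    (Cfsg.Agent.S5106.result p hTp E hEsat R hRT).mp hR (autMap α⁻¹ P) hP₁R χ hχ
  have hγE := (mem_autGroup_iff E hRT γ).mp hγ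
  obtain ⟨χ', hχ', hχ'x⟩ := IsInvariantIn.exists_conj hinv hRT hγE hα
  have hχ'x' : ∀ (t : T) (ht : (t : Ω) ∈ R),
      χ' ⟨α t, apply_mem_autMap α t ht⟩ = ((α ⟨(γ ⟨t, ht⟩ : R), hRT (γ ⟨t, ht⟩).2⟩ : T) : Ω) :=
    fun t ht => hχ'x t ht
  have hr : χ'.range = autMap α R := by
    ext y
    constructor
    · rintro ⟨⟨z, hz⟩, rfl⟩
      obtain ⟨t, ht, rfl⟩ := (mem_autMap _ _ _).mp hz
      have h1 := hχ'x' t ht
      have e : (⟨((α t : T) : Ω), hz⟩ : autMap α R) = ⟨α t, apply_mem_autMap α t ht⟩ := rfl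
      rw [e, h1]
      exact apply_mem_autMap α _ (γ ⟨t, ht⟩).2
    · intro hy
      obtain ⟨t, ht, rfl⟩ := (mem_autMap _ _ _).mp hy
      have hmem : ((γ⁻¹ ⟨t, ht⟩ : R) : Ω) ∈ R := (γ⁻¹ ⟨t, ht⟩).2
      refine ⟨⟨α ⟨(γ⁻¹ ⟨t, ht⟩ : R), hRT hmem⟩, apply_mem_autMap α _ hmem⟩, ?_⟩
      rw [hχ'x' _ hmem]
      have e : (⟨((γ⁻¹ ⟨t, ht⟩ : R) : Ω), hmem⟩ : R) = γ⁻¹ ⟨t, ht⟩ := rfl
      rw [e, MulAut.apply_inv_self]
  obtain ⟨γ', hγ', hγ'x⟩ := Cfsg.Agent.Lib.Helper89.exists_aut_of_range_eq E hχ' hr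
  refine ⟨γ', hγ', fun x => ?_⟩
  rw [hγ'x]
  obtain ⟨r, hr', hrx⟩ := (mem_autMap _ _ _).mp (hPR x.2)
  have e1 : Subgroup.inclusion hPR x = ⟨α r, apply_mem_autMap α r hr'⟩ := Subtype.ext hrx.symm
  rw [e1, hχ'x' r hr']
  -- `r = α⁻¹ x`
  have hxT : (x : Ω) ∈ T := hPT x.2
  have e2 : r = α⁻¹ ⟨x, hxT⟩ := by
    have : α r = ⟨x, hxT⟩ := Subtype.ext hrx
    rw [← this, MulAut.inv_apply_self]
  have hrP : ((α⁻¹ ⟨(x : Ω), hxT⟩ : T) : Ω) ∈ autMap α⁻¹ P := apply_mem_autMap α⁻¹ ⟨x, hxT⟩ x.2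
  have h3 := hγx ⟨((α⁻¹ ⟨(x : Ω), hxT⟩ : T) : Ω), hrP⟩
  have h4 := hχx ⟨x, hxT⟩ x.2
  have e3 : (γ ⟨r, hr'⟩ : R) = γ (Subgroup.inclusion hP₁R ⟨((α⁻¹ ⟨(x : Ω), hxT⟩ : T) : Ω), hrP⟩) := by
    congr 1
    apply Subtype.ext
    show (r : Ω) = ((α⁻¹ ⟨(x : Ω), hxT⟩ : T) : Ω)
    rw [e2]
  have e4 : (⟨((γ ⟨r, hr'⟩ : R) : Ω), hRT (γ ⟨r, hr'⟩).2⟩ : T) = α⁻¹ ⟨φ x, hom_mem E hφ x⟩ := by
    apply Subtype.ext
    show ((γ ⟨r, hr'⟩ : R) : Ω) = _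
    rw [e3, h3]
    exact h4
  rw [e4, MulAut.apply_inv_self]

/-- If `E` is weakly normal in `F` and `R` is normal in `E`, the subgroup generated by the `F`-conjugates of `R`
is normal in `F`. -/
theorem isNormal_closure_conj [Finite S] {p : ℕ} [Fact p.Prime] (hS : IsPGroup p S) {E : FusionSystem T}
    {F : FusionSystem S} (hE : E.IsWeaklyNormalIn F p) {R : Subgroup Ω} (hR : E.IsNormal R) :
    F.IsNormal (Subgroup.closure {x : Ω | ∃ φ ∈ F.Hom R, ∃ r : R, x = φ r}) := by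
  have hEsat : E.IsSaturated p := hE.1
  have hFsat : F.IsSaturated p := hE.2.1
  have hinv : E.IsInvariantIn F := hE.2.2
  have hsub : E.IsSubsystemOf F := hinv.1
  have hTsc : F.StronglyClosed T := hinv.2.1
  have hTS : T ≤ S := hTsc.1
  haveI : Finite T := finite_of_le hTS
  have hTp : IsPGroup p T := hS.to_le hTS
  have hRT : R ≤ T := hR.1
  generalize hRs : Subgroup.closure {x : Ω | ∃ φ ∈ F.Hom R, ∃ r : R, x = φ r} = Rs
  have hRsT : Rs ≤ T := by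
    rw [← hRs, Subgroup.closure_le]
    rintro _ ⟨φ, hφ, r, rfl⟩
    exact hTsc.2 R hRT φ hφ r
  have hgen : ∀ α ∈ F.autGroup T, autMap α R ≤ Rs := by
    intro α hα y hy
    obtain ⟨t, ht, rfl⟩ := (mem_autMap _ _ _).mp hy
    rw [← hRs]
    apply Subgroup.subset_closure
    have hαF := (mem_autGroup_iff F hTS α).mp hα
    exact ⟨(T.subtype.comp α.toMonoidHom).comp (Subgroup.inclusion hRT), restrict_mem F hRT hαF,
      ⟨t, ht⟩, rfl⟩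
  have hRs_le : ∀ x, (∃ φ ∈ F.Hom R, ∃ r : R, x = φ r) → ∃ α ∈ F.autGroup T, x ∈ autMap α R := by
    rintro _ ⟨φ, hφ, r, rfl⟩
    obtain ⟨α, hα, φ₀, hφ₀, hx⟩ := IsInvariantIn.frattini hinv hRT hφ
    refine ⟨α, hα, ?_⟩
    rw [hx r]
    apply apply_mem_autMap
    have h := IsNormal.range_eq E hR hφ₀
    have h2 : φ₀ r ∈ φ₀.range := ⟨r, rfl⟩
    rw [h] at h2
    exact h2
  have hRsE : E.IsNormal Rs := by
    have hfin : {Q : Subgroup Ω | E.IsNormal Q ∧ Q ≤ Rs}.Finite :=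
      (Cfsg.Agent.Lib.Helper88.finite_setOf_le (S := T)).subset (fun Q hQ => hQ.1.1)
    have hmem : sSup {Q : Subgroup Ω | E.IsNormal Q ∧ Q ≤ Rs} ∈ {Q : Subgroup Ω | E.IsNormal Q ∧ Q ≤ Rs} :=
      Cfsg.Agent.Lib.Helper88.sSup_mem_of_finite hfin ⟨Cfsg.Agent.Lib.Helper88.isNormal_bot E, bot_le⟩
        (fun x hx y hy => ⟨Cfsg.Agent.Lib.Helper88.isNormal_sup E hx.1 hy.1, sup_le hx.2 hy.2⟩)
    have heq : sSup {Q : Subgroup Ω | E.IsNormal Q ∧ Q ≤ Rs} = Rs := by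
      apply le_antisymm (sSup_le (fun Q hQ => hQ.2))
      rw [← hRs, Subgroup.closure_le]
      intro x hx
      obtain ⟨α, hα, hxα⟩ := hRs_le x hx
      have hmem' : autMap α R ∈ {Q : Subgroup Ω | E.IsNormal Q ∧ Q ≤ Subgroup.closure {x : Ω | ∃ φ ∈ F.Hom R, ∃ r : R, x = φ r}} := by
        rw [hRs]
        exact ⟨isNormal_autMap hS hE hR hα, hgen α hα⟩
      exact (le_sSup hmem') hxα
    rw [← heq]
    exact hmem.1
  have hRsinv : ∀ α ∈ F.autGroup T, ∀ t : T, (t : Ω) ∈ Rs → ((α t : T) : Ω) ∈ Rs := by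
    intro α hα t ht
    have hαF := (mem_autGroup_iff F hTS α).mp hα
    have key : Rs ≤ ((Rs.subgroupOf T).comap α.toMonoidHom).map T.subtype := by
      conv_lhs => rw [← hRs]
      rw [Subgroup.closure_le]
      rintro _ ⟨φ, hφ, r, rfl⟩
      have hφT : φ r ∈ T := hTsc.2 R hRT φ hφ r
      refine ⟨⟨φ r, hφT⟩, ?_, rfl⟩
      show ((α ⟨φ r, hφT⟩ : T) : Ω) ∈ Rs
      rw [← hRs]
      apply Subgroup.subset_closure
      have hcomp := F.comp_mem hφ hαF (fun x => hTsc.2 R hRT φ hφ x)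
      exact ⟨_, hcomp, r, rfl⟩
    obtain ⟨t', ht', htt'⟩ := key ht
    have e : t' = t := Subtype.ext htt'
    rw [← e]
    exact ht'
  rw [Cfsg.Agent.S5106.result p hS F hFsat Rs (hRsT.trans hTS)]
  intro P hPR φ hφ
  have hPT : P ≤ T := hPR.trans hRsT
  obtain ⟨α, hα, φ₀, hφ₀, hx⟩ := IsInvariantIn.frattini hinv hPT hφ
  obtain ⟨γ, hγ, hγx⟩ := (Cfsg.Agent.S5106.result p hTp E hEsat Rs hRsT).mp hRsE P hPR φ₀ hφ₀
  have hγF : γ ∈ F.autGroup Rs := by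
    rw [mem_autGroup_iff F (hRsT.trans hTS)]
    exact hsub Rs ((mem_autGroup_iff E hRsT γ).mp hγ)
  have h1 : ∀ x : Rs, ((α ⟨x, hRsT x.2⟩ : T) : Ω) ∈ Rs := fun x => hRsinv α hα ⟨x, hRsT x.2⟩ x.2
  have h1' : ∀ x : Rs, ((α⁻¹ ⟨x, hRsT x.2⟩ : T) : Ω) ∈ Rs :=
    fun x => hRsinv α⁻¹ (Subgroup.inv_mem _ hα) ⟨x, hRsT x.2⟩ x.2
  have hαR := restrictAut_mem_autGroup F hTS hRsT α hα h1 h1'
  refine ⟨restrictAut hRsT α h1 h1' * γ, Subgroup.mul_mem _ hαR hγF, fun x => ?_⟩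
  rw [MulAut.mul_apply, restrictAut_apply, hx x]
  have e : (⟨((γ (Subgroup.inclusion hPR x) : Rs) : Ω), hRsT (γ (Subgroup.inclusion hPR x)).2⟩ : T) =
      ⟨φ₀ x, hom_mem E hφ₀ x⟩ := Subtype.ext (hγx x)
  rw [e]

end Cfsg.Agent.Lib.Helper90
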