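import Mathlib
import Cfsg.Agent.Lib.Helper15.PSolv
import Cfsg.Agent.Lib.Helper29.Cores
import Cfsg.Agent.Lib.Helper16.ZJ3
import Cfsg.Agent.S0634
import Cfsg.Agent.Lib.Helper01.PPrimeCore

set_option autoImplicit false

/-!
A group-theoretic criterion for `C_X(U) ≤ U` (`U` a normal `p`-subgroup containing its centralizer in a Sylow
`p`-subgroup, `O_{p'}(X) = 1`), via Burnside's transfer theorem.
-/

namespace Cfsg.Agent.Lib.Helper90.QM

open Cfsg

/-- if `O_{p'}(X) = 1`, `U ⊴ X` is a `p`-subgroup of the Sylow `p`-subgroup `P` and `C_P(U) ≤ U`, then `C_X(U) ≤ U` -/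
theorem centralizer_le_of_pPrimeCore_eq_bot {X : Type*} [Group X] [Finite X] (p : ℕ) [Fact p.Prime]
    (hO : pPrimeCore p X = ⊥) (P : Sylow p X) (U : Subgroup X) [hUn : U.Normal]
    (hc : ∀ x ∈ (P : Subgroup X), (∀ u ∈ U, u * x = x * u) → x ∈ U) :
    Subgroup.centralizer (U : Set X) ≤ U := by
  haveI hCn : (Subgroup.centralizer (U : Set X)).Normal := Subgroup.normal_centralizer
  set C : Subgroup X := Subgroup.centralizer (U : Set X) with hC
  have hOC : pPrimeCore p ↥C = ⊥ := Cfsg.Agent.Lib.Helper15.pPrimeCore_eq_bot_of_normal p C hO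
  obtain ⟨Q⟩ : Nonempty (Sylow p ↥C) := inferInstance
  -- elements of `Q` lie in `U`
  have hQU : ∀ q : ↥C, q ∈ (Q : Subgroup ↥C) → (q : X) ∈ U := by
    intro q hq
    have hpg : IsPGroup p ↥((Q : Subgroup ↥C).map C.subtype) := Q.2.map _
    obtain ⟨P', hP'⟩ := hpg.exists_le_sylow
    obtain ⟨g, hg⟩ := MulAction.exists_smul_eq X P' P
    have h1 : (q : X) ∈ (P' : Subgroup X) := hP' ⟨q, hq, rfl⟩
    have h2 : g * (q : X) * g⁻¹ ∈ (P : Subgroup X) := by
      rw [← hg, Sylow.smul_def, Sylow.pointwise_smul_def, Subgroup.mem_smul_pointwise_iff_exists]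
      exact ⟨(q : X), h1, rfl⟩
    have h3 : g * (q : X) * g⁻¹ ∈ C := hCn.conj_mem _ q.2 g
    have h4 : g * (q : X) * g⁻¹ ∈ U := by
      refine hc _ h2 (fun u hu => ?_)
      exact (Subgroup.mem_centralizer_iff.mp h3 u hu)
    have h5 := hUn.conj_mem _ h4 g⁻¹
    simpa [mul_assoc] using h5
  -- so `Q` is central in `C`
  have hN : Subgroup.normalizer ((Q : Subgroup ↥C) : Set ↥C) ≤ Subgroup.centralizer ((Q : Subgroup ↥C) : Set ↥C) := by
    intro c _
    rw [Subgroup.mem_centralizer_iff]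
    intro q hq
    apply Subtype.ext
    have := Subgroup.mem_centralizer_iff.mp c.2 (q : X) (hQU q hq)
    simpa using this
  have hcompl := MonoidHom.ker_transferSylow_isComplement' Q hN
  have hnd := MonoidHom.not_dvd_card_ker_transferSylow Q hN
  have hker : (MonoidHom.transferSylow Q hN).ker = ⊥ := by
    have hcop : (Nat.card (MonoidHom.transferSylow Q hN).ker).Coprime p :=
      (Nat.Coprime.symm ((Nat.Prime.coprime_iff_not_dvd Fact.out).mpr hnd))
    have := Cfsg.Agent.Lib.Helper29.normal_le_pPrimeCore p (MonoidHom.transferSylow Q hN).ker hcop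
    rw [hOC] at this
    exact le_bot_iff.mp this
  rw [hker, Subgroup.isComplement'_bot_left] at hcompl
  intro c hcC
  have : (⟨c, hcC⟩ : ↥C) ∈ (Q : Subgroup ↥C) := by
    rw [hcompl]
    exact Subgroup.mem_top _
  exact hQU _ this

/-- For a normal subgroup `A` of the finite group `L`: the full preimage `M` of `O_{p'}(L/A)` is normal, contains `A`, meets
every `p`-subgroup inside `A`, and `O_{p'}(L/M) = 1`. -/
theorem exists_normal_quot {L : Type*} [Group L] [Finite L] (p : ℕ) [Fact p.Prime] (A : Subgroup L) [hA : A.Normal] :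
    ∃ (M : Subgroup L) (_ : M.Normal), A ≤ M ∧ (∀ P : Subgroup L, IsPGroup p P → ∀ x ∈ P, x ∈ M → x ∈ A) ∧
      pPrimeCore p (L ⧸ M) = ⊥ := by
  haveI hcn : (pPrimeCore p (L ⧸ A)).Normal := Cfsg.Agent.Lib.Helper01.pPrimeCore_normal p
  refine ⟨(pPrimeCore p (L ⧸ A)).comap (QuotientGroup.mk' A), hcn.comap _, ?_, ?_, ?_⟩
  · intro x hx
    rw [Subgroup.mem_comap]
    have : QuotientGroup.mk' A x = 1 := (QuotientGroup.eq_one_iff x).mpr hx
    rw [this]
    exact Subgroup.one_mem _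
  · intro P hP x hxP hxM
    have h1 : QuotientGroup.mk' A x ∈ P.map (QuotientGroup.mk' A) ⊓ pPrimeCore p (L ⧸ A) :=
      ⟨⟨x, hxP, rfl⟩, hxM⟩
    rw [Cfsg.Agent.Lib.Helper16.ZJ.pgroup_inf_pPrimeCore (hP.map _), Subgroup.mem_bot] at h1
    exact (QuotientGroup.eq_one_iff x).mp h1
  · haveI : ((pPrimeCore p (L ⧸ A)).comap (QuotientGroup.mk' A)).Normal := hcn.comap _
    exact Cfsg.Agent.S0634.pPrimeCore_quotient_comap_eq_bot p A _ rfl

end Cfsg.Agent.Lib.Helper90.QM
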