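import Mathlib
import Cfsg.Agent.Lib.Helper88.FusionFactor6
import Cfsg.Agent.Lib.Helper88.SylowConj
import Cfsg.Agent.Lib.Helper87.FusionRealized
import Cfsg.Agent.Lib.Helper90.QuotModel2

set_option autoImplicit false

/-!
A model of a factor system `N/Q`: if `(L, ι)` realizes `N` on a Sylow `p`-subgroup and `ι(Q) ⊴ L`, then
`L / M` (`M / ι(Q) = O_{p'}(L / ι(Q))`) is a model of `N/Q`.
-/

namespace Cfsg.Agent.Lib.Helper90.QM

open Cfsg Cfsg.FusionSystem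
open Cfsg.Agent.Lib.Helper87 (hom_le hom_mem pullConj pullConj_mem ι_pullConj pullConj_mem_hom)
open Cfsg.Agent.Lib.Helper88 (mem_preimageAlong preimageAlong_le exists_preimage exists_inducedAlong)

universe u v w

set_option maxHeartbeats 1000000 in
/-- a model of a factor system (with control of the kernel of the projection on `p`-subgroups) -/
theorem exists_model_factor' {Ω : Type u} [Group Ω] {T : Subgroup Ω} [Finite T] (p : ℕ) [Fact p.Prime]
    (hT : IsPGroup p T) (N : FusionSystem T) {L : Type w} [Group L] [Finite L] (ι : T →* L)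
    (hι : N.IsRealizedBy ι) (hsyl : ∃ P : Sylow p L, (P : Subgroup L) = ι.range)
    {Q R : Subgroup Ω} (hQ : N.StronglyClosed Q) (hQn : ((Q.subgroupOf T).map ι).Normal)
    (hRn : ((R.subgroupOf T).map ι).Normal)
    {Ω' : Type v} [Group Ω'] {T' : Subgroup Ω'} (θ : T →* Ω') (N' : FusionSystem T')
    (hfac : N.IsFactorSystem Q θ N')
    (hcen : ∀ t : T, (∀ r : T, (r : Ω) ∈ R → θ r * θ t = θ t * θ r) → ∃ r : T, (r : Ω) ∈ R ∧ θ t = θ r) :
    ∃ (X : Type w) (_ : Group X) (π : L →* X) (ι' : T' →* X), Function.Surjective π ∧ N'.IsModel p X ι' ∧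
      ∀ P₁ : Subgroup L, IsPGroup p P₁ → ∀ x ∈ P₁, π x = 1 → x ∈ (Q.subgroupOf T).map ι := by
  classical
  obtain ⟨hQT, hker, hrange, hiff⟩ := hfac
  obtain ⟨P₀, hP₀⟩ := hsyl
  have hinj := hι.1
  obtain ⟨M, hMn, hAM, hMp, hO⟩ := exists_normal_quot p ((Q.subgroupOf T).map ι)
  -- the quotient
  let π : L →* L ⧸ M := QuotientGroup.mk' M
  have hπ : Function.Surjective π := QuotientGroup.mk'_surjective M
  have hπM : ∀ x : L, π x = 1 ↔ x ∈ M := fun x => QuotientGroup.eq_one_iff x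
  -- `θ` with values in `T'`
  have hθT' : ∀ t : T, θ t ∈ T' := fun t => hrange ▸ ⟨t, rfl⟩
  let θ₀ : T →* T' := θ.codRestrict T' hθT'
  have hθ₀ : Function.Surjective θ₀ := by
    rintro ⟨y, hy⟩
    rw [← hrange] at hy
    obtain ⟨t, rfl⟩ := hy
    exact ⟨t, rfl⟩
  have hιM : ∀ t : T, ι t ∈ M ↔ (t : Ω) ∈ Q := by
    intro t
    constructor
    · intro h
      have hpr : IsPGroup p ι.range := by
        rw [← hP₀]
        exact P₀.2
      obtain ⟨q, hq, hqt⟩ := hMp ι.range hpr (ι t) ⟨t, rfl⟩ h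
      rw [hinj hqt] at hq
      exact hq
    · intro h
      exact hAM ⟨t, h, rfl⟩
  have hkerle : θ₀.ker ≤ (π.comp ι).ker := by
    intro t ht
    rw [MonoidHom.mem_ker] at ht ⊢
    have h1 : θ t = 1 := congrArg Subtype.val ht
    rw [MonoidHom.comp_apply, hπM, hιM]
    exact (hker t).mp h1
  let ι' : T' →* L ⧸ M := (MonoidHom.liftOfSurjective θ₀ hθ₀) ⟨π.comp ι, hkerle⟩
  have hι' : ∀ t : T, ι' (θ₀ t) = π (ι t) := fun t =>
    MonoidHom.liftOfRightInverse_comp_apply θ₀ _ _ ⟨π.comp ι, hkerle⟩ t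
  have hι'inj : Function.Injective ι' := by
    rw [injective_iff_map_eq_one]
    intro y hy
    obtain ⟨t, rfl⟩ := hθ₀ y
    rw [hι', hπM, hιM, ← hker] at hy
    exact Subtype.ext hy
  have hι'range : ι'.range = (ι.range).map π := by
    ext x
    constructor
    · rintro ⟨y, rfl⟩
      obtain ⟨t, rfl⟩ := hθ₀ y
      exact ⟨ι t, ⟨t, rfl⟩, (hι' t).symm⟩
    · rintro ⟨_, ⟨t, rfl⟩, rfl⟩
      exact ⟨θ₀ t, hι' t⟩
  -- realization
  have hreal : N'.IsRealizedBy ι' := by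
    refine ⟨hι'inj, fun P' hP' φ' hφ' => ?_⟩
    constructor
    · intro h
      obtain ⟨-, φ, hφ, hD, hφT, hDP', hind⟩ := (hiff P' φ').mp h
      obtain ⟨g, hg⟩ := (hι.2 _ hD φ hφT).mp hφ
      refine ⟨π g, fun y => ?_⟩
      obtain ⟨s, hs, hsD, hsy⟩ := exists_preimage θ hrange hP' y
      have e1 : (⟨(y : Ω'), hP' y.2⟩ : T') = θ₀ ⟨s, hs⟩ := Subtype.ext hsy.symm
      have e2 : (⟨φ' y, hφ' y⟩ : T') = θ₀ ⟨φ ⟨s, hsD⟩, hφT ⟨s, hsD⟩⟩ := by
        apply Subtype.ext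
        have h3 := hind ⟨s, hsD⟩
        have h4 : (⟨θ ⟨s, hD hsD⟩, hDP' ⟨s, hsD⟩⟩ : P') = y := Subtype.ext hsy
        rw [h4] at h3
        exact h3
      rw [e1, e2, hι', hι', hg ⟨s, hsD⟩, map_mul, map_mul, map_inv]
    · rintro ⟨g', hg'⟩
      obtain ⟨g₀, rfl⟩ := hπ g'
      have hD : preimageAlong θ P' ≤ T := preimageAlong_le θ P'
      -- the conjugate of `ι(D)` lies in `P₀ M`
      let B : Subgroup L := ((preimageAlong θ P').subgroupOf T).map ι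
      have hBp : IsPGroup p (B.map (MulAut.conj g₀).toMonoidHom) := by
        have : IsPGroup p B := (hT.to_subgroup _).map ι
        exact this.map _
      have hBle : B.map (MulAut.conj g₀).toMonoidHom ≤ (P₀ : Subgroup L) ⊔ M := by
        rintro _ ⟨_, ⟨s, hsD, rfl⟩, rfl⟩
        have hsD' : (s : Ω) ∈ preimageAlong θ P' := hsD
        obtain ⟨hs1, hsP'⟩ := (mem_preimageAlong θ P' _).mp hsD'
        have hsP'' : θ s ∈ P' := hsP'
        obtain ⟨t, ht⟩ := hθ₀ ⟨φ' ⟨θ s, hsP''⟩, hφ' _⟩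
        have h1 := hg' ⟨θ s, hsP''⟩
        have e1 : (⟨((⟨θ s, hsP''⟩ : P') : Ω'), hP' hsP''⟩ : T') = θ₀ s := rfl
        rw [← ht, e1, hι', hι'] at h1
        -- `π (ι t) = π g₀ * π (ι s) * (π g₀)⁻¹`
        have h2 : (ι t)⁻¹ * (g₀ * ι s * g₀⁻¹) ∈ M := by
          rw [← hπM, map_mul, map_inv, map_mul, map_mul, map_inv, h1]
          group
        have h3 : g₀ * ι s * g₀⁻¹ = ι t * ((ι t)⁻¹ * (g₀ * ι s * g₀⁻¹)) := by group
        show g₀ * ι s * g₀⁻¹ ∈ (P₀ : Subgroup L) ⊔ M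
        rw [h3]
        refine Subgroup.mul_mem_sup ?_ h2
        rw [hP₀]
        exact ⟨t, rfl⟩
      obtain ⟨h, hhM, hh⟩ := Cfsg.Agent.Lib.Helper88.exists_conj_le_sylow_of_le_sup_normal P₀ M hBle hBp
      have hπh : π h = 1 := (hπM h).mpr hhM
      have hgr : ∀ x : ↥(preimageAlong θ P'), (h * g₀) * ι ⟨x, hD x.2⟩ * (h * g₀)⁻¹ ∈ ι.range := by
        intro x
        have h1 : g₀ * ι ⟨x, hD x.2⟩ * g₀⁻¹ ∈ B.map (MulAut.conj g₀).toMonoidHom :=
          ⟨ι ⟨x, hD x.2⟩, ⟨⟨x, hD x.2⟩, x.2, rfl⟩, rfl⟩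
        have h2 : _ ∈ (P₀ : Subgroup L) := hh _ h1
        rw [hP₀] at h2
        have e : (h * g₀) * ι ⟨x, hD x.2⟩ * (h * g₀)⁻¹ = h * (g₀ * ι ⟨x, hD x.2⟩ * g₀⁻¹) * h⁻¹ := by group
        rw [e]
        exact h2
      have hφ := pullConj_mem_hom N hι _ hD (h * g₀) hgr
      obtain ⟨φ'', hind⟩ := exists_inducedAlong N hQ θ hker hrange hP' hφ
      have hφ'' : φ'' ∈ N'.Hom P' := (hiff P' φ'').mpr ⟨hP', _, hφ, hind⟩
      have heq : φ' = φ'' := by
        obtain ⟨hD2, hφT, hDP', hind2⟩ := hind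
        apply MonoidHom.ext
        intro y
        obtain ⟨s, hs, hsD, hsy⟩ := exists_preimage θ hrange hP' y
        have h4 : (⟨θ ⟨s, hD2 hsD⟩, hDP' ⟨s, hsD⟩⟩ : P') = y := Subtype.ext hsy
        have h3 := hind2 ⟨s, hsD⟩
        rw [h4] at h3
        rw [h3]
        have e1 : (⟨(y : Ω'), hP' y.2⟩ : T') = θ₀ ⟨s, hs⟩ := Subtype.ext hsy.symm
        have h5 := hg' y
        rw [e1, hι'] at h5
        have h6 : ι' (θ₀ ⟨pullConj ι hι.1 _ hD (h * g₀) hgr ⟨s, hsD⟩, hφT ⟨s, hsD⟩⟩) = ι' ⟨φ' y, hφ' y⟩ := by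
          rw [hι', h5, ι_pullConj ι hι.1 _ hD (h * g₀) hgr ⟨s, hsD⟩, map_mul, map_mul, map_inv, map_mul, hπh,
            one_mul]
        exact (congrArg Subtype.val (hι'inj h6)).symm
      rw [heq]
      exact hφ''
  -- the Sylow subgroup
  have hsylX : ∃ P : Sylow p (L ⧸ M), (P : Subgroup (L ⧸ M)) = ι'.range := by
    refine ⟨P₀.mapSurjective hπ, ?_⟩
    rw [hι'range, ← hP₀]
    rfl
  -- the centralizer condition
  have hcent : Subgroup.centralizer ((pCore p (L ⧸ M) : Subgroup (L ⧸ M)) : Set (L ⧸ M)) ≤ pCore p (L ⧸ M) := by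
    let U : Subgroup (L ⧸ M) := ((R.subgroupOf T).map ι).map π
    haveI hUn : U.Normal := hRn.map π hπ
    have hUp : IsPGroup p U := ((hT.to_subgroup _).map ι).map π
    have hUle : U ≤ pCore p (L ⧸ M) := le_sSup ⟨hUn, hUp⟩
    have hCU : Subgroup.centralizer (U : Set (L ⧸ M)) ≤ U := by
      refine centralizer_le_of_pPrimeCore_eq_bot p hO (P₀.mapSurjective hπ) U ?_
      intro x hx hxu
      have hx' : x ∈ (P₀ : Subgroup L).map π := hx
      rw [hP₀] at hx'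
      obtain ⟨_, ⟨t, rfl⟩, rfl⟩ := hx'
      have : ∃ r : T, (r : Ω) ∈ R ∧ θ t = θ r := by
        apply hcen
        intro r hr
        have h1 := hxu (π (ι r)) ⟨ι r, ⟨r, hr, rfl⟩, rfl⟩
        rw [← hι', ← hι', ← map_mul ι', ← map_mul ι'] at h1
        have h2 := hι'inj h1
        have h3 := congrArg Subtype.val h2
        exact h3
      obtain ⟨r, hr, htr⟩ := this
      have h4 : θ₀ t = θ₀ r := Subtype.ext htr
      rw [← hι', h4, hι']
      exact ⟨ι r, ⟨r, hr, rfl⟩, rfl⟩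
    exact (Subgroup.centralizer_le hUle).trans (hCU.trans hUle)
  exact ⟨L ⧸ M, inferInstance, π, ι', hπ, ⟨inferInstance, hreal, hsylX, hcent⟩,
    fun P₁ hP₁ x hx hx1 => hMp P₁ hP₁ x hx ((hπM x).mp hx1)⟩

/-- a model of a factor system -/
theorem exists_model_factor {Ω : Type u} [Group Ω] {T : Subgroup Ω} [Finite T] (p : ℕ) [Fact p.Prime]
    (hT : IsPGroup p T) (N : FusionSystem T) {L : Type w} [Group L] [Finite L] (ι : T →* L)
    (hι : N.IsRealizedBy ι) (hsyl : ∃ P : Sylow p L, (P : Subgroup L) = ι.range)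
    {Q R : Subgroup Ω} (hQ : N.StronglyClosed Q) (hQn : ((Q.subgroupOf T).map ι).Normal)
    (hRn : ((R.subgroupOf T).map ι).Normal)
    {Ω' : Type v} [Group Ω'] {T' : Subgroup Ω'} (θ : T →* Ω') (N' : FusionSystem T')
    (hfac : N.IsFactorSystem Q θ N')
    (hcen : ∀ t : T, (∀ r : T, (r : Ω) ∈ R → θ r * θ t = θ t * θ r) → ∃ r : T, (r : Ω) ∈ R ∧ θ t = θ r) :
    ∃ (X : Type w) (_ : Group X) (π : L →* X) (ι' : T' →* X), Function.Surjective π ∧ N'.IsModel p X ι' := by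
  obtain ⟨X, hX, π, ι', hπ, hM, -⟩ := exists_model_factor' p hT N ι hι hsyl hQ hQn hRn θ N' hfac hcen
  exact ⟨X, hX, π, ι', hπ, hM⟩

end Cfsg.Agent.Lib.Helper90.QM
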