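import Mathlib
import Cfsg.Agent.Lib.Helper90.QuotModel3
import Cfsg.Agent.Lib.Helper90.QuotModel4
import Cfsg.Agent.Lib.Helper90.ModelFusion
import Cfsg.Agent.Lib.Helper87.FusionNormalizer
import Cfsg.Agent.S5091
import Cfsg.Agent.S5098
import Cfsg.Agent.S5103
import Cfsg.Agent.S5126
import Cfsg.Prelude.Def_FusionReduction

set_option autoImplicit false

/-!
If `F` (saturated over a finite `p`-group) is `H`-free and `Q` is strongly closed in `F`, then every factor system
`F/Q` is `H`-free.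
-/

namespace Cfsg.Agent.Lib.Helper90.QM

open Cfsg Cfsg.FusionSystem
open Cfsg.Agent.Lib.Helper87 (hom_le hom_mem finite_of_le normalizerIn_le le_normalizerIn mem_centralizerIn
  pullConj pullConj_mem ι_pullConj pullConj_mem_hom normalizerSystem normalizerSystem_isNormalizerSystem isConj_refl)
open Cfsg.Agent.Lib.Helper88 (mem_preimageAlong preimageAlong_le kernel_le_preimageAlong exists_preimage)

universe u v w

/-- In a group realizing `N`, the image of a strongly closed subgroup lying in a normal subgroup of the image of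
`T` is normal. -/
theorem normal_map_of_stronglyClosed {Ω : Type u} [Group Ω] {T : Subgroup Ω} (N : FusionSystem T)
    {L : Type w} [Group L] (ι : T →* L) (hι : N.IsRealizedBy ι) (O : Subgroup L) [hO : O.Normal]
    (hOr : O ≤ ι.range) {A : Subgroup Ω} (hA : N.StronglyClosed A) (hAO : (A.subgroupOf T).map ι ≤ O) :
    ((A.subgroupOf T).map ι).Normal := by
  constructor
  rintro _ ⟨a, ha, rfl⟩ g
  have hgr : ∀ x : A, g * ι ⟨x, hA.1 x.2⟩ * g⁻¹ ∈ ι.range := fun x =>
    hOr (hO.conj_mem _ (hAO ⟨⟨x, hA.1 x.2⟩, x.2, rfl⟩) g)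
  have hφ := pullConj_mem_hom N hι A hA.1 g hgr
  have ha' : (a : Ω) ∈ A := ha
  have h1 := hA.2 A le_rfl _ hφ ⟨a, ha'⟩
  refine ⟨⟨pullConj ι hι.1 A hA.1 g hgr ⟨a, ha'⟩, pullConj_mem ι hι.1 A hA.1 g hgr ⟨a, ha'⟩⟩, h1, ?_⟩
  exact ι_pullConj ι hι.1 A hA.1 g hgr ⟨a, ha'⟩

set_option maxHeartbeats 1000000 in
/-- **Factor systems of `H`-free systems are `H`-free.** -/
theorem isSectionFree_factor {Ω : Type u} [Group Ω] {S : Subgroup Ω} [Finite S] (p : ℕ) [Fact p.Prime]
    (hS : IsPGroup p S) (F : FusionSystem S) (hF : F.IsSaturated p) (Q : Subgroup Ω) (hQ : F.StronglyClosed Q)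
    {H : Type w} [Group H] (hfree : F.IsSectionFree p H)
    {Ω' : Type v} [Group Ω'] {S' : Subgroup Ω'} (θ : S →* Ω') (E : FusionSystem S')
    (hE : F.IsFactorSystem Q θ E) : E.IsSectionFree p H := by
  intro R' hfn hcen N' hN' L' _ ι' hM' hinv
  have hRfn := isFullyNormalized_preimageAlong F θ E hQ hE hfn
  have hRcen := isCentric_preimageAlong F θ E hQ hE hcen
  have hRS : preimageAlong θ R' ≤ S := preimageAlong_le θ R'
  have hTS : normalizerIn S (preimageAlong θ R') ≤ S := normalizerIn_le S _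
  have hN := normalizerSystem_isNormalizerSystem F (preimageAlong θ R') hRS
  haveI hfinT : Finite ↥(normalizerIn S (preimageAlong θ R')) := finite_of_le hTS
  have hT : IsPGroup p ↥(normalizerIn S (preimageAlong θ R')) := hS.to_le hTS
  have hNsat := Cfsg.Agent.S5098.result p hS F hF _ hRfn _ hN
  have hRnor := Cfsg.Agent.S5126.isNormal_normalizerSystem F _ hRS _ hN
  have hRcen' := Cfsg.Agent.S5126.isCentric_normalizerSystem F _ hRcen _ hN
  have hNC : ModelFusion.NC (normalizerSystem F (preimageAlong θ R') hRS) p (preimageAlong θ R') :=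
    ⟨hNsat, hRnor, hRcen'⟩
  obtain ⟨L, _, ι, hM⟩ := hNC.exists_isModel hT
  have hnotinv := hfree _ hRfn hRcen _ hN L ι hM
  apply hnotinv
  obtain ⟨hfinL, hι, hsyl, hcentL⟩ := id hM
  -- normality of the images of `Q` and `R`
  have hQR : Q ≤ preimageAlong θ R' := kernel_le_preimageAlong θ hE.1 hE.2.1 R'
  have hRT : preimageAlong θ R' ≤ normalizerIn S (preimageAlong θ R') := le_normalizerIn hRS
  have hQscN : (normalizerSystem F (preimageAlong θ R') hRS).StronglyClosed Q := by
    refine ⟨hQR.trans hRT, fun A hA φ hφ x => ?_⟩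
    rw [hN A] at hφ
    exact hQ.2 A hA φ hφ.1 x
  have hRscN := Cfsg.Agent.Lib.Helper90.IsNormal.stronglyClosed _ hRnor
  haveI hOn : (pCore p L).Normal := Cfsg.Agent.Lib.Helper52.pCore_normal p L
  have hOr : pCore p L ≤ ι.range := by
    obtain ⟨P₀, hP₀⟩ := hsyl
    rw [← hP₀]
    exact Cfsg.Agent.Lib.Helper52.pCore_le_sylow p L P₀
  have hRO := Cfsg.Agent.S5126.map_le_pCore_of_isNormal p hT _ ι hM _ hRnor
  have hQO : (Q.subgroupOf (normalizerIn S (preimageAlong θ R'))).map ι ≤ pCore p L := by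
    refine le_trans ?_ hRO
    rintro _ ⟨q, hq, rfl⟩
    exact ⟨q, hQR hq, rfl⟩
  have hQn := normal_map_of_stronglyClosed _ ι hι (pCore p L) hOr hQscN hQO
  have hRn := normal_map_of_stronglyClosed _ ι hι (pCore p L) hOr hRscN hRO
  have hfacN := isFactorSystem_normalizer F θ E hQ hE hfn.1 _ hN N' hN'
  -- the centralizer condition
  have hcen' : ∀ t : ↥(normalizerIn S (preimageAlong θ R')),
      (∀ r : ↥(normalizerIn S (preimageAlong θ R')), (r : Ω) ∈ preimageAlong θ R' →
        (θ.comp (Subgroup.inclusion hTS)) r * (θ.comp (Subgroup.inclusion hTS)) t =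
          (θ.comp (Subgroup.inclusion hTS)) t * (θ.comp (Subgroup.inclusion hTS)) r) →
      ∃ r : ↥(normalizerIn S (preimageAlong θ R')), (r : Ω) ∈ preimageAlong θ R' ∧
        (θ.comp (Subgroup.inclusion hTS)) t = (θ.comp (Subgroup.inclusion hTS)) r := by
    intro t ht
    have h1 : θ (Subgroup.inclusion hTS t) ∈ centralizerIn S' R' := by
      rw [mem_centralizerIn]
      refine ⟨?_, fun y hy => ?_⟩
      · rw [← hE.2.2.1]
        exact ⟨_, rfl⟩
      · obtain ⟨s, hs, hsR, hsy⟩ := exists_preimage θ hE.2.2.1 hfn.1 ⟨y, hy⟩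
        have h2 := ht ⟨s, hRT hsR⟩ hsR
        have hsy' : θ ⟨s, hs⟩ = y := hsy
        rw [← hsy']
        exact h2
    have h3 := hcen.2 R' (isConj_refl E hfn.1) h1
    obtain ⟨s, hs, hsR, hsy⟩ := exists_preimage θ hE.2.2.1 hfn.1 ⟨_, h3⟩
    exact ⟨⟨s, hRT hsR⟩, hsR, hsy.symm⟩
  obtain ⟨X, _, π, ι'', hπ, hM''⟩ := exists_model_factor p hT _ ι hι hsyl hQscN hQn hRn _ N' hfacN hcen'
  -- `T'` is a finite `p`-group
  have hT'S' : normalizerIn S' R' ≤ S' := normalizerIn_le S' R'
  haveI hfinS' : Finite ↥S' := by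
    rw [← hE.2.2.1]
    exact Finite.of_surjective θ.rangeRestrict θ.rangeRestrict_surjective
  have hS' : IsPGroup p ↥S' := by
    rw [← hE.2.2.1]
    exact hS.of_surjective θ.rangeRestrict θ.rangeRestrict_surjective
  haveI hfinT' : Finite ↥(normalizerIn S' R') := finite_of_le hT'S'
  have hT' : IsPGroup p ↥(normalizerIn S' R') := hS'.to_le hT'S'
  have hconstr := Cfsg.Agent.S5103.result p hT' N' ι'' hM''
  obtain ⟨φ, -⟩ := Cfsg.Agent.S5091.result p hT' N' hconstr ι'' ι' hM'' hM'
  have h4 : Involves H X :=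
    Cfsg.Agent.Lib.Helper90.Involves.of_injective_right φ.symm.toMonoidHom φ.symm.injective hinv
  exact involves_of_surjective π hπ h4

end Cfsg.Agent.Lib.Helper90.QM
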