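import Mathlib
import Cfsg.Agent.Lib.Helper05.A10Defs

/-!
# K-A10 LEAF B4 (keystone 348906, S3489, architect helper5): `K = ⟨gA, gB⟩` is contained in the list `elt`
-/

set_option autoImplicit false

namespace Cfsg.Agent.Lib.Helper90.A10Iso

open Matrix Cfsg.Agent.Lib.Helper05.A10Iso

theorem tabA_tabAi : ∀ i : Fin 240, tabA (tabAi i) = i := by decide +kernel

theorem tabB_tabBi : ∀ i : Fin 240, tabB (tabBi i) = i := by decide +kernel

theorem elt_zero : elt 0 = 1 := by decide +kernel

/-- LEAF B4. -/
theorem K_le_elt (hA : ∀ i : Fin 240, matA * elt i = elt (tabA i))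
    (hB : ∀ i : Fin 240, matB * elt i = elt (tabB i)) :
    ∀ k ∈ K, ∃ i : Fin 240, ((k : GL4) : M4) = elt i := by
  intro k hk
  unfold K at hk
  induction hk using Subgroup.closure_induction_left with
  | one => exact ⟨0, by rw [elt_zero]; rfl⟩
  | mul_left x hx y hy ih =>
    obtain ⟨i, hi⟩ := ih
    rcases hx with rfl | rfl
    · refine ⟨tabA i, ?_⟩
      rw [Units.val_mul, hi]
      exact hA i
    · refine ⟨tabB i, ?_⟩
      rw [Units.val_mul, hi]
      exact hB i
  | inv_mul_cancel x hx y hy ih =>
    obtain ⟨i, hi⟩ := ih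
    rcases hx with rfl | rfl
    · refine ⟨tabAi i, ?_⟩
      rw [Units.val_mul, hi]
      show matAi * elt i = elt (tabAi i)
      calc matAi * elt i = matAi * elt (tabA (tabAi i)) := by rw [tabA_tabAi]
        _ = matAi * (matA * elt (tabAi i)) := by rw [hA]
        _ = elt (tabAi i) := by rw [← mul_assoc, matAi_mul_matA, one_mul]
    · refine ⟨tabBi i, ?_⟩
      rw [Units.val_mul, hi]
      show matBi * elt i = elt (tabBi i)
      calc matBi * elt i = matBi * elt (tabB (tabBi i)) := by rw [tabB_tabBi]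
        _ = matBi * (matB * elt (tabBi i)) := by rw [hB]
        _ = elt (tabBi i) := by rw [← mul_assoc, matBi_mul_matB, one_mul]

end Cfsg.Agent.Lib.Helper90.A10Iso
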