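import Mathlib
import Cfsg.Agent.Lib.Helper70.AGDefs

/-!
Leaf A7 of pack K-4188 (S4188, architect helper70), keystone 418807:
a group of order `3` has at most two automorphisms.
-/

set_option autoImplicit false

namespace Cfsg.Agent.Lib.Helper90.AG

theorem card_mulAut_le_two {W : Type*} [Group W] (h : Nat.card W = 3) : Nat.card (MulAut W) ≤ 2 := by
  classical
  haveI : Finite W := Nat.finite_of_card_ne_zero (by omega)
  haveI : Fact (Nat.Prime 3) := ⟨by norm_num⟩
  haveI : Nontrivial W := Finite.one_lt_card_iff_nontrivial.mp (by omega)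
  obtain ⟨g, hg⟩ := exists_ne (1 : W)
  have htop : Subgroup.zpowers g = ⊤ := zpowers_eq_top_of_prime_card h hg
  let f : MulAut W → {w : W // w ≠ 1} := fun φ => ⟨φ g, by
    intro h1
    exact hg ((MulEquiv.map_eq_one_iff φ).mp h1)⟩
  have hf : Function.Injective f := by
    intro φ ψ hφψ
    have hg' : φ g = ψ g := congrArg Subtype.val hφψ
    apply MulEquiv.ext
    intro w
    have hw : w ∈ Subgroup.zpowers g := by rw [htop]; trivial
    obtain ⟨k, rfl⟩ := Subgroup.mem_zpowers_iff.mp hw
    rw [map_zpow, map_zpow, hg']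
  haveI : Fintype W := Fintype.ofFinite W
  have hcard : Nat.card {w : W // w ≠ 1} = 2 := by
    rw [Nat.card_eq_fintype_card, Fintype.card_subtype_compl, Fintype.card_subtype_eq,
      ← Nat.card_eq_fintype_card, h]
  calc Nat.card (MulAut W) ≤ Nat.card {w : W // w ≠ 1} := Nat.card_le_card_of_injective f hf
    _ = 2 := hcard

end Cfsg.Agent.Lib.Helper90.AG
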