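import Mathlib
import Cfsg.Prelude.Def_GeometricClasses
import Cfsg.Agent.Lib.Helper61.AschDefs
import Cfsg.Agent.Lib.Helper61.AschBasic
import Cfsg.Agent.Lib.Helper04.AschE3
import Cfsg.Agent.Lib.Helper46.AschODefs
import Cfsg.Agent.Lib.Helper46.AschOBasic
import Cfsg.Agent.Lib.Helper41.AschOE5a
import Cfsg.Agent.Lib.Helper48.AschOE5b

/-!
Pieces for K-S5673-F33 (architect helper46, owner helper97): a similarity of a tensor-power form that is a factor
permutation times a pure tensor is a similarity factor by factor.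
-/

set_option autoImplicit false
set_option linter.unusedSectionVars false
set_option linter.unusedVariables false

namespace Cfsg.Agent.Lib.Helper90.AschO

open Cfsg Cfsg.Geo Cfsg.Agent.Lib.Helper61.Asch Cfsg.Agent.Lib.Helper46.AschO
open Cfsg.Agent.Lib.Helper04.Asch (pureAt PT ptGL permMat)
open scoped Matrix Kronecker MatrixGroups

section Pure

variable {F : Type*} [Field F] {m t : ℕ}

/-- comparing two pure tensors: `PT a = c • PT b` with `c ≠ 0` and all `b i ≠ 0` forces `a i = d i • b i`. -/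
theorem PT_eq_smul_PT (a b : Fin t → Matrix (Fin m) (Fin m) F) (c : F) (hc : c ≠ 0) (hb : ∀ i, b i ≠ 0)
    (h : PT a = c • PT b) :
    ∃ d : Fin t → F, (∀ i, d i ≠ 0) ∧ (∏ i, d i = c) ∧ ∀ i, a i = d i • b i := by
  classical
  have hex : ∀ i, ∃ pq : Fin m × Fin m, b i pq.1 pq.2 ≠ 0 := by
    intro i
    by_contra hcon
    push Not at hcon
    exact hb i (Matrix.ext fun r s => hcon (r, s))
  choose pq hpq using hex
  let p : Fin t → Fin m := fun i => (pq i).1
  let q : Fin t → Fin m := fun i => (pq i).2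
  have hβ : ∀ i, b i (p i) (q i) ≠ 0 := hpq
  have hprodβ : ∏ i, b i (p i) (q i) ≠ 0 := Finset.prod_ne_zero_iff.mpr fun i _ => hβ i
  have h0 : ∏ i, a i (p i) (q i) = c * ∏ i, b i (p i) (q i) := by
    have := congrFun (congrFun h p) q
    rwa [Matrix.smul_apply, Cfsg.Agent.Lib.Helper04.Asch.PT_apply, Cfsg.Agent.Lib.Helper04.Asch.PT_apply,
      smul_eq_mul] at this
  have hprodα : ∏ i, a i (p i) (q i) ≠ 0 := by
    rw [h0]
    exact mul_ne_zero hc hprodβ
  have hα : ∀ i, a i (p i) (q i) ≠ 0 := fun i => (Finset.prod_ne_zero_iff.mp hprodα) i (Finset.mem_univ i)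
  refine ⟨fun i => a i (p i) (q i) / b i (p i) (q i), fun i => div_ne_zero (hα i) (hβ i), ?_, ?_⟩
  · rw [Finset.prod_div_distrib, h0, mul_div_assoc, div_self hprodβ, mul_one]
  · intro i
    ext r s
    have h1 := congrFun (congrFun h (Function.update p i r)) (Function.update q i s)
    rw [Matrix.smul_apply, Cfsg.Agent.Lib.Helper41.AschO.e5a_PT_update,
      Cfsg.Agent.Lib.Helper41.AschO.e5a_PT_update, smul_eq_mul] at h1
    have h2 := h0
    rw [← Finset.mul_prod_erase Finset.univ _ (Finset.mem_univ i),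
      ← Finset.mul_prod_erase Finset.univ (fun j => b j (p j) (q j)) (Finset.mem_univ i)] at h2
    have hAe : ∏ j ∈ Finset.univ.erase i, a j (p j) (q j) ≠ 0 :=
      Finset.prod_ne_zero_iff.mpr fun j _ => hα j
    rw [Matrix.smul_apply, smul_eq_mul]
    -- h1 : a i r s * A = c * (b i r s * B);  h2 : α_i * A = c * (β_i * B)
    have hβi := hβ i
    have hαi := hα i
    set A := ∏ j ∈ Finset.univ.erase i, a j (p j) (q j)
    set B := ∏ j ∈ Finset.univ.erase i, b j (p j) (q j)
    apply mul_right_cancel₀ hAe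
    apply mul_right_cancel₀ hβi
    -- goal: a i r s * A * β = α / β * b i r s * A * β
    have : a i (p i) (q i) / b i (p i) (q i) * b i r s * A * b i (p i) (q i) =
        b i r s * (a i (p i) (q i) * A) := by
      field_simp
    rw [this, h2, h1]
    ring

/-- the transpose of a factor permutation matrix -/
theorem permMat_transpose (σ : Equiv.Perm (Fin t)) :
    (permMat m σ : Matrix (Fin t → Fin m) (Fin t → Fin m) F)ᵀ = permMat m σ⁻¹ := by
  ext x y
  rw [Matrix.transpose_apply, Cfsg.Agent.Lib.Helper04.Asch.permMat_apply,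
    Cfsg.Agent.Lib.Helper04.Asch.permMat_apply]
  have : (x = y ∘ σ) ↔ (y = x ∘ (σ⁻¹ : Equiv.Perm (Fin t))) := by
    constructor
    · rintro rfl; funext j; simp
    · rintro rfl; funext j; simp
  simp only [this]

/-- congruence of a pure tensor by a factor permutation times a pure tensor -/
theorem perm_PT_congr (σ : Equiv.Perm (Fin t)) (u g : Fin t → Matrix (Fin m) (Fin m) F) :
    ((permMat m σ : Matrix (Fin t → Fin m) (Fin t → Fin m) F) * PT u)ᵀ * PT g *
        ((permMat m σ : Matrix (Fin t → Fin m) (Fin t → Fin m) F) * PT u) =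
      PT (fun i => (u i)ᵀ * g (σ i) * u i) := by
  have h1 : (permMat m σ⁻¹ : Matrix (Fin t → Fin m) (Fin t → Fin m) F) * PT g * permMat m σ =
      PT (fun i => g (σ i)) := by
    rw [Cfsg.Agent.Lib.Helper04.Asch.permMat_mul_PT, Matrix.mul_assoc,
      Cfsg.Agent.Lib.Helper04.Asch.permMat_mul_permMat, inv_mul_cancel,
      Cfsg.Agent.Lib.Helper04.Asch.permMat_one, Matrix.mul_one]
    rfl
  rw [Matrix.transpose_mul, permMat_transpose, Cfsg.Agent.Lib.Helper48.AschO.PT_transpose]
  calc PT (fun i => (u i)ᵀ) * permMat m σ⁻¹ * PT g * (permMat m σ * PT u)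
      = PT (fun i => (u i)ᵀ) * (permMat m σ⁻¹ * PT g * permMat m σ) * PT u := by
        simp only [Matrix.mul_assoc]
    _ = PT (fun i => (u i)ᵀ * g (σ i) * u i) := by
        rw [h1, Cfsg.Agent.Lib.Helper04.Asch.PT_mul, Cfsg.Agent.Lib.Helper04.Asch.PT_mul]

end Pure

section Sim

variable {F : Type*} [Field F] [Fintype F] {n : ℕ}

/-- the action of a transported matrix on a transported vector -/
theorem reindex_mulVec_comp {m t : ℕ} (e : Fin n ≃ (Fin t → Fin m))
    (M : Matrix (Fin t → Fin m) (Fin t → Fin m) F) (x : (Fin t → Fin m) → F) :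
    (Matrix.reindex e.symm e.symm M) *ᵥ (x ∘ e) = (M *ᵥ x) ∘ e := by
  ext i
  simp only [Matrix.reindex_apply, Equiv.symm_symm, Matrix.mulVec, dotProduct, Matrix.submatrix_apply,
    Function.comp_apply]
  exact Fintype.sum_equiv e _ _ (fun j => rfl)

/-- an element in normal form acts through its normal form on transported vectors -/
theorem normal_form_mulVec {m t : ℕ} (e : Fin n ≃ (Fin t → Fin m)) (P k : GL (Fin n) F) (d : F)
    (M : Matrix (Fin t → Fin m) (Fin t → Fin m) F)
    (hkf : (k : Matrix (Fin n) (Fin n) F) = d • ((P : Matrix (Fin n) (Fin n) F) * Matrix.reindex e.symm e.symm M *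
        ((P⁻¹ : GL (Fin n) F) : Matrix (Fin n) (Fin n) F)))
    (x : (Fin t → Fin m) → F) :
    (k : Matrix (Fin n) (Fin n) F) *ᵥ ((P : Matrix (Fin n) (Fin n) F) *ᵥ (x ∘ e)) =
      d • ((P : Matrix (Fin n) (Fin n) F) *ᵥ ((M *ᵥ x) ∘ e)) := by
  rw [hkf, Matrix.smul_mulVec, Matrix.mulVec_mulVec, Matrix.mul_assoc, Matrix.mul_assoc, ← Units.val_mul,
    inv_mul_cancel, Units.val_one, Matrix.mul_one, ← Matrix.mulVec_mulVec, reindex_mulVec_comp]

/-- K-S5673-F33 (iii): a similarity in normal form is a similarity factor by factor. -/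
theorem factor_similarity (Q : (Fin n → F) → F) (hQ : IsNondegenerateQuadraticForm Q) (m t : ℕ)
    (e : Fin n ≃ (Fin t → Fin m)) (P : GL (Fin n) F) (g : Fin t → Matrix (Fin m) (Fin m) F)
    (hg : ∀ i, g i ≠ 0)
    (hform : ∀ x y : (Fin t → Fin m) → F,
      QuadraticMap.polar Q ((P : Matrix (Fin n) (Fin n) F) *ᵥ (x ∘ e)) ((P : Matrix (Fin n) (Fin n) F) *ᵥ (y ∘ e)) =
        ∑ a, ∑ b, x a * PT g a b * y b)
    (k : GL (Fin n) F) (hk : k ∈ quadSimilarityGroup Q)
    (σ : Equiv.Perm (Fin t)) (u : Fin t → GL (Fin m) F) (d : F) (hd : d ≠ 0)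
    (hkf : (k : Matrix (Fin n) (Fin n) F) = d • ((P : Matrix (Fin n) (Fin n) F) * Matrix.reindex e.symm e.symm
        ((permMat m σ : Matrix (Fin t → Fin m) (Fin t → Fin m) F) *
          PT (fun i => (u i : Matrix (Fin m) (Fin m) F))) *
        ((P⁻¹ : GL (Fin n) F) : Matrix (Fin n) (Fin n) F))) :
    ∃ c : Fin t → F, (∀ i, c i ≠ 0) ∧
      ∀ i, ((u i : Matrix (Fin m) (Fin m) F))ᵀ * g (σ i) * (u i : Matrix (Fin m) (Fin m) F) = c i • g i := by
  classical
  obtain ⟨μ, hμ⟩ := hk
  obtain ⟨M, hM⟩ : ∃ M : Matrix (Fin t → Fin m) (Fin t → Fin m) F,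
      M = (permMat m σ : Matrix (Fin t → Fin m) (Fin t → Fin m) F) *
        PT (fun i => (u i : Matrix (Fin m) (Fin m) F)) := ⟨_, rfl⟩
  rw [← hM] at hkf
  have hmat : Mᵀ * PT g * M = ((μ : F) / d ^ 2) • PT g := by
    ext a b
    have h1 := polar_similarity hμ ((P : Matrix (Fin n) (Fin n) F) *ᵥ ((Pi.single a 1 : (Fin t → Fin m) → F) ∘ e))
      ((P : Matrix (Fin n) (Fin n) F) *ᵥ ((Pi.single b 1 : (Fin t → Fin m) → F) ∘ e))
    rw [normal_form_mulVec e P k d M hkf, normal_form_mulVec e P k d M hkf,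
      hQ.polar_bilinear.smul_left, hQ.polar_bilinear.smul_right, hform, hform,
      Cfsg.Agent.Lib.Helper48.AschO.sum_sum_eq_dotProduct, Cfsg.Agent.Lib.Helper48.AschO.sum_sum_eq_dotProduct,
      Cfsg.Agent.Lib.Helper48.AschO.mulVec_dot_mulVec, Matrix.mulVec_single_one, Matrix.mulVec_single_one,
      single_one_dotProduct, single_one_dotProduct] at h1
    rw [Matrix.smul_apply, smul_eq_mul]
    have h3 : (Mᵀ * PT g * M) a b = (μ : F) * PT g a b / d ^ 2 := by
      rw [eq_div_iff (pow_ne_zero 2 hd)]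
      simp only [Matrix.col_apply] at h1
      rw [← h1]
      ring
    rw [h3]
    ring
  rw [hM, perm_PT_congr] at hmat
  obtain ⟨c, hc0, -, hc⟩ := PT_eq_smul_PT _ g ((μ : F) / d ^ 2)
    (div_ne_zero μ.ne_zero (pow_ne_zero 2 hd)) hg hmat
  exact ⟨c, hc0, hc⟩

end Sim

end Cfsg.Agent.Lib.Helper90.AschO
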