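import Mathlib
import Cfsg.Agent.Lib.Helper71.BG1310Defs
import Cfsg.Agent.Lib.Helper13.BG135
import Cfsg.Agent.Lib.Helper13.BG139W
import Cfsg.Agent.Lib.Helper13.BG12B
import Cfsg.Agent.Lib.Helper03.FrobSub
import Cfsg.Agent.Lib.Helper16.BG134Base
import Cfsg.Agent.Lib.Helper01.BG134T3N
import Cfsg.Agent.Lib.Helper71.BG11a
import Cfsg.Agent.S1415
import Cfsg.Agent.S1428

/-!
# K-BG1310-G (keystone 131007, architect helper71), part 0: Frobenius–Wielandt for `S₀ X` on `M_σ`,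
with LEAF B (`C_{M_σ}(S₀) = C_{M_σ}(E₃)`) as a hypothesis
-/

set_option autoImplicit false
set_option linter.unusedSectionVars false
set_option linter.unusedVariables false

namespace Cfsg.Agent.Lib.Helper90.BG1310

open Cfsg Cfsg.Agent.Lib.Helper55 Cfsg.Agent.Lib.Helper31.BG134 Cfsg.Agent.Lib.Helper71.BG1310

variable {G : Type*} [Group G] [Finite G]

/-- S1428 in the form used by BG 13.5 -/
theorem h1428 (hG : IsMinSimpleOddOrder G) : Cfsg.Agent.Lib.Helper13.BG135.H1428 G :=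
  fun M hM E hE p hp P hPE hP R hRE hR =>
    Cfsg.Agent.S1428.result hG M hM E hE p hp P hPE hP R hRE hR

/-- LEAF G with LEAF B as a hypothesis. -/
theorem NR.wielandt_of {M E E₁ E₃ : Subgroup G} (c : NR M E E₁ E₃) {X : Subgroup G} (hX : X ≤ E₁)
    (hX1 : X ≠ ⊥) {S₀ : Subgroup G} (hS₀ : S₀ ≤ E₃) (hS₀c : (Nat.card S₀).Prime)
    (hfpf : ∀ x ∈ X, x ≠ 1 → S₀ ⊓ Subgroup.centralizer ({x} : Set G) = ⊥)
    (hB : CP M S₀ = CP M E₃) :
    Nat.card ↥(CP M E₁ ⊓ CP M E₃) ^ Nat.card X * Nat.card ↥(sigmaCore M) =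
      Nat.card ↥(CP M E₁) ^ Nat.card X * Nat.card ↥(CP M E₃) := by
  have hG := c.hG
  have hM := c.hM
  have hE := c.hE
  obtain ⟨-, h15a, h15b⟩ := Cfsg.Agent.S1415.result hG M hM E hE
  have hE₁c : IsCyclic E₁ := h15a E₁ c.hE₁
  obtain ⟨hE₃c, -, hE₃n⟩ := h15b E₃ c.hE₃
  have hE₁E : E₁ ≤ E := c.hE₁.1
  have hE₃E : E₃ ≤ E := c.hE₃.1
  have hEM : E ≤ M := hE.1
  have hHall := Cfsg.Agent.Lib.Helper16.BG134.hall_sigma hG hM
  have hA : CP M X = CP M E₁ :=
    Cfsg.Agent.Lib.Helper13.BG135.prime_action_subgroup hG (h1428 hG) hM hE c.hE₁ hE₁c hX hX1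
  -- `S₀` is normalized by `E`
  have hES₀ : E ≤ Subgroup.normalizer (S₀ : Set G) :=
    hE₃n.trans
      (Cfsg.Agent.Lib.Helper01.BG134.normalizer_le_normalizer_of_isCyclic E₃ S₀ hE₃c hS₀)
  have hSXE : S₀ ⊔ X ≤ E := sup_le (hS₀.trans hE₃E) (hX.trans hE₁E)
  have hMσtop : sigmaCore M ≠ ⊤ := by
    intro h
    apply hM.1
    rw [eq_top_iff, ← h]
    exact Cfsg.Agent.Lib.Helper71.BG11.sigmaCore_le M
  have hW := Cfsg.Agent.Lib.Helper03.FrobSub.wielandt_sub S₀ X (sigmaCore M) ?_ ?_ ?_ ?_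
    (ms_solvable hG hMσtop) ?_
  · rw [Cfsg.Agent.Lib.Helper13.BG139.centralizer_sup_eq] at hW
    have e1 : sigmaCore M ⊓ (Subgroup.centralizer (S₀ : Set G) ⊓ Subgroup.centralizer (X : Set G)) =
        CP M E₁ ⊓ CP M E₃ := by
      rw [← hA, ← hB]
      show _ = (sigmaCore M ⊓ Subgroup.centralizer (X : Set G)) ⊓
        (sigmaCore M ⊓ Subgroup.centralizer (S₀ : Set G))
      rw [inf_inf_distrib_left, inf_comm (sigmaCore M ⊓ Subgroup.centralizer (S₀ : Set G))]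
    have e2 : sigmaCore M ⊓ Subgroup.centralizer (X : Set G) = CP M E₁ := hA
    have e3 : sigmaCore M ⊓ Subgroup.centralizer (S₀ : Set G) = CP M E₃ := hB
    rw [e1, e2, e3] at hW
    exact hW
  · -- `X` normalizes `S₀`
    intro e he u hu
    have h1 := hES₀ ((hX.trans hE₁E) he)
    exact (Subgroup.mem_normalizer_iff.mp h1 u).mp hu
  · -- fixed-point-free
    intro e he he1 u hu hcomm
    have h1 : u ∈ S₀ ⊓ Subgroup.centralizer ({e} : Set G) := by
      refine Subgroup.mem_inf.mpr ⟨hu, ?_⟩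
      rw [Subgroup.mem_centralizer_iff]
      intro g hg
      rw [Set.mem_singleton_iff] at hg
      subst hg
      exact hcomm
    rw [hfpf e he he1] at h1
    exact Subgroup.mem_bot.mp h1
  · -- `S₀` nilpotent
    haveI : Fact (Nat.card S₀).Prime := ⟨hS₀c⟩
    haveI : IsCyclic ↥S₀ := isCyclic_of_prime_card rfl
    letI : CommGroup ↥S₀ := IsCyclic.commGroup
    exact CommGroup.isNilpotent
  · -- `S₀ ⊔ X` normalizes `M_σ`
    intro x hx h hh
    have h1 := Cfsg.Agent.Lib.Helper71.BG11.le_normalizer_sigmaCore M (hEM (hSXE hx))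
    exact (Subgroup.mem_normalizer_iff.mp h1 h).mp hh
  · -- coprime
    have h1 : (Nat.card ↥E).Coprime (Nat.card ↥(sigmaCore M)) :=
      Cfsg.Agent.Lib.Helper13.BG12.coprime_of_primes_disjoint
        (Cfsg.Agent.Lib.Helper13.BG12.complIn_prime_not_mem_sigma hHall hE) hHall.2.1
    exact (h1.coprime_dvd_left (Subgroup.card_dvd_of_le hSXE)).symm

end Cfsg.Agent.Lib.Helper90.BG1310
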