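import Mathlib
import Cfsg.Agent.Lib.Helper90.BG1310G0
import Cfsg.Agent.Lib.Helper90.BG1310B

/-!
# K-BG1310-G (keystone 131007, architect helper71): Frobenius–Wielandt for `S₀ X` on `M_σ`
-/

set_option autoImplicit false
set_option linter.unusedSectionVars false
set_option linter.unusedVariables false

namespace Cfsg.Agent.Lib.Helper90.BG1310

open Cfsg Cfsg.Agent.Lib.Helper55 Cfsg.Agent.Lib.Helper31.BG134 Cfsg.Agent.Lib.Helper71.BG1310

variable {G : Type*} [Group G] [Finite G]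

/-- **LEAF G (131007)  NR.wielandt**. -/
theorem NR.wielandt {M E E₁ E₃ : Subgroup G} (c : NR M E E₁ E₃) {X : Subgroup G} (hX : X ≤ E₁)
    (hX1 : X ≠ ⊥) {S₀ : Subgroup G} (hS₀ : S₀ ≤ E₃) (hS₀c : (Nat.card S₀).Prime)
    (hfpf : ∀ x ∈ X, x ≠ 1 → S₀ ⊓ Subgroup.centralizer ({x} : Set G) = ⊥) :
    Nat.card ↥(CP M E₁ ⊓ CP M E₃) ^ Nat.card X * Nat.card ↥(sigmaCore M) =
      Nat.card ↥(CP M E₁) ^ Nat.card X * Nat.card ↥(CP M E₃) := by
  have hS₀1 : S₀ ≠ ⊥ := by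
    intro h
    rw [h, Subgroup.card_bot] at hS₀c
    exact Nat.not_prime_one hS₀c
  exact NR.wielandt_of c hX hX1 hS₀ hS₀c hfpf
    (prime_action_tau3 c.hG c.hM c.hE c.hE₃ hS₀ hS₀1)

end Cfsg.Agent.Lib.Helper90.BG1310
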