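import Mathlib
import Cfsg.Agent.Lib.Helper15.BG139Defs
import Cfsg.Agent.Lib.Helper16.BG134Asm
import Cfsg.Agent.Lib.Helper13.BG12B
import Cfsg.Agent.Lib.Helper31.BG12a
import Cfsg.Agent.Lib.Helper31.FittingHall
import Cfsg.Agent.Lib.Helper71.BG11a
import Cfsg.Agent.Lib.Helper71.BG10Sub
import Cfsg.Agent.Lib.Helper01.BGBeta
import Cfsg.Agent.Lib.Helper01.BG134T3N
import Cfsg.Agent.Lib.Helper12.CNMaxSub
import Cfsg.Agent.S1420
import Cfsg.Agent.S1423
import Cfsg.Agent.S1415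

/-!
# K-S1378-K3b (keystone 137818, architect helper15): BG 13.9, step 16(i)

In the case `r ∈ σ(H)` every prime divisor of `|C_{M_σ}(P)|` lies in `τ₁(H)`.
-/

set_option autoImplicit false
set_option linter.unusedSectionVars false
set_option linter.unusedVariables false

namespace Cfsg.Agent.Lib.Helper90.BG139

open Cfsg Cfsg.Agent.Lib.Helper55 Cfsg.Agent.Lib.Helper31.BG134 Cfsg.Agent.Lib.Helper15.BG139

variable {G : Type*} [Group G] [Finite G]

/-- the centralizer of a cyclic subgroup is the centralizer of its generator -/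
theorem centralizer_zpowers_eq (x : G) :
    Subgroup.centralizer ((Subgroup.zpowers x : Subgroup G) : Set G) =
      Subgroup.centralizer ({x} : Set G) := by
  ext y
  rw [Subgroup.mem_centralizer_iff, Subgroup.mem_centralizer_iff]
  constructor
  · intro h z hz
    rw [Set.mem_singleton_iff] at hz
    subst hz
    exact h z (Subgroup.mem_zpowers z)
  · intro h z hz
    obtain ⟨k, rfl⟩ := Subgroup.mem_zpowers_iff.mp hz
    have hc : Commute x y := h x (Set.mem_singleton x)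
    exact (hc.zpow_left k).eq

/-- **K-S1378-K3b** (step 16(i) of BG 13.9). -/
theorem sigma_primes {M N P H : Subgroup G} {r : ℕ} (lM : Loc M P H r) (lN : Loc N P H r)
    (hnc : ∀ g : G, cj g M ≠ N) (hrσ : r ∈ sigma H)
    (hTOOL : ∀ Y : Subgroup G, Y ≤ M → Y ≤ H →
      (∀ q : ℕ, q.Prime → q ∣ Nat.card Y → q ∉ sigma H) → Y ≤ CP M P) :
    ∀ t : ℕ, t.Prime → t ∣ Nat.card ↥(CP M P) → t ∈ tau1 H := by
  intro t ht htd
  have hG := lM.o.hG
  have hM := lM.o.hM
  have hN := lN.o.hM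
  have hH := lM.hH
  haveI : Fact t.Prime := ⟨ht⟩
  have hHall := Cfsg.Agent.Lib.Helper16.BG134.hall_sigma hG hH
  have hCM : CP M P ≤ sigmaCore M := inf_le_left
  have hCcent : CP M P ≤ Subgroup.centralizer (P : Set G) := inf_le_right
  have hCH : CP M P ≤ H := by rw [← lM.hC]; exact inf_le_right
  have hσM : sigmaCore M ≤ M := Cfsg.Agent.Lib.Helper71.BG11.sigmaCore_le M
  have htσM : t ∈ sigma M :=
    Cfsg.Agent.Lib.Helper71.BG11.sigmaCore_pi hG hM ht (htd.trans (Subgroup.card_dvd_of_le hCM))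
  have htσH : t ∉ sigma H := fun h => lM.hσ t h htσM
  have htβ : t ∈ beta M := lM.o.hCβ t ht htd
  -- Cauchy
  obtain ⟨x', hx'⟩ := exists_prime_orderOf_dvd_card' t htd
  obtain ⟨x, hx⟩ : ∃ x : G, x = (x' : G) := ⟨_, rfl⟩
  have hxC : x ∈ CP M P := hx ▸ x'.2
  have hox : orderOf x = t := by rw [hx, Subgroup.orderOf_coe]; exact hx'
  have hx1 : x ≠ 1 := by
    intro h
    rw [h, orderOf_one] at hox
    exact ht.one_lt.ne hox
  have hxM : x ∈ M := hσM (hCM hxC)
  have hxH : x ∈ H := hCH hxC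
  obtain ⟨X, hX⟩ : ∃ X : Subgroup G, X = Subgroup.zpowers x := ⟨_, rfl⟩
  have hXc : Nat.card X = t := by rw [hX, Nat.card_zpowers]; exact hox
  have hXC : X ≤ CP M P := by rw [hX]; exact Subgroup.zpowers_le.mpr hxC
  have hXM : X ≤ M := hXC.trans (hCM.trans hσM)
  have hXH : X ≤ H := hXC.trans hCH
  have hXcent : Subgroup.centralizer (X : Set G) = Subgroup.centralizer ({x} : Set G) := by
    rw [hX]; exact centralizer_zpowers_eq x
  have hXprime : ∀ q : ℕ, q.Prime → q ∣ Nat.card X → q = t := by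
    intro q hq hqd
    rw [hXc] at hqd
    exact (Nat.prime_dvd_prime_iff_eq hq ht).mp hqd
  -- `M` is the only maximal subgroup over `C_G(X)`
  have h1423 := (Cfsg.Agent.S1423.result hG M hM t htσM X hXM hXc
    (default : Sylow t ↥(sigmaCore M)) (Or.inl htβ)).1
  have htH : t ∣ Nat.card H := htd.trans (Subgroup.card_dvd_of_le hCH)
  rcases Cfsg.Agent.Lib.Helper16.BG134.mem_tau_cases hG hH ht htH htσH with h1 | h2 | h3
  · exact h1
  · -- `t ∈ τ₂(H)`
    exfalso
    have hr : r.Prime := lM.o.hr1.1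
    have hPH : P ≤ H := Subgroup.le_normalizer.trans lM.hNH
    have hPσ : P ≤ sigmaCore H := by
      apply Cfsg.Agent.Lib.Helper71.BG10.le_of_isPiHallOf_normal hHall
        (Cfsg.Agent.Lib.Helper71.BG11.le_normalizer_sigmaCore H) hPH
      intro q hq hqd
      rw [lM.o.hPc] at hqd
      rw [(Nat.prime_dvd_prime_iff_eq hq hr).mp hqd]
      exact hrσ
    have hP1 : P ≠ ⊥ := by
      intro h
      have h1 := lM.o.hPc
      rw [h, Subgroup.card_bot] at h1
      exact hr.one_lt.ne h1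
    obtain ⟨y, hyP, hy1⟩ := (Subgroup.ne_bot_iff_exists_ne_one.mp hP1 : ∃ a : ↥P, a ≠ 1) |>.elim
      (fun a ha => (⟨(a : G), a.2, fun h => ha (Subtype.ext h)⟩ : ∃ y : G, y ∈ P ∧ y ≠ 1))
    have hxy : x * y = y * x :=
      ((Subgroup.mem_centralizer_iff.mp (hCcent hxC)) y hyP).symm
    have hhat : x ∈ sigmaHat H := ⟨hxH, y, hPσ hyP, hy1, hxy⟩
    obtain ⟨E, hE, -⟩ := Cfsg.Agent.Lib.Helper13.BG12.exists_complIn_ge hG hH hHall
      (K := ⊥) bot_le (by
        intro q hq hqd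
        rw [Subgroup.card_bot] at hqd
        exact absurd (Nat.dvd_one.mp hqd) hq.one_lt.ne')
    have h1420 := (Cfsg.Agent.S1420.result hG H hH E hE).2.2.2 x hxH hx1 (by
      intro q hq hqd
      rw [hox] at hqd
      rw [(Nat.prime_dvd_prime_iff_eq hq ht).mp hqd]
      exact h2) hhat
    have hMH : M = H := h1420.2 M hM (by rw [← hXcent]; exact h1423.1)
    exact lM.hnc 1 (by rw [cj_one]; exact hMH)
  · -- `t ∈ τ₃(H)`
    exfalso
    have hXσ : ∀ q : ℕ, q.Prime → q ∣ Nat.card X → q ∉ sigma H := by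
      intro q hq hqd
      rw [hXprime q hq hqd]
      exact htσH
    obtain ⟨EH, hEH, hXE⟩ :=
      Cfsg.Agent.Lib.Helper13.BG12.exists_complIn_ge hG hH hHall hXH hXσ
    have hEHtop : EH ≠ ⊤ := by
      intro h
      apply hH.1
      rw [eq_top_iff, ← h]
      exact hEH.1
    have : Group.IsSolvable ↥EH := ms_solvable hG hEHtop
    obtain ⟨H₀, hE₃, -⟩ := Cfsg.Agent.Lib.Helper01.BGBeta.exists_hallOf EH (tau3 H)
    obtain ⟨E₃, hE₃def⟩ : ∃ E₃ : Subgroup G, E₃ = H₀.map EH.subtype := ⟨_, rfl⟩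
    rw [← hE₃def] at hE₃
    obtain ⟨hE₃c, -, hE₃n⟩ := (Cfsg.Agent.S1415.result hG H hH EH hEH).2.2 E₃ hE₃
    have hXE₃ : X ≤ E₃ := by
      apply Cfsg.Agent.Lib.Helper71.BG10.le_of_isPiHallOf_normal hE₃ hE₃n hXE
      intro q hq hqd
      rw [hXprime q hq hqd]
      exact h3
    have hEHX : EH ≤ Subgroup.normalizer (X : Set G) :=
      hE₃n.trans
        (Cfsg.Agent.Lib.Helper01.BG134.normalizer_le_normalizer_of_isCyclic E₃ X hE₃c hXE₃)
    -- `N_G(X) ≤ M`
    have hX1 : X ≠ ⊥ := by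
      intro h
      rw [h, Subgroup.card_bot] at hXc
      exact ht.one_lt.ne hXc
    have hXtop : X ≠ ⊤ := by
      intro h
      apply hH.1
      rw [eq_top_iff, ← h]
      exact hXH
    obtain ⟨L, hL, hNL⟩ := Cfsg.Agent.Lib.Helper12.CNMaxSub.exists_coatom_normalizer_le hG hX1 hXtop
    have hLM : L = M := h1423.2 L hL ((Subgroup.centralizer_le_normalizer _).trans hNL)
    have hEHM : EH ≤ M := by rw [← hLM]; exact hEHX.trans hNL
    have hEHC : EH ≤ CP M P :=
      hTOOL EH hEHM hEH.1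
        (Cfsg.Agent.Lib.Helper13.BG12.complIn_prime_not_mem_sigma hHall hEH)
    -- `|CP N P|` divides `|EH|`
    have hCNH : CP N P ≤ H := by rw [← lN.hC]; exact inf_le_right
    have hcard := Cfsg.Agent.Lib.Helper31.IsComplIn.card_mul hEH
    have hcop : (Nat.card ↥(CP N P)).Coprime (Nat.card ↥(sigmaCore H)) := by
      apply Cfsg.Agent.Lib.Helper13.BG12.coprime_of_primes_disjoint (π := sigma H)
      · intro q hq hqd hqσ
        exact lN.hσ q hqσ (Cfsg.Agent.Lib.Helper71.BG11.sigmaCore_pi hG hN hq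
          (hqd.trans (Subgroup.card_dvd_of_le inf_le_left)))
      · intro q hq hqd
        exact hHall.2.1 q hq hqd
    have hdvd1 : Nat.card ↥(CP N P) ∣ Nat.card ↥EH := by
      apply hcop.dvd_of_dvd_mul_right
      rw [hcard]
      exact Subgroup.card_dvd_of_le hCNH
    have hdvd2 : Nat.card ↥(CP N P) ∣ Nat.card ↥(CP M P) :=
      hdvd1.trans (Subgroup.card_dvd_of_le hEHC)
    have hCN1 : Nat.card ↥(CP N P) ≠ 1 := fun h => lN.o.hC1 (Subgroup.card_eq_one.mp h)
    obtain ⟨t', ht', ht'd⟩ := Nat.exists_prime_and_dvd hCN1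
    have hα : t' ∈ alpha M := (lM.o.hCβ t' ht' (ht'd.trans hdvd2)).1
    have hσ : t' ∈ sigma N :=
      Cfsg.Agent.Lib.Helper71.BG11.sigmaCore_pi hG hN ht'
        (ht'd.trans (Subgroup.card_dvd_of_le inf_le_left))
    exact Cfsg.Agent.Lib.Helper31.BG12.alpha_sigma_disjoint hG hM hN hnc hα hσ

end Cfsg.Agent.Lib.Helper90.BG139
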