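import Mathlib
import Cfsg.Prelude.Def_Blocks
import Cfsg.Agent.Lib.Helper01.CD3Defs
import Cfsg.Agent.Lib.Helper26.CD3KEY
import Cfsg.Agent.Lib.Helper90.CD3KBot0

/-!
Pack K-CD3 (S4460, architect helper1), keystone 446023 K-CD3-KBOT: `case_K_bot`, exact spec signature
(`case_K_bot_of_key` + `Helper26.CD3.key_core`).
-/

set_option autoImplicit false

namespace Cfsg.Agent.Lib.Helper90.CD3

open Cfsg Cfsg.Agent.Lib.Helper01.CD3

universe u

/-- 446023 K-CD3-KBOT: case `K = ⊥`: if every nontrivial normal subgroup contains `G'`, then `G'' = 1`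
(nonlinear irreducibles are faithful; if `Z(G) ≠ 1` then `G' ≤ Z(G)`; else `key_core`). -/
theorem case_K_bot {G : Type u} [Group G] [Finite G] {m n : ℕ} (hm : 1 < m) (hn : 1 < n)
    (hmn : Nat.Coprime m n) (hcd : ThreeDeg G m n)
    (hm' : ∃ χ : G → ℂ, IsIrrCharacter G χ ∧ charDegree χ = m)
    (hn' : ∃ χ : G → ℂ, IsIrrCharacter G χ ∧ charDegree χ = n)
    (hquot : ∀ L : Subgroup G, L.Normal → L ≠ ⊥ → commutator G ≤ L) :
    derivedSeries G 2 = ⊥ := by
  haveI := Fintype.ofFinite G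
  exact case_K_bot_of_key hm hn
    (fun χ ψ hχ hψ h1 h2 h3 h4 =>
      Cfsg.Agent.Lib.Helper26.CD3.key_core hm hn hmn hcd hχ hψ h1 h2 h3 h4) hm' hn' hquot

end Cfsg.Agent.Lib.Helper90.CD3
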