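import Mathlib

set_option autoImplicit false

/-!
Transfer (norm) argument for fixed points: if a group `A` acts by automorphisms on a commutative group `V` of exponent
dividing `n`, and `T ≤ A` has finite index prime to `n`, then the fixed points of `A` are a direct factor of the fixed
points of `T`.
-/

namespace Cfsg.Agent.Lib.Helper90

open scoped Classical in
/-- The norm map `v ↦ ∏_{q ∈ A/T} q.out • v`. -/
noncomputable def normMap {A V : Type*} [Group A] [CommGroup V] [MulDistribMulAction A V] (T : Subgroup A)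
    [Fintype (A ⧸ T)] : V →* V where
  toFun v := ∏ q : A ⧸ T, (q.out : A) • v
  map_one' := by simp
  map_mul' v w := by
    simp only [smul_mul']
    exact Finset.prod_mul_distrib

theorem normMap_apply {A V : Type*} [Group A] [CommGroup V] [MulDistribMulAction A V] (T : Subgroup A)
    [Fintype (A ⧸ T)] (v : V) : normMap T v = ∏ q : A ⧸ T, (q.out : A) • v := rfl

theorem smul_eq_of_coset {A V : Type*} [Group A] [CommGroup V] [MulDistribMulAction A V] (T : Subgroup A)
    {v : V} (hv : ∀ t ∈ T, t • v = v) {a b : A} (h : a⁻¹ * b ∈ T) : a • v = b • v := by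
  have e : b = a * (a⁻¹ * b) := by group
  rw [e, mul_smul, hv _ h]

theorem smul_normMap {A V : Type*} [Group A] [CommGroup V] [MulDistribMulAction A V] (T : Subgroup A)
    [Fintype (A ⧸ T)] {v : V} (hv : ∀ t ∈ T, t • v = v) (b : A) : b • normMap T v = normMap T v := by
  rw [normMap_apply, Finset.smul_prod']
  have h1 : ∀ q : A ⧸ T, b • ((q.out : A) • v) = (((b • q : A ⧸ T)).out : A) • v := by
    intro q
    rw [← mul_smul]
    apply smul_eq_of_coset T hv
    rw [← QuotientGroup.eq]
    rw [QuotientGroup.out_eq']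
    conv_rhs => rw [← QuotientGroup.out_eq' q]
    rfl
  simp only [h1]
  exact (MulAction.bijective b).prod_comp (fun q : A ⧸ T => (q.out : A) • v)

theorem normMap_of_fixed {A V : Type*} [Group A] [CommGroup V] [MulDistribMulAction A V] (T : Subgroup A)
    [Fintype (A ⧸ T)] {v : V} (hv : ∀ a : A, a • v = v) : normMap T v = v ^ T.index := by
  rw [normMap_apply]
  simp only [hv]
  rw [Finset.prod_const, Finset.card_univ, Subgroup.index, Nat.card_eq_fintype_card]

/-- Fixed points of the whole group are a direct factor of the fixed points of a subgroup of index prime to the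
exponent. -/
theorem exists_fixedPoints_complement {A V : Type*} [Group A] [CommGroup V] [MulDistribMulAction A V]
    (T : Subgroup A) [T.FiniteIndex] (n : ℕ) (hn : ∀ v : V, v ^ n = 1) (hcop : Nat.Coprime n T.index) :
    ∃ K : Subgroup V, (∀ v ∈ K, ∀ t ∈ T, t • v = v) ∧ (∀ v ∈ K, (∀ a : A, a • v = v) → v = 1) ∧
      (∀ v : V, (∀ t ∈ T, t • v = v) →
        ∃ w k, (∀ a : A, a • w = w) ∧ k ∈ K ∧ v = w * k) := by
  classical
  haveI : Fintype (A ⧸ T) := Fintype.ofFinite _
  let CT : Subgroup V :=
    { carrier := {v | ∀ t ∈ T, t • v = v}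
      one_mem' := fun t _ => smul_one t
      mul_mem' := fun {a b} ha hb t ht => by rw [smul_mul', ha t ht, hb t ht]
      inv_mem' := fun {a} ha t ht => by rw [smul_inv', ha t ht] }
  refine ⟨CT ⊓ (normMap T).ker, fun v hv => hv.1, fun v hv hfix => ?_, fun v hv => ?_⟩
  · have h1 : v ^ T.index = 1 := by
      rw [← normMap_of_fixed T hfix]; exact hv.2
    have h2 : v ^ Nat.gcd n T.index = 1 := pow_gcd_eq_one.mpr ⟨hn v, h1⟩
    rw [Nat.Coprime] at hcop
    rw [hcop, pow_one] at h2
    exact h2
  · set w₀ := normMap T v with hw₀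
    have hw₀fix : ∀ a : A, a • w₀ = w₀ := fun a => smul_normMap T hv a
    have hbez : (n : ℤ) * Int.gcdA n T.index + (T.index : ℤ) * Int.gcdB n T.index = 1 := by
      have := Int.gcd_eq_gcd_ab (n : ℤ) (T.index : ℤ)
      rw [← this]
      have : Int.gcd (n : ℤ) (T.index : ℤ) = 1 := by
        rw [Int.gcd_natCast_natCast]; exact hcop
      rw [this]; rfl
    set y := Int.gcdB n T.index with hy
    set w := w₀ ^ y with hw
    have hwfix : ∀ a : A, a • w = w := fun a => by rw [hw, smul_zpow', hw₀fix]
    have hwpow : w ^ T.index = w₀ := by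
      rw [hw, ← zpow_natCast, ← zpow_mul, mul_comm]
      have e : (T.index : ℤ) * y = 1 - (n : ℤ) * Int.gcdA n T.index := by rw [← hbez]; ring
      rw [e, zpow_sub, zpow_one, zpow_mul, zpow_natCast, hn, one_zpow, inv_one, mul_one]
    refine ⟨w, v * w⁻¹, hwfix, ⟨?_, ?_⟩, ?_⟩
    · intro t ht
      rw [smul_mul', smul_inv', hv t ht, hwfix]
    · show v * w⁻¹ ∈ (normMap T).ker
      rw [MonoidHom.mem_ker, map_mul, map_inv, normMap_of_fixed T hwfix, hwpow]
      exact mul_inv_cancel _
    · rw [mul_comm v, mul_inv_cancel_left]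

end Cfsg.Agent.Lib.Helper90
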