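import Mathlib
import Cfsg.Agent.Lib.Helper87.FusionAut
import Cfsg.Agent.Lib.Helper87.FusionSaturated
import Cfsg.Agent.Lib.Helper87.NormalizerBasic
import Cfsg.Agent.Lib.Helper88.FusionHP19
import Cfsg.Agent.Lib.Helper30.ExtLayer
import Cfsg.Agent.Lib.Helper52.PCore
import Cfsg.Agent.Lib.Helper01.PCore

set_option autoImplicit false

/-!
`p`-stability of fusion systems: basic transport lemmas (`O_p` of automizers, quadratic automorphisms), and the passage to subsystems.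
-/

namespace Cfsg.Agent.Lib.Helper90.PSF

open Cfsg Cfsg.FusionSystem

section group

variable {A : Type*} [Group A]

/-- `O_p(K)` of a subgroup `K`, as a subgroup of the ambient group -/
def OpOf (p : ℕ) (K : Subgroup A) : Subgroup A := (pCore p ↥K).map K.subtype

theorem OpOf_le (p : ℕ) (K : Subgroup A) : OpOf p K ≤ K := Subgroup.map_subtype_le _

theorem isPGroup_OpOf (p : ℕ) (K : Subgroup A) : IsPGroup p ↥(OpOf p K) :=
  (Cfsg.Agent.Lib.Helper30.isPGroup_pCore p ↥K).map _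

theorem conj_mem_OpOf {p : ℕ} {K : Subgroup A} {k x : A} (hk : k ∈ K) (hx : x ∈ OpOf p K) :
    k * x * k⁻¹ ∈ OpOf p K := by
  obtain ⟨y, hy, rfl⟩ := hx
  have := (Cfsg.Agent.Lib.Helper52.pCore_normal p ↥K).conj_mem y hy ⟨k, hk⟩
  exact ⟨_, this, rfl⟩

theorem le_OpOf {p : ℕ} {K M : Subgroup A} (hMK : M ≤ K) (hM : IsPGroup p ↥M)
    (hn : ∀ k ∈ K, ∀ m ∈ M, k * m * k⁻¹ ∈ M) : M ≤ OpOf p K := by
  have h1 : (M.subgroupOf K).Normal := ⟨fun m hm k => by
    rw [Subgroup.mem_subgroupOf] at hm ⊢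
    exact hn k k.2 m hm⟩
  have h2 : IsPGroup p ↥(M.subgroupOf K) := hM.comap_subtype
  intro m hm
  exact ⟨⟨m, hMK hm⟩, Cfsg.Agent.Lib.Helper01.le_pCore h1 h2 (Subgroup.mem_subgroupOf.mpr hm), rfl⟩

theorem OpOf_inf_le {p : ℕ} {H K : Subgroup A} (hHK : H ≤ K) : OpOf p K ⊓ H ≤ OpOf p H := by
  apply le_OpOf inf_le_right ((isPGroup_OpOf p K).to_le inf_le_left)
  intro k hk m hm
  exact ⟨conj_mem_OpOf (hHK hk) hm.1, H.mul_mem (H.mul_mem hk hm.2) (H.inv_mem hk)⟩

theorem OpOf_map_equiv {A' : Type*} [Group A'] (p : ℕ) (e : A ≃* A') (K : Subgroup A) :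
    (OpOf p K).map e.toMonoidHom = OpOf p (K.map e.toMonoidHom) := by
  apply le_antisymm
  · apply le_OpOf (Subgroup.map_mono (OpOf_le p K)) ((isPGroup_OpOf p K).map _)
    rintro _ ⟨k, hk, rfl⟩ _ ⟨m, hm, rfl⟩
    exact ⟨k * m * k⁻¹, conj_mem_OpOf hk hm, by simp⟩
  · have key : (OpOf p (K.map e.toMonoidHom)).map e.symm.toMonoidHom ≤ OpOf p K := by
      apply le_OpOf
      · rintro _ ⟨y, hy, rfl⟩
        obtain ⟨k, hk, hky⟩ := OpOf_le p _ hy
        rw [← hky]
        simpa using hk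
      · exact (isPGroup_OpOf p _).map _
      · rintro k hk _ ⟨m, hm, rfl⟩
        exact ⟨e k * m * (e k)⁻¹, conj_mem_OpOf ⟨k, hk, rfl⟩ hm, by simp⟩
    intro y hy
    exact ⟨e.symm y, key ⟨y, hy, rfl⟩, by simp⟩

theorem isPGroup_zpowers_of_pow_eq_one {p : ℕ} {x : A} {k : ℕ} (h : x ^ p ^ k = 1) :
    IsPGroup p ↥(Subgroup.zpowers x) := by
  rintro ⟨z, hz⟩
  obtain ⟨i, rfl⟩ := Subgroup.mem_zpowers_iff.mp hz
  refine ⟨k, Subtype.ext ?_⟩
  show (x ^ i) ^ p ^ k = 1
  rw [← zpow_natCast, ← zpow_mul, mul_comm, zpow_mul, zpow_natCast, h, one_zpow]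

end group

section quad

variable {Q : Type*} [Group Q]

/-- a quadratic automorphism -/
def Quad (χ : MulAut Q) : Prop := ∀ a : Q, (χ a⁻¹) * a * (χ a⁻¹) * (χ (χ a)) = 1

theorem Quad.congr {Q' : Type*} [Group Q'] (e : Q ≃* Q') {χ : MulAut Q} (h : Quad χ) :
    Quad (MulAut.congr e χ) := by
  intro b
  have h1 := h (e.symm b)
  have key : ∀ y, MulAut.congr e χ y = e (χ (e.symm y)) := fun y => rfl
  rw [key, key, key]
  apply e.symm.injective
  simp only [map_mul, map_inv, MulEquiv.symm_apply_apply, map_one]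
  simpa using h1

theorem Quad.fix {χ : MulAut Q} (h : Quad χ) (a : Q) : χ (a⁻¹ * χ a) = a⁻¹ * χ a := by
  have h1 := h a
  rw [map_inv] at h1
  have h2 : χ (χ a) = χ a * a⁻¹ * χ a := by
    have : (χ a)⁻¹ * a * (χ a)⁻¹ * χ (χ a) = 1 := h1
    calc χ (χ a) = (χ a * a⁻¹ * χ a) * ((χ a)⁻¹ * a * (χ a)⁻¹ * χ (χ a)) := by group
      _ = χ a * a⁻¹ * χ a := by rw [this, mul_one]
  rw [map_mul, map_inv, h2]
  group

theorem Quad.pow_apply {χ : MulAut Q} (h : Quad χ) (a : Q) (n : ℕ) :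
    (χ ^ n) a = a * (a⁻¹ * χ a) ^ n := by
  induction n with
  | zero => simp
  | succ n ih =>
    rw [pow_succ', MulAut.mul_apply, ih, map_mul, map_pow, h.fix a, pow_succ', ← mul_assoc,
      mul_inv_cancel_left]

theorem Quad.pow_card [Finite Q] {χ : MulAut Q} (h : Quad χ) : χ ^ Nat.card Q = 1 := by
  ext a
  rw [h.pow_apply, pow_card_eq_one', mul_one, MulAut.one_apply]

end quad

section fusion

variable {Ω : Type*} [Group Ω] {S : Subgroup Ω}

/-- `p`-stability of a fusion system -/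
def Stable (p : ℕ) {T : Subgroup Ω} (E : FusionSystem T) : Prop :=
  ∀ Q : Subgroup Ω, E.IsFullyNormalized Q → ∀ χ : MulAut ↥Q, χ ∈ E.autGroup Q →
    (∀ a : ↥Q, (χ a⁻¹) * a * (χ a⁻¹) * (χ (χ a)) = 1) →
      χ ∈ ((Cfsg.pCore p ↥(E.autGroup Q)).map (E.autGroup Q).subtype : Subgroup (MulAut ↥Q))

/-- the stability condition holds at all subgroups, not only at the fully normalized ones -/
theorem Stable.all [Finite S] {p : ℕ} {F : FusionSystem S} (h : Stable p F) {Q : Subgroup Ω} (hQ : Q ≤ S)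
    {χ : MulAut ↥Q} (hχ : χ ∈ F.autGroup Q) (hq : Quad χ) : χ ∈ OpOf p (F.autGroup Q) := by
  obtain ⟨Q', hconj, hfn⟩ := Cfsg.Agent.Lib.Helper87.exists_isFullyNormalized F hQ
  obtain ⟨e, he⟩ := Cfsg.Agent.Lib.Helper87.exists_isFIso_of_isConj F hconj
  have h1 : MulAut.congr e χ ∈ F.autGroup Q' :=
    (Cfsg.Agent.Lib.Helper87.congr_mem_autGroup_iff F he χ).mpr hχ
  have h2 : MulAut.congr e χ ∈ OpOf p (F.autGroup Q') := h Q' hfn _ h1 (hq.congr e)
  have h3 : OpOf p (F.autGroup Q') = (OpOf p (F.autGroup Q)).map (MulAut.congr e).toMonoidHom := by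
    rw [OpOf_map_equiv, Cfsg.Agent.Lib.Helper87.map_congr_autGroup F he]
  rw [h3] at h2
  obtain ⟨χ', hχ', heq⟩ := h2
  have : χ' = χ := (MulAut.congr e).injective heq
  rw [← this]
  exact hχ'

/-- stability passes to subsystems -/
theorem Stable.sub [Finite S] {p : ℕ} {F : FusionSystem S} (h : Stable p F) {T : Subgroup Ω} (hTS : T ≤ S)
    (E : FusionSystem T) (hsub : E.IsSubsystemOf F) : Stable p E := by
  intro Q hfn χ hχ hq
  have hle := Cfsg.Agent.Lib.Helper88.autGroup_le_of_sub E F hsub Q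
  have h2 := h.all (hfn.1.trans hTS) (hle hχ) hq
  exact OpOf_inf_le hle ⟨h2, hχ⟩

theorem isSubsystemOf_of_isNormalizerSystem (F : FusionSystem S) (R : Subgroup Ω)
    (N : FusionSystem (normalizerIn S R)) (hN : F.IsNormalizerSystem R N) : N.IsSubsystemOf F := by
  intro P φ hφ
  rw [hN P] at hφ
  exact hφ.1

/-- in a `p`-stable system all normalizer systems are `p`-stable -/
theorem Stable.normalizerSystem [Finite S] {p : ℕ} {F : FusionSystem S} (h : Stable p F) (R : Subgroup Ω)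
    (N : FusionSystem (normalizerIn S R)) (hN : F.IsNormalizerSystem R N) : Stable p N :=
  h.sub inf_le_left N (isSubsystemOf_of_isNormalizerSystem F R N hN)

end fusion

end Cfsg.Agent.Lib.Helper90.PSF
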