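import Mathlib
import Cfsg.Agent.S5160
import Cfsg.Agent.Lib.Helper90.PStabFus

set_option autoImplicit false

/-!
A concrete criterion for the simplicity of the fusion system of a finite group on a Sylow subgroup, through the
criterion S5160: the family of the abelian self-centralizing subgroups `R ⊴ S` on whose non-identity elements `N_G(R)` is
transitive.
-/

namespace Cfsg.Agent.Lib.Helper90.FSC

open Cfsg Cfsg.FusionSystem
open Cfsg.Agent.Lib.Helper87 (mem_autGroup_iff conjAut conjAut_apply)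

variable {G : Type*} [Group G]

/-- in a finite group `g R g⁻¹ ≤ R` forces `g ∈ N(R)` -/
theorem mem_normalizer_of_conj_mem [Finite G] (R : Subgroup G) (g : G) (h : ∀ r ∈ R, g * r * g⁻¹ ∈ R) :
    g ∈ Subgroup.normalizer (R : Set G) := by
  rw [Subgroup.mem_normalizer_iff]
  intro r
  refine ⟨h r, fun hr => ?_⟩
  let f : R → R := fun x => ⟨g * x * g⁻¹, h x x.2⟩
  have hf : Function.Injective f := by
    intro a b hab
    have : g * (a : G) * g⁻¹ = g * (b : G) * g⁻¹ := congrArg Subtype.val hab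
    exact Subtype.ext (mul_left_cancel (mul_right_cancel this))
  obtain ⟨x, hx⟩ := (Finite.injective_iff_surjective.mp hf) ⟨g * r * g⁻¹, hr⟩
  have : g * (x : G) * g⁻¹ = g * r * g⁻¹ := congrArg Subtype.val hx
  have hxr : (x : G) = r := mul_left_cancel (mul_right_cancel this)
  rw [← hxr]
  exact x.2

/-- the properties of a subgroup `R` of `S` used below -/
structure Good (p : ℕ) (S R : Subgroup G) : Prop where
  le : R ≤ S
  normal : ∀ s ∈ S, ∀ x ∈ R, s * x * s⁻¹ ∈ R
  comm : ∀ x ∈ R, ∀ y ∈ R, x * y = y * x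
  cent : ∀ c : G, (∀ x ∈ R, c * x = x * c) → c ∈ R
  trans : ∀ x ∈ R, ∀ y ∈ R, x ≠ 1 → y ≠ 1 → ∃ g : G, (∀ z ∈ R, g * z * g⁻¹ ∈ R) ∧ g * x * g⁻¹ = y

section good

variable [Finite G] {p : ℕ} [Fact p.Prime] {S : Sylow p G} {R : Subgroup G}

theorem Good.isFullyNormalized (h : Good p (S : Subgroup G) R) :
    (groupFusionSystem (S : Subgroup G)).IsFullyNormalized R := by
  refine ⟨h.le, fun Q _ => ?_⟩
  have h1 : normalizerIn (S : Subgroup G) R = (S : Subgroup G) := by
    apply le_antisymm inf_le_left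
    intro s hs
    exact ⟨hs, mem_normalizer_of_conj_mem R s (h.normal s hs)⟩
  rw [h1]
  exact Nat.card_le_card_of_injective (Subgroup.inclusion (inf_le_left : normalizerIn (S : Subgroup G) Q ≤ S))
    (Subgroup.inclusion_injective _)

theorem Good.isCentric (h : Good p (S : Subgroup G) R) :
    (groupFusionSystem (S : Subgroup G)).IsCentric R := by
  refine ⟨h.le, fun Q hQ => ?_⟩
  obtain ⟨φ, ⟨-, -, g, hg⟩, hr⟩ := hQ
  intro c hc
  have hcQ : ∀ y ∈ Q, y * c = c * y := fun y hy => (Subgroup.mem_centralizer_iff.mp hc.2 y hy)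
  have hQmem : ∀ x : R, g * (x : G) * g⁻¹ ∈ Q := by
    intro x
    rw [← hr, ← hg x]
    exact ⟨x, rfl⟩
  have h1 : g⁻¹ * c * g ∈ R := by
    apply h.cent
    intro x hx
    have := hcQ _ (hQmem ⟨x, hx⟩)
    have e1 : g⁻¹ * c * g * x = g⁻¹ * (c * (g * x * g⁻¹)) * g := by group
    have e2 : x * (g⁻¹ * c * g) = g⁻¹ * ((g * x * g⁻¹) * c) * g := by group
    rw [e1, e2]
    show g⁻¹ * (c * (g * x * g⁻¹)) * g = g⁻¹ * (g * x * g⁻¹ * c) * g
    rw [this]
  have := hQmem ⟨_, h1⟩
  have e3 : g * (g⁻¹ * c * g) * g⁻¹ = c := by group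
  rw [← e3]
  exact this

theorem Good.isRadical (h : Good p (S : Subgroup G) R) :
    (groupFusionSystem (S : Subgroup G)).IsRadical p R := by
  set F := groupFusionSystem (S : Subgroup G) with hF
  refine ⟨h.le, ?_⟩
  have hInn : Inn R = ⊥ := by
    rw [eq_bot_iff]
    rintro _ ⟨x, rfl⟩
    rw [Subgroup.mem_bot]
    ext y
    rw [MulAut.conj_apply, MulAut.one_apply]
    have := h.comm x x.2 y y.2
    have e : x * y * x⁻¹ = y := by
      apply Subtype.ext
      show (x : G) * y * (x : G)⁻¹ = y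
      rw [this]; group
    rw [e]
  rw [hInn, eq_bot_iff]
  haveI : Finite R := inferInstance
  have hRp : IsPGroup p R := S.isPGroup'.to_le h.le
  intro ν hν
  rw [Subgroup.mem_bot]
  have hνN : ν ∈ Cfsg.Agent.Lib.Helper90.PSF.OpOf p (F.autGroup R) := hν
  by_cases hR1 : Nontrivial R
  swap
  · rw [not_nontrivial_iff_subsingleton] at hR1
    ext x
    have : ν x = x := Subsingleton.elim _ _
    rw [this]; rfl
  -- a non-identity fixed point of `O_p(Aut_F(R))`
  set N := Cfsg.Agent.Lib.Helper90.PSF.OpOf p (F.autGroup R) with hN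
  have hNp : IsPGroup p N := Cfsg.Agent.Lib.Helper90.PSF.isPGroup_OpOf p _
  have hpR : p ∣ Nat.card R := by
    obtain ⟨k, hk⟩ := IsPGroup.iff_card.mp hRp
    rw [hk]
    have hk0 : k ≠ 0 := by
      rintro rfl
      rw [pow_zero] at hk
      have := (Nat.card_eq_one_iff_unique.mp hk).1
      exact not_subsingleton R this
    exact dvd_pow_self p hk0
  have hfix1 : (1 : R) ∈ MulAction.fixedPoints N R := by
    intro n
    show (n : MulAut R) 1 = 1
    exact map_one _
  obtain ⟨x₀, hx₀, hne⟩ := hNp.exists_fixed_point_of_prime_dvd_card_of_fixed_point R hpR hfix1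
  have hx₀fix : ∀ μ ∈ N, μ x₀ = x₀ := fun μ hμ => hx₀ ⟨μ, hμ⟩
  ext y
  rw [MulAut.one_apply]
  by_cases hy : y = 1
  · rw [hy, map_one]
  obtain ⟨g, hgR, hgxy⟩ := h.trans x₀ x₀.2 y y.2 (fun e => hne (Subtype.ext e).symm)
    (fun e => hy (Subtype.ext e))
  have hgn : g ∈ Subgroup.normalizer (R : Set G) := mem_normalizer_of_conj_mem R g hgR
  have hαA : conjAut R g hgn ∈ F.autGroup R := by
    rw [mem_autGroup_iff F h.le]
    refine ⟨h.le, fun x => h.le (conjAut R g hgn x).2, g, fun x => ?_⟩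
    exact conjAut_apply R g hgn x
  set α := conjAut R g hgn with hα
  have hαx : α x₀ = y := by
    apply Subtype.ext
    rw [hα, conjAut_apply]
    exact hgxy
  have hconj : α⁻¹ * ν * α⁻¹⁻¹ ∈ N :=
    Cfsg.Agent.Lib.Helper90.PSF.conj_mem_OpOf ((F.autGroup R).inv_mem hαA) hνN
  have h2 := hx₀fix _ hconj
  rw [inv_inv] at h2
  have h3 : (α⁻¹ * ν * α) x₀ = α⁻¹ (ν (α x₀)) := rfl
  rw [h3, hαx] at h2
  have h4 : α (α⁻¹ (ν y)) = ν y := by
    show (α * α⁻¹) (ν y) = ν y
    rw [mul_inv_cancel]; rfl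
  rw [← h4, h2, hαx]

end good

/-- **the criterion, for a given Sylow subgroup** -/
theorem isSimple_of_good [Finite G] (p : ℕ) [Fact p.Prime] (S : Sylow p G) (hS1 : (S : Subgroup G) ≠ ⊥)
    (hsc : ∀ T : Subgroup G, T ≤ (S : Subgroup G) → T ≠ ⊥ →
      (∀ x ∈ T, ∀ g : G, g * x * g⁻¹ ∈ (S : Subgroup G) → g * x * g⁻¹ ∈ T) → T = (S : Subgroup G))
    (𝓡 : Set (Subgroup G)) (hR : ∀ R ∈ 𝓡, Good p (S : Subgroup G) R)
    (hgen : ∀ g : G, (∀ x ∈ (S : Subgroup G), g * x * g⁻¹ ∈ (S : Subgroup G)) →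
      g ∈ Subgroup.closure {h : G | (∀ x ∈ (S : Subgroup G), h * x * h⁻¹ ∈ (S : Subgroup G)) ∧
        ∃ R ∈ 𝓡, h ∈ Subgroup.closure {k : G | (∀ z ∈ R, k * z * k⁻¹ ∈ R) ∧ ∃ m : ℕ, k ^ p ^ m = 1}}) :
    (groupFusionSystem (S : Subgroup G)).IsSimple p := by
  apply Cfsg.Agent.S5160.result p S hS1
  · -- strongly closed subgroups
    intro T hstrong
    by_cases hT : T = ⊥
    · exact Or.inl hT
    right
    refine hsc T hstrong.1 hT ?_
    intro x hx g hg
    have hRT : Subgroup.zpowers x ≤ T := by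
      rw [Subgroup.zpowers_le]; exact hx
    have hmem : conjHom (Subgroup.zpowers x) g ∈
        (groupFusionSystem (S : Subgroup G)).Hom (Subgroup.zpowers x) := by
      refine ⟨hRT.trans hstrong.1, ?_, g, fun y => rfl⟩
      rintro ⟨y, hy⟩
      obtain ⟨n, rfl⟩ := Subgroup.mem_zpowers_iff.mp hy
      show g * x ^ n * g⁻¹ ∈ (S : Subgroup G)
      have : g * x ^ n * g⁻¹ = (g * x * g⁻¹) ^ n := by
        rw [conj_zpow]
      rw [this]
      exact Subgroup.zpow_mem _ hg n
    exact hstrong.2 _ hRT _ hmem ⟨x, Subgroup.mem_zpowers x⟩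
  · -- generation of `Aut_G(S)`
    set J : Subgroup (MulAut (S : Subgroup G)) :=
      ⨆ (R : Subgroup G) (_ : (groupFusionSystem (S : Subgroup G)).IsFullyNormalized R ∧
        (groupFusionSystem (S : Subgroup G)).IsRadical p R ∧
        (groupFusionSystem (S : Subgroup G)).IsCentric R),
        autInducedBy (Subgroup.closure {g : G | g ∈ Subgroup.normalizer (R : Set G) ∧
          ∃ k : ℕ, orderOf g = p ^ k}) (S : Subgroup G) with hJ
    apply le_antisymm
    · intro α hα
      obtain ⟨g, -, hg⟩ := Cfsg.Agent.Lib.Helper87.mem_autInducedBy_iff.mp hα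
      have hgS : ∀ x ∈ (S : Subgroup G), g * x * g⁻¹ ∈ (S : Subgroup G) := by
        intro x hx
        rw [← hg ⟨x, hx⟩]
        exact (α ⟨x, hx⟩).2
      have key : ∀ h ∈ Subgroup.closure {h : G |
          (∀ x ∈ (S : Subgroup G), h * x * h⁻¹ ∈ (S : Subgroup G)) ∧
          ∃ R ∈ 𝓡, h ∈ Subgroup.closure {k : G | (∀ z ∈ R, k * z * k⁻¹ ∈ R) ∧ ∃ m : ℕ, k ^ p ^ m = 1}},
          ∃ hn : h ∈ Subgroup.normalizer ((S : Subgroup G) : Set G), conjAut (S : Subgroup G) h hn ∈ J := by
        intro h hh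
        induction hh using Subgroup.closure_induction with
        | mem h hh =>
          obtain ⟨hhS, R, hRm, hhR⟩ := hh
          have hn := mem_normalizer_of_conj_mem (S : Subgroup G) h hhS
          refine ⟨hn, ?_⟩
          have hgood := hR R hRm
          have hle : Subgroup.closure {k : G | (∀ z ∈ R, k * z * k⁻¹ ∈ R) ∧ ∃ m : ℕ, k ^ p ^ m = 1}
              ≤ Subgroup.closure {g : G | g ∈ Subgroup.normalizer (R : Set G) ∧
                ∃ k : ℕ, orderOf g = p ^ k} := by
            apply Subgroup.closure_mono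
            rintro k ⟨hk1, m, hk2⟩
            refine ⟨mem_normalizer_of_conj_mem R k hk1, ?_⟩
            exact (Nat.dvd_prime_pow (Fact.out : p.Prime)).mp (orderOf_dvd_of_pow_eq_one hk2) |>.imp
              fun j hj => hj.2
          have h1 : conjAut (S : Subgroup G) h hn ∈ autInducedBy (Subgroup.closure
              {g : G | g ∈ Subgroup.normalizer (R : Set G) ∧ ∃ k : ℕ, orderOf g = p ^ k})
              (S : Subgroup G) :=
            Cfsg.Agent.Lib.Helper87.mem_autInducedBy_iff.mpr ⟨h, hle hhR, fun x => conjAut_apply _ h hn x⟩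
          exact (le_iSup₂ (f := fun (R : Subgroup G)
            (_ : (groupFusionSystem (S : Subgroup G)).IsFullyNormalized R ∧
              (groupFusionSystem (S : Subgroup G)).IsRadical p R ∧
              (groupFusionSystem (S : Subgroup G)).IsCentric R) =>
            autInducedBy (Subgroup.closure {g : G | g ∈ Subgroup.normalizer (R : Set G) ∧
              ∃ k : ℕ, orderOf g = p ^ k}) (S : Subgroup G)) R
            ⟨hgood.isFullyNormalized, hgood.isRadical, hgood.isCentric⟩) h1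
        | one =>
          refine ⟨Subgroup.one_mem _, ?_⟩
          have : conjAut (S : Subgroup G) 1 (Subgroup.one_mem _) = 1 := by
            ext x
            rw [conjAut_apply]
            simp
          rw [this]
          exact J.one_mem
        | mul a b _ _ ha hb =>
          obtain ⟨han, haJ⟩ := ha
          obtain ⟨hbn, hbJ⟩ := hb
          refine ⟨Subgroup.mul_mem _ han hbn, ?_⟩
          have : conjAut (S : Subgroup G) (a * b) (Subgroup.mul_mem _ han hbn)
              = conjAut (S : Subgroup G) a han * conjAut (S : Subgroup G) b hbn := by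
            ext x
            rw [MulAut.mul_apply, conjAut_apply, conjAut_apply, conjAut_apply]
            group
          rw [this]
          exact J.mul_mem haJ hbJ
        | inv a _ ha =>
          obtain ⟨han, haJ⟩ := ha
          refine ⟨Subgroup.inv_mem _ han, ?_⟩
          have : conjAut (S : Subgroup G) a⁻¹ (Subgroup.inv_mem _ han)
              = (conjAut (S : Subgroup G) a han)⁻¹ := by
            rw [eq_inv_iff_mul_eq_one]
            ext x
            rw [MulAut.mul_apply, conjAut_apply, conjAut_apply, MulAut.one_apply]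
            group
          rw [this]
          exact J.inv_mem haJ
      obtain ⟨hn, hJg⟩ := key g (hgen g hgS)
      have : α = conjAut (S : Subgroup G) g hn := by
        ext x
        rw [hg, conjAut_apply]
      rw [this]
      exact hJg
    · apply iSup₂_le
      intro R _
      exact Cfsg.Agent.Lib.Helper87.autInducedBy_mono le_top

/-! ### transport along a conjugation -/

/-- the conjugate `g R g⁻¹` -/
def conjSub (g : G) (R : Subgroup G) : Subgroup G := R.map (MulAut.conj g).toMonoidHom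

theorem mem_conjSub {g : G} {R : Subgroup G} {x : G} : x ∈ conjSub g R ↔ g⁻¹ * x * g ∈ R := by
  constructor
  · rintro ⟨r, hr, rfl⟩
    show g⁻¹ * (g * r * g⁻¹) * g ∈ R
    have : g⁻¹ * (g * r * g⁻¹) * g = r := by group
    rw [this]; exact hr
  · intro h
    refine ⟨g⁻¹ * x * g, h, ?_⟩
    show g * (g⁻¹ * x * g) * g⁻¹ = x
    group

theorem conj_mem_conjSub {g : G} {R : Subgroup G} {x : G} (h : x ∈ R) : g * x * g⁻¹ ∈ conjSub g R :=
  ⟨x, h, rfl⟩

theorem Good.conj {p : ℕ} {S R : Subgroup G} (h : Good p S R) (g : G) :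
    Good p (conjSub g S) (conjSub g R) where
  le := fun y hy => mem_conjSub.mpr (h.le (mem_conjSub.mp hy))
  normal := by
    intro s hs x hx
    rw [mem_conjSub] at hs hx ⊢
    have := h.normal _ hs _ hx
    have e : g⁻¹ * (s * x * s⁻¹) * g = (g⁻¹ * s * g) * (g⁻¹ * x * g) * (g⁻¹ * s * g)⁻¹ := by group
    rw [e]; exact this
  comm := by
    intro x hx y hy
    rw [mem_conjSub] at hx hy
    have := h.comm _ hx _ hy
    have e1 : x * y = g * ((g⁻¹ * x * g) * (g⁻¹ * y * g)) * g⁻¹ := by group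
    have e2 : y * x = g * ((g⁻¹ * y * g) * (g⁻¹ * x * g)) * g⁻¹ := by group
    rw [e1, e2, this]
  cent := by
    intro c hc
    rw [mem_conjSub]
    apply h.cent
    intro x hx
    have := hc _ (conj_mem_conjSub (g := g) hx)
    have e1 : g⁻¹ * c * g * x = g⁻¹ * (c * (g * x * g⁻¹)) * g := by group
    have e2 : x * (g⁻¹ * c * g) = g⁻¹ * ((g * x * g⁻¹) * c) * g := by group
    rw [e1, e2, this]
  trans := by
    intro x hx y hy hx1 hy1
    rw [mem_conjSub] at hx hy
    have hx1' : g⁻¹ * x * g ≠ 1 := by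
      intro e
      apply hx1
      have : x = g * (g⁻¹ * x * g) * g⁻¹ := by group
      rw [this, e]; group
    have hy1' : g⁻¹ * y * g ≠ 1 := by
      intro e
      apply hy1
      have : y = g * (g⁻¹ * y * g) * g⁻¹ := by group
      rw [this, e]; group
    obtain ⟨k, hk1, hk2⟩ := h.trans _ hx _ hy hx1' hy1'
    refine ⟨g * k * g⁻¹, ?_, ?_⟩
    · intro z hz
      rw [mem_conjSub] at hz ⊢
      have := hk1 _ hz
      have e : g⁻¹ * (g * k * g⁻¹ * z * (g * k * g⁻¹)⁻¹) * g = k * (g⁻¹ * z * g) * k⁻¹ := by group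
      rw [e]; exact this
    · have e : g * k * g⁻¹ * x * (g * k * g⁻¹)⁻¹ = g * (k * (g⁻¹ * x * g) * k⁻¹) * g⁻¹ := by group
      rw [e, hk2]; group

/-- **the criterion, from one explicit Sylow subgroup to all of them** -/
theorem isSimple_of_good_explicit [Finite G] (p : ℕ) [Fact p.Prime] (S0 : Subgroup G)
    (hcard : Nat.card S0 = p ^ (Nat.card G).factorization p) (h1 : S0 ≠ ⊥)
    (hsc : ∀ T : Subgroup G, T ≤ S0 → T ≠ ⊥ →
      (∀ x ∈ T, ∀ g : G, g * x * g⁻¹ ∈ S0 → g * x * g⁻¹ ∈ T) → T = S0)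
    (𝓡 : Set (Subgroup G)) (hR : ∀ R ∈ 𝓡, Good p S0 R)
    (hgen : ∀ g : G, (∀ x ∈ S0, g * x * g⁻¹ ∈ S0) →
      g ∈ Subgroup.closure {h : G | (∀ x ∈ S0, h * x * h⁻¹ ∈ S0) ∧
        ∃ R ∈ 𝓡, h ∈ Subgroup.closure {k : G | (∀ z ∈ R, k * z * k⁻¹ ∈ R) ∧ ∃ m : ℕ, k ^ p ^ m = 1}})
    (S : Sylow p G) : (groupFusionSystem (S : Subgroup G)).IsSimple p := by
  classical
  obtain ⟨g, hg⟩ := MulAction.exists_smul_eq G (Sylow.ofCard S0 hcard) S
  have hSeq : (S : Subgroup G) = conjSub g S0 := by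
    rw [← hg, Sylow.coe_subgroup_smul]
    rfl
  have hmem : ∀ x : G, x ∈ (S : Subgroup G) ↔ g⁻¹ * x * g ∈ S0 := by
    intro x
    rw [hSeq, mem_conjSub]
  have hmem' : ∀ y : G, y ∈ S0 → g * y * g⁻¹ ∈ (S : Subgroup G) := by
    intro y hy
    rw [hSeq]
    exact conj_mem_conjSub hy
  apply isSimple_of_good p S ?_ ?_ {R' | ∃ R ∈ 𝓡, R' = conjSub g R}
  · rintro R' ⟨R, hRm, rfl⟩
    rw [hSeq]
    exact (hR R hRm).conj g
  · -- generation
    intro k hk
    have hk0 : ∀ x ∈ S0, (g⁻¹ * k * g) * x * (g⁻¹ * k * g)⁻¹ ∈ S0 := by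
      intro x hx
      have := (hmem _).mp (hk _ (hmem' x hx))
      have e : g⁻¹ * (k * (g * x * g⁻¹) * k⁻¹) * g = g⁻¹ * k * g * x * (g⁻¹ * k * g)⁻¹ := by group
      rwa [e] at this
    have h2 := hgen _ hk0
    have h3 : k = (MulAut.conj g).toMonoidHom (g⁻¹ * k * g) := by
      show k = g * (g⁻¹ * k * g) * g⁻¹
      group
    rw [h3]
    have h4 := Subgroup.mem_map_of_mem (MulAut.conj g).toMonoidHom h2
    rw [MonoidHom.map_closure] at h4
    refine Subgroup.closure_mono ?_ h4
    rintro _ ⟨h, ⟨hhS, R, hRm, hhR⟩, rfl⟩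
    refine ⟨?_, conjSub g R, ⟨R, hRm, rfl⟩, ?_⟩
    · intro x hx
      show g * h * g⁻¹ * x * (g * h * g⁻¹)⁻¹ ∈ (S : Subgroup G)
      have := hhS _ ((hmem x).mp hx)
      have e : g * h * g⁻¹ * x * (g * h * g⁻¹)⁻¹ = g * (h * (g⁻¹ * x * g) * h⁻¹) * g⁻¹ := by group
      rw [e]
      exact hmem' _ this
    · have h5 := Subgroup.mem_map_of_mem (MulAut.conj g).toMonoidHom hhR
      rw [MonoidHom.map_closure] at h5
      refine Subgroup.closure_mono ?_ h5
      rintro _ ⟨k', ⟨hk'1, m, hk'2⟩, rfl⟩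
      refine ⟨?_, m, ?_⟩
      · intro z hz
        show g * k' * g⁻¹ * z * (g * k' * g⁻¹)⁻¹ ∈ conjSub g R
        have := hk'1 _ (mem_conjSub.mp hz)
        have e : g * k' * g⁻¹ * z * (g * k' * g⁻¹)⁻¹ = g * (k' * (g⁻¹ * z * g) * k'⁻¹) * g⁻¹ := by group
        rw [e]
        exact conj_mem_conjSub this
      · show (g * k' * g⁻¹) ^ p ^ m = 1
        rw [conj_pow, hk'2]
        group
  · -- `S ≠ ⊥`
    obtain ⟨x, hx1⟩ := (Subgroup.ne_bot_iff_exists_ne_one).mp h1
    intro hbot
    have := hmem' x.1 x.2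
    rw [hbot, Subgroup.mem_bot] at this
    apply hx1
    have h2 : (x : G) = 1 := by
      have h3 : (x : G) = g⁻¹ * (g * x * g⁻¹) * g := by group
      rw [h3, this]; group
    exact Subtype.ext h2
  · -- strongly closed subgroups
    intro T hTS hTne hclosed
    have hT0 : conjSub g⁻¹ T = S0 := by
      apply hsc
      · intro y hy
        have := (hmem _).mp (hTS (mem_conjSub.mp hy))
        simpa [mul_assoc] using this
      · obtain ⟨x, hx1⟩ := (Subgroup.ne_bot_iff_exists_ne_one).mp hTne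
        intro hbot
        have hxm : g⁻¹ * (x : G) * g⁻¹⁻¹ ∈ conjSub g⁻¹ T := conj_mem_conjSub x.2
        rw [hbot, Subgroup.mem_bot] at hxm
        apply hx1
        have h2 : (x : G) = 1 := by
          have h3 : (x : G) = g * (g⁻¹ * x * g⁻¹⁻¹) * g⁻¹ := by group
          rw [h3, hxm]; group
        exact Subtype.ext h2
      · intro y hy h hh
        rw [mem_conjSub] at hy ⊢
        rw [inv_inv] at hy ⊢
        have h3 : g * (h * y * h⁻¹) * g⁻¹ = (g * h * g⁻¹) * (g * y * g⁻¹) * (g * h * g⁻¹)⁻¹ := by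
          group
        rw [h3]
        apply hclosed _ hy
        rw [← h3]
        exact hmem' _ hh
    apply le_antisymm hTS
    intro x hx
    have h4 := (hmem x).mp hx
    rw [← hT0, mem_conjSub, inv_inv] at h4
    have h3 : g * (g⁻¹ * x * g) * g⁻¹ = x := by group
    rwa [h3] at h4

end Cfsg.Agent.Lib.Helper90.FSC
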