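import Mathlib
import Cfsg.Prelude.Def_FusionSystem
import Cfsg.Agent.Lib.Helper87.FusionBasic
import Cfsg.Agent.Lib.Helper90.FusionAut

set_option autoImplicit false

/-!
Index-filtered subsystems: the maps of `F` which, on the subgroups `P` with `|S| < |P| + n`, preserve
membership in a fixed subgroup `N` normalized by `S`. Used for inductions on the index together with
the Alperin-Goldschmidt theorem.
-/

namespace Cfsg.Agent.Lib.Helper90

open Cfsg Cfsg.FusionSystem Cfsg.Agent.Lib.Helper87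

variable {Ω : Type*} [Group Ω] {S : Subgroup Ω}

/-- The maps of `F` that preserve membership in `N` on all large enough subgroups. -/
def presSystem [Finite S] (F : FusionSystem S) (N : Subgroup Ω)
    (hN : ∀ g ∈ S, ∀ x : Ω, x ∈ N ↔ g * x * g⁻¹ ∈ N) (n : ℕ) : FusionSystem S where
  Hom P := {φ | φ ∈ F.Hom P ∧
    (Nat.card S < Nat.card P + n → ∀ x : P, (x : Ω) ∈ N ↔ φ x ∈ N)}
  le_of_mem h := F.le_of_mem h.1
  injective_of_mem h := F.injective_of_mem h.1
  conj_mem := by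
    intro P g hP hg
    exact ⟨F.conj_mem hP hg, fun _ x => hN g hg x⟩
  comp_mem := by
    rintro P Q φ ψ ⟨hφ, hφN⟩ ⟨hψ, hψN⟩ h
    refine ⟨F.comp_mem hφ hψ h, fun hc x => ?_⟩
    have hQ : Q ≤ S := hom_le F hψ
    have : Finite Q := finite_of_le hQ
    have hcard : Nat.card P ≤ Nat.card Q := by
      refine Nat.card_le_card_of_injective (φ.codRestrict Q h) ?_
      intro a b hab
      exact F.injective_of_mem hφ (congrArg Subtype.val hab)
    have hc' : Nat.card S < Nat.card Q + n := by omega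
    rw [hφN hc x]
    exact hψN hc' ⟨φ x, h x⟩
  inv_mem := by
    rintro P φ ⟨hφ, hφN⟩
    obtain ⟨ψ, hψ, hψx⟩ := F.inv_mem hφ
    refine ⟨ψ, ⟨hψ, fun hc y => ?_⟩, hψx⟩
    obtain ⟨_, x, rfl⟩ := y
    have hcard : Nat.card φ.range = Nat.card P :=
      (Nat.card_congr (MonoidHom.ofInjective (F.injective_of_mem hφ)).toEquiv).symm
    rw [hcard] at hc
    rw [hψx x]
    exact (hφN hc x).symm

theorem mem_presSystem_hom [Finite S] (F : FusionSystem S) (N : Subgroup Ω)
    (hN : ∀ g ∈ S, ∀ x : Ω, x ∈ N ↔ g * x * g⁻¹ ∈ N) (n : ℕ) {P : Subgroup Ω} {φ : P →* Ω} :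
    φ ∈ (presSystem F N hN n).Hom P ↔ φ ∈ F.Hom P ∧
      (Nat.card S < Nat.card P + n → ∀ x : P, (x : Ω) ∈ N ↔ φ x ∈ N) := Iff.rfl

/-- To show `Aut_F(R) ≤ Aut_{E_n}(R)` it suffices to treat the generators. -/
theorem autGroup_le_presSystem [Finite S] (F : FusionSystem S) (N : Subgroup Ω)
    (hN : ∀ g ∈ S, ∀ x : Ω, x ∈ N ↔ g * x * g⁻¹ ∈ N) (n : ℕ) (R : Subgroup Ω)
    (h : Nat.card S < Nat.card R + n → ∀ α : MulAut R, R.subtype.comp α.toMonoidHom ∈ F.Hom R →
      ∀ x : R, (x : Ω) ∈ N ↔ ((α x : R) : Ω) ∈ N) :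
    F.autGroup R ≤ (presSystem F N hN n).autGroup R := by
  apply Subgroup.closure_mono
  intro α hα
  exact ⟨hα, fun hc x => h hc α hα x⟩

end Cfsg.Agent.Lib.Helper90
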