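import Mathlib
import Cfsg.Agent.Lib.Helper90.GTSparse
import Cfsg.Agent.Lib.Helper90.QuotModel5
import Cfsg.Agent.Lib.Helper87.ThompsonJ
import Cfsg.Agent.S5194

set_option autoImplicit false

/-!
Sparse fusion systems are constrained when `p` is odd or the system is `S₄`-free, via Thompson's normal `p`-complement
theorem for fusion systems (S5194) applied to the factor system modulo the largest normal subgroup.
-/

namespace Cfsg.Agent.Lib.Helper90.GT

open Cfsg Cfsg.FusionSystem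
open Cfsg.Agent.Lib.Helper87 (hom_le hom_mem hom_congr restrict_mem finite_of_le card_le_of_le
  normalizerIn_le mem_normalizerIn le_normalizerIn normalizerSystem normalizerSystem_isNormalizerSystem
  subtype_mem exists_max_nat castSys' castSys'_hom castSys'_isSaturated mem_centralizerIn)
open Cfsg.Agent.Lib.Helper88 (mem_preimageAlong preimageAlong_le kernel_le_preimageAlong exists_preimage
  factorSystem isFactorSystem_factorSystem preimageAlong_imageAlong imageAlong_le exists_induced_of_saturated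
  preimageAlong_mono mem_normalizer_preimageAlong isSaturated_of_isFactorSystem)

universe u v

variable {Ω : Type u} [Group Ω] {S : Subgroup Ω}

/-- `NI` passes to the factor system, for nontrivial subgroups normalized by the image of `S` -/
theorem NI_factor [Finite S] (F : FusionSystem S) {Q₀ : Subgroup Ω} (hsc : F.StronglyClosed Q₀)
    {Ω' : Type v} [Group Ω'] {S' : Subgroup Ω'} (θ : S →* Ω')
    (hker : ∀ s : S, θ s = 1 ↔ (s : Ω) ∈ Q₀) (hrange : θ.range = S')
    (hL : ∀ L : Subgroup Ω, Q₀ ≤ L → L ≤ S → normalizerIn S L = S → Q₀ ≠ L → NI F L)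
    {V' : Subgroup Ω'} (hV'S' : V' ≤ S') (hS'n : S' ≤ Subgroup.normalizer (V' : Set Ω')) (hV'ne : V' ≠ ⊥) :
    NI (factorSystem F Q₀ hsc θ hker hrange) V' := by
  have hE := isFactorSystem_factorSystem F Q₀ hsc θ hker hrange
  have hQL : Q₀ ≤ preimageAlong θ V' := kernel_le_preimageAlong θ hsc.1 hker _
  have hLS : preimageAlong θ V' ≤ S := preimageAlong_le θ _
  have hLN : normalizerIn S (preimageAlong θ V') = S := by
    apply le_antisymm (normalizerIn_le S _)
    intro g hg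
    refine ⟨hg, mem_normalizer_preimageAlong θ hg (hS'n ?_)⟩
    rw [← hrange]
    exact ⟨_, rfl⟩
  have hQLne : Q₀ ≠ preimageAlong θ V' := by
    intro h
    apply hV'ne
    rw [Subgroup.eq_bot_iff_forall]
    intro w hw
    obtain ⟨s, hsS, hsL, hs⟩ := exists_preimage θ hrange hV'S' ⟨w, hw⟩
    rw [← h] at hsL
    have hs' : θ ⟨s, hsS⟩ = w := hs
    rw [← hs']
    exact (hker _).mpr hsL
  have hNIL : NI F (preimageAlong θ V') := hL _ hQL hLS hLN hQLne
  intro R' ψ' hψ' hWR' hR'N hmap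
  obtain ⟨hR'S', ψ, hψ, hR, hψS, hRR', hind⟩ := (hE.2.2.2 R' ψ').mp hψ'
  have hLR : preimageAlong θ V' ≤ preimageAlong θ R' := preimageAlong_mono θ hWR'
  have hRN : preimageAlong θ R' ≤ normalizerIn S (preimageAlong θ V') := by
    rw [hLN]
    exact hR
  have hfinL : Finite ↥(preimageAlong θ V') := finite_of_le hLS
  have hmapL : ((preimageAlong θ V').subgroupOf (preimageAlong θ R')).map ψ = preimageAlong θ V' := by
    have hle : ((preimageAlong θ V').subgroupOf (preimageAlong θ R')).map ψ ≤ preimageAlong θ V' := by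
      rintro _ ⟨x, hx, rfl⟩
      have hxL : (x : Ω) ∈ preimageAlong θ V' := Subgroup.mem_subgroupOf.mp hx
      obtain ⟨hxS, hxW⟩ := (mem_preimageAlong θ _ _).mp hxL
      rw [mem_preimageAlong]
      refine ⟨hψS x, ?_⟩
      rw [← hind x]
      have h3 : ψ' ⟨θ ⟨(x : Ω), hR x.2⟩, hRR' x⟩ ∈ (V'.subgroupOf R').map ψ' :=
        ⟨⟨θ ⟨(x : Ω), hR x.2⟩, hRR' x⟩, Subgroup.mem_subgroupOf.mpr hxW, rfl⟩
      rw [hmap] at h3
      exact h3
    have hcard : Nat.card (((preimageAlong θ V').subgroupOf (preimageAlong θ R')).map ψ) =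
        Nat.card (preimageAlong θ V') := by
      rw [Subgroup.card_map_of_injective (F.injective_of_mem hψ)]
      exact Nat.card_congr (Subgroup.subgroupOfEquivOfLe hLR).toEquiv
    exact Subgroup.eq_of_le_of_card_ge hle hcard.ge
  obtain ⟨g, hg, hgψ⟩ := hNIL _ ψ hψ hLR hRN hmapL
  refine ⟨θ ⟨g, hg⟩, ?_, fun y => ?_⟩
  · rw [← hrange]
    exact ⟨_, rfl⟩
  · obtain ⟨s, hsS, hsR, hs⟩ := exists_preimage θ hrange hR'S' y
    have h2 := hind ⟨s, hsR⟩
    have e : (⟨θ ⟨((⟨s, hsR⟩ : preimageAlong θ R') : Ω), hR hsR⟩, hRR' ⟨s, hsR⟩⟩ : R') = y :=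
      Subtype.ext hs
    rw [e] at h2
    rw [h2, ← hs]
    have e2 : (⟨ψ ⟨s, hsR⟩, hψS ⟨s, hsR⟩⟩ : S) = ⟨g, hg⟩ * ⟨s, hsS⟩ * ⟨g, hg⟩⁻¹ :=
      Subtype.ext (hgψ ⟨s, hsR⟩)
    rw [e2, map_mul, map_mul, map_inv]

/-- if the factor system is inner, the system is inner modulo `Q₀` -/
theorem inner_mod_of_factor_inner [Finite S] {p : ℕ} [Fact p.Prime] (hS : IsPGroup p S)
    (F : FusionSystem S) (hFsat : F.IsSaturated p) {Q₀ : Subgroup Ω} (hsc : F.StronglyClosed Q₀)
    {Ω' : Type v} [Group Ω'] {S' : Subgroup Ω'} (θ : S →* Ω')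
    (hker : ∀ s : S, θ s = 1 ↔ (s : Ω) ∈ Q₀) (hrange : θ.range = S')
    (hEin : ∀ P' : Subgroup Ω', (factorSystem F Q₀ hsc θ hker hrange).Hom P' = (innerFusionSystem S').Hom P') :
    ∀ (P : Subgroup Ω) (φ : P →* Ω), φ ∈ F.Hom P → ∃ g ∈ S, ∀ x : P, (φ x)⁻¹ * (g * x * g⁻¹) ∈ Q₀ := by
  have hE := isFactorSystem_factorSystem F Q₀ hsc θ hker hrange
  intro P φ hφ
  obtain ⟨φ', ⟨ψ, hψ, hindψ⟩, hP, hφS, hPP', hind⟩ :=
    exists_induced_of_saturated p hS F hFsat hsc θ hker hrange hφ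
  have hφ'E : φ' ∈ (factorSystem F Q₀ hsc θ hker hrange).Hom (imageAlong θ P) :=
    (hE.2.2.2 _ φ').mpr ⟨imageAlong_le θ hrange P, ψ, hψ, hindψ⟩
  rw [hEin] at hφ'E
  obtain ⟨-, gb, hgb, hgφ'⟩ := hφ'E
  rw [← hrange] at hgb
  obtain ⟨g, rfl⟩ := hgb
  refine ⟨g, g.2, fun x => ?_⟩
  have h1 := hind x
  rw [hgφ'] at h1
  have h2 : θ (⟨φ x, hφS x⟩⁻¹ * (g * ⟨x, hP x.2⟩ * g⁻¹)) = 1 := by
    rw [map_mul, map_inv, ← h1, map_mul, map_mul, map_inv]
    group
  exact (hker _).mp h2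

/-- if `NI` holds at the central subgroup `Z` of `S`, the centralizer system of `Z` is inner -/
theorem centralizer_inner_of_NI (E : FusionSystem S) {Z : Subgroup Ω} (hZS : Z ≤ S)
    (hZc : S ≤ Subgroup.centralizer (Z : Set Ω)) (hNI : NI E Z)
    (C : FusionSystem (centralizerIn S Z)) (hC : E.IsCentralizerSystem Z C) :
    ∀ P : Subgroup Ω, C.Hom P = (innerFusionSystem (centralizerIn S Z)).Hom P := by
  intro P
  ext φ
  constructor
  · intro hφC
    have hφ := hφC
    rw [hC P] at hφ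
    obtain ⟨hφE, hPle, hφcen, ψ, hψ, hres, hfix⟩ := hφ
    have hcn : centralizerIn S Z ≤ normalizerIn S Z := fun x hx =>
      ⟨hx.1, Subgroup.centralizer_le_normalizer _ hx.2⟩
    have hmap : (Z.subgroupOf (P ⊔ Z)).map ψ = Z := by
      ext y
      constructor
      · rintro ⟨z, hz, rfl⟩
        have hz' : (z : Ω) ∈ Z := Subgroup.mem_subgroupOf.mp hz
        have h1 := hfix ⟨z, hz'⟩
        have e : Subgroup.inclusion (le_sup_right : Z ≤ P ⊔ Z) ⟨z, hz'⟩ = z := Subtype.ext rfl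
        rw [e] at h1
        rw [h1]
        exact hz'
      · intro hy
        refine ⟨Subgroup.inclusion (le_sup_right : Z ≤ P ⊔ Z) ⟨y, hy⟩, Subgroup.mem_subgroupOf.mpr hy, ?_⟩
        exact hfix ⟨y, hy⟩
    obtain ⟨g, hg, hgψ⟩ := hNI (P ⊔ Z) ψ hψ le_sup_right (sup_le (hPle.trans hcn) (le_normalizerIn hZS)) hmap
    refine ⟨hPle, g, ⟨hg, hZc hg⟩, fun x => ?_⟩
    rw [← hres x, hgψ]
    rfl
  · rintro ⟨hPle, g, hg, hgφ⟩
    exact hom_congr C (C.conj_mem hPle hg) (fun x => hgφ x)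

set_option maxHeartbeats 1000000 in
/-- a saturated system whose only saturated subsystems over `S` are itself and the inner system is constrained, if `p`
is odd or the system is `S₄`-free -/
theorem constrained_of_sparse_thompson [Finite S] {p : ℕ} [Fact p.Prime] (hS : IsPGroup p S)
    (F : FusionSystem S) (hF : F.IsSaturated p)
    (hp : p ≠ 2 ∨ F.IsSectionFree p (Equiv.Perm (Fin 4)))
    (hsparse : ∀ E : FusionSystem S, E.IsSaturated p → E ≤ F → E = F ∨ E = innerFusionSystem S) :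
    F.IsConstrained p := by
  obtain ⟨Q₀, hQ₀, hmax⟩ := exists_max_nat (fun Q : Subgroup Ω => F.IsNormal Q)
    (fun Q => Nat.card Q) (Nat.card S) ⟨⊥, Cfsg.Agent.Lib.Helper88.isNormal_bot F⟩
    (fun Q hQ => card_le_of_le hQ.1)
  refine ⟨hF, Q₀, hQ₀, ?_⟩
  have hQ₀S : Q₀ ≤ S := hQ₀.1
  have hfinQ₀ : Finite ↥Q₀ := finite_of_le hQ₀S
  have hstar : ∀ L : Subgroup Ω, L ≤ S → normalizerIn S L = S → Nat.card Q₀ < Nat.card L → NI F L := by
    intro L hLS hN hlt
    have hFL := normalizerSystem_isNormalizerSystem F L hLS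
    have hsat : (castSys' hN (normalizerSystem F L hLS)).IsSaturated p :=
      (castSys'_isSaturated hN _ p).mpr
        (Cfsg.Agent.S5098.result p hS F hF L (isFullyNormalized_of_normalizerIn_eq F hLS hN) _ hFL)
    have hle : castSys' hN (normalizerSystem F L hLS) ≤ F := by
      intro P φ hφ
      rw [castSys'_hom, hFL P] at hφ
      exact hφ.1
    have hnorm : (castSys' hN (normalizerSystem F L hLS)).IsNormal L :=
      (isNormal_castSys' hN _ L).mpr (Cfsg.Agent.S5126.isNormal_normalizerSystem F L hLS _ hFL)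
    rcases hsparse _ hsat hle with h | h
    · exfalso
      rw [h] at hnorm
      have := hmax L hnorm
      omega
    · intro R ψ hψ hLR hRN hmap
      have h2 : ψ ∈ (castSys' hN (normalizerSystem F L hLS)).Hom R := by
        rw [castSys'_hom, hFL R]
        exact mem_normalizerHom_of_le F hψ hLR hRN hmap
      rw [h] at h2
      obtain ⟨-, g, hg, hgψ⟩ := h2
      exact ⟨g, hg, hgψ⟩
  by_cases hSQ : S ≤ Q₀
  · have hQS : Q₀ = S := le_antisymm hQ₀S hSQ
    refine ⟨hQ₀S, fun Q' hconj => ?_⟩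
    rw [Cfsg.Agent.Lib.Helper91.eq_of_isConj_of_isNormal F hQ₀ hconj, hQS]
    exact inf_le_left
  · have hSn := normal_le_normalizer F hQ₀
    have hNn : (Q₀.subgroupOf S).Normal := by
      constructor
      intro n hn g
      rw [Subgroup.mem_subgroupOf] at hn ⊢
      exact (Subgroup.mem_normalizer_iff.mp (hSn g.2) _).mp hn
    have hker : ∀ s : S, QuotientGroup.mk' (Q₀.subgroupOf S) s = 1 ↔ (s : Ω) ∈ Q₀ := by
      intro s
      rw [QuotientGroup.mk'_apply, QuotientGroup.eq_one_iff]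
      exact Subgroup.mem_subgroupOf
    have hrange : (QuotientGroup.mk' (Q₀.subgroupOf S)).range = ⊤ :=
      MonoidHom.range_eq_top.mpr (QuotientGroup.mk'_surjective _)
    have hS'p : IsPGroup p ↥(⊤ : Subgroup (↥S ⧸ Q₀.subgroupOf S)) :=
      (hS.to_quotient (Q₀.subgroupOf S)).to_subgroup ⊤
    have hL : ∀ L : Subgroup Ω, Q₀ ≤ L → L ≤ S → normalizerIn S L = S → Q₀ ≠ L → NI F L := by
      intro L hQL hLS hN hne
      apply hstar L hLS hN
      have hfinL : Finite ↥L := finite_of_le hLS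
      by_contra hle
      exact hne (Subgroup.eq_of_le_of_card_ge hQL (not_lt.mp hle))
    have hsc : F.StronglyClosed Q₀ := Cfsg.Agent.Lib.Helper90.IsNormal.stronglyClosed F hQ₀
    have hE := isFactorSystem_factorSystem F Q₀ hsc (QuotientGroup.mk' (Q₀.subgroupOf S)) hker hrange
    have hEsat : (factorSystem F Q₀ hsc (QuotientGroup.mk' (Q₀.subgroupOf S)) hker hrange).IsSaturated p :=
      isSaturated_of_isFactorSystem p hS F hF hsc _ _ hE
    have hpE : p ≠ 2 ∨ (factorSystem F Q₀ hsc (QuotientGroup.mk' (Q₀.subgroupOf S)) hker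
        hrange).IsSectionFree p (Equiv.Perm (Fin 4)) := by
      rcases hp with h | h
      · exact Or.inl h
      · exact Or.inr (Cfsg.Agent.Lib.Helper90.QM.isSectionFree_factor p hS F hF Q₀ hsc h _ _ hE)
    -- the centre of `S/Q₀` is nontrivial
    have hZne : (⊤ : Subgroup (↥S ⧸ Q₀.subgroupOf S)) ⊓
        Subgroup.centralizer (((⊤ : Subgroup (↥S ⧸ Q₀.subgroupOf S)) : Subgroup _) : Set _) ≠ ⊥ := by
      have hpq : IsPGroup p (↥S ⧸ Q₀.subgroupOf S) := hS.to_quotient _
      haveI hnt : Nontrivial (↥S ⧸ Q₀.subgroupOf S) := by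
        by_contra hnt
        rw [not_nontrivial_iff_subsingleton] at hnt
        apply hSQ
        intro s hs
        have h1 : QuotientGroup.mk' (Q₀.subgroupOf S) ⟨s, hs⟩ = 1 := Subsingleton.elim _ _
        exact (hker _).mp h1
      haveI := hpq.center_nontrivial
      obtain ⟨z, hz⟩ := exists_ne (1 : Subgroup.center (↥S ⧸ Q₀.subgroupOf S))
      intro hbot
      apply hz
      have h1 : (z : ↥S ⧸ Q₀.subgroupOf S) ∈ (⊤ : Subgroup (↥S ⧸ Q₀.subgroupOf S)) ⊓
          Subgroup.centralizer (((⊤ : Subgroup (↥S ⧸ Q₀.subgroupOf S)) : Subgroup _) : Set _) := by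
        refine ⟨Subgroup.mem_top _, ?_⟩
        apply Subgroup.mem_centralizer_iff.mpr
        intro y _
        exact (Subgroup.mem_center_iff.mp z.2 y)
      rw [hbot, Subgroup.mem_bot] at h1
      exact Subtype.ext h1
    have hZS' : (⊤ : Subgroup (↥S ⧸ Q₀.subgroupOf S)) ⊓
        Subgroup.centralizer (((⊤ : Subgroup (↥S ⧸ Q₀.subgroupOf S)) : Subgroup _) : Set _) ≤ ⊤ := inf_le_left
    have hZc : (⊤ : Subgroup (↥S ⧸ Q₀.subgroupOf S)) ≤ Subgroup.centralizer
        ((((⊤ : Subgroup (↥S ⧸ Q₀.subgroupOf S)) ⊓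
        Subgroup.centralizer (((⊤ : Subgroup (↥S ⧸ Q₀.subgroupOf S)) : Subgroup _) : Set _) : Subgroup _)) : Set _) := by
      intro g _
      apply Subgroup.mem_centralizer_iff.mpr
      intro z hz
      exact (Subgroup.mem_centralizer_iff.mp hz.2 g (Subgroup.mem_top _)).symm
    have hZn : (⊤ : Subgroup (↥S ⧸ Q₀.subgroupOf S)) ≤ Subgroup.normalizer
        ((((⊤ : Subgroup (↥S ⧸ Q₀.subgroupOf S)) ⊓
        Subgroup.centralizer (((⊤ : Subgroup (↥S ⧸ Q₀.subgroupOf S)) : Subgroup _) : Set _) : Subgroup _)) : Set _) :=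
      hZc.trans (Subgroup.centralizer_le_normalizer _)
    have hNIZ := NI_factor F hsc (QuotientGroup.mk' (Q₀.subgroupOf S)) hker hrange hL hZS' hZn hZne
    have hJS' : thompsonSubgroupAOf (⊤ : Subgroup (↥S ⧸ Q₀.subgroupOf S)) ≤ ⊤ := le_top
    have hJne : thompsonSubgroupAOf (⊤ : Subgroup (↥S ⧸ Q₀.subgroupOf S)) ≠ ⊥ := by
      intro h
      apply hZne
      have := Cfsg.Agent.Lib.Helper87.center_le_thompsonJ (S := (⊤ : Subgroup (↥S ⧸ Q₀.subgroupOf S)))
      rw [h] at this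
      exact le_bot_iff.mp this
    have hNIJ := NI_factor F hsc (QuotientGroup.mk' (Q₀.subgroupOf S)) hker hrange hL hJS'
      (Cfsg.Agent.Lib.Helper87.le_normalizer_thompsonJ _) hJne
    have hEin := Cfsg.Agent.S5194.result p hS'p _ hEsat hpE
      (fun C hC => centralizer_inner_of_NI _ hZS' hZc hNIZ C hC)
      ((NI_iff _ hJS').mp hNIJ)
    have hmod := inner_mod_of_factor_inner hS F hF hsc _ hker hrange hEin
    exact isCentric_of_inner_mod hS F hF hQ₀ hmax hmod

end Cfsg.Agent.Lib.Helper90.GT
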