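import Mathlib

/-!
# K-H4 LEAF AR (keystone 422127, S4221, architect helper6): the arithmetic of M. Hall's theorem
-/

set_option autoImplicit false
set_option linter.unusedVariables false

namespace Cfsg.Agent.Lib.Helper90.Hall4

/-- the core: `k = f (f - 1)`, `N = n + 5` -/
theorem arith_core (k n h c0 c0' cx cy cz C : ℕ) (hk : 0 < k)
    (hh : 0 < h) (hc0' : 0 < c0') (hcz : 0 < cz)
    (e1 : C = k * (n + 5) * cx) (e2 : C = k * (n + 5) * cy)
    (e3 : C = (n + 5) * (n + 3) * cz) (e7 : 4 * c0 = (n + 1) * c0')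
    (e8 : h * c0 ^ 2 = cx * cy * cz) (e9 : h * c0' ^ 2 = cz * cz * cz) :
    cx = cy ∧ k * (n + 1) = 4 * (n + 3) ∧ 4 * cx = (n + 1) * cz ∧ c0 * cz = cx * c0' := by
  have hxy : cx = cy := by
    have h1 : k * (n + 5) * cx = k * (n + 5) * cy := by rw [← e1, ← e2]
    exact Nat.eq_of_mul_eq_mul_left (by positivity) h1
  subst hxy
  have hsq : (c0 * cz) ^ 2 * h = (cx * c0') ^ 2 * h := by
    calc (c0 * cz) ^ 2 * h = (h * c0 ^ 2) * cz ^ 2 := by ring
      _ = (cx * cx * cz) * cz ^ 2 := by rw [e8]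
      _ = cx ^ 2 * (cz * cz * cz) := by ring
      _ = cx ^ 2 * (h * c0' ^ 2) := by rw [e9]
      _ = (cx * c0') ^ 2 * h := by ring
  have hsq' : (c0 * cz) ^ 2 = (cx * c0') ^ 2 := Nat.eq_of_mul_eq_mul_right hh hsq
  have hcc : c0 * cz = cx * c0' := Nat.pow_left_injective (by norm_num : (2 : ℕ) ≠ 0) hsq'
  have h4 : 4 * cx = (n + 1) * cz := by
    have h1 : 4 * cx * c0' = (n + 1) * cz * c0' := by
      calc 4 * cx * c0' = 4 * (cx * c0') := by ring
        _ = 4 * (c0 * cz) := by rw [hcc]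
        _ = (4 * c0) * cz := by ring
        _ = ((n + 1) * c0') * cz := by rw [e7]
        _ = (n + 1) * cz * c0' := by ring
    exact Nat.eq_of_mul_eq_mul_right hc0' h1
  have hkx : k * cx = (n + 3) * cz := by
    have h1 : (n + 5) * (k * cx) = (n + 5) * ((n + 3) * cz) := by
      calc (n + 5) * (k * cx) = k * (n + 5) * cx := by ring
        _ = (n + 5) * (n + 3) * cz := by rw [← e1, ← e3]
        _ = (n + 5) * ((n + 3) * cz) := by ring
    exact Nat.eq_of_mul_eq_mul_left (by positivity) h1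
  have hkn : k * (n + 1) = 4 * (n + 3) := by
    have h1 : k * (n + 1) * cz = 4 * (n + 3) * cz := by
      calc k * (n + 1) * cz = k * ((n + 1) * cz) := by ring
        _ = k * (4 * cx) := by rw [h4]
        _ = 4 * (k * cx) := by ring
        _ = 4 * ((n + 3) * cz) := by rw [hkx]
        _ = 4 * (n + 3) * cz := by ring
    exact Nat.eq_of_mul_eq_mul_right hcz h1
  exact ⟨rfl, hkn, h4, hcc⟩

/-- LEAF AR. -/
theorem arith_main (f N h c0 c0' cx cy cz rx ry rz C : ℕ) (hf : f = 2 ∨ f = 3) (hN : 5 ≤ N)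
    (hh : 0 < h) (hc0 : 0 < c0) (hc0' : 0 < c0') (hcx : 0 < cx) (hcz : 0 < cz)
    (e1 : C = f * (f - 1) * N * cx) (e2 : C = f * (f - 1) * N * cy)
    (e3 : C = N * (N - 2) * cz) (e4 : C = N * (N - 2) * rx) (e5 : C = N * (N - 2) * ry)
    (e6 : C = N * (N - 2) * rz) (e7 : 4 * c0 = (N - 4) * c0')
    (e8 : h * c0 ^ 2 = cx * cy * cz) (e9 : h * c0' ^ 2 = rx * ry * rz) :
    f = 3 ∧ N = 8 ∧ c0 = c0' ∧ cx = cz ∧ cy = cz := by
  obtain ⟨n, rfl⟩ : ∃ n, N = n + 5 := ⟨N - 5, by omega⟩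
  have hN2 : n + 5 - 2 = n + 3 := by omega
  have hN4 : n + 5 - 4 = n + 1 := by omega
  rw [hN2] at e3 e4 e5 e6
  rw [hN4] at e7
  have hpos : 0 < (n + 5) * (n + 3) := by positivity
  have hrx : rx = cz := by
    have h1 : (n + 5) * (n + 3) * rx = (n + 5) * (n + 3) * cz := by rw [← e4, ← e3]
    exact Nat.eq_of_mul_eq_mul_left hpos h1
  have hry : ry = cz := by
    have h1 : (n + 5) * (n + 3) * ry = (n + 5) * (n + 3) * cz := by rw [← e5, ← e3]
    exact Nat.eq_of_mul_eq_mul_left hpos h1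
  have hrz : rz = cz := by
    have h1 : (n + 5) * (n + 3) * rz = (n + 5) * (n + 3) * cz := by rw [← e6, ← e3]
    exact Nat.eq_of_mul_eq_mul_left hpos h1
  rw [hrx, hry, hrz] at e9
  rcases hf with rfl | rfl
  · exfalso
    have e1' : C = 2 * (n + 5) * cx := by simpa using e1
    have e2' : C = 2 * (n + 5) * cy := by simpa using e2
    obtain ⟨_, hkn, _, _⟩ := arith_core 2 n h c0 c0' cx cy cz C (by norm_num) hh hc0' hcz e1' e2' e3 e7 e8 e9
    omega
  · have e1' : C = 6 * (n + 5) * cx := by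
      have : (3 : ℕ) * (3 - 1) = 6 := by norm_num
      rw [this] at e1; exact e1
    have e2' : C = 6 * (n + 5) * cy := by
      have : (3 : ℕ) * (3 - 1) = 6 := by norm_num
      rw [this] at e2; exact e2
    obtain ⟨hxy, hkn, h4, hcc⟩ := arith_core 6 n h c0 c0' cx cy cz C (by norm_num) hh hc0' hcz e1' e2' e3 e7 e8 e9
    have hn : n = 3 := by omega
    subst hn
    have hxz : cx = cz := by omega
    refine ⟨rfl, rfl, ?_, hxz, ?_⟩
    · rw [hxz, mul_comm cz c0'] at hcc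
      exact Nat.eq_of_mul_eq_mul_right hcz hcc
    · rw [← hxy]; exact hxz

end Cfsg.Agent.Lib.Helper90.Hall4
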