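import Mathlib
import Cfsg.Prelude.Def_GeometricClasses
import Cfsg.Agent.Lib.Helper61.AschDefs
import Cfsg.Agent.Lib.Helper46.AschEDefs
import Cfsg.Agent.Lib.Helper63.SLMaxD3
import Cfsg.Agent.Lib.Helper94.SpAschS3b

/-!
# K-O10m-Y3 (keystone 585003, architect helper91): characteristic 2, a self-adjoint quadratic field forces `4 ∣ n`

A maximal invariant totally isotropic subspace for a self-adjoint field subalgebra `K` of a symplectic form is Lagrangian
and a `K`-space, so `2 * r ∣ n` for `r = [K : F]`.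
-/

set_option autoImplicit false

namespace Cfsg.Agent.Lib.Helper90.O10m

open Cfsg Cfsg.Geo
open scoped Matrix Kronecker MatrixGroups

section
variable {F : Type*} [Field F] {n : ℕ}

local notation "V" => (Fin n → F)
local notation "Mat" => Matrix (Fin n) (Fin n) F

/-- a bilinear function-form as a Mathlib bilinear form -/
noncomputable def toBf (f : V → V → F) (hf : IsBilinearForm f) : LinearMap.BilinForm F V :=
  LinearMap.mk₂ F f hf.add_left (fun c x w => by rw [hf.smul_left]; rfl)
    hf.add_right (fun c x w => by rw [hf.smul_right]; rfl)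

theorem toBf_apply (f : V → V → F) (hf : IsBilinearForm f) (u v : V) : toBf f hf u v = f u v := rfl

theorem toBf_nondegenerate (f : V → V → F) (hf : IsBilinearForm f) (hnd : IsNondegenerateForm f) :
    (toBf f hf).Nondegenerate := by
  constructor
  · intro x hx
    by_contra hne
    obtain ⟨-, y, hy⟩ := hnd x hne
    exact hy (hx y)
  · intro y hy
    by_contra hne
    obtain ⟨⟨x, hx⟩, -⟩ := hnd y hne
    exact hx (hy x)

/-- the cyclic `K`-submodule generated by `x` -/
def cyc (K : Subalgebra F Mat) (x : V) : Submodule F V where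
  carrier := {y | ∃ k ∈ K, k *ᵥ x = y}
  add_mem' := by
    rintro a b ⟨k, hk, rfl⟩ ⟨k', hk', rfl⟩
    exact ⟨k + k', K.add_mem hk hk', Matrix.add_mulVec _ _ _⟩
  zero_mem' := ⟨0, K.zero_mem, Matrix.zero_mulVec _⟩
  smul_mem' := by
    rintro c a ⟨k, hk, rfl⟩
    exact ⟨c • k, K.smul_mem hk c, Matrix.smul_mulVec _ _ _⟩

/-- the restricted action of `K` on an invariant subspace -/
def restrictHom (K : Subalgebra F Mat) (L : Submodule F V) (hinv : ∀ k ∈ K, ∀ x ∈ L, k *ᵥ x ∈ L) :
    K →ₐ[F] Module.End F L where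
  toFun k := (Matrix.toLin' k.1).restrict (fun x hx => by
    rw [Matrix.toLin'_apply]; exact hinv k.1 k.2 x hx)
  map_one' := by
    ext x
    simp
  map_mul' a b := by
    ext x
    simp [Matrix.toLin'_mul]
  map_zero' := by
    ext x
    simp
  map_add' a b := by
    ext x
    simp [Matrix.add_mulVec]
  commutes' c := by
    ext x
    simp [Algebra.algebraMap_eq_smul_one, Matrix.smul_mulVec]

end

variable {F : Type*} [Field F] [Fintype F] {n : ℕ}

local notation "V" => (Fin n → F)
local notation "Mat" => Matrix (Fin n) (Fin n) F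

/-- a self-adjoint field subalgebra of degree `r` for a symplectic form on `F^n` with `f (k v) v = 0` has `2 r ∣ n` -/
theorem two_mul_dvd_of_isSelfAdjointFor {f : V → V → F} (hf : IsSymplecticForm f) {r : ℕ}
    (K : Subalgebra F Mat) (hK : IsFieldSubalgebra r K) (hsa : IsSelfAdjointFor f K)
    (halt : ∀ k ∈ K, ∀ v : V, f (k *ᵥ v) v = 0) : 2 * r ∣ n := by
  classical
  rcases Nat.eq_zero_or_pos n with hn | hn
  · subst hn; exact dvd_zero _
  have : Nonempty (Fin n) := ⟨⟨0, hn⟩⟩
  have hb := hf.bilinear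
  have hskew : ∀ u v : V, f u v = - f v u := hf.skew
  have hzl : ∀ v : V, f 0 v = 0 := by
    intro v
    have := hb.smul_left 0 0 v
    simpa using this
  -- the family of invariant totally isotropic subspaces
  let 𝒮 : Set (Submodule F V) :=
    {L | (∀ k ∈ K, ∀ x ∈ L, k *ᵥ x ∈ L) ∧ ∀ x ∈ L, ∀ y ∈ L, f x y = 0}
  have hbot : (⊥ : Submodule F V) ∈ 𝒮 := by
    refine ⟨?_, ?_⟩
    · intro k _ x hx
      rw [Submodule.mem_bot] at hx ⊢
      rw [hx, Matrix.mulVec_zero]
    · intro x hx y hy
      rw [Submodule.mem_bot] at hx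
      rw [hx, hzl]
  obtain ⟨L, hL, hmax⟩ := WellFounded.has_min
    (wellFounded_gt : WellFounded (α := Submodule F V) (· > ·)) 𝒮 ⟨⊥, hbot⟩
  obtain ⟨hLinv, hLts⟩ := hL
  -- `L^⊥ ≤ L`
  have hperp : (toBf f hb).orthogonal L ≤ L := by
    intro x hx
    rw [LinearMap.BilinForm.mem_orthogonal_iff] at hx
    have hx' : ∀ y ∈ L, f y x = 0 := fun y hy => hx y hy
    have hL' : L ⊔ cyc K x ∈ 𝒮 := by
      refine ⟨?_, ?_⟩
      · intro k hk y hy
        obtain ⟨l, hl, c, ⟨a, ha, rfl⟩, rfl⟩ := Submodule.mem_sup.mp hy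
        rw [Matrix.mulVec_add]
        refine Submodule.add_mem_sup (hLinv k hk l hl) ⟨k * a, K.mul_mem hk ha, ?_⟩
        rw [Matrix.mulVec_mulVec]
      · intro y hy y' hy'
        obtain ⟨l, hl, c, ⟨a, ha, rfl⟩, rfl⟩ := Submodule.mem_sup.mp hy
        obtain ⟨l', hl', c', ⟨b, hb', rfl⟩, rfl⟩ := Submodule.mem_sup.mp hy'
        rw [hb.add_left, hb.add_right, hb.add_right, hLts l hl l' hl']
        have h1 : f l (b *ᵥ x) = 0 := by
          rw [← hsa b hb' l x]
          exact hx' _ (hLinv b hb' l hl)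
        have h2 : f (a *ᵥ x) l' = 0 := by
          rw [hskew, ← hsa a ha l' x, hx' _ (hLinv a ha l' hl'), neg_zero]
        have h3 : f (a *ᵥ x) (b *ᵥ x) = 0 := by
          rw [hsa a ha x (b *ᵥ x), Matrix.mulVec_mulVec, hskew, halt (a * b) (K.mul_mem ha hb') x,
            neg_zero]
        rw [h1, h2, h3]
        ring
    have hle : L ≤ L ⊔ cyc K x := le_sup_left
    have heq : L ⊔ cyc K x = L := by
      by_contra hne
      exact hmax _ hL' (lt_of_le_of_ne hle (Ne.symm hne))
    rw [← heq]
    exact Submodule.mem_sup_right ⟨1, K.one_mem, Matrix.one_mulVec x⟩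
  have hperp' : L ≤ (toBf f hb).orthogonal L := by
    intro x hx
    rw [LinearMap.BilinForm.mem_orthogonal_iff]
    intro y hy
    exact hLts y hy x hx
  have hLeq : (toBf f hb).orthogonal L = L := le_antisymm hperp hperp'
  have hdim : 2 * Module.finrank F L = n := by
    have h1 := LinearMap.BilinForm.finrank_orthogonal (toBf_nondegenerate f hb hf.nondegenerate) L
    rw [hLeq, Module.finrank_fin_fun] at h1
    have h2 : Module.finrank F L ≤ n := by
      have := Submodule.finrank_le L
      rwa [Module.finrank_fin_fun] at this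
    omega
  -- the field structure on `K`
  have : Nontrivial K := ⟨⟨0, 1, fun h => zero_ne_one (congrArg Subtype.val h)⟩⟩
  have hfield : IsField K :=
    { exists_pair_ne := ⟨0, 1, zero_ne_one⟩
      mul_comm := fun x y => Subtype.ext (hK.comm x x.2 y y.2)
      mul_inv_cancel := fun {a} ha => by
        obtain ⟨y, hy, hxy⟩ := hK.inv a a.2 (fun h => ha (Subtype.ext h))
        exact ⟨⟨y, hy⟩, Subtype.ext hxy⟩ }
  let _ : Field K := hfield.toField
  have h1 := Cfsg.Agent.Lib.Helper63.SLMax.finrank_dvd_of_algHom (F := F) (L := K)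
    (restrictHom K L hLinv)
  rw [hK.finrank_eq] at h1
  rw [← hdim]
  exact Nat.mul_dvd_mul_left 2 h1

/-- **K-O10m-Y3** (585003). -/
theorem four_dvd_of_selfAdjoint_quadratic_field (h2 : (2 : F) = 0) (Q : V → F) (hQ : IsNondegenerateQuadraticForm Q)
    (E : Subalgebra F Mat) (hE : IsFieldSubalgebra 2 E) (hsa : IsSelfAdjointFor (QuadraticMap.polar Q) E) : 4 ∣ n := by
  have hf : IsSymplecticForm (QuadraticMap.polar Q) := by
    have hneg : ∀ a : F, -a = a := by
      intro a
      have : a + a = 0 := by rw [← two_mul, h2, zero_mul]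
      exact neg_eq_of_add_eq_zero_left this
    refine ⟨hQ.polar_bilinear, ?_, ?_, hQ.nondegenerate⟩
    · intro v w
      rw [hneg, QuadraticMap.polar_comm]
    · intro v
      unfold QuadraticMap.polar
      have : v + v = (2 : F) • v := by rw [two_smul]
      rw [this, hQ.smul, h2]
      have h3 : Q v + Q v = 0 := by rw [← two_mul, h2, zero_mul]
      have : (0 : F) ^ 2 * Q v - Q v - Q v = -(Q v + Q v) := by ring
      rw [this, h3, neg_zero]
  have h := two_mul_dvd_of_isSelfAdjointFor hf E hE hsa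
    (Cfsg.Agent.Lib.Helper94.SpAsch.alternating_of_isSelfAdjointFor hf 2 E hE hsa)
  exact h

end Cfsg.Agent.Lib.Helper90.O10m
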