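import Mathlib
import Cfsg.Prelude.Def_GeometricClasses

/-!
# Artin–Schreier step of K-O10m-Y5 (row S5850, architect helper91)

In an odd-degree extension `L / F` of finite fields of characteristic 2, `L = F + ℘(L)` where `℘ t = t² + t`.
Also the version for a field subalgebra `E` of a matrix algebra.
-/

set_option autoImplicit false

namespace Cfsg.Agent.Lib.Helper90.O10m

open Module Polynomial IntermediateField

section abstract

variable {F L : Type*} [Field F] [Field L] [Algebra F L]

/-- a root in `L` of `t² + t = c`, `c ∈ F`, lies in `F` when `[L : F]` is odd -/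
theorem mem_range_of_wp_mem_range [FiniteDimensional F L] (hodd : Odd (finrank F L)) (t : L) (c : F)
    (h : t * t + t = algebraMap F L c) : t ∈ Set.range (algebraMap F L) := by
  rw [← IntermediateField.mem_bot, ← IntermediateField.finrank_adjoin_simple_eq_one_iff]
  have hint : IsIntegral F t := Algebra.IsIntegral.isIntegral t
  rw [IntermediateField.adjoin.finrank hint]
  -- the polynomial `X² + X - c`
  have hp : (X ^ 2 + X - C c : F[X]) ≠ 0 := by
    intro h0
    have := congrArg (fun p : F[X] => p.coeff 2) h0
    simp [coeff_X, coeff_C] at this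
  have hroot : aeval t (X ^ 2 + X - C c : F[X]) = 0 := by
    simp only [map_sub, map_add, map_pow, aeval_X, aeval_C]
    rw [← h]
    ring
  have hdeg : (minpoly F t).natDegree ≤ 2 := by
    have h1 := natDegree_le_natDegree (minpoly.degree_le_of_ne_zero F t hp hroot)
    have h2 : (X ^ 2 + X - C c : F[X]).natDegree ≤ 2 := by
      compute_degree
    exact h1.trans h2
  have hpos : 0 < (minpoly F t).natDegree := minpoly.natDegree_pos hint
  have hdvd : (minpoly F t).natDegree ∣ finrank F L := by
    rw [← IntermediateField.adjoin.finrank hint]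
    exact ⟨_, (Module.finrank_mul_finrank F F⟮t⟯ L).symm⟩
  rcases Nat.lt_or_ge (minpoly F t).natDegree 2 with h2 | h2
  · omega
  · have h3 : (minpoly F t).natDegree = 2 := le_antisymm hdeg h2
    rw [h3] at hdvd
    obtain ⟨k, hk⟩ := hodd
    omega

variable [Fintype F] [Finite L]

/-- **Artin–Schreier decomposition** `L = F + ℘(L)` -/
theorem exists_artinSchreier_decomp_field (h2 : (2 : F) = 0) (hodd : Odd (finrank F L)) (γ : L) :
    ∃ (c₀ : F) (t : L), γ + t * t + t = algebraMap F L c₀ := by
  classical
  have : Fintype L := Fintype.ofFinite L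
  have : FiniteDimensional F L := Module.Finite.of_finite
  have h2L : (2 : L) = 0 := by
    have : algebraMap F L 2 = 0 := by rw [h2, map_zero]
    rwa [map_ofNat] at this
  have haddF : ∀ x : F, x + x = 0 := fun x => by rw [← two_mul, h2, zero_mul]
  have haddL : ∀ x : L, x + x = 0 := fun x => by rw [← two_mul, h2L, zero_mul]
  -- the Artin–Schreier maps
  obtain ⟨wpL, hwpL⟩ : ∃ wp : L →+ L, ∀ t, wp t = t * t + t :=
    ⟨{ toFun := fun t => t * t + t
       map_zero' := by simp
       map_add' := fun a b => by
         have : (a + b) * (a + b) = a * a + b * b := by linear_combination (a * b) * h2L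
         rw [this]; ring }, fun _ => rfl⟩
  -- some `c ∈ F` is not of the form `t² + t` with `t ∈ F`
  obtain ⟨c, hc⟩ : ∃ c : F, ∀ t : F, t * t + t ≠ c := by
    by_contra hcon
    push Not at hcon
    have hsurj : Function.Surjective (fun t : F => t * t + t) := hcon
    have hinj := Finite.injective_iff_surjective.2 hsurj
    have := hinj (show (fun t : F => t * t + t) 0 = (fun t : F => t * t + t) 1 by
      simp only [mul_zero, add_zero, mul_one]; exact (haddF 1).symm)
    exact zero_ne_one this
  -- hence not in `℘(L)`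
  have hcL : algebraMap F L c ∉ wpL.range := by
    rintro ⟨t, ht⟩
    rw [hwpL] at ht
    obtain ⟨t', rfl⟩ := mem_range_of_wp_mem_range hodd t c ht
    apply hc t'
    apply (algebraMap F L).injective
    rw [map_add, map_mul, ht]
  -- `℘(L)` has index 2
  have hker : Nat.card wpL.ker = 2 := by
    rw [Nat.card_eq_two_iff]
    refine ⟨⟨0, by rw [AddMonoidHom.mem_ker, map_zero]⟩, ⟨1, by
      rw [AddMonoidHom.mem_ker, hwpL, mul_one]; exact haddL 1⟩, ?_, ?_⟩
    · intro h
      exact zero_ne_one (congrArg Subtype.val h)
    · rw [Set.eq_univ_iff_forall]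
      rintro ⟨t, ht⟩
      rw [AddMonoidHom.mem_ker, hwpL] at ht
      have h1 : t * (t + 1) = 0 := by rw [← ht]; ring
      rcases mul_eq_zero.1 h1 with h | h
      · left
        exact Subtype.ext h
      · right
        apply Subtype.ext
        show t = 1
        have := haddL 1
        linear_combination h - this
  have hidx : wpL.range.index = 2 := by
    have h1 := AddSubgroup.card_mul_index wpL.ker
    have h3 := AddSubgroup.card_mul_index wpL.range
    rw [AddSubgroup.index_ker, hker] at h1
    have hpos : 0 < Nat.card wpL.range := Nat.card_pos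
    have h4 : Nat.card wpL.range * wpL.range.index = Nat.card wpL.range * 2 := by
      rw [h3, ← h1, mul_comm]
    exact Nat.eq_of_mul_eq_mul_left hpos h4
  obtain ⟨a, ha⟩ := AddSubgroup.index_eq_two_iff.1 hidx
  -- the two cosets
  have hnot : ∀ y : L, y ∉ wpL.range → y + a ∈ wpL.range := by
    intro y hy
    rcases ha y with ⟨h, -⟩ | ⟨h, -⟩
    · exact h
    · exact absurd h hy
  by_cases hγ : γ ∈ wpL.range
  · obtain ⟨t, ht⟩ := hγ
    rw [hwpL] at ht
    refine ⟨0, t, ?_⟩
    rw [map_zero, add_assoc, ht]
    exact haddL γ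
  · have h1 := hnot γ hγ
    have h3 := hnot _ hcL
    have h4 : γ + algebraMap F L c ∈ wpL.range := by
      have := wpL.range.add_mem h1 h3
      have e : γ + a + (algebraMap F L c + a) = γ + algebraMap F L c := by
        linear_combination haddL a
      rwa [e] at this
    obtain ⟨t, ht⟩ := h4
    rw [hwpL] at ht
    refine ⟨c, t, ?_⟩
    rw [add_assoc, ht]
    linear_combination haddL γ

end abstract

/-- the same for a ring which is a field -/
theorem exists_artinSchreier_decomp_of_isField {F R : Type*} [Field F] [Fintype F] [Ring R] [Algebra F R]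
    (hR : IsField R) [Finite R] (h2 : (2 : F) = 0) (hodd : Odd (finrank F R)) (γ : R) :
    ∃ (c₀ : F) (t : R), γ + t * t + t = algebraMap F R c₀ := by
  letI := hR.toField
  exact exists_artinSchreier_decomp_field h2 hodd γ

open Cfsg Cfsg.Geo in
/-- **Artin–Schreier step of K-O10m-Y5** for a field subalgebra of odd degree of a matrix algebra. -/
theorem exists_artinSchreier_decomp {F : Type*} [Field F] [Fintype F] {n r : ℕ} (h2 : (2 : F) = 0) (hr : Odd r)
    (hn : 0 < n) (E : Subalgebra F (Matrix (Fin n) (Fin n) F)) (hE : IsFieldSubalgebra r E)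
    (γ : Matrix (Fin n) (Fin n) F) (hγ : γ ∈ E) :
    ∃ (c₀ : F) (t : Matrix (Fin n) (Fin n) F), t ∈ E ∧ γ + t * t + t = c₀ • (1 : Matrix (Fin n) (Fin n) F) := by
  have : Nonempty (Fin n) := ⟨⟨0, hn⟩⟩
  have : Nontrivial E := ⟨⟨0, 1, fun h => zero_ne_one (congrArg Subtype.val h)⟩⟩
  have hfield : IsField E :=
    { exists_pair_ne := ⟨0, 1, zero_ne_one⟩
      mul_comm := fun x y => Subtype.ext (hE.comm x x.2 y y.2)
      mul_inv_cancel := fun {a} ha => by
        obtain ⟨y, hy, hxy⟩ := hE.inv a a.2 (fun h => ha (Subtype.ext h))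
        exact ⟨⟨y, hy⟩, Subtype.ext hxy⟩ }
  obtain ⟨c₀, t, ht⟩ := exists_artinSchreier_decomp_of_isField (F := F) (R := E) hfield h2
    (by rw [hE.finrank_eq]; exact hr) ⟨γ, hγ⟩
  refine ⟨c₀, t, t.2, ?_⟩
  have := congrArg Subtype.val ht
  rw [Algebra.algebraMap_eq_smul_one] at this
  exact this

end Cfsg.Agent.Lib.Helper90.O10m
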