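import Mathlib

/-!
# K-Os-M (keystone 599604, architect helper98): pure multiset leaf for S5996 / S5995

In odd total `2d+1` the partition condition forces `4 ∣ m`.
-/

set_option autoImplicit false

namespace Cfsg.Agent.Lib.Helper90.Os

/-- sum of a multiset whose members are `a` or `2` (`a ≠ 2`). -/
theorem sum_eq_of_mem_pair (a : ℕ) (ha : a ≠ 2) (ν : Multiset ℕ) (h : ∀ e ∈ ν, e = a ∨ e = 2) :
    ν.sum = a * ν.count a + 2 * ν.count 2 := by
  induction ν using Multiset.induction_on with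
  | empty => simp
  | cons e s ih =>
    have hs : ∀ e ∈ s, e = a ∨ e = 2 := fun x hx => h x (Multiset.mem_cons_of_mem hx)
    rw [Multiset.sum_cons, ih hs]
    rcases h e (Multiset.mem_cons_self e s) with rfl | rfl
    · rw [Multiset.count_cons_self, Multiset.count_cons_of_ne (Ne.symm ha)]
      ring
    · rw [Multiset.count_cons_self, Multiset.count_cons_of_ne ha]
      ring

/-- test multiset `a ::ₘ replicate k 2` with `a` odd, `k` even. -/
theorem four_dvd_of_test (p d m : ℕ) (hme : Even m)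
    (h : ∀ μ : Multiset ℕ, (∀ e ∈ μ, 0 < e ∧ e ≤ p) → (∀ e : ℕ, Even e → Even (μ.count e)) →
      μ.sum = 2 * d + 1 → ∃ ν : Multiset ℕ, ν ≤ μ ∧ ν.sum = m ∧ ∀ e : ℕ, Even e → Even (ν.count e))
    (a k : ℕ) (hao : Odd a) (hap : a ≤ p) (h2p : 2 ≤ p) (hk : Even k)
    (hsum : a + 2 * k = 2 * d + 1) : m % 4 = 0 := by
  have ha2 : a ≠ 2 := by rintro rfl; exact absurd hao (by decide)
  have ha0 : 0 < a := hao.pos
  have h1 : ∀ e ∈ (a ::ₘ Multiset.replicate k 2), 0 < e ∧ e ≤ p := by
    intro e he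
    rw [Multiset.mem_cons] at he
    rcases he with rfl | he
    · exact ⟨ha0, hap⟩
    · rw [Multiset.eq_of_mem_replicate he]; exact ⟨by norm_num, h2p⟩
  have h2 : ∀ e : ℕ, Even e → Even ((a ::ₘ Multiset.replicate k 2).count e) := by
    intro e hee
    by_cases he2 : e = 2
    · subst he2
      rw [Multiset.count_cons_of_ne (Ne.symm ha2), Multiset.count_replicate_self]
      exact hk
    · have hea : e ≠ a := by
        rintro rfl
        exact (Nat.not_even_iff_odd.mpr hao) hee
      rw [Multiset.count_cons_of_ne hea, Multiset.count_replicate, if_neg (Ne.symm he2)]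
      exact ⟨0, rfl⟩
  have h3 : (a ::ₘ Multiset.replicate k 2).sum = 2 * d + 1 := by
    rw [Multiset.sum_cons, Multiset.sum_replicate, smul_eq_mul]
    omega
  obtain ⟨ν, hle, hνs, hνe⟩ := h _ h1 h2 h3
  have hmem : ∀ e ∈ ν, e = a ∨ e = 2 := by
    intro e he
    have := Multiset.mem_of_le hle he
    rw [Multiset.mem_cons] at this
    rcases this with h1 | h1
    · exact Or.inl h1
    · exact Or.inr (Multiset.eq_of_mem_replicate h1)
  have hs := sum_eq_of_mem_pair a ha2 ν hmem
  have hca : ν.count a ≤ 1 := by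
    have := Multiset.count_le_of_le a hle
    rw [Multiset.count_cons_self, Multiset.count_replicate, if_neg (Ne.symm ha2)] at this
    exact this
  obtain ⟨j, hj⟩ := hνe 2 (by decide)
  obtain ⟨i, hi⟩ := hme
  obtain ⟨b, hb⟩ := hao
  rw [hνs] at hs
  have hc : ν.count a = 0 ∨ ν.count a = 1 := by omega
  rcases hc with hc | hc
  · rw [hc, hj] at hs; omega
  · rw [hc, hj] at hs; omega

/-- **K-Os-M**: in odd total `2d+1` the partition condition forces `4 ∣ m`. -/
theorem four_dvd_of_partition_condition (p d m : ℕ) (hp : 3 ≤ p) (hme : Even m)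
    (h : ∀ μ : Multiset ℕ, (∀ e ∈ μ, 0 < e ∧ e ≤ p) → (∀ e : ℕ, Even e → Even (μ.count e)) →
      μ.sum = 2 * d + 1 → ∃ ν : Multiset ℕ, ν ≤ μ ∧ ν.sum = m ∧ ∀ e : ℕ, Even e → Even (ν.count e)) :
    m % 4 = 0 := by
  rcases Nat.even_or_odd d with hd | hd
  · exact four_dvd_of_test p d m hme h 1 d (by decide) (by omega) (by omega) hd (by omega)
  · obtain ⟨c, hc⟩ := hd
    exact four_dvd_of_test p d m hme h 3 (d - 1) (by decide) hp (by omega)
      ⟨c, by omega⟩ (by omega)

end Cfsg.Agent.Lib.Helper90.Os
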