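import Mathlib
import Cfsg.Prelude.Def_Blocks
import Cfsg.Agent.Lib.Helper78.PDDefs
import Cfsg.Agent.Lib.Helper04.BurnsideSimple
import Cfsg.Agent.Lib.Helper82.CharSchur

/-!
# K-PD-DEG2 (446603, S4466 pack): a finite simple group not of prime order has no irreducible
character of degree 2.
-/

set_option autoImplicit false

namespace Cfsg.Agent.Lib.Helper90.PD

open Cfsg Cfsg.Agent.Lib.Helper78.PD

universe u

/-- a complex `2 × 2` matrix with `M * M = 1` and `det M = 1` is scalar -/
theorem deg2_scalar_of_sq (M : Matrix (Fin 2) (Fin 2) ℂ) (hM : M * M = 1) (hd : M.det = 1) :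
    M = (M 0 0) • (1 : Matrix (Fin 2) (Fin 2) ℂ) := by
  have h00 := congrFun (congrFun hM 0) 0
  have h01 := congrFun (congrFun hM 0) 1
  have h10 := congrFun (congrFun hM 1) 0
  have h11 := congrFun (congrFun hM 1) 1
  simp only [Matrix.mul_apply, Fin.sum_univ_two, Matrix.one_apply_eq, Matrix.one_apply_ne,
    ne_eq, Fin.zero_eta, Fin.isValue, zero_ne_one, one_ne_zero, not_false_eq_true] at h00 h01 h10 h11
  rw [Matrix.det_fin_two] at hd
  have ha : M 0 0 * (M 0 0 + M 1 1) = 2 := by linear_combination h00 + hd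
  have hdd : M 1 1 * (M 0 0 + M 1 1) = 2 := by linear_combination h11 + hd
  have hs : M 0 0 + M 1 1 ≠ 0 := by
    intro h
    rw [h, mul_zero] at ha
    norm_num at ha
  have hb : M 0 1 = 0 := by
    have : M 0 1 * (M 0 0 + M 1 1) = 0 := by linear_combination h01
    rcases mul_eq_zero.mp this with h | h
    · exact h
    · exact absurd h hs
  have hc : M 1 0 = 0 := by
    have : M 1 0 * (M 0 0 + M 1 1) = 0 := by linear_combination h10
    rcases mul_eq_zero.mp this with h | h
    · exact h
    · exact absurd h hs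
  have had : M 1 1 = M 0 0 := by
    have : (M 1 1 - M 0 0) * (M 0 0 + M 1 1) = 0 := by linear_combination hdd - ha
    rcases mul_eq_zero.mp this with h | h
    · exact sub_eq_zero.mp h
    · exact absurd h hs
  ext i j
  fin_cases i <;> fin_cases j <;> simp [hb, hc, had]

/-- 446603 K-PD-DEG2: a finite simple group not of prime order has no irreducible character of
degree 2. -/
theorem no_degree_two {G : Type u} [Group G] [Finite G] [IsSimpleGroup G]
    (hnp : ¬ (Nat.card G).Prime) (χ : IrrCharacter G) : charDegree (χ : G → ℂ) ≠ 2 := by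
  intro h2
  have hχ := χ.2
  have hdvd : 2 ∣ Nat.card G := by
    have := Cfsg.Agent.Lib.Helper82.IsIrrCharacter.charDegree_dvd_card hχ
    rwa [h2] at this
  have hc := Cfsg.Agent.Lib.Helper82.IsCharacter.charDegree_cast
    (Cfsg.Agent.Lib.Helper82.IsIrrCharacter.isCharacter hχ)
  obtain ⟨n, ρ, hirr, hρχ⟩ := hχ
  have hn : n = 2 := by
    rw [← hρχ, Representation.char_one] at hc
    rw [← hρχ] at h2
    rw [h2] at hc
    have h3 : (2 : ℕ) = Module.finrank ℂ (Fin n → ℂ) := by exact_mod_cast hc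
    simpa using h3.symm
  subst hn
  haveI := hirr
  -- an involution
  haveI : Fact (Nat.Prime 2) := ⟨Nat.prime_two⟩
  obtain ⟨t, ht⟩ := exists_prime_orderOf_dvd_card' 2 hdvd
  have ht1 : t ≠ 1 := by
    intro h
    rw [h, orderOf_one] at ht
    norm_num at ht
  have htt : t * t = 1 := by
    have := pow_orderOf_eq_one t
    rwa [ht, pow_two] at this
  -- the determinant character is trivial
  let d : G →* ℂ := (LinearMap.det : ((Fin 2 → ℂ) →ₗ[ℂ] (Fin 2 → ℂ)) →* ℂ).comp ρ
  have hker : d.ker = ⊤ := by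
    rcases IsSimpleGroup.eq_bot_or_eq_top_of_normal d.ker inferInstance with h | h
    · exfalso
      apply hnp
      apply Cfsg.Agent.Lib.Helper04.prime_card_of_comm
      intro x y
      have hinj : Function.Injective d := (MonoidHom.ker_eq_bot_iff d).mp h
      apply hinj
      rw [map_mul, map_mul, mul_comm]
    · exact h
  have hdt : LinearMap.det (ρ t) = 1 := by
    have : t ∈ d.ker := by rw [hker]; exact Subgroup.mem_top t
    exact MonoidHom.mem_ker.mp this
  obtain ⟨M, hMdef⟩ : ∃ M : Matrix (Fin 2) (Fin 2) ℂ, M = LinearMap.toMatrix' (ρ t) := ⟨_, rfl⟩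
  have hMM : M * M = 1 := by
    rw [hMdef, ← LinearMap.toMatrix'_mul, ← map_mul, htt, map_one, LinearMap.toMatrix'_one]
  have hMd : M.det = 1 := by
    rw [hMdef, LinearMap.det_toMatrix']
    exact hdt
  have hsc := deg2_scalar_of_sq M hMM hMd
  have hρt : ρ t = (M 0 0) • (LinearMap.id : (Fin 2 → ℂ) →ₗ[ℂ] (Fin 2 → ℂ)) := by
    apply (LinearMap.toMatrix' (R := ℂ) (m := Fin 2) (n := Fin 2)).injective
    rw [← hMdef, map_smul, LinearMap.toMatrix'_id]
    exact hsc
  have htriv := Cfsg.Agent.Lib.Helper04.rep_trivial_of_scalar hnp ρ t ht1 (M 0 0) hρt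
  have h1 := Cfsg.Agent.Lib.Helper04.finrank_eq_one_of_trivial ρ htriv
  simp at h1

end Cfsg.Agent.Lib.Helper90.PD
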