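import Mathlib
import Cfsg.Agent.Lib.Helper07.PSLnG3

set_option autoImplicit false

/-!
Matrix lemmas in `SL_n(F)` for the fusion system of `PSL_n(q)` in the defining characteristic (S5163), in the notation of
`Cfsg.Agent.Lib.Helper07.PSLnA..G`: the groups `Qr a` (transvections with centre `e_a`) and `Qc a` (transvections with axis
`e_a`), their centralizers, transitivity of the stabilizer of `e_a` on them, triangular matrices.
-/

namespace Cfsg.Agent.Lib.Helper90.PSLFus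

open Matrix Cfsg.Agent.Lib.Helper07

variable {n : ℕ} {F : Type*} [Field F]

theorem dot_eb (φ : Fin n → F) (a : Fin n) : φ ⬝ᵥ eb a = φ a := by
  unfold eb
  rw [dotProduct_single, mul_one]

theorem eb_dot (a : Fin n) (φ : Fin n → F) : eb a ⬝ᵥ φ = φ a := by
  unfold eb
  rw [single_dotProduct, one_mul]

theorem inv_mulVec_of_mulVec (g : SpecialLinearGroup (Fin n) F) {v : Fin n → F}
    (h : g.val *ᵥ v = v) : (g⁻¹).val *ᵥ v = v := by
  have h0 : (g⁻¹).val * g.val = 1 := congrArg Subtype.val (inv_mul_cancel g)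
  have h1 : (g⁻¹).val *ᵥ (g.val *ᵥ v) = v := by
    rw [Matrix.mulVec_mulVec, h0, Matrix.one_mulVec]
  rwa [h] at h1

theorem inv_vecMul_of_vecMul (g : SpecialLinearGroup (Fin n) F) {v : Fin n → F}
    (h : v ᵥ* g.val = v) : v ᵥ* (g⁻¹).val = v := by
  have h0 : g.val * (g⁻¹).val = 1 := congrArg Subtype.val (mul_inv_cancel g)
  have h1 : (v ᵥ* g.val) ᵥ* (g⁻¹).val = v := by
    rw [Matrix.vecMul_vecMul, h0, Matrix.vecMul_one]
  rwa [h] at h1

theorem tv_neg_left (u φ : Fin n → F) : tv (-u) φ = tv u (-φ) := by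
  have := tv_smul_comm (-1 : F) u φ
  rwa [neg_one_smul, neg_one_smul] at this

/-- the transvections with centre `e_a` -/
def Qr (a : Fin n) : Subgroup (SpecialLinearGroup (Fin n) F) where
  carrier := {g | ∃ φ : Fin n → F, φ a = 0 ∧ g = tv (eb a) φ}
  one_mem' := ⟨0, rfl, (tv_zero_right _).symm⟩
  mul_mem' := by
    rintro _ _ ⟨φ, hφ, rfl⟩ ⟨ψ, hψ, rfl⟩
    refine ⟨φ + ψ, ?_, tv_mul_same_left ?_ ?_⟩
    · rw [Pi.add_apply, hφ, hψ, add_zero]
    · rw [dot_eb, hφ]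
    · rw [dot_eb, hψ]
  inv_mem' := by
    rintro _ ⟨φ, hφ, rfl⟩
    refine ⟨-φ, ?_, tv_inv ?_⟩
    · rw [Pi.neg_apply, hφ, neg_zero]
    · rw [dot_eb, hφ]

/-- the transvections with axis `e_a` -/
def Qc (a : Fin n) : Subgroup (SpecialLinearGroup (Fin n) F) where
  carrier := {g | ∃ u : Fin n → F, u a = 0 ∧ g = tv u (eb a)}
  one_mem' := ⟨0, rfl, (tv_zero_left _).symm⟩
  mul_mem' := by
    rintro _ _ ⟨u, hu, rfl⟩ ⟨v, hv, rfl⟩
    refine ⟨u + v, ?_, tv_mul_same_right ?_ ?_⟩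
    · rw [Pi.add_apply, hu, hv, add_zero]
    · rw [eb_dot, hu]
    · rw [eb_dot, hv]
  inv_mem' := by
    rintro _ ⟨u, hu, rfl⟩
    refine ⟨-u, ?_, ?_⟩
    · rw [Pi.neg_apply, hu, neg_zero]
    · rw [tv_neg_left]
      exact tv_inv (by rw [eb_dot, hu])

theorem mem_Qr {a : Fin n} {g : SpecialLinearGroup (Fin n) F} :
    g ∈ Qr a ↔ ∃ φ : Fin n → F, φ a = 0 ∧ g = tv (eb a) φ := Iff.rfl

theorem mem_Qc {a : Fin n} {g : SpecialLinearGroup (Fin n) F} :
    g ∈ Qc a ↔ ∃ u : Fin n → F, u a = 0 ∧ g = tv u (eb a) := Iff.rfl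

/-- the stabilizer of the vector `e_a` normalizes `Qr a` -/
theorem conj_mem_Qr {a : Fin n} (g : SpecialLinearGroup (Fin n) F) (hg : g.val *ᵥ eb a = eb a)
    {x : SpecialLinearGroup (Fin n) F} (hx : x ∈ Qr a) : g * x * g⁻¹ ∈ Qr a := by
  obtain ⟨φ, hφ, rfl⟩ := hx
  have h0 : φ ⬝ᵥ eb a = 0 := by rw [dot_eb, hφ]
  rw [tv_conj g h0, hg]
  refine ⟨_, ?_, rfl⟩
  have h1 : (φ ᵥ* (g⁻¹).val) a = φ ⬝ᵥ ((g⁻¹).val *ᵥ eb a) := by
    rw [Matrix.dotProduct_mulVec, dot_eb]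
  rw [h1, inv_mulVec_of_mulVec g hg, h0]

/-- the stabilizer of the covector `e_a` normalizes `Qc a` -/
theorem conj_mem_Qc {a : Fin n} (g : SpecialLinearGroup (Fin n) F) (hg : eb a ᵥ* g.val = eb a)
    {x : SpecialLinearGroup (Fin n) F} (hx : x ∈ Qc a) : g * x * g⁻¹ ∈ Qc a := by
  obtain ⟨u, hu, rfl⟩ := hx
  have h0 : eb a ⬝ᵥ u = 0 := by rw [eb_dot, hu]
  rw [tv_conj g h0, inv_vecMul_of_vecMul g hg]
  refine ⟨_, ?_, rfl⟩
  have h1 : (g.val *ᵥ u) a = (eb a ᵥ* g.val) ⬝ᵥ u := by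
    rw [← Matrix.dotProduct_mulVec, eb_dot]
  rw [h1, hg, h0]

theorem xe_mulVec_eb {i j a : Fin n} (hij : i ≠ j) (hja : j ≠ a) (t : F) :
    (xe i j t : SpecialLinearGroup (Fin n) F).val *ᵥ eb a = eb a := by
  unfold xe
  rw [tv_val (by rw [dotProduct_smul, eb_dot_eb_of_ne hij.symm, smul_zero]), tvM_mulVec,
    eb_dot_eb_of_ne hja, zero_smul, add_zero]

theorem eb_vecMul_xe {i j a : Fin n} (hij : i ≠ j) (hia : i ≠ a) (t : F) :
    eb a ᵥ* (xe i j t : SpecialLinearGroup (Fin n) F).val = eb a := by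
  unfold xe
  rw [tv_val (by rw [dotProduct_smul, eb_dot_eb_of_ne hij.symm, smul_zero]), vecMul_tvM,
    dotProduct_smul, eb_dot_eb_of_ne hia.symm, smul_zero, zero_smul, add_zero]

theorem xe_eq_transvection {i j : Fin n} (h : i ≠ j) (t : F) :
    (xe i j t : SpecialLinearGroup (Fin n) F) = SpecialLinearGroup.transvection h t := by
  apply sl_ext
  rw [xe_val h, SpecialLinearGroup.transvection_coe]

/-- **Lemma T**: the stabilizer of `e_a` is transitive on the nonzero covectors vanishing at `e_a`. -/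
theorem exists_fix_vec_move_covec {a b c : Fin n} (hab : a ≠ b) (hac : a ≠ c) (hbc : b ≠ c)
    {φ : Fin n → F} (hφ : φ ≠ 0) (hφa : φ a = 0) :
    ∃ h : SpecialLinearGroup (Fin n) F, h.val *ᵥ eb a = eb a ∧ φ ᵥ* h.val = eb b := by
  by_cases hk : ∃ k, k ≠ b ∧ φ k ≠ 0
  · obtain ⟨k, hkb, hφk⟩ := hk
    set w : Fin n → F := eb b + ((1 - φ b) / φ k) • eb k with hw
    set χ : Fin n → F := eb b - φ with hχ
    have h1 : φ ⬝ᵥ w = 1 := by
      rw [hw, dotProduct_add, dotProduct_smul, dot_eb, dot_eb, smul_eq_mul, div_mul_cancel₀ _ hφk]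
      ring
    have h2 : eb b ⬝ᵥ w = 1 := by
      rw [hw, dotProduct_add, dotProduct_smul, eb_dot_eb, if_pos rfl, eb_dot_eb_of_ne hkb.symm, smul_zero,
        add_zero]
    have h3 : χ ⬝ᵥ w = 0 := by
      rw [hχ, sub_dotProduct, h1, h2, sub_self]
    refine ⟨tv w χ, ?_, ?_⟩
    · rw [tv_val h3, tvM_mulVec, hχ, sub_dotProduct, eb_dot_eb_of_ne hab.symm, dot_eb, hφa, sub_zero,
        zero_smul, add_zero]
    · rw [tv_val h3, vecMul_tvM, h1, one_smul, hχ, add_sub_cancel]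
  · push Not at hk
    have hφb : φ b ≠ 0 := by
      intro h0
      apply hφ
      funext k
      by_cases hkb : k = b
      · rw [hkb, h0]; rfl
      · rw [hk k hkb]; rfl
    refine ⟨SpecialLinearGroup.diag2n hbc (φ b)⁻¹ (inv_ne_zero hφb), ?_, ?_⟩
    · rw [SpecialLinearGroup.diag2n_coe, diagonal_mulVec_eb, if_neg hab, if_neg hac, one_smul]
    · rw [SpecialLinearGroup.diag2n_coe]
      funext k
      rw [Matrix.vecMul_diagonal]
      by_cases hkb : k = b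
      · rw [if_pos hkb, hkb, mul_inv_cancel₀ hφb, eb_apply, if_pos rfl]
      · rw [hk k hkb, zero_mul, eb_apply, if_neg hkb]

/-- dual of Lemma T: the stabilizer of the covector `e_a` is transitive on the nonzero vectors of its kernel -/
theorem exists_fix_covec_move_vec {a b c : Fin n} (hab : a ≠ b) (hac : a ≠ c) (hbc : b ≠ c)
    {u : Fin n → F} (hu : u ≠ 0) (hua : u a = 0) :
    ∃ h : SpecialLinearGroup (Fin n) F, eb a ᵥ* h.val = eb a ∧ h.val *ᵥ u = eb b := by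
  obtain ⟨h, h1, h2⟩ := exists_fix_vec_move_covec hab hac hbc hu hua
  refine ⟨slT h, ?_, ?_⟩
  · rw [slT_val, Matrix.vecMul_transpose, h1]
  · rw [slT_val, Matrix.mulVec_transpose, h2]

/-- conjugating a transvection with centre `e_a` to a standard one inside the stabilizer of `e_a` -/
theorem exists_conj_tv_row {a b c : Fin n} (hab : a ≠ b) (hac : a ≠ c) (hbc : b ≠ c)
    {φ : Fin n → F} (hφ : φ ≠ 0) (hφa : φ a = 0) :
    ∃ g : SpecialLinearGroup (Fin n) F, g.val *ᵥ eb a = eb a ∧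
      ∀ s : F, g * tv (s • eb a) φ * g⁻¹ = tv (s • eb a) (eb b) := by
  obtain ⟨h, h1, h2⟩ := exists_fix_vec_move_covec hab hac hbc hφ hφa
  have h3 := inv_mulVec_of_mulVec h h1
  refine ⟨h⁻¹, h3, fun s => ?_⟩
  have h0 : φ ⬝ᵥ (s • eb a) = 0 := by rw [dotProduct_smul, dot_eb, hφa, smul_zero]
  rw [tv_conj h⁻¹ h0, inv_inv, h2, Matrix.mulVec_smul, h3]

/-- conjugating a transvection with axis `e_a` to a standard one inside the stabilizer of the covector `e_a` -/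
theorem exists_conj_tv_col {a b c : Fin n} (hab : a ≠ b) (hac : a ≠ c) (hbc : b ≠ c)
    {u : Fin n → F} (hu : u ≠ 0) (hua : u a = 0) :
    ∃ g : SpecialLinearGroup (Fin n) F, eb a ᵥ* g.val = eb a ∧
      ∀ s : F, g * tv u (s • eb a) * g⁻¹ = tv (eb b) (s • eb a) := by
  obtain ⟨h, h1, h2⟩ := exists_fix_covec_move_vec hab hac hbc hu hua
  have h3 := inv_vecMul_of_vecMul h h1
  refine ⟨h, h1, fun s => ?_⟩
  have h0 : (s • eb a) ⬝ᵥ u = 0 := by rw [smul_dotProduct, eb_dot, hua, smul_zero]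
  rw [tv_conj h h0, h2, Matrix.smul_vecMul, h3]

end Cfsg.Agent.Lib.Helper90.PSLFus
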