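import Mathlib
import Cfsg.Agent.Lib.Helper90.PSLFusA

set_option autoImplicit false

/-!
More matrix lemmas in `SL_n(F)` for S5163: the centralizers of `Qr a` and `Qc a`, triangular matrices.
-/

namespace Cfsg.Agent.Lib.Helper90.PSLFus

open Matrix Cfsg.Agent.Lib.Helper07

variable {n : ℕ} {F : Type*} [Field F]

theorem tvM_apply (u φ : Fin n → F) (i j : Fin n) :
    tvM u φ i j = (if i = j then 1 else 0) + u i * φ j := by
  unfold tvM
  rw [Matrix.add_apply, Matrix.one_apply, vecMulVec_apply]

/-- a matrix commuting with all `1 + E_ak`, `k ≠ a`, is a scalar multiple of a transvection with centre `e_a` -/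
theorem centralizer_Qr_form {a b : Fin n} (hab : a ≠ b) (c : SpecialLinearGroup (Fin n) F)
    (hc : ∀ x ∈ Qr a, c * x = x * c) :
    ∃ (r : F) (χ : Fin n → F), χ a = 0 ∧ c.val = r • (tv (eb a) χ).val := by
  have hmem : ∀ k : Fin n, k ≠ a → (xe a k 1 : SpecialLinearGroup (Fin n) F) ∈ Qr a := by
    intro k hk
    refine ⟨eb k, ?_, ?_⟩
    · rw [eb_apply, if_neg hk.symm]
    · unfold xe
      rw [one_smul]
  have hcomm : ∀ k : Fin n, k ≠ a → c.val * Matrix.single a k (1 : F) = Matrix.single a k (1 : F) * c.val := by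
    intro k hk
    have h1 : c.val * (xe a k 1 : SpecialLinearGroup (Fin n) F).val
        = (xe a k 1 : SpecialLinearGroup (Fin n) F).val * c.val := congrArg Subtype.val (hc _ (hmem k hk))
    have h2 : (xe a k 1 : SpecialLinearGroup (Fin n) F).val = 1 + Matrix.single a k 1 := xe_val hk.symm 1
    rw [h2, mul_add, add_mul, mul_one, one_mul] at h1
    exact add_left_cancel h1
  -- column `a`
  have hcol : ∀ i : Fin n, i ≠ a → c.val i a = 0 := by
    intro i hi
    have h1 := congrFun (congrFun (hcomm b hab.symm) i) b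
    rw [Matrix.mul_single_apply_same, Matrix.single_mul_apply_of_ne 1 a b i b hi, mul_one] at h1
    exact h1
  -- rows `k ≠ a`
  have hrow : ∀ k s : Fin n, k ≠ a → c.val k s = if s = k then c.val a a else 0 := by
    intro k s hk
    have h1 := congrFun (congrFun (hcomm k hk) a) s
    rw [Matrix.single_mul_apply_same, one_mul] at h1
    rw [← h1]
    by_cases hsk : s = k
    · rw [if_pos hsk, hsk, Matrix.mul_single_apply_same, mul_one]
    · rw [if_neg hsk, Matrix.mul_single_apply_of_ne 1 a k a s hsk]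
  have hr : c.val a a ≠ 0 := by
    intro h0
    have : c.val.det = 0 := by
      apply Matrix.det_eq_zero_of_column_eq_zero a
      intro i
      by_cases hi : i = a
      · rw [hi, h0]
      · exact hcol i hi
    rw [c.2] at this
    exact one_ne_zero this
  refine ⟨c.val a a, fun s => if s = a then 0 else c.val a s / c.val a a, if_pos rfl, ?_⟩
  have h0 : (fun s => if s = a then (0 : F) else c.val a s / c.val a a) ⬝ᵥ eb a = 0 := by
    rw [dot_eb, if_pos rfl]
  rw [tv_val h0]
  ext i s
  rw [Matrix.smul_apply, tvM_apply, smul_eq_mul, eb_apply]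
  by_cases hi : i = a
  · rw [if_pos hi, hi, one_mul]
    by_cases hs : s = a
    · rw [if_pos hs, hs, if_pos rfl, add_zero, mul_one]
    · rw [if_neg hs, if_neg (Ne.symm hs), zero_add, mul_div_cancel₀ _ hr]
  · rw [if_neg hi, zero_mul, add_zero, hrow i s hi]
    by_cases hs : s = i
    · rw [if_pos hs, if_pos hs.symm, mul_one]
    · rw [if_neg hs, if_neg (Ne.symm hs), mul_zero]

theorem slT_tv {u φ : Fin n → F} (h : φ ⬝ᵥ u = 0) : slT (tv u φ) = tv φ u := by
  apply sl_ext
  rw [slT_val, tv_val h, tv_val (by rw [dotProduct_comm]; exact h)]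
  unfold tvM
  rw [Matrix.transpose_add, Matrix.transpose_one, Matrix.transpose_vecMulVec]

/-- a matrix commuting with all `1 + E_ka`, `k ≠ a`, is a scalar multiple of a transvection with axis `e_a` -/
theorem centralizer_Qc_form {a b : Fin n} (hab : a ≠ b) (c : SpecialLinearGroup (Fin n) F)
    (hc : ∀ x ∈ Qc a, c * x = x * c) :
    ∃ (r : F) (χ : Fin n → F), χ a = 0 ∧ c.val = r • (tv χ (eb a)).val := by
  have h1 : ∀ y ∈ Qr a, slT c * y = y * slT c := by
    rintro _ ⟨φ, hφ, rfl⟩
    have h0 : φ ⬝ᵥ eb a = 0 := by rw [dot_eb, hφ]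
    have h2 : tv φ (eb a) ∈ Qc a := ⟨φ, hφ, rfl⟩
    have h3 := congrArg slT (hc _ h2)
    rw [slT_mul, slT_mul, slT_tv (by rw [dotProduct_comm]; exact h0)] at h3
    exact h3.symm
  obtain ⟨r, χ, hχ, h2⟩ := centralizer_Qr_form hab (slT c) h1
  refine ⟨r, χ, hχ, ?_⟩
  have h0 : χ ⬝ᵥ eb a = 0 := by rw [dot_eb, hχ]
  have h3 : c.val = ((slT c).val)ᵀ := by
    have := slT_val c
    rw [this, Matrix.transpose_transpose]
  have h4 : (tv χ (eb a)).val = ((tv (eb a) χ).val)ᵀ := by
    have := slT_val (tv (eb a) χ)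
    rw [← this, slT_tv h0]
  rw [h3, h2, Matrix.transpose_smul, h4]

/-- a diagonal matrix of determinant one, as an element of `SL_n` -/
def dg (d : Fin n → F) (hd : (Matrix.diagonal d).det = 1) : SpecialLinearGroup (Fin n) F :=
  ⟨Matrix.diagonal d, hd⟩

theorem dg_val (d : Fin n → F) (hd : (Matrix.diagonal d).det = 1) : (dg d hd).val = Matrix.diagonal d := rfl

/-- an upper triangular matrix of determinant one is a diagonal matrix times a unitriangular one -/
theorem exists_diag_mul_UT (g : SpecialLinearGroup (Fin n) F)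
    (hg : ∀ r i : Fin n, i < r → g.val r i = 0) :
    ∃ (d : Fin n → F) (hd : (Matrix.diagonal d).det = 1) (u : SpecialLinearGroup (Fin n) F),
      u ∈ UT n F ∧ g = dg d hd * u := by
  have hup : g.val.IsUpperTriangular := by
    intro i j hij
    exact hg i j hij
  have hd : (Matrix.diagonal fun i => g.val i i).det = 1 := by
    rw [Matrix.det_diagonal, ← Matrix.det_of_isUpperTriangular hup]
    exact g.2
  have hne : ∀ i, g.val i i ≠ 0 := SpecialLinearGroup.diagonal_neZero _ hd
  refine ⟨fun i => g.val i i, hd, (dg _ hd)⁻¹ * g, ?_, ?_⟩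
  · have h1 : (dg _ hd).val * ((dg _ hd)⁻¹ * g).val = g.val :=
      congrArg Subtype.val (mul_inv_cancel_left (dg _ hd) g)
    have h2 : ∀ i j, g.val i i * ((dg _ hd)⁻¹ * g).val i j = g.val i j := by
      intro i j
      have := congrFun (congrFun h1 i) j
      rwa [dg_val, Matrix.diagonal_mul] at this
    rw [mem_UT]
    refine ⟨fun i j hji => ?_, fun i => ?_⟩
    · have := h2 i j
      rw [hg i j hji] at this
      exact (mul_eq_zero.mp this).resolve_left (hne i)
    · have := h2 i i
      exact mul_left_cancel₀ (hne i) (this.trans (mul_one _).symm)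
  · rw [mul_inv_cancel_left]

/-- diagonal matrices normalize the unitriangular group -/
theorem diag_conj_mem_UT (d : Fin n → F) (hd : (Matrix.diagonal d).det = 1)
    {u : SpecialLinearGroup (Fin n) F} (hu : u ∈ UT n F) :
    dg d hd * u * (dg d hd)⁻¹ ∈ UT n F := by
  have hne : ∀ i, d i ≠ 0 := SpecialLinearGroup.diagonal_neZero _ hd
  have h1 : (dg d hd * u * (dg d hd)⁻¹).val * (dg d hd).val = (dg d hd).val * u.val :=
    congrArg Subtype.val (inv_mul_cancel_right (dg d hd * u) (dg d hd))
  have h2 : ∀ i j, (dg d hd * u * (dg d hd)⁻¹).val i j * d j = d i * u.val i j := by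
    intro i j
    have := congrFun (congrFun h1 i) j
    rwa [dg_val, Matrix.mul_diagonal, Matrix.diagonal_mul] at this
  rw [mem_UT] at hu ⊢
  refine ⟨fun i j hji => ?_, fun i => ?_⟩
  · have := h2 i j
    rw [hu.1 i j hji, mul_zero] at this
    exact (mul_eq_zero.mp this).resolve_right (hne j)
  · have := h2 i i
    rw [hu.2 i, mul_one] at this
    exact mul_right_cancel₀ (hne i) (this.trans (one_mul _).symm)

end Cfsg.Agent.Lib.Helper90.PSLFus
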