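import Mathlib
import Cfsg.Agent.Lib.Helper90.PSLFusB
import Cfsg.Agent.Lib.Helper90.FusSimpleCrit

set_option autoImplicit false

/-!
The subgroups `Q̄r a` (first row) and `Q̄c b` (last column) of the unitriangular Sylow subgroup of `PSL_n(F)` are `Good` in the
sense of `FusSimpleCrit` (S5163).
-/

namespace Cfsg.Agent.Lib.Helper90.PSLFus

open Matrix Cfsg.Agent.Lib.Helper07 Cfsg.Agent.Lib.Helper90.FSC

variable {n : ℕ} {F : Type*} [Field F]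

theorem mul_mulVec_fix (g h : SpecialLinearGroup (Fin n) F) {v : Fin n → F} (hg : g.val *ᵥ v = v)
    (hh : h.val *ᵥ v = v) : (g * h).val *ᵥ v = v := by
  have e : (g * h).val = g.val * h.val := rfl
  rw [e, ← Matrix.mulVec_mulVec, hh, hg]

theorem vecMul_mul_fix (g h : SpecialLinearGroup (Fin n) F) {v : Fin n → F} (hg : v ᵥ* g.val = v)
    (hh : v ᵥ* h.val = v) : v ᵥ* (g * h).val = v := by
  have e : (g * h).val = g.val * h.val := rfl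
  rw [e, ← Matrix.vecMul_vecMul, hg, hh]

section pelem

variable (p : ℕ) [Fact p.Prime] [CharP F p]

theorem eq_of_prjN_eq_of_pelem {A B : SpecialLinearGroup (Fin n) F} (hA : ∃ k : ℕ, A ^ p ^ k = 1)
    (hB : ∃ k : ℕ, B ^ p ^ k = 1) (h : prjN A = prjN B) : A = B := by
  obtain ⟨k1, h1⟩ := hA
  obtain ⟨k2, h2⟩ := hB
  refine eq_of_prjN_eq_of_pow p (k1 + k2) ?_ ?_ h
  · rw [pow_add, pow_mul, h1, one_pow]
  · rw [pow_add, mul_comm, pow_mul, h2, one_pow]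

omit [Fact p.Prime] [CharP F p] in
theorem pelem_conj {A : SpecialLinearGroup (Fin n) F} (g : SpecialLinearGroup (Fin n) F)
    (hA : ∃ k : ℕ, A ^ p ^ k = 1) : ∃ k : ℕ, (g * A * g⁻¹) ^ p ^ k = 1 := by
  obtain ⟨k, hk⟩ := hA
  exact ⟨k, by rw [conj_pow, hk, mul_one, mul_inv_cancel]⟩

omit [Fact p.Prime] in
theorem pelem_tv (u φ : Fin n → F) : ∃ k : ℕ, (tv u φ : SpecialLinearGroup (Fin n) F) ^ p ^ k = 1 :=
  ⟨1, by rw [pow_one]; exact tv_pow_char p u φ⟩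

omit [Fact p.Prime] in
theorem pelem_Qr {a : Fin n} {x : SpecialLinearGroup (Fin n) F} (hx : x ∈ Qr a) :
    ∃ k : ℕ, x ^ p ^ k = 1 := by
  obtain ⟨φ, -, rfl⟩ := hx
  exact pelem_tv p _ _

omit [Fact p.Prime] in
theorem pelem_Qc {a : Fin n} {x : SpecialLinearGroup (Fin n) F} (hx : x ∈ Qc a) :
    ∃ k : ℕ, x ^ p ^ k = 1 := by
  obtain ⟨u, -, rfl⟩ := hx
  exact pelem_tv p _ _

/-- commuting in `PSL_n` with a `p`-element lifts to `SL_n` -/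
theorem commute_of_prjN_commute {c x : SpecialLinearGroup (Fin n) F} (hx : ∃ k : ℕ, x ^ p ^ k = 1)
    (h : prjN c * prjN x = prjN x * prjN c) : c * x = x * c := by
  have h1 : prjN (c * x * c⁻¹) = prjN x := by
    rw [map_mul, map_mul, map_inv, h, mul_inv_cancel_right]
  have h2 := eq_of_prjN_eq_of_pelem p (pelem_conj p c hx) hx h1
  calc c * x = c * x * c⁻¹ * c := by rw [inv_mul_cancel_right]
    _ = x * c := by rw [h2]

end pelem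

theorem Qr_le_UT {a : Fin n} (ha : ∀ k, a ≤ k) : (Qr a : Subgroup (SpecialLinearGroup (Fin n) F)) ≤ UT n F := by
  rintro _ ⟨φ, hφ, rfl⟩
  have h0 : φ ⬝ᵥ eb a = 0 := by rw [dot_eb, hφ]
  rw [mem_UT, tv_val h0]
  refine ⟨fun i j hji => ?_, fun i => ?_⟩
  · have hia : i ≠ a := fun h => by rw [h] at hji; exact absurd (ha j) (not_le.mpr hji)
    rw [tvM_apply, if_neg hji.ne', eb_apply, if_neg hia, zero_mul, add_zero]
  · rw [tvM_apply, if_pos rfl, eb_apply]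
    by_cases hia : i = a
    · rw [if_pos hia, hia, hφ, mul_zero, add_zero]
    · rw [if_neg hia, zero_mul, add_zero]

theorem Qc_le_UT {b : Fin n} (hb : ∀ k, k ≤ b) : (Qc b : Subgroup (SpecialLinearGroup (Fin n) F)) ≤ UT n F := by
  rintro _ ⟨u, hu, rfl⟩
  have h0 : eb b ⬝ᵥ u = 0 := by rw [eb_dot, hu]
  rw [mem_UT, tv_val h0]
  refine ⟨fun i j hji => ?_, fun i => ?_⟩
  · have hjb : j ≠ b := fun h => by rw [h] at hji; exact absurd (hb i) (not_le.mpr hji)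
    rw [tvM_apply, if_neg hji.ne', eb_apply, if_neg hjb, mul_zero, add_zero]
  · rw [tvM_apply, if_pos rfl, eb_apply]
    by_cases hib : i = b
    · rw [if_pos hib, hib, hu, zero_mul, add_zero]
    · rw [if_neg hib, mul_zero, add_zero]

theorem UT_mulVec_eb {a : Fin n} (ha : ∀ k, a ≤ k) {u : SpecialLinearGroup (Fin n) F} (hu : u ∈ UT n F) :
    u.val *ᵥ eb a = eb a := by
  rw [mem_UT] at hu
  funext i
  have h1 : (u.val *ᵥ eb a) i = (fun j => u.val i j) ⬝ᵥ eb a := rfl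
  rw [h1, dot_eb, eb_apply]
  by_cases hia : i = a
  · rw [if_pos hia, hia, hu.2]
  · rw [if_neg hia, hu.1 i a (lt_of_le_of_ne (ha i) (Ne.symm hia))]

theorem eb_vecMul_UT {b : Fin n} (hb : ∀ k, k ≤ b) {u : SpecialLinearGroup (Fin n) F} (hu : u ∈ UT n F) :
    eb b ᵥ* u.val = eb b := by
  rw [mem_UT] at hu
  funext j
  have h1 : (eb b ᵥ* u.val) j = eb b ⬝ᵥ (fun i => u.val i j) := rfl
  rw [h1, eb_dot, eb_apply]
  by_cases hjb : j = b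
  · rw [if_pos hjb, hjb, hu.2]
  · rw [if_neg hjb, hu.1 b j (lt_of_le_of_ne (hb j) hjb)]

section good

variable (p : ℕ) [Fact p.Prime] [CharP F p]

theorem good_Qr {a b c : Fin n} (ha : ∀ k, a ≤ k) (hab : a ≠ b) (hac : a ≠ c) (hbc : b ≠ c) :
    Good p (UTbar n F) ((Qr a : Subgroup (SpecialLinearGroup (Fin n) F)).map prjN) where
  le := Subgroup.map_mono (Qr_le_UT ha)
  normal := by
    rintro _ ⟨u, hu, rfl⟩ _ ⟨x, hx, rfl⟩
    refine ⟨u * x * u⁻¹, conj_mem_Qr u (UT_mulVec_eb ha hu) hx, ?_⟩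
    rw [map_mul, map_mul, map_inv]
  comm := by
    rintro _ ⟨_, ⟨φ, hφ, rfl⟩, rfl⟩ _ ⟨_, ⟨ψ, hψ, rfl⟩, rfl⟩
    have h1 : φ ⬝ᵥ eb a = 0 := by rw [dot_eb, hφ]
    have h2 : ψ ⬝ᵥ eb a = 0 := by rw [dot_eb, hψ]
    rw [← map_mul, ← map_mul, tv_commute h1 h2 h1 h2]
  cent := by
    intro cbar hcbar
    obtain ⟨c', rfl⟩ := prjN_surjective cbar
    have h1 : ∀ x ∈ Qr a, c' * x = x * c' := fun x hx =>
      commute_of_prjN_commute p (pelem_Qr p hx) (hcbar _ ⟨x, hx, rfl⟩)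
    obtain ⟨r, χ, hχ, h2⟩ := centralizer_Qr_form hab c' h1
    exact ⟨tv (eb a) χ, ⟨χ, hχ, rfl⟩, prjN_eq_iff.mpr ⟨r, h2⟩⟩
  trans := by
    rintro _ ⟨_, ⟨φ, hφ, rfl⟩, rfl⟩ _ ⟨_, ⟨ψ, hψ, rfl⟩, rfl⟩ hx1 hy1
    have hφ0 : φ ≠ 0 := by
      rintro rfl
      exact hx1 (by rw [tv_zero_right, map_one])
    have hψ0 : ψ ≠ 0 := by
      rintro rfl
      exact hy1 (by rw [tv_zero_right, map_one])
    obtain ⟨g1, hg1, hg1'⟩ := exists_conj_tv_row hab hac hbc hφ0 hφ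
    obtain ⟨g2, hg2, hg2'⟩ := exists_conj_tv_row hab hac hbc hψ0 hψ
    have e1 := hg1' 1
    have e2 := hg2' 1
    rw [one_smul] at e1 e2
    have hfix : (g2⁻¹ * g1).val *ᵥ eb a = eb a :=
      mul_mulVec_fix _ _ (inv_mulVec_of_mulVec g2 hg2) hg1
    refine ⟨prjN (g2⁻¹ * g1), ?_, ?_⟩
    · rintro _ ⟨z, hz, rfl⟩
      refine ⟨(g2⁻¹ * g1) * z * (g2⁻¹ * g1)⁻¹, conj_mem_Qr _ hfix hz, ?_⟩
      rw [map_mul, map_mul, map_inv]
    · rw [← map_inv, ← map_mul, ← map_mul]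
      congr 1
      calc g2⁻¹ * g1 * tv (eb a) φ * (g2⁻¹ * g1)⁻¹
          = g2⁻¹ * (g1 * tv (eb a) φ * g1⁻¹) * g2 := by group
        _ = g2⁻¹ * (g2 * tv (eb a) ψ * g2⁻¹) * g2 := by rw [e1, e2]
        _ = tv (eb a) ψ := by group

theorem good_Qc {a b c : Fin n} (ha : ∀ k, k ≤ a) (hab : a ≠ b) (hac : a ≠ c) (hbc : b ≠ c) :
    Good p (UTbar n F) ((Qc a : Subgroup (SpecialLinearGroup (Fin n) F)).map prjN) where
  le := Subgroup.map_mono (Qc_le_UT ha)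
  normal := by
    rintro _ ⟨u, hu, rfl⟩ _ ⟨x, hx, rfl⟩
    refine ⟨u * x * u⁻¹, conj_mem_Qc u (eb_vecMul_UT ha hu) hx, ?_⟩
    rw [map_mul, map_mul, map_inv]
  comm := by
    rintro _ ⟨_, ⟨u, hu, rfl⟩, rfl⟩ _ ⟨_, ⟨v, hv, rfl⟩, rfl⟩
    have h1 : eb a ⬝ᵥ u = 0 := by rw [eb_dot, hu]
    have h2 : eb a ⬝ᵥ v = 0 := by rw [eb_dot, hv]
    rw [← map_mul, ← map_mul, tv_commute h1 h2 h2 h1]
  cent := by
    intro cbar hcbar
    obtain ⟨c', rfl⟩ := prjN_surjective cbar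
    have h1 : ∀ x ∈ Qc a, c' * x = x * c' := fun x hx =>
      commute_of_prjN_commute p (pelem_Qc p hx) (hcbar _ ⟨x, hx, rfl⟩)
    obtain ⟨r, χ, hχ, h2⟩ := centralizer_Qc_form hab c' h1
    exact ⟨tv χ (eb a), ⟨χ, hχ, rfl⟩, prjN_eq_iff.mpr ⟨r, h2⟩⟩
  trans := by
    rintro _ ⟨_, ⟨u, hu, rfl⟩, rfl⟩ _ ⟨_, ⟨v, hv, rfl⟩, rfl⟩ hx1 hy1
    have hu0 : u ≠ 0 := by
      rintro rfl
      exact hx1 (by rw [tv_zero_left, map_one])
    have hv0 : v ≠ 0 := by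
      rintro rfl
      exact hy1 (by rw [tv_zero_left, map_one])
    obtain ⟨g1, hg1, hg1'⟩ := exists_conj_tv_col hab hac hbc hu0 hu
    obtain ⟨g2, hg2, hg2'⟩ := exists_conj_tv_col hab hac hbc hv0 hv
    have e1 := hg1' 1
    have e2 := hg2' 1
    rw [one_smul] at e1 e2
    have hfix : eb a ᵥ* (g2⁻¹ * g1).val = eb a :=
      vecMul_mul_fix _ _ (inv_vecMul_of_vecMul g2 hg2) hg1
    refine ⟨prjN (g2⁻¹ * g1), ?_, ?_⟩
    · rintro _ ⟨z, hz, rfl⟩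
      refine ⟨(g2⁻¹ * g1) * z * (g2⁻¹ * g1)⁻¹, conj_mem_Qc _ hfix hz, ?_⟩
      rw [map_mul, map_mul, map_inv]
    · rw [← map_inv, ← map_mul, ← map_mul]
      congr 1
      calc g2⁻¹ * g1 * tv u (eb a) * (g2⁻¹ * g1)⁻¹
          = g2⁻¹ * (g1 * tv u (eb a) * g1⁻¹) * g2 := by group
        _ = g2⁻¹ * (g2 * tv v (eb a) * g2⁻¹) * g2 := by rw [e1, e2]
        _ = tv v (eb a) := by group

end good

end Cfsg.Agent.Lib.Helper90.PSLFus
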