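import Mathlib
import Cfsg.Agent.Lib.Helper90.PSLFusC
import Cfsg.Agent.Lib.Helper41.SLnUTA
import Cfsg.Agent.Lib.Helper41.SLnUTB
import Cfsg.Agent.Lib.Helper38.PGroup

set_option autoImplicit false

/-!
The two global inputs of the simplicity criterion for the fusion system of `PSL_n(q)` on its unitriangular Sylow subgroup:
no proper nontrivial strongly closed subgroup, and generation of the normalizer (S5163).
-/

namespace Cfsg.Agent.Lib.Helper90.PSLFus

open Matrix Cfsg.Agent.Lib.Helper07 Cfsg.Agent.Lib.Helper90.FSC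
open Cfsg.Agent.Lib.Helper41.SLn

variable {n : ℕ} {F : Type*} [Field F] [Fintype F]

variable (p : ℕ) [Fact p.Prime] [CharP F p]

omit [CharP F p] in
theorem pelem_UT {f : ℕ} (hF : Fintype.card F = p ^ f) {u : SpecialLinearGroup (Fin n) F} (hu : u ∈ UT n F) :
    ∃ k : ℕ, u ^ p ^ k = 1 := by
  obtain ⟨k, hk⟩ := isPGroup_UT p hF ⟨u, hu⟩
  exact ⟨k, congrArg Subtype.val hk⟩

/-- the whole of `Q̄r a` lies in a strongly closed subgroup containing a nontrivial central element -/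
theorem Qr_le_of_strongly_closed {a b c : Fin n} (ha : ∀ k, a ≤ k) (hab : a ≠ b) (hac : a ≠ c) (hbc : b ≠ c)
    (T : Subgroup (ProjectiveSpecialLinearGroup (Fin n) F))
    (hsc : ∀ x ∈ T, ∀ g : ProjectiveSpecialLinearGroup (Fin n) F,
      g * x * g⁻¹ ∈ UTbar n F → g * x * g⁻¹ ∈ T)
    {t : F} (ht : t ≠ 0) (hz : prjN (tv (t • eb a) (eb b)) ∈ T) :
    (Qr a : Subgroup (SpecialLinearGroup (Fin n) F)).map prjN ≤ T := by
  rintro _ ⟨_, ⟨ψ, hψ, rfl⟩, rfl⟩
  by_cases hψ0 : ψ = 0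
  · rw [hψ0, tv_zero_right, map_one]
    exact one_mem T
  set φ : Fin n → F := t⁻¹ • ψ with hφdef
  have hφ0 : φ ≠ 0 := by
    intro h0
    apply hψ0
    have : t • φ = 0 := by rw [h0, smul_zero]
    rwa [hφdef, smul_smul, mul_inv_cancel₀ ht, one_smul] at this
  have hφa : φ a = 0 := by rw [hφdef, Pi.smul_apply, hψ, smul_zero]
  obtain ⟨g, hg, hg'⟩ := exists_conj_tv_row hab hac hbc hφ0 hφa
  have h1 : tv (t • eb a) φ = tv (eb a) ψ := by
    rw [tv_smul_comm, hφdef, smul_smul, mul_inv_cancel₀ ht, one_smul]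
  have h2 : g⁻¹ * tv (t • eb a) (eb b) * g⁻¹⁻¹ = tv (eb a) ψ := by
    rw [← hg' t, h1]
    group
  have h3 := hsc _ hz (prjN g⁻¹)
  rw [← map_inv prjN g⁻¹, ← map_mul, ← map_mul, h2] at h3
  exact h3 ⟨tv (eb a) ψ, Qr_le_UT ha ⟨ψ, hψ, rfl⟩, rfl⟩

/-- a nontrivial strongly closed subgroup of the unitriangular Sylow subgroup of `PSL_n(q)`, `n ≥ 3`, is everything -/
theorem strongly_closed_eq {f : ℕ} (hF : Fintype.card F = p ^ f) {a b : Fin n} (ha : ∀ k, a ≤ k)
    (hb : ∀ k, k ≤ b) (hab : a ≠ b) (h3 : ∀ i k : Fin n, ∃ j, j ≠ i ∧ j ≠ k)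
    (T : Subgroup (ProjectiveSpecialLinearGroup (Fin n) F)) (hT : T ≤ UTbar n F) (hT1 : T ≠ ⊥)
    (hsc : ∀ x ∈ T, ∀ g : ProjectiveSpecialLinearGroup (Fin n) F,
      g * x * g⁻¹ ∈ UTbar n F → g * x * g⁻¹ ∈ T) : T = UTbar n F := by
  classical
  -- a nontrivial central element of `Ū` in `T`
  have hP : IsPGroup p (UTbar n F) := (isPGroup_UT p hF).map prjN
  haveI : (T.subgroupOf (UTbar n F)).Normal := by
    constructor
    intro x hx s
    rw [Subgroup.mem_subgroupOf] at hx ⊢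
    have := hsc _ hx (s : ProjectiveSpecialLinearGroup (Fin n) F)
    rw [Subgroup.coe_mul, Subgroup.coe_mul, Subgroup.coe_inv]
    exact this ((UTbar n F).mul_mem ((UTbar n F).mul_mem s.2 x.2) ((UTbar n F).inv_mem s.2))
  have hN1 : T.subgroupOf (UTbar n F) ≠ ⊥ := by
    intro h0
    apply hT1
    rw [Subgroup.eq_bot_iff_forall]
    intro x hx
    have h1 : (⟨x, hT hx⟩ : UTbar n F) ∈ T.subgroupOf (UTbar n F) := by
      rw [Subgroup.mem_subgroupOf]
      exact hx
    rw [h0, Subgroup.mem_bot] at h1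
    exact congrArg Subtype.val h1
  obtain ⟨z, hzN, hzc, hz1⟩ := Cfsg.Agent.Lib.Helper38.normal_inf_center_ne_bot p hP _ hN1
  rw [Subgroup.mem_subgroupOf] at hzN
  have hzZ : (z : ProjectiveSpecialLinearGroup (Fin n) F) ∈ ZC (UTbar n F) := by
    refine ⟨z.2, fun y hy => ?_⟩
    have := (Subgroup.mem_center_iff.mp hzc) ⟨y, hy⟩
    exact (congrArg Subtype.val this).symm
  rw [ZC_UTbar p a b ha hb hab] at hzZ
  obtain ⟨t, ht⟩ := hzZ
  have ht0 : t ≠ 0 := by
    rintro rfl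
    rw [re_zero] at ht
    exact hz1 (Subtype.ext ht.symm)
  have hzT : prjN (tv (t • eb a) (eb b)) ∈ T := by
    have : re (eb a) (eb b) t = prjN (tv (t • eb a) (eb b)) := rfl
    rw [← this, ht]
    exact hzN
  obtain ⟨c, hca, hcb⟩ := h3 a b
  have hQ := Qr_le_of_strongly_closed (F := F) ha hab hca.symm hcb.symm T hsc ht0 hzT
  -- all the elementary root elements
  have hxe : ∀ i j : Fin n, i < j → ∀ s : F, prjN (xe i j s) ∈ T := by
    intro i j hij s
    have hja : j ≠ a := fun h => by rw [h] at hij; exact absurd (ha i) (not_le.mpr hij)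
    have hmem : prjN (tv (eb a) (s • eb j)) ∈ T := by
      apply hQ
      refine ⟨_, ⟨s • eb j, ?_, rfl⟩, rfl⟩
      rw [Pi.smul_apply, eb_apply, if_neg hja.symm, smul_zero]
    by_cases hia : i = a
    · have : (xe i j s : SpecialLinearGroup (Fin n) F) = tv (eb a) (s • eb j) := by
        unfold xe
        rw [hia, tv_smul_comm]
      rw [this]
      exact hmem
    · obtain ⟨c', hc'j, hc'a⟩ := h3 j a
      have hu0 : (eb i : Fin n → F) ≠ 0 := eb_ne_zero i
      have hua : (eb i : Fin n → F) j = 0 := by rw [eb_apply, if_neg hij.ne']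
      obtain ⟨g, hg, hg'⟩ := exists_conj_tv_col (F := F) hja hc'j.symm hc'a.symm hu0 hua
      have h2 : g⁻¹ * tv (eb a) (s • eb j) * g⁻¹⁻¹ = xe i j s := by
        rw [← hg' s]
        unfold xe
        rw [tv_smul_comm]
        group
      have h4 := hsc _ hmem (prjN g⁻¹)
      rw [← map_inv prjN g⁻¹, ← map_mul, ← map_mul, h2] at h4
      exact h4 ⟨xe i j s, xe_mem_UT hij s, rfl⟩
  apply le_antisymm hT
  unfold UTbar
  rw [Subgroup.map_le_iff_le_comap]
  refine le_trans UT_le_closure_xe ?_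
  rw [Subgroup.closure_le]
  rintro _ ⟨i, j, hij, s, rfl⟩
  exact hxe i j hij s

end Cfsg.Agent.Lib.Helper90.PSLFus
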