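import Mathlib
import Cfsg.Agent.Lib.Helper90.PSLFusD

set_option autoImplicit false

/-!
Generation of the normalizer of the unitriangular Sylow subgroup of `PSL_n(q)` by elements of `O^{p'}(N(R))`, `R` one of the
two "good" subgroups (S5163).
-/

namespace Cfsg.Agent.Lib.Helper90.PSLFus

open Matrix Cfsg.Agent.Lib.Helper07 Cfsg.Agent.Lib.Helper90.FSC
open Cfsg.Agent.Lib.Helper41.SLn

variable {n : ℕ} {F : Type*} [Field F]

theorem exists_third_index {n : ℕ} (hn : 3 ≤ n) (i k : Fin n) : ∃ j, j ≠ i ∧ j ≠ k := by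
  have hi := i.2
  have hk := k.2
  by_cases h0 : i.val ≠ 0 ∧ k.val ≠ 0
  · exact ⟨⟨0, by omega⟩, fun h => h0.1 (congrArg Fin.val h).symm, fun h => h0.2 (congrArg Fin.val h).symm⟩
  by_cases h1 : i.val ≠ 1 ∧ k.val ≠ 1
  · exact ⟨⟨1, by omega⟩, fun h => h1.1 (congrArg Fin.val h).symm, fun h => h1.2 (congrArg Fin.val h).symm⟩
  refine ⟨⟨2, by omega⟩, fun h => ?_, fun h => ?_⟩
  · have h2 : 2 = i.val := congrArg Fin.val h
    omega
  · have h2 : 2 = k.val := congrArg Fin.val h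
    omega

/-- the generating set of `O^{p'}(N(R))` -/
def PGen (p : ℕ) (R : Subgroup (ProjectiveSpecialLinearGroup (Fin n) F)) :
    Set (ProjectiveSpecialLinearGroup (Fin n) F) :=
  {k | (∀ z ∈ R, k * z * k⁻¹ ∈ R) ∧ ∃ m : ℕ, k ^ p ^ m = 1}

section

variable (p : ℕ) [CharP F p]

theorem prjN_xe_mem_PGen_Qr {a i j : Fin n} (hij : i ≠ j) (hja : j ≠ a) (t : F) :
    prjN (xe i j t) ∈ PGen p ((Qr a : Subgroup (SpecialLinearGroup (Fin n) F)).map prjN) := by
  refine ⟨?_, 1, ?_⟩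
  · rintro _ ⟨z, hz, rfl⟩
    refine ⟨xe i j t * z * (xe i j t)⁻¹, conj_mem_Qr _ (xe_mulVec_eb hij hja t) hz, ?_⟩
    rw [map_mul, map_mul, map_inv]
  · rw [pow_one, ← map_pow]
    unfold xe
    rw [tv_pow_char p, map_one]

theorem prjN_xe_mem_PGen_Qc {a i j : Fin n} (hij : i ≠ j) (hia : i ≠ a) (t : F) :
    prjN (xe i j t) ∈ PGen p ((Qc a : Subgroup (SpecialLinearGroup (Fin n) F)).map prjN) := by
  refine ⟨?_, 1, ?_⟩
  · rintro _ ⟨z, hz, rfl⟩
    refine ⟨xe i j t * z * (xe i j t)⁻¹, conj_mem_Qc _ (eb_vecMul_xe hij hia t) hz, ?_⟩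
    rw [map_mul, map_mul, map_inv]
  · rw [pow_one, ← map_pow]
    unfold xe
    rw [tv_pow_char p, map_one]

/-- `diag(.., c, .., c⁻¹, ..)` lies in the subgroup generated by the root groups `X_ij`, `X_ji` -/
theorem prjN_diag2n_mem {i j : Fin n} (hij : i ≠ j) (c : F) (hc : c ≠ 0)
    (K : Subgroup (ProjectiveSpecialLinearGroup (Fin n) F))
    (h1 : ∀ t : F, prjN (xe i j t) ∈ K) (h2 : ∀ t : F, prjN (xe j i t) ∈ K) :
    prjN (SpecialLinearGroup.diag2n hij c hc) ∈ K := by
  rw [diag2n_decompose', ← xe_eq_transvection hij c, ← xe_eq_transvection hij (-1),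
    ← xe_eq_transvection hij.symm (-c⁻¹), ← xe_eq_transvection hij.symm 1,
    map_mul, map_mul, map_mul, map_mul, map_mul]
  exact K.mul_mem (K.mul_mem (K.mul_mem (h1 _) (h2 _)) (h1 _)) (K.mul_mem (K.mul_mem (h1 _) (h2 _)) (h1 _))

end

variable [Fintype F] (p : ℕ) [Fact p.Prime] [CharP F p]

theorem normalizer_gen {f : ℕ} (hF : Fintype.card F = p ^ f) {a b m : Fin n} (ha : ∀ k, a ≤ k)
    (hab : a ≠ b) (ham : a ≠ m) (hbm : b ≠ m)
    (g : ProjectiveSpecialLinearGroup (Fin n) F)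
    (hg : ∀ x ∈ UTbar n F, g * x * g⁻¹ ∈ UTbar n F) :
    g ∈ Subgroup.closure {h : ProjectiveSpecialLinearGroup (Fin n) F |
      (∀ x ∈ UTbar n F, h * x * h⁻¹ ∈ UTbar n F) ∧
        ∃ R ∈ ({(Qr a : Subgroup (SpecialLinearGroup (Fin n) F)).map prjN,
            (Qc b : Subgroup (SpecialLinearGroup (Fin n) F)).map prjN} :
              Set (Subgroup (ProjectiveSpecialLinearGroup (Fin n) F))),
          h ∈ Subgroup.closure {k : ProjectiveSpecialLinearGroup (Fin n) F |
            (∀ z ∈ R, k * z * k⁻¹ ∈ R) ∧ ∃ m : ℕ, k ^ p ^ m = 1}} := by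
  classical
  obtain ⟨g', rfl⟩ := prjN_surjective g
  have hU : ∀ u ∈ UT n F, g' * u * g'⁻¹ ∈ UT n F := by
    intro u hu
    obtain ⟨u', hu', he⟩ := hg (prjN u) ⟨u, hu, rfl⟩
    have h1 : u' = g' * u * g'⁻¹ :=
      eq_of_prjN_eq_of_pelem p (pelem_UT p hF hu') (pelem_conj p g' (pelem_UT p hF hu))
        (by rw [he, map_mul, map_mul, map_inv])
    rw [← h1]
    exact hu'
  have htri := upper_of_conj_mem_UT g' hU
  obtain ⟨d, hd, u, hu, hgdu⟩ := exists_diag_mul_UT g' htri
  rw [hgdu, map_mul]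
  set C := Subgroup.closure {h : ProjectiveSpecialLinearGroup (Fin n) F |
      (∀ x ∈ UTbar n F, h * x * h⁻¹ ∈ UTbar n F) ∧
        ∃ R ∈ ({(Qr a : Subgroup (SpecialLinearGroup (Fin n) F)).map prjN,
            (Qc b : Subgroup (SpecialLinearGroup (Fin n) F)).map prjN} :
              Set (Subgroup (ProjectiveSpecialLinearGroup (Fin n) F))),
          h ∈ Subgroup.closure {k : ProjectiveSpecialLinearGroup (Fin n) F |
            (∀ z ∈ R, k * z * k⁻¹ ∈ R) ∧ ∃ m : ℕ, k ^ p ^ m = 1}} with hC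
  apply C.mul_mem
  · -- the diagonal part
    have hdg := SpecialLinearGroup.diag_eq_diag2n_prod m d hd
    have hdg' : dg d hd = _ := hdg
    rw [hdg']
    have key : ∀ i ∈ ({i | i ≠ m} : Finset (Fin n)),
        (if hi : i ≠ m then SpecialLinearGroup.diag2n hi (d i) (SpecialLinearGroup.diagonal_neZero d hd i) else 1)
          ∈ C.comap prjN := by
      intro i hi
      have him : i ≠ m := (Finset.mem_filter.1 hi).2
      rw [dif_pos him, Subgroup.mem_comap]
      apply Subgroup.subset_closure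
      refine ⟨?_, ?_⟩
      · rintro _ ⟨v, hv, rfl⟩
        refine ⟨_, diag_conj_mem_UT _ (SpecialLinearGroup.diag2n him (d i)
          (SpecialLinearGroup.diagonal_neZero d hd i)).2 hv, ?_⟩
        rw [map_mul, map_mul, map_inv]
        rfl
      · by_cases hib : i = b
        · refine ⟨_, Or.inl rfl, ?_⟩
          apply prjN_diag2n_mem him
          · intro t
            exact Subgroup.subset_closure (prjN_xe_mem_PGen_Qr p him ham.symm t)
          · intro t
            exact Subgroup.subset_closure (prjN_xe_mem_PGen_Qr p him.symm (by rw [hib]; exact hab.symm) t)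
        · refine ⟨_, Or.inr rfl, ?_⟩
          apply prjN_diag2n_mem him
          · intro t
            exact Subgroup.subset_closure (prjN_xe_mem_PGen_Qc p him hib t)
          · intro t
            exact Subgroup.subset_closure (prjN_xe_mem_PGen_Qc p him.symm hbm.symm t)
    exact Subgroup.mem_comap.mp (Subgroup.noncommProd_mem (C.comap prjN) _ key)
  · -- the unipotent part
    apply Subgroup.subset_closure
    refine ⟨?_, _, Or.inl rfl, ?_⟩
    · intro x hx
      exact (UTbar n F).mul_mem ((UTbar n F).mul_mem ⟨u, hu, rfl⟩ hx) ((UTbar n F).inv_mem ⟨u, hu, rfl⟩)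
    · apply Subgroup.subset_closure
      refine ⟨?_, ?_⟩
      · rintro _ ⟨z, hz, rfl⟩
        refine ⟨u * z * u⁻¹, conj_mem_Qr u (UT_mulVec_eb ha hu) hz, ?_⟩
        rw [map_mul, map_mul, map_inv]
      · obtain ⟨k, hk⟩ := pelem_UT p hF hu
        exact ⟨k, by rw [← map_pow, hk, map_one]⟩

end Cfsg.Agent.Lib.Helper90.PSLFus
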