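import Mathlib
import Cfsg.Agent.Lib.Helper90.PStabFus
import Cfsg.Agent.Lib.Helper90.GTBasic
import Cfsg.Agent.Lib.Helper87.KNormalizer2
import Cfsg.Agent.Lib.Helper88.FusionHP4
import Cfsg.Agent.Lib.Helper88.FusionSC10
import Cfsg.Agent.Lib.Helper53.FusWC2
import Cfsg.Agent.Lib.Helper89.NormalCrit

set_option autoImplicit false

/-!
`p`-stability of a saturated fusion system is detected on the normalizer systems of the fully normalized centric
radical subgroups.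
-/

namespace Cfsg.Agent.Lib.Helper90.PSF

open Cfsg Cfsg.FusionSystem
open Cfsg.Agent.Lib.Helper87 (hom_le hom_mem hom_congr restrict_mem finite_of_le
  normalizerIn_le mem_normalizerIn le_normalizerIn normalizerSystem normalizerSystem_isNormalizerSystem
  normK mem_normK normK_le conjAut IsFIso homEquiv)

variable {Ω : Type*} [Group Ω] {S : Subgroup Ω}

/-- the extension property: every `F`-automorphism of `Q` extends to an `F`-automorphism of `R` -/
def ExtProp (F : FusionSystem S) (Q R : Subgroup Ω) : Prop :=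
  ∃ hQR : Q ≤ R, ∀ φ ∈ F.autGroup Q, ∃ ψ ∈ F.autGroup R, ∀ x : Q, ((ψ ⟨x, hQR x.2⟩ : R) : Ω) = φ x

theorem ExtProp.trans {F : FusionSystem S} {Q R T : Subgroup Ω} (h1 : ExtProp F Q R) (h2 : ExtProp F R T) :
    ExtProp F Q T := by
  obtain ⟨hQR, h1⟩ := h1
  obtain ⟨hRT, h2⟩ := h2
  refine ⟨hQR.trans hRT, fun φ hφ => ?_⟩
  obtain ⟨ψ, hψ, hψx⟩ := h1 φ hφ
  obtain ⟨ψ', hψ', hψ'x⟩ := h2 ψ hψ
  refine ⟨ψ', hψ', fun x => ?_⟩
  rw [← hψx x, ← hψ'x ⟨x, hQR x.2⟩]

/-- automorphisms of a receptive subgroup `R` extend to `N^K_S(R)` for every subgroup `K` of `Aut_S(R)` normalized by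
`Aut_F(R)` -/
theorem extProp_normK [Finite S] (F : FusionSystem S) {R : Subgroup Ω} (hrec : F.IsReceptive R)
    (K : Subgroup (MulAut R)) (hKS : K ≤ autInducedBy S R) (hRN : R ≤ normK S R K)
    (hKn : ∀ ψ ∈ F.autGroup R, ∀ κ ∈ K, ψ * κ * ψ⁻¹ ∈ K) : ExtProp F R (normK S R K) := by
  refine ⟨hRN, fun ψ hψ => ?_⟩
  have hRS : R ≤ S := hrec.1
  obtain ⟨ψ₁, hψ₁, hψ₁x⟩ := Cfsg.Agent.Lib.Helper88.exists_ext_aut F hrec hψ
  have hcongr : ∀ α : MulAut R, MulAut.congr (ψ : R ≃* R) α = ψ * α * ψ⁻¹ := fun α => by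
    ext x; rfl
  have hle : normK S R K ≤ extender S R (R.subtype.comp (ψ : R ≃* R).toMonoidHom) := by
    apply Cfsg.Agent.Lib.Helper87.le_extender_of_congr (ψ : R ≃* R) (normK_le R K)
      (Cfsg.Agent.Lib.Helper87.normK_le_normalizer R K)
    intro α hα
    have := Cfsg.Agent.Lib.Helper87.autInducedBy_normK_le R K hα
    rw [hcongr]
    exact hKS (hKn ψ hψ α this.2)
  have hψ₂ : ψ₁.comp (Subgroup.inclusion hle) ∈ F.Hom (normK S R K) := restrict_mem F hle hψ₁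
  set ψ₂ := ψ₁.comp (Subgroup.inclusion hle) with hψ₂def
  have hψ₂R : ∀ x : R, ψ₂ ⟨x, hRN x.2⟩ = ((ψ x : R) : Ω) := by
    intro x
    exact hψ₁x x x.2 (hle (hRN x.2))
  -- `ψ₂` maps `N^K_S(R)` into itself
  have hin : ∀ g : normK S R K, ψ₂ g ∈ normK S R K := by
    intro g
    obtain ⟨hgS, κ, hκ, hκx⟩ := mem_normK.mp g.2
    rw [mem_normK]
    refine ⟨hom_mem F hψ₂ g, ψ * κ * ψ⁻¹, hKn ψ hψ κ hκ, fun x => ?_⟩
    have e1 : ((ψ * κ * ψ⁻¹) x : R) = ψ (κ (ψ⁻¹ x)) := rfl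
    rw [e1, ← hψ₂R]
    have e2 : (⟨((κ (ψ⁻¹ x) : R) : Ω), hRN (κ (ψ⁻¹ x)).2⟩ : normK S R K)
        = g * ⟨((ψ⁻¹ x : R) : Ω), hRN (ψ⁻¹ x).2⟩ * g⁻¹ := by
      apply Subtype.ext
      show ((κ (ψ⁻¹ x) : R) : Ω) = (g : Ω) * ((ψ⁻¹ x : R) : Ω) * (g : Ω)⁻¹
      exact hκx _
    rw [e2, map_mul, map_mul, map_inv, hψ₂R]
    have e3 : ψ (ψ⁻¹ x) = x := by
      show ψ (ψ.symm x) = x
      exact MulEquiv.apply_symm_apply ψ x
    rw [e3]
  haveI : Finite ↥(normK S R K) := finite_of_le (normK_le R K)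
  have hinj : Function.Injective ψ₂ := F.injective_of_mem hψ₂
  have hrange : ψ₂.range = normK S R K := by
    apply Subgroup.eq_of_le_of_card_ge
    · rintro _ ⟨g, rfl⟩
      exact hin g
    · rw [Nat.card_congr (Equiv.ofInjective ψ₂ hinj)]
      rfl
  refine ⟨homEquiv F hψ₂ hrange, Cfsg.Agent.Lib.Helper87.homEquiv_mem_autGroup F hψ₂ hrange, fun x => ?_⟩
  rw [Cfsg.Agent.Lib.Helper87.homEquiv_apply, hψ₂R]

/-- transport of the extension property along an `F`-isomorphism of the larger subgroup -/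
theorem ExtProp.transport {F : FusionSystem S} {Q R R' : Subgroup Ω} (h : ExtProp F Q R) (θ : R ≃* R')
    (hθ : IsFIso F θ) : ∃ (Q' : Subgroup Ω) (e : Q ≃* Q'), IsFIso F e ∧ ExtProp F Q' R' := by
  obtain ⟨hQR, h⟩ := h
  have hφ₀ : (R'.subtype.comp θ.toMonoidHom).comp (Subgroup.inclusion hQR) ∈ F.Hom Q :=
    restrict_mem F hQR hθ
  set φ₀ := (R'.subtype.comp θ.toMonoidHom).comp (Subgroup.inclusion hQR) with hφ₀def
  have hφ₀x : ∀ x : Q, φ₀ x = ((θ ⟨x, hQR x.2⟩ : R') : Ω) := fun x => rfl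
  let e : Q ≃* φ₀.range := homEquiv F hφ₀ rfl
  have he : IsFIso F e := Cfsg.Agent.Lib.Helper87.isFIso_homEquiv F hφ₀ rfl
  have hex : ∀ x : Q, ((e x : φ₀.range) : Ω) = ((θ ⟨x, hQR x.2⟩ : R') : Ω) := fun x => by
    rw [Cfsg.Agent.Lib.Helper87.homEquiv_apply, hφ₀x]
  have hQ'R' : φ₀.range ≤ R' := by
    rintro _ ⟨x, rfl⟩
    rw [hφ₀x]
    exact (θ _).2
  refine ⟨φ₀.range, e, he, hQ'R', fun φ' hφ' => ?_⟩
  have hφ : MulAut.congr e.symm φ' ∈ F.autGroup Q :=
    (Cfsg.Agent.Lib.Helper87.congr_mem_autGroup_iff F (Cfsg.Agent.Lib.Helper87.IsFIso.symm F he) φ').mpr hφ'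
  obtain ⟨ψ, hψ, hψx⟩ := h _ hφ
  refine ⟨MulAut.congr θ ψ, (Cfsg.Agent.Lib.Helper87.congr_mem_autGroup_iff F hθ ψ).mpr hψ, fun y => ?_⟩
  have e1 : (MulAut.congr θ ψ) ⟨y, hQ'R' y.2⟩ = θ (ψ (θ.symm ⟨y, hQ'R' y.2⟩)) := rfl
  have e2 : θ.symm ⟨y, hQ'R' y.2⟩ = ⟨e.symm y, hQR (e.symm y).2⟩ := by
    rw [MulEquiv.symm_apply_eq]
    apply Subtype.ext
    rw [← hex, MulEquiv.apply_symm_apply]
  have e3 : ψ ⟨e.symm y, hQR (e.symm y).2⟩ = ⟨(e.symm (φ' y) : Q), hQR (e.symm (φ' y)).2⟩ := by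
    apply Subtype.ext
    rw [hψx]
    show ((e.symm (φ' (e.symm.symm (e.symm y))) : Q) : Ω) = _
    rw [MulEquiv.symm_symm, MulEquiv.apply_symm_apply]
  rw [e1, e2, e3, ← hex, MulEquiv.apply_symm_apply]

/-- transport of membership in `O_p(Aut_F(Q))` back along an `F`-isomorphism -/
theorem mem_OpOf_of_congr {F : FusionSystem S} {p : ℕ} {Q Q' : Subgroup Ω} {e : Q ≃* Q'} (he : IsFIso F e)
    {χ : MulAut Q} (h : MulAut.congr e χ ∈ OpOf p (F.autGroup Q')) : χ ∈ OpOf p (F.autGroup Q) := by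
  have := Cfsg.Agent.Lib.Helper88.congr_mem_pCoreOf F (Cfsg.Agent.Lib.Helper87.IsFIso.symm F he) h
  have e1 : MulAut.congr e.symm (MulAut.congr e χ) = χ := by
    ext x
    show ((e.symm (e (χ (e.symm (e.symm.symm x)))) : Q) : Ω) = _
    rw [MulEquiv.symm_symm, MulEquiv.symm_apply_apply, MulEquiv.symm_apply_apply]
  rw [e1] at this
  exact this

/-- the radical case -/
theorem mem_OpOf_of_extProp [Finite S] {p : ℕ} (F : FusionSystem S) {Q R : Subgroup Ω} (hRS : R ≤ S)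
    (hext : ExtProp F Q R) (N : FusionSystem (normalizerIn S R)) (hN : F.IsNormalizerSystem R N)
    (hst : Stable p N) {χ : MulAut Q} (hχ : χ ∈ F.autGroup Q) (hq : Quad χ) :
    χ ∈ OpOf p (F.autGroup Q) := by
  obtain ⟨hQR, hext⟩ := hext
  have hRN : R ≤ normalizerIn S R := le_normalizerIn hRS
  have hQN : Q ≤ normalizerIn S R := hQR.trans hRN
  have hQS : Q ≤ S := hQR.trans hRS
  have hsub : N.autGroup Q ≤ F.autGroup Q :=
    Cfsg.Agent.Lib.Helper88.autGroup_le_of_sub N F (isSubsystemOf_of_isNormalizerSystem F R N hN) Q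
  have hsup : F.autGroup Q ≤ N.autGroup Q := by
    intro α hα
    obtain ⟨ψ, hψ, hψx⟩ := hext α hα
    rw [Cfsg.Agent.Lib.Helper87.mem_autGroup_iff N hQN]
    have hψF := (Cfsg.Agent.Lib.Helper87.mem_autGroup_iff F hRS).mp hψ
    have hψN : R.subtype.comp ψ.toMonoidHom ∈ N.Hom R := by
      rw [hN R]
      apply Cfsg.Agent.Lib.Helper90.GT.mem_normalizerHom_of_le F hψF le_rfl hRN
      ext y
      constructor
      · rintro ⟨x, -, rfl⟩
        exact (ψ x).2
      · intro hy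
        refine ⟨ψ.symm ⟨y, hy⟩, Subgroup.mem_subgroupOf.mpr (ψ.symm ⟨y, hy⟩).2, ?_⟩
        show ((ψ (ψ.symm ⟨y, hy⟩) : R) : Ω) = y
        rw [MulEquiv.apply_symm_apply]
    have := restrict_mem N hQR hψN
    apply hom_congr N this
    intro x
    show ((α x : Q) : Ω) = ((ψ ⟨x, hQR x.2⟩ : R) : Ω)
    rw [hψx]
  have heq : N.autGroup Q = F.autGroup Q := le_antisymm hsub hsup
  haveI : Finite ↥(normalizerIn S R) := finite_of_le (normalizerIn_le S R)
  have h2 : χ ∈ OpOf p (N.autGroup Q) := hst.all hQN (heq ▸ hχ) hq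
  rw [heq] at h2
  exact h2

/-- `O_p(Aut_F(R)) ≤ Aut_S(R)` for a fully automized subgroup -/
theorem OpOf_le_autInducedBy {p : ℕ} {F : FusionSystem S} {R : Subgroup Ω} (hfa : F.IsFullyAutomized p R) :
    OpOf p (F.autGroup R) ≤ autInducedBy S R := by
  obtain ⟨-, P, hP⟩ := hfa
  rintro _ ⟨y, hy, rfl⟩
  have h1 : y ∈ (P : Subgroup (F.autGroup R)) := Cfsg.Agent.Lib.Helper01.pCore_le_sylow P hy
  rw [hP] at h1
  exact Subgroup.mem_subgroupOf.mp h1

theorem le_normK_OpOf {p : ℕ} (hS : IsPGroup p S) (F : FusionSystem S) {R : Subgroup Ω} (hRS : R ≤ S) :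
    R ≤ normK S R (OpOf p (F.autGroup R)) := by
  intro g hg
  rw [mem_normK]
  refine ⟨hRS hg, MulAut.conj (⟨g, hg⟩ : R),
    Cfsg.Agent.Lib.Helper88.inn_le_pCoreOf F hS hRS ⟨⟨g, hg⟩, rfl⟩, fun x => ?_⟩
  simp [MulAut.conj_apply]

/-- a non-radical fully automized subgroup is properly contained in `N^K_S(R)`, `K = O_p(Aut_F(R))` -/
theorem card_lt_card_normK [Finite S] {p : ℕ} (hS : IsPGroup p S) (F : FusionSystem S) {R : Subgroup Ω}
    (hfa : F.IsFullyAutomized p R) (hrad : ¬ F.IsRadical p R) :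
    Nat.card R < Nat.card (normK S R (OpOf p (F.autGroup R))) := by
  have hRS : R ≤ S := hfa.1
  have hle := le_normK_OpOf hS F hRS
  haveI : Finite ↥(normK S R (OpOf p (F.autGroup R))) := finite_of_le (normK_le R _)
  by_contra hcon
  push_neg at hcon
  have heq : R = normK S R (OpOf p (F.autGroup R)) := Subgroup.eq_of_le_of_card_ge hle hcon
  apply hrad
  refine ⟨hRS, le_antisymm ?_ (Cfsg.Agent.Lib.Helper88.inn_le_pCoreOf F hS hRS)⟩
  intro κ hκ
  have hκS := OpOf_le_autInducedBy hfa hκ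
  obtain ⟨g, hgS, hn, rfl⟩ := Cfsg.Agent.Lib.Helper87.autInducedBy_eq_conjAut hκS
  have hgN : g ∈ normK S R (OpOf p (F.autGroup R)) := by
    rw [mem_normK]
    exact ⟨hgS, _, hκ, fun x => Cfsg.Agent.Lib.Helper87.conjAut_apply R g hn x⟩
  rw [← heq] at hgN
  refine ⟨⟨g, hgN⟩, ?_⟩
  ext x
  simp [MulAut.conj_apply]

/-- the induction: if `R` is centric and every `F`-automorphism of `Q` extends to `R`, the quadratic elements of
`Aut_F(Q)` lie in `O_p(Aut_F(Q))` -/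
theorem mem_OpOf_of_centric [Finite S] (p : ℕ) [Fact p.Prime] (hS : IsPGroup p S) (F : FusionSystem S)
    (hF : F.IsSaturated p)
    (hyp : ∀ R : Subgroup Ω, F.IsFullyNormalized R → F.IsCentric R → F.IsRadical p R →
      ∀ N : FusionSystem (normalizerIn S R), F.IsNormalizerSystem R N → Stable p N) :
    ∀ (n : ℕ) (Q R : Subgroup Ω), F.IsCentric R → ExtProp F Q R → Nat.card S - Nat.card R = n →
      ∀ χ : MulAut Q, χ ∈ F.autGroup Q → Quad χ → χ ∈ OpOf p (F.autGroup Q) := by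
  have hsat := (Cfsg.Agent.Lib.Helper87.isSaturated_iff p hS F).mp hF
  intro n
  induction n using Nat.strong_induction_on with
  | _ n ih =>
    intro Q R hRc hext hn χ hχ hq
    have hRS : R ≤ S := hRc.1
    obtain ⟨R', hconj, hfn⟩ := Cfsg.Agent.Lib.Helper87.exists_isFullyNormalized F hRS
    obtain ⟨θ, hθ⟩ := Cfsg.Agent.Lib.Helper87.exists_isFIso_of_isConj F hconj
    obtain ⟨Q', e, he, hext'⟩ := hext.transport θ hθ
    have hR'c : F.IsCentric R' :=
      ⟨hfn.1, fun X hX => hRc.2 X (Cfsg.Agent.Lib.Helper87.isConj_trans F hconj hX)⟩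
    have hR'S : R' ≤ S := hfn.1
    have hcard : Nat.card R' = Nat.card R := (Nat.card_congr θ.toEquiv).symm
    apply mem_OpOf_of_congr he
    have hχ' : MulAut.congr e χ ∈ F.autGroup Q' :=
      (Cfsg.Agent.Lib.Helper87.congr_mem_autGroup_iff F he χ).mpr hχ
    have hq' : Quad (MulAut.congr e χ) := hq.congr e
    by_cases hrad : F.IsRadical p R'
    · exact mem_OpOf_of_extProp F hR'S hext' _
        (normalizerSystem_isNormalizerSystem F R' hR'S)
        (hyp R' hfn hR'c hrad _ (normalizerSystem_isNormalizerSystem F R' hR'S)) hχ' hq'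
    · have hfa : F.IsFullyAutomized p R' := ((hsat.1 R' hfn).2)
      have hrec : F.IsReceptive R' := hsat.2 R' (hsat.1 R' hfn).1
      have hlt := card_lt_card_normK hS F hfa hrad
      have hext2 : ExtProp F R' (normK S R' (OpOf p (F.autGroup R'))) :=
        extProp_normK F hrec _ (OpOf_le_autInducedBy hfa) (le_normK_OpOf hS F hR'S)
          (fun ψ hψ κ hκ => conj_mem_OpOf hψ hκ)
      have hc2 : F.IsCentric (normK S R' (OpOf p (F.autGroup R'))) :=
        Cfsg.Agent.Lib.Helper87.isCentric_of_le F hR'c (le_normK_OpOf hS F hR'S) (normK_le R' _)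
      have hle2 : Nat.card (normK S R' (OpOf p (F.autGroup R'))) ≤ Nat.card S :=
        Cfsg.Agent.Lib.Helper87.card_le_of_le (normK_le R' _)
      exact ih (Nat.card S - Nat.card (normK S R' (OpOf p (F.autGroup R')))) (by omega) Q' _ hc2
        (hext'.trans hext2) rfl _ hχ' hq'

/-- **`p`-stability is detected on the centric radical subgroups.** -/
theorem stable_of_centric_radical [Finite S] (p : ℕ) [Fact p.Prime] (hS : IsPGroup p S) (F : FusionSystem S)
    (hF : F.IsSaturated p)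
    (hyp : ∀ R : Subgroup Ω, F.IsFullyNormalized R → F.IsCentric R → F.IsRadical p R →
      ∀ N : FusionSystem (normalizerIn S R), F.IsNormalizerSystem R N → Stable p N) : Stable p F := by
  have hsat := (Cfsg.Agent.Lib.Helper87.isSaturated_iff p hS F).mp hF
  intro Q hfn χ hχ hq
  have hQS : Q ≤ S := hfn.1
  have hfc : F.IsFullyCentralized Q := (hsat.1 Q hfn).1
  have hfa : F.IsFullyAutomized p Q := (hsat.1 Q hfn).2
  have hrec : F.IsReceptive Q := hsat.2 Q hfc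
  have hext : ExtProp F Q (normK S Q (OpOf p (F.autGroup Q))) :=
    extProp_normK F hrec _ (OpOf_le_autInducedBy hfa) (le_normK_OpOf hS F hQS)
      (fun ψ hψ κ hκ => conj_mem_OpOf hψ hκ)
  have hc : F.IsCentric (normK S Q (OpOf p (F.autGroup Q))) := by
    apply Cfsg.Agent.Lib.Helper87.isCentric_of_le F
      (Cfsg.Agent.Lib.Helper53.FusWC.isCentric_sup_centralizerIn F hfc) _ (normK_le Q _)
    exact sup_le (le_normK_OpOf hS F hQS) (Cfsg.Agent.Lib.Helper87.centralizerIn_le_normK Q _)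
  exact mem_OpOf_of_centric p hS F hF hyp _ Q _ hc hext rfl χ hχ hq

end Cfsg.Agent.Lib.Helper90.PSF
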