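import Mathlib
import Cfsg.Agent.Lib.Helper90.QuotModel5
import Cfsg.Agent.Lib.Helper87.FusionGroup

set_option autoImplicit false

/-!
Local models for the fusion system of a finite group: for `Q` fully normalized and centric in `F_P(G)`, a quotient of
`N_G(Q)` by a normal `p'`-subgroup is a model of `N_F(Q)`.
-/

namespace Cfsg.Agent.Lib.Helper90.QG

open Cfsg Cfsg.FusionSystem
open Cfsg.Agent.Lib.Helper87 (hom_le hom_mem finite_of_le normalizerIn_le le_normalizerIn mem_centralizerIn
  isConj_refl conjHom_mem_groupFusion)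
open Cfsg.Agent.Lib.Helper88 (mem_preimageAlong preimageAlong_le)

universe u

/-- every fusion system is its own factor system modulo the trivial subgroup -/
theorem isFactorSystem_bot {Ω : Type u} [Group Ω] {T : Subgroup Ω} (N : FusionSystem T) :
    N.IsFactorSystem ⊥ T.subtype N := by
  have hpre : ∀ P' : Subgroup Ω, P' ≤ T → preimageAlong T.subtype P' = P' := by
    intro P' hP'
    ext x
    rw [mem_preimageAlong]
    constructor
    · rintro ⟨_, h⟩
      exact h
    · intro h
      exact ⟨hP' h, h⟩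
  refine ⟨bot_le, fun s => ?_, Subgroup.range_subtype T, fun P' φ' => ?_⟩
  · rw [Subgroup.mem_bot]
    show (s : Ω) = 1 ↔ (s : Ω) = 1
    exact Iff.rfl
  · constructor
    · intro h
      have hP'T : P' ≤ T := (N.le_of_mem h).1
      refine ⟨hP'T, ?_⟩
      have key : ∀ D : Subgroup Ω, D = P' → ∃ φ ∈ N.Hom D, InducedAlong T.subtype φ φ' := by
        rintro D rfl
        exact ⟨φ', h, hP'T, (N.le_of_mem h).2, fun x => x.2, fun x => rfl⟩
      exact key _ (hpre P' hP'T)
    · rintro ⟨hP'T, φ, hφ, hind⟩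
      have key : ∀ D : Subgroup Ω, D = P' → ∀ φ : D →* Ω, φ ∈ N.Hom D → InducedAlong T.subtype φ φ' →
          φ' ∈ N.Hom P' := by
        rintro D rfl φ hφ ⟨h1, h2, h3, h4⟩
        have : φ' = φ := by
          ext x
          exact h4 x
        rw [this]
        exact hφ
      exact key _ (hpre P' hP'T) φ hφ hind

variable {G : Type u} [Group G]

theorem normalizerIn_le_normalizer (S Q : Subgroup G) :
    normalizerIn S Q ≤ Subgroup.normalizer (Q : Set G) := inf_le_right

/-- `N_G(Q)` realizes the normalizer system of `Q` in `F_S(G)` -/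
theorem isRealizedBy_normalizer (S : Subgroup G) {Q : Subgroup G} (hQS : Q ≤ S)
    (N : FusionSystem (normalizerIn S Q)) (hN : (groupFusionSystem S).IsNormalizerSystem Q N) :
    N.IsRealizedBy (Subgroup.inclusion (normalizerIn_le_normalizer S Q)) := by
  refine ⟨Subgroup.inclusion_injective _, fun A hA φ hφT => ?_⟩
  rw [hN A]
  constructor
  · rintro ⟨hφF, -, -, ψ, ⟨-, -, g, hg⟩, hext, hmap⟩
    have hgn : g ∈ Subgroup.normalizer (Q : Set G) := by
      rw [Subgroup.mem_normalizer_iff]
      intro y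
      constructor
      · intro hy
        have h1 : ψ (Subgroup.inclusion le_sup_right ⟨y, hy⟩) ∈ (Q.subgroupOf (A ⊔ Q)).map ψ :=
          ⟨_, hy, rfl⟩
        rw [hmap, hg] at h1
        exact h1
      · intro hy
        rw [← hmap] at hy
        obtain ⟨q, hq, hqy⟩ := hy
        rw [hg] at hqy
        have : (q : G) = y := by
          have := mul_left_cancel (mul_right_cancel hqy)
          exact this
        rw [← this]
        exact hq
    refine ⟨⟨g, hgn⟩, fun x => ?_⟩
    apply Subtype.ext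
    show φ x = g * (x : G) * g⁻¹
    rw [← hext x, hg]
    rfl
  · rintro ⟨h, hh⟩
    have hh' : ∀ x : A, φ x = (h : G) * (x : G) * (h : G)⁻¹ := fun x => congrArg Subtype.val (hh x)
    have hAS : A ≤ S := hA.trans inf_le_left
    have hφF : φ ∈ (groupFusionSystem S).Hom A := ⟨hAS, fun x => (hφT x).1, h, hh'⟩
    have hmapAQ : (A ⊔ Q).map (MulAut.conj (h : G)).toMonoidHom ≤ S := by
      rw [Subgroup.map_sup]
      apply sup_le
      · rintro _ ⟨a, ha, rfl⟩
        have := hh' ⟨a, ha⟩
        show (h : G) * a * (h : G)⁻¹ ∈ S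
        rw [← this]
        exact (hφT _).1
      · rintro _ ⟨q, hq, rfl⟩
        exact hQS ((Subgroup.mem_normalizer_iff.mp h.2 q).mp hq)
    have hψ : conjHom (A ⊔ Q) (h : G) ∈ (groupFusionSystem S).Hom (A ⊔ Q) :=
      conjHom_mem_groupFusion (sup_le hAS hQS) hmapAQ
    refine ⟨hφF, hA, hφT, conjHom (A ⊔ Q) (h : G), hψ, fun x => (hh' x).symm, ?_⟩
    ext y
    constructor
    · rintro ⟨q, hq, rfl⟩
      exact (Subgroup.mem_normalizer_iff.mp h.2 q).mp hq
    · intro hy
      have hq : (h : G)⁻¹ * y * (h : G) ∈ Q := by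
        have := (Subgroup.mem_normalizer_iff.mp (Subgroup.inv_mem _ h.2) y).mp hy
        simpa using this
      refine ⟨⟨(h : G)⁻¹ * y * (h : G), le_sup_right (a := A) hq⟩, hq, ?_⟩
      show (h : G) * ((h : G)⁻¹ * y * (h : G)) * (h : G)⁻¹ = y
      group

set_option maxHeartbeats 1000000 in
/-- **the local model**: for `Q` fully normalized and centric in `F_P(G)`, a quotient of `N_G(Q)` with kernel meeting
every `p`-subgroup trivially is a model of the normalizer system of `Q`. -/
theorem exists_local_model [Finite G] {p : ℕ} [Fact p.Prime] (P : Sylow p G) {Q : Subgroup G}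
    (hfn : (groupFusionSystem (P : Subgroup G)).IsFullyNormalized Q)
    (hcen : (groupFusionSystem (P : Subgroup G)).IsCentric Q)
    (N : FusionSystem (normalizerIn (P : Subgroup G) Q))
    (hN : (groupFusionSystem (P : Subgroup G)).IsNormalizerSystem Q N) :
    ∃ (X : Type u) (_ : Group X) (π : ↥(Subgroup.normalizer (Q : Set G)) →* X)
      (ι' : ↥(normalizerIn (P : Subgroup G) Q) →* X),
      Function.Surjective π ∧ N.IsModel p X ι' ∧
      ∀ P₁ : Subgroup ↥(Subgroup.normalizer (Q : Set G)), IsPGroup p P₁ → ∀ x ∈ P₁, π x = 1 → x = 1 := by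
  have hQP : Q ≤ (P : Subgroup G) := hfn.1
  have hTP : normalizerIn (P : Subgroup G) Q ≤ (P : Subgroup G) := normalizerIn_le _ _
  have hQT : Q ≤ normalizerIn (P : Subgroup G) Q := le_normalizerIn hQP
  have hT : IsPGroup p ↥(normalizerIn (P : Subgroup G) Q) := P.2.to_le hTP
  have hι := isRealizedBy_normalizer (P : Subgroup G) hQP N hN
  have hsyl : ∃ R : Sylow p ↥(Subgroup.normalizer (Q : Set G)), (R : Subgroup ↥(Subgroup.normalizer (Q : Set G))) =
      (Subgroup.inclusion (normalizerIn_le_normalizer (P : Subgroup G) Q)).range := by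
    rw [Subgroup.inclusion_range]
    exact (Cfsg.Agent.Lib.Helper87.groupFusion_fully_iff P (fun Q => Subgroup.normalizer (Q : Set G))
      (fun R g => Cfsg.Agent.Lib.Helper87.normalizer_map_conj R g) (fun R => le_rfl) Q hQP).mp hfn.2
  have hQn : (((⊥ : Subgroup G).subgroupOf (normalizerIn (P : Subgroup G) Q)).map
      (Subgroup.inclusion (normalizerIn_le_normalizer (P : Subgroup G) Q))).Normal := by
    rw [Subgroup.bot_subgroupOf, Subgroup.map_bot]
    infer_instance
  have hRn : ((Q.subgroupOf (normalizerIn (P : Subgroup G) Q)).map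
      (Subgroup.inclusion (normalizerIn_le_normalizer (P : Subgroup G) Q))).Normal := by
    constructor
    rintro _ ⟨q, hq, rfl⟩ h
    have hq' : (q : G) ∈ Q := hq
    have h1 : (h : G) * (q : G) * (h : G)⁻¹ ∈ Q := (Subgroup.mem_normalizer_iff.mp h.2 q).mp hq'
    exact ⟨⟨(h : G) * (q : G) * (h : G)⁻¹, hQT h1⟩, h1, Subtype.ext rfl⟩
  have hcen' : ∀ t : ↥(normalizerIn (P : Subgroup G) Q),
      (∀ r : ↥(normalizerIn (P : Subgroup G) Q), (r : G) ∈ Q →
        (normalizerIn (P : Subgroup G) Q).subtype r * (normalizerIn (P : Subgroup G) Q).subtype t =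
          (normalizerIn (P : Subgroup G) Q).subtype t * (normalizerIn (P : Subgroup G) Q).subtype r) →
      ∃ r : ↥(normalizerIn (P : Subgroup G) Q), (r : G) ∈ Q ∧
        (normalizerIn (P : Subgroup G) Q).subtype t = (normalizerIn (P : Subgroup G) Q).subtype r := by
    intro t ht
    have h1 : (t : G) ∈ centralizerIn (P : Subgroup G) Q := by
      rw [mem_centralizerIn]
      exact ⟨hTP t.2, fun x hx => ht ⟨x, hQT hx⟩ hx⟩
    exact ⟨t, hcen.2 Q (isConj_refl _ hQP) h1, rfl⟩
  obtain ⟨X, hX, π, ι', hπ, hM, hker⟩ := Cfsg.Agent.Lib.Helper90.QM.exists_model_factor' p hT N _ hι hsyl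
    (Cfsg.Agent.Lib.Helper90.stronglyClosed_bot N) hQn hRn _ N (isFactorSystem_bot N) hcen'
  refine ⟨X, hX, π, ι', hπ, hM, fun P₁ hP₁ x hx hx1 => ?_⟩
  have := hker P₁ hP₁ x hx hx1
  rw [Subgroup.bot_subgroupOf, Subgroup.map_bot, Subgroup.mem_bot] at this
  exact this

end Cfsg.Agent.Lib.Helper90.QG
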