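import Mathlib
import Cfsg.Agent.Lib.Helper02.KStar
import Cfsg.Agent.Lib.Helper02.QdNotStable
import Cfsg.Agent.Lib.Helper01.PCore

set_option autoImplicit false

/-!
A stability predicate for the action of a group on a section `U / U₀` of `p`-subgroups, with its functorial
properties: it is the tool transporting the failure of `p`-stability of `Qd(p)` from a section of a group `G` to a
local subgroup of `G`.
-/

namespace Cfsg.Agent.Lib.Helper90.QG

open Cfsg
open scoped commutatorElement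

universe u

section basic

variable {G : Type*} [Group G]

/-- commutators with elements of the normalizer stay inside -/
theorem commutator_zpowers_le (U : Subgroup G) {a : G} (ha : a ∈ Subgroup.normalizer (U : Set G)) :
    ⁅U, Subgroup.zpowers a⁆ ≤ U := by
  rw [Subgroup.commutator_le]
  intro u hu z hz
  have hzn : z ∈ Subgroup.normalizer (U : Set G) := by
    obtain ⟨i, rfl⟩ := Subgroup.mem_zpowers_iff.mp hz
    exact Subgroup.zpow_mem _ ha i
  rw [commutatorElement_def]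
  have h1 : z * u⁻¹ * z⁻¹ ∈ U := (Subgroup.mem_normalizer_iff.mp hzn u⁻¹).mp (U.inv_mem hu)
  have : u * z * u⁻¹ * z⁻¹ = u * (z * u⁻¹ * z⁻¹) := by group
  rw [this]
  exact U.mul_mem hu h1

theorem commutator_commutator_zpowers_le (U : Subgroup G) {a : G} (ha : a ∈ Subgroup.normalizer (U : Set G)) :
    ⁅⁅U, Subgroup.zpowers a⁆, Subgroup.zpowers a⁆ ≤ U :=
  (Subgroup.commutator_mono (commutator_zpowers_le U ha) le_rfl).trans (commutator_zpowers_le U ha)

/-- the commutator of an element of `U` with `z` only depends on the coset of `z` modulo `C(U)` -/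
theorem commutatorElement_mul_centralizer {U : Subgroup G} {b z d : G} (hb : b ∈ U)
    (hd : d ∈ Subgroup.centralizer (U : Set G)) : ⁅b, z * d⁆ = ⁅b, z⁆ := by
  have hbi : b⁻¹ * d = d * b⁻¹ := by
    rw [Subgroup.mem_centralizer_iff] at hd
    exact hd b⁻¹ (U.inv_mem hb)
  rw [commutatorElement_def, commutatorElement_def]
  calc b * (z * d) * b⁻¹ * (z * d)⁻¹
      = b * z * (d * b⁻¹) * d⁻¹ * z⁻¹ := by group
    _ = b * z * (b⁻¹ * d) * d⁻¹ * z⁻¹ := by rw [hbi]
    _ = b * z * b⁻¹ * z⁻¹ := by group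

/-- commutators with cyclic groups whose generators have powers agreeing modulo `C(U)` -/
theorem commutator_zpowers_congr (U B : Subgroup G) (hB : B ≤ U) (z w : G)
    (h : ∀ i : ℤ, (z ^ i)⁻¹ * w ^ i ∈ Subgroup.centralizer (U : Set G)) :
    ⁅B, Subgroup.zpowers w⁆ = ⁅B, Subgroup.zpowers z⁆ := by
  have hid : ∀ b ∈ B, ∀ i : ℤ, ⁅b, w ^ i⁆ = ⁅b, z ^ i⁆ := by
    intro b hb i
    have e : w ^ i = z ^ i * ((z ^ i)⁻¹ * w ^ i) := by group
    rw [e]
    exact commutatorElement_mul_centralizer (hB hb) (h i)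
  apply le_antisymm
  · rw [Subgroup.commutator_le]
    intro b hb t ht
    obtain ⟨i, rfl⟩ := Subgroup.mem_zpowers_iff.mp ht
    rw [hid b hb i]
    exact Subgroup.commutator_mem_commutator hb (Subgroup.zpow_mem _ (Subgroup.mem_zpowers z) i)
  · rw [Subgroup.commutator_le]
    intro b hb t ht
    obtain ⟨i, rfl⟩ := Subgroup.mem_zpowers_iff.mp ht
    rw [← hid b hb i]
    exact Subgroup.commutator_mem_commutator hb (Subgroup.zpow_mem _ (Subgroup.mem_zpowers w) i)

/-- the centralizer is normalized by the normalizer -/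
theorem conj_mem_centralizer {U : Subgroup G} {g d : G} (hg : g ∈ Subgroup.normalizer (U : Set G))
    (hd : d ∈ Subgroup.centralizer (U : Set G)) : g * d * g⁻¹ ∈ Subgroup.centralizer (U : Set G) := by
  rw [Subgroup.mem_centralizer_iff] at hd ⊢
  intro u hu
  have h1 : g⁻¹ * u * g ∈ U := by
    have := (Subgroup.mem_normalizer_iff.mp (Subgroup.inv_mem _ hg) u).mp hu
    simpa using this
  have h2 := hd _ h1
  calc u * (g * d * g⁻¹) = g * ((g⁻¹ * u * g) * d) * g⁻¹ := by group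
    _ = g * (d * (g⁻¹ * u * g)) * g⁻¹ := by rw [h2]
    _ = g * d * g⁻¹ * u := by group

theorem centralizer_subgroupOf_normal {U K : Subgroup G} (hK : K ≤ Subgroup.normalizer (U : Set G)) :
    ((Subgroup.centralizer (U : Set G)).subgroupOf K).Normal := by
  constructor
  intro d hd g
  rw [Subgroup.mem_subgroupOf] at hd ⊢
  exact conj_mem_centralizer (hK g.2) hd

theorem commutator_zpowers_mul_centralizer' (U B : Subgroup G) (hB : B ≤ U) (a c : G)
    (ha : a ∈ Subgroup.normalizer (U : Set G)) (hc : c ∈ Subgroup.centralizer (U : Set G)) :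
    ⁅B, Subgroup.zpowers (a * c)⁆ = ⁅B, Subgroup.zpowers a⁆ := by
  apply commutator_zpowers_congr U B hB
  intro i
  haveI := centralizer_subgroupOf_normal (le_refl (Subgroup.normalizer (U : Set G)))
  have hcn : c ∈ Subgroup.normalizer (U : Set G) := Subgroup.centralizer_le_normalizer (U : Set G) hc
  set D := (Subgroup.centralizer (U : Set G)).subgroupOf (Subgroup.normalizer (U : Set G)) with hD
  have key : ((⟨a, ha⟩ : ↥(Subgroup.normalizer (U : Set G))) ^ i)⁻¹ *
      ((⟨a, ha⟩ : ↥(Subgroup.normalizer (U : Set G))) * ⟨c, hcn⟩) ^ i ∈ D := by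
    rw [← QuotientGroup.eq]
    have h1 : (((⟨c, hcn⟩ : ↥(Subgroup.normalizer (U : Set G))) : ↥(Subgroup.normalizer (U : Set G))) :
        ↥(Subgroup.normalizer (U : Set G)) ⧸ D) = 1 := by
      rw [QuotientGroup.eq_one_iff, hD, Subgroup.mem_subgroupOf]
      exact hc
    rw [QuotientGroup.mk_zpow, QuotientGroup.mk_zpow, QuotientGroup.mk_mul, h1, mul_one]
  rw [hD, Subgroup.mem_subgroupOf] at key
  simpa using key

end basic

section stab

variable {G : Type*} [Group G] {Y : Type*} [Group Y]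

/-- **the stability predicate**: the group `Y`, acting on `G` through `ρ`, has a normal subgroup containing all
elements acting quadratically on `U` modulo `U₀`, all of whose elements act on `U` modulo `U₀` as `p`-elements -/
def StabH (p : ℕ) (U U₀ : Subgroup G) (ρ : Y →* G) : Prop :=
  ∃ N : Subgroup Y, N.Normal ∧
    (∀ a : Y, ⁅⁅U, Subgroup.zpowers (ρ a)⁆, Subgroup.zpowers (ρ a)⁆ ≤ U₀ → a ∈ N) ∧
    ∀ x ∈ N, ∃ k : ℕ, ⁅U, Subgroup.zpowers (ρ x ^ p ^ k)⁆ ≤ U₀

theorem StabH.comp {p : ℕ} {U U₀ : Subgroup G} {ρ : Y →* G} (h : StabH p U U₀ ρ) {Y' : Type*} [Group Y']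
    (ι : Y' →* Y) : StabH p U U₀ (ρ.comp ι) := by
  obtain ⟨N, hN, h1, h2⟩ := h
  refine ⟨N.comap ι, hN.comap ι, fun a ha => ?_, fun x hx => ?_⟩
  · exact h1 (ι a) ha
  · exact h2 (ι x) hx

theorem StabH.of_comp_surjective {p : ℕ} {U U₀ : Subgroup G} {ρ : Y →* G} {Y' : Type*} [Group Y']
    (σ : Y' →* Y) (hσ : Function.Surjective σ) (h : StabH p U U₀ (ρ.comp σ)) : StabH p U U₀ ρ := by
  obtain ⟨N, hN, h1, h2⟩ := h
  refine ⟨N.map σ, hN.map σ hσ, fun a ha => ?_, fun x hx => ?_⟩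
  · obtain ⟨a', rfl⟩ := hσ a
    exact ⟨a', h1 a' ha, rfl⟩
  · obtain ⟨x', hx', rfl⟩ := hx
    exact h2 x' hx'

theorem map_commutator_zpowers {X : Type*} [Group X] (f : G →* X) (B : Subgroup G) (a : G) :
    (⁅B, Subgroup.zpowers a⁆).map f = ⁅B.map f, Subgroup.zpowers (f a)⁆ := by
  rw [Subgroup.map_commutator, MonoidHom.map_zpowers]

/-- pushing forward along a homomorphism whose kernel meets `U` in `U₀` -/
theorem StabH.map {p : ℕ} {U U₀ : Subgroup G} {ρ : Y →* G} (h : StabH p U U₀ ρ) {X : Type*} [Group X]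
    (f : G →* X) (hnorm : ∀ y, ρ y ∈ Subgroup.normalizer (U : Set G)) (h1 : U ⊓ f.ker ≤ U₀) (h2 : U₀ ≤ f.ker) :
    StabH p (U.map f) ⊥ (f.comp ρ) := by
  obtain ⟨N, hN, hq, hpw⟩ := h
  refine ⟨N, hN, fun a ha => ?_, fun x hx => ?_⟩
  · apply hq a
    refine le_trans (le_inf (commutator_commutator_zpowers_le U (hnorm a)) ?_) h1
    have : (⁅⁅U, Subgroup.zpowers (ρ a)⁆, Subgroup.zpowers (ρ a)⁆).map f ≤ ⊥ := by
      rw [map_commutator_zpowers, map_commutator_zpowers]
      exact ha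
    rw [Subgroup.map_le_iff_le_comap] at this
    exact this
  · obtain ⟨k, hk⟩ := hpw x hx
    refine ⟨k, ?_⟩
    show ⁅U.map f, Subgroup.zpowers (f (ρ x) ^ p ^ k)⁆ ≤ ⊥
    rw [← map_pow, ← map_commutator_zpowers]
    rw [Subgroup.map_le_iff_le_comap]
    exact hk.trans h2

/-- pulling back along a homomorphism injective on `U` -/
theorem StabH.of_map {p : ℕ} {U U₀ : Subgroup G} {ρ : Y →* G} {X : Type*} [Group X]
    (f : G →* X) (hnorm : ∀ y, ρ y ∈ Subgroup.normalizer (U : Set G)) (hU₀ : U₀ ≤ U)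
    (hinj : ∀ x ∈ U, f x = 1 → x = 1) (h : StabH p (U.map f) (U₀.map f) (f.comp ρ)) : StabH p U U₀ ρ := by
  obtain ⟨N, hN, hq, hpw⟩ := h
  refine ⟨N, hN, fun a ha => ?_, fun x hx => ?_⟩
  · apply hq a
    show ⁅⁅U.map f, Subgroup.zpowers (f (ρ a))⁆, Subgroup.zpowers (f (ρ a))⁆ ≤ U₀.map f
    rw [← map_commutator_zpowers, ← map_commutator_zpowers]
    exact Subgroup.map_mono ha
  · obtain ⟨k, hk⟩ := hpw x hx
    refine ⟨k, ?_⟩
    have hk' : (⁅U, Subgroup.zpowers (ρ x ^ p ^ k)⁆).map f ≤ U₀.map f := by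
      rw [map_commutator_zpowers, map_pow]
      exact hk
    intro c hc
    have hcU : c ∈ U := commutator_zpowers_le U (Subgroup.pow_mem _ (hnorm x) _) hc
    obtain ⟨r, hr, hrc⟩ := hk' ⟨c, hc, rfl⟩
    have h1 : c * r⁻¹ = 1 := by
      apply hinj _ (U.mul_mem hcU (U.inv_mem (hU₀ hr)))
      rw [map_mul, map_inv, hrc, mul_inv_cancel]
    have : c = r := by
      rw [mul_inv_eq_one] at h1
      exact h1
    rw [this]
    exact hr

theorem StabH.of_map_injective {p : ℕ} {U U₀ : Subgroup G} {ρ : Y →* G} {X : Type*} [Group X]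
    (f : G →* X) (hf : Function.Injective f) (hnorm : ∀ y, ρ y ∈ Subgroup.normalizer (U : Set G)) (hU₀ : U₀ ≤ U)
    (h : StabH p (U.map f) (U₀.map f) (f.comp ρ)) : StabH p U U₀ ρ :=
  StabH.of_map f hnorm hU₀ (fun _ _ hx => hf (hx.trans (map_one f).symm)) h

/-- **Frattini descent**: if `K_big = K₁ C(U)`, stability for `K₁` gives stability for `K_big` -/
theorem StabH.of_frattini {p : ℕ} {U U₀ : Subgroup G} (K₁ Kb : Subgroup G) (h1b : K₁ ≤ Kb)
    (hKb : Kb ≤ Subgroup.normalizer (U : Set G))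
    (hfr : ∀ x ∈ Kb, ∃ d ∈ Subgroup.centralizer (U : Set G), x * d ∈ K₁)
    (h : StabH p U U₀ K₁.subtype) : StabH p U U₀ Kb.subtype := by
  obtain ⟨N₁, hN₁, hq, hpw⟩ := h
  have hDn : ((Subgroup.centralizer (U : Set G)).subgroupOf Kb).Normal := centralizer_subgroupOf_normal hKb
  set D := (Subgroup.centralizer (U : Set G)).subgroupOf Kb with hD
  set q : ↥Kb →* ↥Kb ⧸ D := QuotientGroup.mk' D with hqdef
  set ι : ↥K₁ →* ↥Kb := Subgroup.inclusion h1b with hι
  have hsurj : Function.Surjective (q.comp ι) := by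
    intro y
    obtain ⟨x, rfl⟩ := QuotientGroup.mk'_surjective D y
    obtain ⟨d, hd, hxd⟩ := hfr x x.2
    refine ⟨⟨(x : G) * d, hxd⟩, ?_⟩
    show q (ι ⟨(x : G) * d, hxd⟩) = q x
    rw [hqdef, QuotientGroup.mk'_apply, QuotientGroup.mk'_apply, QuotientGroup.eq, hD, Subgroup.mem_subgroupOf]
    have : (((ι ⟨(x : G) * d, hxd⟩)⁻¹ * x : ↥Kb) : G) = d⁻¹ := by
      show ((x : G) * d)⁻¹ * (x : G) = d⁻¹
      group
    rw [this]
    exact Subgroup.inv_mem _ hd
  have hNn : (N₁.map (q.comp ι)).Normal := hN₁.map _ hsurj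
  refine ⟨(N₁.map (q.comp ι)).comap q, hNn.comap q, fun a ha => ?_, fun x hx => ?_⟩
  · obtain ⟨d, hd, had⟩ := hfr a a.2
    have han : (a : G) ∈ Subgroup.normalizer (U : Set G) := hKb a.2
    have e1 : ⁅U, Subgroup.zpowers ((a : G) * d)⁆ = ⁅U, Subgroup.zpowers (a : G)⁆ :=
      commutator_zpowers_mul_centralizer' U U le_rfl _ _ han hd
    have e2 : ⁅⁅U, Subgroup.zpowers (a : G)⁆, Subgroup.zpowers ((a : G) * d)⁆ =
        ⁅⁅U, Subgroup.zpowers (a : G)⁆, Subgroup.zpowers (a : G)⁆ :=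
      commutator_zpowers_mul_centralizer' U _ (commutator_zpowers_le U han) _ _ han hd
    have hmem : (⟨(a : G) * d, had⟩ : ↥K₁) ∈ N₁ := by
      apply hq
      show ⁅⁅U, Subgroup.zpowers ((a : G) * d)⁆, Subgroup.zpowers ((a : G) * d)⁆ ≤ U₀
      rw [e1, e2]
      exact ha
    rw [Subgroup.mem_comap]
    refine ⟨⟨(a : G) * d, had⟩, hmem, ?_⟩
    show q (ι ⟨(a : G) * d, had⟩) = q a
    rw [hqdef, QuotientGroup.mk'_apply, QuotientGroup.mk'_apply, QuotientGroup.eq, hD, Subgroup.mem_subgroupOf]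
    have : (((ι ⟨(a : G) * d, had⟩)⁻¹ * a : ↥Kb) : G) = d⁻¹ := by
      show ((a : G) * d)⁻¹ * (a : G) = d⁻¹
      group
    rw [this]
    exact Subgroup.inv_mem _ hd
  · rw [Subgroup.mem_comap] at hx
    obtain ⟨n, hn, hnx⟩ := hx
    obtain ⟨k, hk⟩ := hpw n hn
    refine ⟨k, ?_⟩
    have h3 : q ((ι n) ^ p ^ k) = q (x ^ p ^ k) := by
      rw [map_pow, map_pow]
      exact congrArg (· ^ p ^ k) hnx
    rw [hqdef, QuotientGroup.mk'_apply, QuotientGroup.mk'_apply, QuotientGroup.eq, hD, Subgroup.mem_subgroupOf] at h3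
    have h3' : ((n : G) ^ p ^ k)⁻¹ * (x : G) ^ p ^ k ∈ Subgroup.centralizer (U : Set G) := h3
    have h4 : ((x : G) ^ p ^ k) = (n : G) ^ p ^ k * (((n : G) ^ p ^ k)⁻¹ * (x : G) ^ p ^ k) := by group
    show ⁅U, Subgroup.zpowers ((x : G) ^ p ^ k)⁆ ≤ U₀
    rw [h4, commutator_zpowers_mul_centralizer' U U le_rfl _ _
      (Subgroup.pow_mem _ (hKb (h1b n.2)) _) h3']
    exact hk

end stab

section qd

variable {X : Type u} [Group X] [Finite X] {p : ℕ} [Fact p.Prime]

/-- stability of `Qd(p)`-free groups on normal sections -/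
theorem stabH_of_free (hp : p ≠ 2) (hfree : ¬ Cfsg.Involves ↥(Cfsg.qd p) X) (A R : Subgroup X) [A.Normal]
    [R.Normal] (hA : IsPGroup p ↥A) : StabH p A R (MonoidHom.id X) := by
  obtain ⟨N, hN, h1, h2⟩ := Cfsg.Agent.Lib.Helper02.KStar.exists_stab_normal hp hfree A R hA
  exact ⟨N, hN, fun a ha => h1 a ha, fun x hx => h2 x hx⟩

end qd

end Cfsg.Agent.Lib.Helper90.QG
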