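import Mathlib
import Cfsg.Agent.Lib.Helper90.QdGroup2
import Cfsg.Agent.Lib.Helper02.NPStab

set_option autoImplicit false

/-!
If `Qd(p)` (`p` odd) is involved in a finite group `G`, then `G` has `p`-subgroups `U₀ ⊴ U` such that
`N_G(U) ∩ N_G(U₀)` is not stable on `U / U₀`.
-/

namespace Cfsg.Agent.Lib.Helper90.QG

open Cfsg
open scoped commutatorElement

universe u

section transport

variable {G : Type*} [Group G] {Y : Type*} [Group Y]

/-- pushing forward along an injective homomorphism -/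
theorem StabH.map_injective {p : ℕ} {U U₀ : Subgroup G} {ρ : Y →* G} (h : StabH p U U₀ ρ) {X : Type*} [Group X]
    (f : G →* X) (hf : Function.Injective f) : StabH p (U.map f) (U₀.map f) (f.comp ρ) := by
  obtain ⟨N, hN, hq, hpw⟩ := h
  refine ⟨N, hN, fun a ha => ?_, fun x hx => ?_⟩
  · apply hq a
    have ha' : ⁅⁅U.map f, Subgroup.zpowers (f (ρ a))⁆, Subgroup.zpowers (f (ρ a))⁆ ≤ U₀.map f := ha
    rw [← map_commutator_zpowers, ← map_commutator_zpowers, Subgroup.map_le_map_iff_of_injective hf] at ha'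
    exact ha'
  · obtain ⟨k, hk⟩ := hpw x hx
    refine ⟨k, ?_⟩
    show ⁅U.map f, Subgroup.zpowers (f (ρ x) ^ p ^ k)⁆ ≤ U₀.map f
    rw [← map_pow, ← map_commutator_zpowers]
    exact Subgroup.map_mono hk

/-- a group that is not `p`-stable in the normalizer form has a `p`-subgroup on which its normalizer is not stable -/
theorem exists_not_stabH_of_not_stable {X : Type*} [Group X] {p : ℕ} (h : ¬ Cfsg.IsNormalizerPStable p X) :
    ∃ PX : Subgroup X, IsPGroup p PX ∧ ¬ StabH p PX ⊥ (Subgroup.normalizer (PX : Set X)).subtype := by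
  by_contra hcon
  push_neg at hcon
  apply h
  intro PX hPX g hg hquad
  obtain ⟨N, hN, hq, hpw⟩ := hcon PX hPX
  have hgN : (⟨g, hg⟩ : ↥(Subgroup.normalizer (PX : Set X))) ∈ N := by
    apply hq
    show ⁅⁅PX, Subgroup.zpowers g⁆, Subgroup.zpowers g⁆ ≤ ⊥
    rw [hquad]
  set C := (Subgroup.centralizer (PX : Set X)).subgroupOf (Subgroup.normalizer (PX : Set X)) with hC
  have hMn : (N.map (QuotientGroup.mk' C)).Normal := hN.map _ (QuotientGroup.mk'_surjective C)
  have hMp : IsPGroup p ↥(N.map (QuotientGroup.mk' C)) := by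
    rintro ⟨_, x, hx, rfl⟩
    obtain ⟨k, hk⟩ := hpw x hx
    refine ⟨k, ?_⟩
    apply Subtype.ext
    show (QuotientGroup.mk' C x) ^ p ^ k = 1
    rw [← map_pow, QuotientGroup.mk'_apply, QuotientGroup.eq_one_iff, hC, Subgroup.mem_subgroupOf,
      Subgroup.mem_centralizer_iff]
    intro u hu
    have hk' : ⁅PX, Subgroup.zpowers ((x : X) ^ p ^ k)⁆ ≤ ⊥ := hk
    have h1 : ⁅u, (x : X) ^ p ^ k⁆ ∈ (⊥ : Subgroup X) :=
      hk' (Subgroup.commutator_mem_commutator hu (Subgroup.mem_zpowers _))
    rw [Subgroup.mem_bot, commutatorElement_def] at h1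
    have h2 : u * (x : X) ^ p ^ k = (x : X) ^ p ^ k * u := by
      have := congrArg (fun t => t * ((x : X) ^ p ^ k) * u) h1
      simpa [mul_assoc] using this
    simpa using h2
  exact Cfsg.Agent.Lib.Helper01.le_pCore hMn hMp ⟨_, hgN, rfl⟩

theorem normalizer_inf_le_normalizer_inf (A B : Subgroup G) :
    Subgroup.normalizer (A : Set G) ⊓ Subgroup.normalizer (B : Set G) ≤
      Subgroup.normalizer ((A ⊓ B : Subgroup G) : Set G) := by
  rintro g ⟨hA, hB⟩
  rw [Subgroup.mem_normalizer_iff]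
  intro h
  rw [Subgroup.mem_inf, Subgroup.mem_inf, ← Subgroup.mem_normalizer_iff.mp hA h,
    ← Subgroup.mem_normalizer_iff.mp hB h]

end transport

section pullback

/-- pulling back the failure of stability along a surjection from a finite group -/
theorem exists_not_stabH_of_surjective {K : Type*} [Group K] [Finite K] {X : Type*} [Group X] {p : ℕ}
    [Fact p.Prime] (f : K →* X) (hf : Function.Surjective f) (PX : Subgroup X) (hPX : IsPGroup p PX)
    (hns : ¬ StabH p PX ⊥ (Subgroup.normalizer (PX : Set X)).subtype) :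
    ∃ U U₀ : Subgroup K, IsPGroup p U ∧ U₀ ≤ U ∧ U ≤ Subgroup.normalizer (U₀ : Set K) ∧
      ∃ K₀ : Subgroup K, K₀ ≤ Subgroup.normalizer (U : Set K) ∧ K₀ ≤ Subgroup.normalizer (U₀ : Set K) ∧
        ¬ StabH p U U₀ K₀.subtype := by
  set NX := Subgroup.normalizer (PX : Set X) with hNX
  set Nh : Subgroup K := NX.comap f with hNh
  set f' : ↥Nh →* ↥NX := f.subgroupComap NX with hf'
  have hf's : Function.Surjective f' := f.subgroupComap_surjective_of_surjective NX hf
  haveI : (PX.subgroupOf NX).Normal := Subgroup.normal_in_normalizer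
  have hQp : IsPGroup p ↥(PX.subgroupOf NX) := hPX.comap_subtype
  obtain ⟨U'', hU''p, hU''map, hU''cov⟩ :=
    Cfsg.Agent.Lib.Helper02.NPStab.exists_lift_of_normal f' hf's (PX.subgroupOf NX) hQp
  set U : Subgroup K := U''.map Nh.subtype with hU
  set K₀ : Subgroup K := (Subgroup.normalizer (U'' : Set ↥Nh)).map Nh.subtype with hK₀
  have hUmap : U.map f = PX := by
    have h1 : U.map f = (U''.map f').map NX.subtype := by
      rw [hU, Subgroup.map_map, Subgroup.map_map]
      rfl
    rw [h1, hU''map]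
    exact Subgroup.map_subgroupOf_eq_of_le Subgroup.le_normalizer
  have hK₀U : K₀ ≤ Subgroup.normalizer (U : Set K) := Subgroup.le_normalizer_map _
  have hkn : Subgroup.normalizer ((f.ker : Subgroup K) : Set K) = ⊤ := Subgroup.normalizer_eq_top _
  have hK₀U₀ : K₀ ≤ Subgroup.normalizer ((U ⊓ f.ker : Subgroup K) : Set K) := by
    refine le_trans (le_inf hK₀U ?_) (normalizer_inf_le_normalizer_inf U f.ker)
    rw [hkn]
    exact le_top
  have hUU₀ : U ≤ Subgroup.normalizer ((U ⊓ f.ker : Subgroup K) : Set K) := by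
    refine le_trans (le_inf Subgroup.le_normalizer ?_) (normalizer_inf_le_normalizer_inf U f.ker)
    rw [hkn]
    exact le_top
  refine ⟨U, U ⊓ f.ker, hU''p.map _, inf_le_left, hUU₀, K₀, hK₀U, hK₀U₀, fun hst => hns ?_⟩
  have h1 := hst.map f (fun y => hK₀U y.2) le_rfl inf_le_right
  rw [hUmap] at h1
  have hmem : ∀ y : ↥K₀, (f.comp K₀.subtype) y ∈ NX := by
    rintro ⟨_, n, _, rfl⟩
    exact n.2
  set σ : ↥K₀ →* ↥NX := (f.comp K₀.subtype).codRestrict NX hmem with hσ
  have hσs : Function.Surjective σ := by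
    intro x
    obtain ⟨n, hn, hnx⟩ := hU''cov x
    refine ⟨⟨(n : K), ⟨n, hn, rfl⟩⟩, ?_⟩
    apply Subtype.ext
    show f (n : K) = (x : X)
    rw [← hnx]
    rfl
  have h2 : f.comp K₀.subtype = NX.subtype.comp σ := by
    ext y
    rfl
  rw [h2] at h1
  exact StabH.of_comp_surjective σ hσs h1

end pullback

section involves

variable {G : Type u} [Group G] [Finite G] {p : ℕ} [Fact p.Prime]

/-- **the group side**: if `Qd(p)` is involved in `G`, some local subgroup of `G` is not stable on a section -/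
theorem exists_not_stabH_of_involves (hp : p ≠ 2) (hinv : Cfsg.Involves ↥(Cfsg.qd p) G) :
    ∃ U U₀ : Subgroup G, IsPGroup p U ∧ U₀ ≤ U ∧ U ≤ Subgroup.normalizer (U₀ : Set G) ∧
      ¬ StabH p U U₀ (Subgroup.normalizer (U : Set G) ⊓ Subgroup.normalizer (U₀ : Set G)).subtype := by
  obtain ⟨K, R, hR, ⟨e⟩⟩ := hinv
  obtain ⟨PX, hPX, hns⟩ := exists_not_stabH_of_not_stable
    (Cfsg.Agent.Lib.Helper02.QdNotStable.not_isNormalizerPStable_qd (p := p) hp)
  set f : ↥K →* ↥(Cfsg.qd p) := e.toMonoidHom.comp (QuotientGroup.mk' (R.subgroupOf K)) with hf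
  have hfs : Function.Surjective f := e.surjective.comp (QuotientGroup.mk'_surjective _)
  obtain ⟨U, U₀, hUp, hU₀U, hUU₀, K₀, hK₀U, hK₀U₀, hnst⟩ := exists_not_stabH_of_surjective f hfs PX hPX hns
  refine ⟨U.map K.subtype, U₀.map K.subtype, hUp.map _, Subgroup.map_mono hU₀U, ?_, fun hst => hnst ?_⟩
  · exact (Subgroup.map_mono hUU₀).trans (Subgroup.le_normalizer_map _)
  · apply StabH.of_map_injective K.subtype K.subtype_injective (fun y => hK₀U y.2) hU₀U
    set Kb := Subgroup.normalizer ((U.map K.subtype : Subgroup G) : Set G) ⊓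
      Subgroup.normalizer ((U₀.map K.subtype : Subgroup G) : Set G) with hKb
    have hmem : ∀ y : ↥K₀, (K.subtype.comp K₀.subtype) y ∈ Kb := by
      intro y
      constructor
      · exact Subgroup.le_normalizer_map K.subtype ⟨_, hK₀U y.2, rfl⟩
      · exact Subgroup.le_normalizer_map K.subtype ⟨_, hK₀U₀ y.2, rfl⟩
    have h2 : K.subtype.comp K₀.subtype = Kb.subtype.comp ((K.subtype.comp K₀.subtype).codRestrict Kb hmem) := by
      ext y
      rfl
    rw [h2]
    exact hst.comp _

end involves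

end Cfsg.Agent.Lib.Helper90.QG
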