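import Mathlib
import Cfsg.Agent.Lib.Helper90.QdGroup1
import Cfsg.Agent.Lib.Helper90.QdGroup3
import Cfsg.Agent.Lib.Helper17.SylowTransfer
import Cfsg.Agent.Lib.Helper87.FusionNormalizer
import Cfsg.Agent.Lib.Helper87.FusionSaturated

set_option autoImplicit false

/-!
The local side: if the fusion system of `G` on a Sylow `p`-subgroup is `Qd(p)`-free (`p` odd), then `N_G(U) ∩ N_G(U₀)`
is stable on every section `U / U₀` of `p`-subgroups.
-/

namespace Cfsg.Agent.Lib.Helper90.QG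

open Cfsg Cfsg.FusionSystem
open scoped commutatorElement

universe u

section aux

variable {G : Type*} [Group G]

theorem normalizer_inf_le_normalizer_sup (A B : Subgroup G) :
    Subgroup.normalizer (A : Set G) ⊓ Subgroup.normalizer (B : Set G) ≤
      Subgroup.normalizer ((A ⊔ B : Subgroup G) : Set G) := by
  intro g hg
  obtain ⟨hA, hB⟩ := Subgroup.mem_inf.mp hg
  rw [Subgroup.mem_normalizer_iff_map_conj_eq] at hA hB ⊢
  rw [Subgroup.map_sup, hA, hB]

/-- a `p`-element of `D` centralizing a Sylow `p`-subgroup `T₀` of `D` lies in `T₀` -/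
theorem mem_sylow_of_centralizes [Finite G] {p : ℕ} [Fact p.Prime] (D : Subgroup G) (T₀ : Sylow p ↥D) (y : G)
    (hyD : y ∈ D) (hy : ∃ k : ℕ, y ^ p ^ k = 1)
    (hyc : ∀ t ∈ (T₀ : Subgroup ↥D).map D.subtype, t * y = y * t) :
    y ∈ (T₀ : Subgroup ↥D).map D.subtype := by
  have hzp : IsPGroup p ↥(Subgroup.zpowers (⟨y, hyD⟩ : ↥D)) := by
    obtain ⟨k, hk⟩ := hy
    have hk' : (⟨y, hyD⟩ : ↥D) ^ p ^ k = 1 := Subtype.ext hk
    rintro ⟨z, hz⟩
    obtain ⟨i, rfl⟩ := Subgroup.mem_zpowers_iff.mp hz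
    refine ⟨k, Subtype.ext ?_⟩
    show ((⟨y, hyD⟩ : ↥D) ^ i) ^ p ^ k = 1
    rw [← zpow_natCast, ← zpow_mul, mul_comm, zpow_mul, zpow_natCast, hk', one_zpow]
  have hcomm : ∀ t ∈ (T₀ : Subgroup ↥D), t * (⟨y, hyD⟩ : ↥D) = ⟨y, hyD⟩ * t := by
    intro t ht
    exact Subtype.ext (hyc (t : G) ⟨t, ht, rfl⟩)
  have hnorm : (T₀ : Subgroup ↥D) ≤
      Subgroup.normalizer ((Subgroup.zpowers (⟨y, hyD⟩ : ↥D) : Subgroup ↥D) : Set ↥D) := by
    intro t ht
    apply Subgroup.centralizer_le_normalizer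
    rw [Subgroup.mem_centralizer_iff]
    intro z hz
    obtain ⟨i, rfl⟩ := Subgroup.mem_zpowers_iff.mp hz
    have : Commute t (⟨y, hyD⟩ : ↥D) := hcomm t ht
    exact (this.zpow_right i).symm.eq
  have hsup : IsPGroup p ↥((T₀ : Subgroup ↥D) ⊔ Subgroup.zpowers (⟨y, hyD⟩ : ↥D) : Subgroup ↥D) :=
    IsPGroup.to_sup_of_normal_right' T₀.2 hzp hnorm
  have heq := T₀.is_maximal' hsup le_sup_left
  have hmem : (⟨y, hyD⟩ : ↥D) ∈ (T₀ : Subgroup ↥D) := by
    rw [← heq]
    exact le_sup_right (a := (T₀ : Subgroup ↥D)) (Subgroup.mem_zpowers _)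
  exact ⟨⟨y, hyD⟩, hmem, rfl⟩

end aux

section quotient

/-- stability in a group with a `Qd(p)`-free quotient whose kernel meets `U` trivially -/
theorem stabH_of_quotient_free {Y : Type u} [Group Y] [Finite Y] {X : Type u} [Group X] [Finite X] {p : ℕ}
    [Fact p.Prime] (hp : p ≠ 2) (π : Y →* X) (hfree : ¬ Cfsg.Involves ↥(Cfsg.qd p) X) (UY U₀Y : Subgroup Y)
    [hUn : UY.Normal] [hU₀n : U₀Y.Normal] (hUp : IsPGroup p ↥UY) (hle : U₀Y ≤ UY)
    (hker : ∀ x ∈ UY, π x = 1 → x = 1) : StabH p UY U₀Y (MonoidHom.id Y) := by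
  set π' : Y →* ↥π.range := π.rangeRestrict with hπ'
  have hsurj : Function.Surjective π' := π.rangeRestrict_surjective
  have hA : (UY.map π').Normal := hUn.map π' hsurj
  have hR : (U₀Y.map π').Normal := hU₀n.map π' hsurj
  have hfree' : ¬ Cfsg.Involves ↥(Cfsg.qd p) ↥π.range :=
    Cfsg.Agent.Lib.Helper02.QdFree.not_involves_subgroup hfree π.range
  have h1 : StabH p (UY.map π') (U₀Y.map π') (MonoidHom.id ↥π.range) :=
    stabH_of_free hp hfree' _ _ (hUp.map π')
  have h2 : StabH p (UY.map π') (U₀Y.map π') (π'.comp (MonoidHom.id Y)) := by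
    have := h1.comp π'
    rw [MonoidHom.id_comp] at this
    rw [MonoidHom.comp_id]
    exact this
  refine StabH.of_map π' (fun y => ?_) hle (fun x hx hx1 => hker x hx ?_) h2
  · rw [Subgroup.normalizer_eq_top]
    exact Subgroup.mem_top _
  · have := congrArg Subtype.val hx1
    exact this

end quotient

section main

variable {G : Type u} [Group G] [Finite G] {p : ℕ} [Fact p.Prime]

set_option maxHeartbeats 1000000 in
/-- **the local side** -/
theorem stabH_of_sectionFree (hp : p ≠ 2) (P : Sylow p G)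
    (hfree : (groupFusionSystem (P : Subgroup G)).IsSectionFree p ↥(Cfsg.qd p))
    (U U₀ : Subgroup G) (hUp : IsPGroup p U) (hU₀U : U₀ ≤ U) (hUU₀ : U ≤ Subgroup.normalizer (U₀ : Set G)) :
    StabH p U U₀ (Subgroup.normalizer (U : Set G) ⊓ Subgroup.normalizer (U₀ : Set G)).subtype := by
  set F := groupFusionSystem (P : Subgroup G) with hF
  set Kb := Subgroup.normalizer (U : Set G) ⊓ Subgroup.normalizer (U₀ : Set G) with hKb
  set D := Subgroup.centralizer (U : Set G) with hD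
  obtain ⟨T₀⟩ : Nonempty (Sylow p ↥D) := inferInstance
  set T₀' : Subgroup G := (T₀ : Subgroup ↥D).map D.subtype with hT₀'
  set Us := U ⊔ T₀' with hUs
  set K₁ := Kb ⊓ Subgroup.normalizer (Us : Set G) with hK₁
  have hT₀'D : T₀' ≤ D := Subgroup.map_subtype_le _
  have hDKb : D ≤ Kb := by
    refine le_inf (Subgroup.centralizer_le_normalizer _) ?_
    exact (Subgroup.centralizer_le hU₀U).trans (Subgroup.centralizer_le_normalizer _)
  have hfr : ∀ x ∈ Kb, ∃ d ∈ D, x * d ∈ K₁ := by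
    intro x hx
    have hxn : x ∈ Subgroup.normalizer (U : Set G) := hx.1
    obtain ⟨h, hh, hhx⟩ := Cfsg.Agent.Lib.Helper17.exists_mul_mem_normalizer_sylow D T₀ x⁻¹ (fun d hd => by
      have := conj_mem_centralizer (Subgroup.inv_mem _ hxn) hd
      simpa using this)
    refine ⟨h⁻¹, D.inv_mem hh, ?_⟩
    have h1 : x * h⁻¹ = (h * x⁻¹)⁻¹ := by group
    have h2 : x * h⁻¹ ∈ Subgroup.normalizer (T₀' : Set G) := by
      rw [h1]
      exact Subgroup.inv_mem _ hhx
    have h3 : x * h⁻¹ ∈ Kb := Kb.mul_mem hx (hDKb (D.inv_mem hh))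
    exact ⟨h3, normalizer_inf_le_normalizer_sup U T₀' ⟨h3.1, h2⟩⟩
  apply StabH.of_frattini K₁ Kb inf_le_left inf_le_left hfr
  -- the subgroup `U T₀` is a `p`-group
  have hUsp : IsPGroup p ↥Us := by
    have h1 : IsPGroup p ↥T₀' := T₀.2.map _
    have h2 : T₀' ≤ Subgroup.normalizer (U : Set G) := hT₀'D.trans (Subgroup.centralizer_le_normalizer _)
    have := IsPGroup.to_sup_of_normal_right' h1 hUp h2
    rw [sup_comm] at this
    exact this
  -- every `p`-element centralizing a conjugate of `U T₀` lies in it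
  have hpc : ∀ (h y : G), (∃ k : ℕ, y ^ p ^ k = 1) →
      y ∈ Subgroup.centralizer ((Us.map (MulAut.conj h).toMonoidHom : Subgroup G) : Set G) →
      y ∈ Us.map (MulAut.conj h).toMonoidHom := by
    intro h y hy hyc
    have h1 : h⁻¹ * y * h ∈ T₀' := by
      have hcomm : ∀ u ∈ Us, u * (h⁻¹ * y * h) = h⁻¹ * y * h * u := by
        intro u hu
        have h2 := Subgroup.mem_centralizer_iff.mp hyc (h * u * h⁻¹) ⟨u, hu, rfl⟩
        calc u * (h⁻¹ * y * h) = h⁻¹ * ((h * u * h⁻¹) * y) * h := by group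
          _ = h⁻¹ * (y * (h * u * h⁻¹)) * h := by rw [h2]
          _ = h⁻¹ * y * h * u := by group
      apply mem_sylow_of_centralizes D T₀
      · rw [hD, Subgroup.mem_centralizer_iff]
        intro u hu
        exact hcomm u (le_sup_left (a := U) hu)
      · obtain ⟨k, hk⟩ := hy
        refine ⟨k, ?_⟩
        have : (h⁻¹ * y * h) ^ p ^ k = h⁻¹ * y ^ p ^ k * h := by
          have := conj_pow (a := h⁻¹) (b := y) (i := p ^ k)
          simpa using this
        rw [this, hk]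
        group
      · intro t ht
        exact hcomm t (le_sup_right (a := U) ht)
    refine ⟨h⁻¹ * y * h, le_sup_right (a := U) h1, ?_⟩
    show h * (h⁻¹ * y * h) * h⁻¹ = y
    group
  obtain ⟨g₁, hg₁⟩ := Cfsg.Agent.Lib.Helper87.exists_conj_le_sylow P hUsp
  obtain ⟨Q, hconj, hfn⟩ := Cfsg.Agent.Lib.Helper87.exists_isFullyNormalized F hg₁
  obtain ⟨-, hQP, g', hg'⟩ := Cfsg.Agent.Lib.Helper87.groupFusion_isConj_iff.mp hconj
  have hmm : ∀ a b : G, ∀ A : Subgroup G, (A.map (MulAut.conj b).toMonoidHom).map (MulAut.conj a).toMonoidHom =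
      A.map (MulAut.conj (a * b)).toMonoidHom := by
    intro a b A
    rw [Subgroup.map_map]
    congr 1
    ext x
    simp [mul_assoc]
  have hQ : Q = Us.map (MulAut.conj (g' * g₁)).toMonoidHom := by
    rw [← hg', hmm]
  have hcen : F.IsCentric Q := by
    refine ⟨hQP, fun Q' hQ' y hy => ?_⟩
    obtain ⟨-, hQ'P, g₃, hg₃⟩ := Cfsg.Agent.Lib.Helper87.groupFusion_isConj_iff.mp hQ'
    have hyP : y ∈ (P : Subgroup G) := hy.1
    have hyc : y ∈ Subgroup.centralizer (Q' : Set G) := hy.2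
    obtain ⟨k, hk⟩ := P.2 ⟨y, hyP⟩
    have hk' : y ^ p ^ k = 1 := congrArg Subtype.val hk
    have hQ'eq : Q' = Us.map (MulAut.conj (g₃ * (g' * g₁))).toMonoidHom := by
      rw [← hg₃, hQ, hmm]
    rw [hQ'eq] at hyc ⊢
    exact hpc _ y ⟨k, hk'⟩ hyc
  set N := Cfsg.Agent.Lib.Helper87.normalizerSystem F Q hQP with hNdef
  have hN := Cfsg.Agent.Lib.Helper87.normalizerSystem_isNormalizerSystem F Q hQP
  obtain ⟨X, hX, π, ι', hπ, hM, hker⟩ := exists_local_model P hfn hcen N hN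
  have hXfree : ¬ Cfsg.Involves ↥(Cfsg.qd p) X := hfree Q hfn hcen N hN X ι' hM
  have hXfin : Finite X := Finite.of_surjective π hπ
  set c : G →* G := (MulAut.conj (g' * g₁)).toMonoidHom with hc
  have hcinj : Function.Injective c := (MulAut.conj (g' * g₁)).injective
  apply StabH.of_map_injective c hcinj (fun y => y.2.1.1) hU₀U
  set H₁ := Subgroup.normalizer (Q : Set G) ⊓ Subgroup.normalizer ((U.map c : Subgroup G) : Set G) ⊓
    Subgroup.normalizer ((U₀.map c : Subgroup G) : Set G) with hH₁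
  have hmem : ∀ y : ↥K₁, (c.comp K₁.subtype) y ∈ H₁ := by
    intro y
    obtain ⟨⟨hyU, hyU₀⟩, hyUs⟩ := y.2
    refine ⟨⟨?_, ?_⟩, ?_⟩
    · rw [hQ]
      exact Subgroup.le_normalizer_map c ⟨_, hyUs, rfl⟩
    · exact Subgroup.le_normalizer_map c ⟨_, hyU, rfl⟩
    · exact Subgroup.le_normalizer_map c ⟨_, hyU₀, rfl⟩
  have h2 : c.comp K₁.subtype = H₁.subtype.comp ((c.comp K₁.subtype).codRestrict H₁ hmem) := by
    ext y
    rfl
  rw [h2]
  apply StabH.comp
  have hU'H₁ : U.map c ≤ H₁ := by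
    refine le_inf (le_inf ?_ Subgroup.le_normalizer) ?_
    · rw [hQ]
      refine le_trans (Subgroup.map_mono ?_) (Subgroup.le_normalizer_map c)
      exact le_sup_left.trans Subgroup.le_normalizer
    · exact (Subgroup.map_mono hUU₀).trans (Subgroup.le_normalizer_map c)
  have hU₀'U' : U₀.map c ≤ U.map c := Subgroup.map_mono hU₀U
  have hU₀'H₁ : U₀.map c ≤ H₁ := hU₀'U'.trans hU'H₁
  have hn1 : ((U.map c).subgroupOf H₁).Normal :=
    (Subgroup.normal_subgroupOf_iff_le_normalizer hU'H₁).mpr (inf_le_left.trans inf_le_right)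
  have hn2 : ((U₀.map c).subgroupOf H₁).Normal :=
    (Subgroup.normal_subgroupOf_iff_le_normalizer hU₀'H₁).mpr inf_le_right
  have hH₁Q : H₁ ≤ Subgroup.normalizer (Q : Set G) := inf_le_left.trans inf_le_left
  have hU'p : IsPGroup p ↥((U.map c).subgroupOf H₁) := (hUp.map c).comap_subtype
  have key : StabH p ((U.map c).subgroupOf H₁) ((U₀.map c).subgroupOf H₁) (MonoidHom.id ↥H₁) := by
    refine stabH_of_quotient_free hp (π.comp (Subgroup.inclusion hH₁Q)) hXfree _ _ hU'p ?_ ?_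
    · intro x hx
      exact hU₀'U' hx
    · intro x hx hx1
      have h3 := hker (((U.map c).subgroupOf H₁).map (Subgroup.inclusion hH₁Q)) (hU'p.map _)
        (Subgroup.inclusion hH₁Q x) ⟨x, hx, rfl⟩ hx1
      exact Subgroup.inclusion_injective hH₁Q (h3.trans (map_one _).symm)
  have key2 := key.map_injective H₁.subtype H₁.subtype_injective
  rw [Subgroup.map_subgroupOf_eq_of_le hU'H₁, Subgroup.map_subgroupOf_eq_of_le hU₀'H₁, MonoidHom.comp_id] at key2
  exact key2

end main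

end Cfsg.Agent.Lib.Helper90.QG
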