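import Mathlib
import Cfsg.Agent.Lib.Helper50.Siegel

/-!
# K-R3 (S1788, architect helper38): Siegel calculus without nondegeneracy

Commutation and additivity of long-root Siegel matrices, and: a Siegel element `ρ_{p,q}` is a commutator of
isometries as soon as there is a hyperbolic pair `r, r'` orthogonal to `p, q` (no nondegeneracy, any
characteristic), hence lies in `Ω(Q)`.
-/

set_option autoImplicit false
set_option linter.unusedVariables false
set_option linter.unusedSectionVars false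

namespace Cfsg.Agent.Lib.Helper90.R3

open Matrix Module QuadraticMap Cfsg.Agent.Lib.Helper19 Cfsg.Agent.Lib.Helper50
open scoped commutatorElement

variable {F : Type*} [Field F] {ι : Type} [Fintype ι] [DecidableEq ι]

/-- Siegel matrices attached to mutually orthogonal pairs commute -/
theorem siegelMatrix_comm (Q : QuadraticForm F (ι → F)) (u v u' v' : ι → F)
    (h1 : polar (⇑Q) u u' = 0) (h2 : polar (⇑Q) u v' = 0) (h3 : polar (⇑Q) v u' = 0)
    (h4 : polar (⇑Q) v v' = 0) (c d : F) :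
    Cfsg.siegelMatrix (⇑Q) u v c * Cfsg.siegelMatrix (⇑Q) u' v' d =
      Cfsg.siegelMatrix (⇑Q) u' v' d * Cfsg.siegelMatrix (⇑Q) u v c := by
  have h1' : polar (⇑Q) u' u = 0 := by rw [polar_comm]; exact h1
  have h2' : polar (⇑Q) v' u = 0 := by rw [polar_comm]; exact h2
  have h3' : polar (⇑Q) u' v = 0 := by rw [polar_comm]; exact h3
  have h4' : polar (⇑Q) v' v = 0 := by rw [polar_comm]; exact h4
  apply Matrix.toLin'.injective
  apply LinearMap.ext
  intro x
  rw [Matrix.toLin'_apply, Matrix.toLin'_apply, ← Matrix.mulVec_mulVec, ← Matrix.mulVec_mulVec]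
  simp only [siegelMatrix_mulVec]
  simp only [polar_add_right, polar_smul_right, polar_sub_right, h1, h2, h3, h4, h1', h2', h3', h4',
    smul_eq_mul, mul_zero, sub_zero, add_zero]
  module

/-- additivity of the Siegel matrix in its first vector -/
theorem siegelMatrix_add_left (Q : QuadraticForm F (ι → F)) (u u' v : ι → F)
    (h1 : polar (⇑Q) u v = 0) (h2 : polar (⇑Q) u u' = 0) (h3 : polar (⇑Q) v v = 0)
    (h4 : polar (⇑Q) v u' = 0) (c : F) :
    Cfsg.siegelMatrix (⇑Q) (u + u') v c =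
      Cfsg.siegelMatrix (⇑Q) u v c * Cfsg.siegelMatrix (⇑Q) u' v c := by
  apply Matrix.toLin'.injective
  apply LinearMap.ext
  intro x
  rw [Matrix.toLin'_apply, Matrix.toLin'_apply, ← Matrix.mulVec_mulVec]
  simp only [siegelMatrix_mulVec]
  simp only [polar_add_right, polar_add_left, polar_smul_right, polar_sub_right, h1, h2, h3, h4,
    smul_eq_mul, mul_zero, sub_zero, add_zero]
  module

/-- `ρ_{p,q}(c) = [ρ_{p,r'}(-1), ρ_{r,q}(c)]` for a hyperbolic pair `r, r'` orthogonal to `p, q` -/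
theorem siegelO_eq_commutator (Q : QuadraticForm F (ι → F)) (p q r r' : ι → F)
    (hp : Q p = 0) (hq : Q q = 0) (hr : Q r = 0) (hr' : Q r' = 0)
    (hpq : polar (⇑Q) p q = 0) (hpr : polar (⇑Q) p r = 0) (hpr' : polar (⇑Q) p r' = 0)
    (hrq : polar (⇑Q) r q = 0) (hr'q : polar (⇑Q) r' q = 0) (hr'r : polar (⇑Q) r' r = 1) (c : F) :
    siegelO Q p q hp hq hpq c =
      ⁅siegelO Q p r' hp hr' hpr' (-1), siegelO Q r q hr hq hrq c⁆ := by
  obtain ⟨g, hg⟩ : ∃ g, g = siegelO Q p r' hp hr' hpr' (-1) := ⟨_, rfl⟩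
  obtain ⟨s, hs⟩ : ∃ s, s = siegelO Q r q hr hq hrq c := ⟨_, rfl⟩
  rw [← hg, ← hs]
  have hqq : polar (⇑Q) q q = 0 := by rw [polar_self, hq]; simp
  have hqr : polar (⇑Q) q r = 0 := by rw [polar_comm]; exact hrq
  have hgr : ((g : GL ι F) : Matrix ι ι F) *ᵥ r = p + r := by
    rw [hg, siegelO_val, siegelMatrix_mulVec, hpr, hr'r]
    module
  have hgq : ((g : GL ι F) : Matrix ι ι F) *ᵥ q = q := by
    rw [hg, siegelO_val, siegelMatrix_mulVec, hpq, hr'q]
    module
  have key : g * s = siegelO Q p q hp hq hpq c * s * g := by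
    apply O_ext
    rw [Subgroup.coe_mul, Units.val_mul, Subgroup.coe_mul, Subgroup.coe_mul, Units.val_mul,
      Units.val_mul, hs, siegelO_val, siegelO_val, conj_siegelMatrix, hgr, hgq,
      siegelMatrix_add_left Q p r q hpq hpr hqq hqr]
  rw [commutatorElement_def, key]
  group

/-- `ρ_{p,q}(c) ∈ Ω(Q)` as soon as there is a hyperbolic pair orthogonal to `p, q` -/
theorem siegelO_mem_Omega_of_hyp (Q : QuadraticForm F (ι → F)) (p q r r' : ι → F)
    (hp : Q p = 0) (hq : Q q = 0) (hr : Q r = 0) (hr' : Q r' = 0)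
    (hpq : polar (⇑Q) p q = 0) (hpr : polar (⇑Q) p r = 0) (hpr' : polar (⇑Q) p r' = 0)
    (hrq : polar (⇑Q) r q = 0) (hr'q : polar (⇑Q) r' q = 0) (hr'r : polar (⇑Q) r' r = 1) (c : F) :
    siegelO Q p q hp hq hpq c ∈ Cfsg.Omega F (⇑Q) := by
  rw [siegelO_eq_commutator Q p q r r' hp hq hr hr' hpq hpr hpr' hrq hr'q hr'r c]
  exact Subgroup.commutator_mem_commutator (Subgroup.mem_top _) (Subgroup.mem_top _)

/-- Siegel elements attached to mutually orthogonal pairs commute -/
theorem siegelO_commute (Q : QuadraticForm F (ι → F)) (u v u' v' : ι → F)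
    (hu : Q u = 0) (hv : Q v = 0) (huv : polar (⇑Q) u v = 0)
    (hu' : Q u' = 0) (hv' : Q v' = 0) (huv' : polar (⇑Q) u' v' = 0)
    (h1 : polar (⇑Q) u u' = 0) (h2 : polar (⇑Q) u v' = 0) (h3 : polar (⇑Q) v u' = 0)
    (h4 : polar (⇑Q) v v' = 0) (c d : F) :
    Commute (siegelO Q u v hu hv huv c) (siegelO Q u' v' hu' hv' huv' d) := by
  apply O_ext
  rw [Subgroup.coe_mul, Units.val_mul, Subgroup.coe_mul, Units.val_mul, siegelO_val, siegelO_val]
  exact siegelMatrix_comm Q u v u' v' h1 h2 h3 h4 c d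

/-- the Siegel elements `ρ_{u,v}(c)`, `c ∈ F`, as a homomorphism -/
def siegelHom (Q : QuadraticForm F (ι → F)) (u v : ι → F) (hu : Q u = 0) (hv : Q v = 0)
    (huv : polar (⇑Q) u v = 0) : Multiplicative F →* ↥(Cfsg.isometryGroup F (⇑Q)) where
  toFun c := siegelO Q u v hu hv huv (Multiplicative.toAdd c)
  map_one' := by
    apply O_ext
    rw [siegelO_val]
    exact siegel_zero (⇑Q) u v
  map_mul' c d := by
    apply O_ext
    rw [Subgroup.coe_mul, Units.val_mul, siegelO_val, siegelO_val, siegelO_val,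
      siegel_mul Q u v hu hv huv]
    rfl

theorem siegelHom_apply (Q : QuadraticForm F (ι → F)) (u v : ι → F) (hu : Q u = 0) (hv : Q v = 0)
    (huv : polar (⇑Q) u v = 0) (c : Multiplicative F) :
    siegelHom Q u v hu hv huv c = siegelO Q u v hu hv huv (Multiplicative.toAdd c) := rfl

end Cfsg.Agent.Lib.Helper90.R3
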