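import Mathlib
import Cfsg.Agent.Lib.Helper90.R3Siegel
import Cfsg.Agent.Lib.Helper50.StdForms
import Cfsg.Agent.Lib.Helper44.OmegaRank

/-!
# K-R3 LEAF Ominus (keystone 178806, S1788, architect helper38)

`PΩ⁻_(2m+2)(F)`, characteristic two, `m ≥ 3`, ANY `a b`: the Siegel elements `ρ_{e_i,e_j}(c)`, `{i,j} ⊆ {0,1,2}`,
generate an elementary abelian group of order `q³` inside `Ω` (each is a commutator of isometries,
`R3Siegel.siegelO_mem_Omega_of_hyp`, no nondegeneracy needed), and no nontrivial element of it commutes with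
`ρ_{f_0,f_1}(1) ∈ Ω`, so it embeds in `Ω / Z(Ω)`.
-/

set_option autoImplicit false
set_option linter.unusedVariables false
set_option linter.unusedSimpArgs false
set_option linter.unusedSectionVars false

namespace Cfsg.Agent.Lib.Helper90.R3

open Matrix Module QuadraticMap Cfsg.Agent.Lib.Helper19 Cfsg.Agent.Lib.Helper50

variable {F : Type*} [Field F] (m : ℕ) (a b : F)

/-- the basis vector `e_i` of the hyperbolic part -/
def ex (i : Fin m) : (Fin m ⊕ Fin m) ⊕ Fin 2 → F := Pi.single (Sum.inl (Sum.inl i)) 1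

/-- the basis vector `f_i` of the hyperbolic part -/
def ey (i : Fin m) : (Fin m ⊕ Fin m) ⊕ Fin 2 → F := Pi.single (Sum.inl (Sum.inr i)) 1

theorem polar_ex (i : Fin m) (v : (Fin m ⊕ Fin m) ⊕ Fin 2 → F) :
    polar (⇑(QMinus m F a b)) (ex m i) v = v (Sum.inl (Sum.inr i)) := by
  show polar (Cfsg.quadFormMinus m F a b) (ex m i) v = _
  simp only [polar, Cfsg.quadFormMinus, ex, Pi.add_apply, Pi.single_apply]
  simp [add_mul, Finset.sum_add_distrib]

theorem polar_ey (i : Fin m) (v : (Fin m ⊕ Fin m) ⊕ Fin 2 → F) :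
    polar (⇑(QMinus m F a b)) (ey m i) v = v (Sum.inl (Sum.inl i)) := by
  show polar (Cfsg.quadFormMinus m F a b) (ey m i) v = _
  simp only [polar, Cfsg.quadFormMinus, ey, Pi.add_apply, Pi.single_apply]
  simp [mul_add, Finset.sum_add_distrib]

theorem Q_ex (i : Fin m) : QMinus m F a b (ex m i) = 0 := by
  show Cfsg.quadFormMinus m F a b (ex m i) = 0
  simp [Cfsg.quadFormMinus, ex, Pi.single_apply]

theorem Q_ey (i : Fin m) : QMinus m F a b (ey m i) = 0 := by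
  show Cfsg.quadFormMinus m F a b (ey m i) = 0
  simp [Cfsg.quadFormMinus, ey, Pi.single_apply]

theorem ex_apply_x (i j : Fin m) : (ex m i : _ → F) (Sum.inl (Sum.inl j)) = if j = i then 1 else 0 := by
  simp [ex, Pi.single_apply]

theorem ex_apply_y (i j : Fin m) : (ex m i : _ → F) (Sum.inl (Sum.inr j)) = 0 := by
  simp [ex, Pi.single_apply]

theorem ey_apply_y (i j : Fin m) : (ey m i : _ → F) (Sum.inl (Sum.inr j)) = if j = i then 1 else 0 := by
  simp [ey, Pi.single_apply]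

theorem ey_apply_x (i j : Fin m) : (ey m i : _ → F) (Sum.inl (Sum.inl j)) = 0 := by
  simp [ey, Pi.single_apply]

theorem polar_ex_ex (i j : Fin m) : polar (⇑(QMinus m F a b)) (ex m i) (ex m j) = 0 := by
  rw [polar_ex, ex_apply_y]

theorem polar_ey_ey (i j : Fin m) : polar (⇑(QMinus m F a b)) (ey m i) (ey m j) = 0 := by
  rw [polar_ey, ey_apply_x]

theorem polar_ex_ey (i j : Fin m) :
    polar (⇑(QMinus m F a b)) (ex m i) (ey m j) = if i = j then 1 else 0 := by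
  rw [polar_ex, ey_apply_y]

theorem polar_ey_ex (i j : Fin m) :
    polar (⇑(QMinus m F a b)) (ey m i) (ex m j) = if i = j then 1 else 0 := by
  rw [polar_ey, ex_apply_x]

/-- the root element `x ↦ x + c (x(f_i) e_j - x(f_j) e_i)` -/
noncomputable def SX (i j : Fin m) (c : F) : ↥(Cfsg.isometryGroup F (⇑(QMinus m F a b))) :=
  siegelO (QMinus m F a b) (ex m i) (ex m j) (Q_ex m a b i) (Q_ex m a b j) (polar_ex_ex m a b i j) c

/-- the opposite root element -/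
noncomputable def SY (i j : Fin m) (c : F) : ↥(Cfsg.isometryGroup F (⇑(QMinus m F a b))) :=
  siegelO (QMinus m F a b) (ey m i) (ey m j) (Q_ey m a b i) (Q_ey m a b j) (polar_ey_ey m a b i j) c

theorem SX_mulVec (i j : Fin m) (c : F) (x : (Fin m ⊕ Fin m) ⊕ Fin 2 → F) :
    (((SX m a b i j c : ↥(Cfsg.isometryGroup F (⇑(QMinus m F a b)))) : GL ((Fin m ⊕ Fin m) ⊕ Fin 2) F) : Matrix ((Fin m ⊕ Fin m) ⊕ Fin 2) ((Fin m ⊕ Fin m) ⊕ Fin 2) F) *ᵥ x =
      x + c • (x (Sum.inl (Sum.inr i)) • ex m j - x (Sum.inl (Sum.inr j)) • ex m i) := by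
  rw [SX, siegelO_val, siegelMatrix_mulVec, polar_ex, polar_ex]

theorem SY_mulVec (i j : Fin m) (c : F) (x : (Fin m ⊕ Fin m) ⊕ Fin 2 → F) :
    (((SY m a b i j c : ↥(Cfsg.isometryGroup F (⇑(QMinus m F a b)))) : GL ((Fin m ⊕ Fin m) ⊕ Fin 2) F) : Matrix ((Fin m ⊕ Fin m) ⊕ Fin 2) ((Fin m ⊕ Fin m) ⊕ Fin 2) F) *ᵥ x =
      x + c • (x (Sum.inl (Sum.inl i)) • ey m j - x (Sum.inl (Sum.inl j)) • ey m i) := by
  rw [SY, siegelO_val, siegelMatrix_mulVec, polar_ey, polar_ey]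

theorem SX_mem_Omega (i j k : Fin m) (hik : i ≠ k) (hjk : j ≠ k) (c : F) :
    SX m a b i j c ∈ Cfsg.Omega F (⇑(QMinus m F a b)) := by
  refine siegelO_mem_Omega_of_hyp (QMinus m F a b) (ex m i) (ex m j) (ex m k) (ey m k)
    (Q_ex m a b i) (Q_ex m a b j) (Q_ex m a b k) (Q_ey m a b k) (polar_ex_ex m a b i j)
    (polar_ex_ex m a b i k) ?_ (polar_ex_ex m a b k j) ?_ ?_ c
  · rw [polar_ex_ey, if_neg hik]
  · rw [polar_ey_ex, if_neg (Ne.symm hjk)]
  · rw [polar_ey_ex, if_pos rfl]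

theorem SY_mem_Omega (i j k : Fin m) (hik : i ≠ k) (hjk : j ≠ k) (c : F) :
    SY m a b i j c ∈ Cfsg.Omega F (⇑(QMinus m F a b)) := by
  refine siegelO_mem_Omega_of_hyp (QMinus m F a b) (ey m i) (ey m j) (ey m k) (ex m k)
    (Q_ey m a b i) (Q_ey m a b j) (Q_ey m a b k) (Q_ex m a b k) (polar_ey_ey m a b i j)
    (polar_ey_ey m a b i k) ?_ (polar_ey_ey m a b k j) ?_ ?_ c
  · rw [polar_ey_ex, if_neg hik]
  · rw [polar_ex_ey, if_neg (Ne.symm hjk)]
  · rw [polar_ex_ey, if_pos rfl]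

theorem SX_commute (i j i' j' : Fin m) (c d : F) :
    Commute (SX m a b i j c) (SX m a b i' j' d) :=
  siegelO_commute (QMinus m F a b) _ _ _ _ _ _ _ _ _ _ (polar_ex_ex m a b i i')
    (polar_ex_ex m a b i j') (polar_ex_ex m a b j i') (polar_ex_ex m a b j j') c d

theorem SX_add (i j : Fin m) (c d : F) :
    SX m a b i j (c + d) = SX m a b i j c * SX m a b i j d := by
  apply O_ext
  unfold SX
  rw [Subgroup.coe_mul, Units.val_mul, siegelO_val, siegelO_val, siegelO_val,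
    siegel_mul (QMinus m F a b) _ _ (Q_ex m a b i) (Q_ex m a b j) (polar_ex_ex m a b i j)]

/-- the elementary abelian group `{u_A}`, `A = s e_{01} + t e_{02} + r e_{12}` -/
noncomputable def psi0 (i0 i1 i2 : Fin m) :
    Multiplicative F × (Multiplicative F × Multiplicative F) →*
      ↥(Cfsg.isometryGroup F (⇑(QMinus m F a b))) :=
  MonoidHom.mk' (fun k => SX m a b i0 i1 (Multiplicative.toAdd k.1) *
      (SX m a b i0 i2 (Multiplicative.toAdd k.2.1) * SX m a b i1 i2 (Multiplicative.toAdd k.2.2))) (by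
    intro k k'
    simp only [Prod.fst_mul, Prod.snd_mul, toAdd_mul, SX_add]
    rw [Commute.mul_mul_mul_comm (SX_commute m a b i0 i2 i1 i2 _ _)]
    exact Commute.mul_mul_mul_comm (Commute.mul_right (SX_commute m a b i0 i1 i0 i2 _ _)
      (SX_commute m a b i0 i1 i1 i2 _ _)) _ _)

theorem psi0_apply (i0 i1 i2 : Fin m) (k : Multiplicative F × (Multiplicative F × Multiplicative F)) :
    psi0 m a b i0 i1 i2 k = SX m a b i0 i1 (Multiplicative.toAdd k.1) *
      (SX m a b i0 i2 (Multiplicative.toAdd k.2.1) * SX m a b i1 i2 (Multiplicative.toAdd k.2.2)) := rfl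

theorem psi0_mem (i0 i1 i2 : Fin m) (h01 : i0 ≠ i1) (h02 : i0 ≠ i2) (h12 : i1 ≠ i2)
    (k : Multiplicative F × (Multiplicative F × Multiplicative F)) :
    psi0 m a b i0 i1 i2 k ∈ Cfsg.Omega F (⇑(QMinus m F a b)) := by
  rw [psi0_apply]
  exact Subgroup.mul_mem _ (SX_mem_Omega m a b i0 i1 i2 h02 h12 _)
    (Subgroup.mul_mem _ (SX_mem_Omega m a b i0 i2 i1 h01 h12.symm _)
      (SX_mem_Omega m a b i1 i2 i0 h01.symm h02.symm _))

/-- a nontrivial element of the group `psi0` does not commute with `SY i0 i1 1` -/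
theorem psi0_noncomm (i0 i1 i2 : Fin m) (h01 : i0 ≠ i1) (h02 : i0 ≠ i2) (h12 : i1 ≠ i2) (s t r : F)
    (h : SY m a b i0 i1 1 * (SX m a b i0 i1 s * (SX m a b i0 i2 t * SX m a b i1 i2 r)) =
      (SX m a b i0 i1 s * (SX m a b i0 i2 t * SX m a b i1 i2 r)) * SY m a b i0 i1 1) :
    s = 0 ∧ t = 0 ∧ r = 0 := by
  have hM : ∀ x : (Fin m ⊕ Fin m) ⊕ Fin 2 → F,
      Cfsg.Agent.Lib.Helper44.act _
        (SY m a b i0 i1 1 * (SX m a b i0 i1 s * (SX m a b i0 i2 t * SX m a b i1 i2 r))) x =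
      Cfsg.Agent.Lib.Helper44.act _
        ((SX m a b i0 i1 s * (SX m a b i0 i2 t * SX m a b i1 i2 r)) * SY m a b i0 i1 1) x := by
    intro x
    rw [h]
  simp only [Cfsg.Agent.Lib.Helper44.act_mul] at hM
  simp only [Cfsg.Agent.Lib.Helper44.act, SX_mulVec, SY_mulVec] at hM
  have e1 := congrFun (hM (ex m i1)) (Sum.inl (Sum.inl i1))
  have e2 := congrFun (hM (ex m i1)) (Sum.inl (Sum.inl i2))
  have e3 := congrFun (hM (ex m i0)) (Sum.inl (Sum.inl i2))
  simp [ex_apply_x, ex_apply_y, ey_apply_x, ey_apply_y, h01, h02, h12, h01.symm, h02.symm, h12.symm] at e1 e2 e3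
  exact ⟨e1, e2, e3.symm⟩

/-- LEAF K-R3-Ominus (178806). -/
theorem prank_pomega_minus (F : Type) [Field F] [Fintype F] [CharP F 2] (m : ℕ) (hm : 3 ≤ m)
    (a b : F) :
    Cfsg.PRankAtLeast 2 3 (Cfsg.POmega F (Cfsg.quadFormMinus m F a b)) := by
  obtain ⟨i0, i1, i2, h01, h02, h12⟩ : ∃ i0 i1 i2 : Fin m, i0 ≠ i1 ∧ i0 ≠ i2 ∧ i1 ≠ i2 :=
    ⟨⟨0, by omega⟩, ⟨1, by omega⟩, ⟨2, by omega⟩, by simp [Fin.ext_iff], by simp [Fin.ext_iff],
      by simp [Fin.ext_iff]⟩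
  show Cfsg.PRankAtLeast 2 3 (Cfsg.POmega F (⇑(QMinus m F a b)))
  obtain ⟨ψ, hψ⟩ : ∃ ψ : Multiplicative F × (Multiplicative F × Multiplicative F) →*
      ↥(Cfsg.Omega F (⇑(QMinus m F a b))), ∀ k, (ψ k : ↥(Cfsg.isometryGroup F (⇑(QMinus m F a b)))) =
        psi0 m a b i0 i1 i2 k :=
    ⟨(psi0 m a b i0 i1 i2).codRestrict (Cfsg.Omega F (⇑(QMinus m F a b)))
      (psi0_mem m a b i0 i1 i2 h01 h02 h12), fun k => rfl⟩
  refine Cfsg.Agent.Lib.Helper44.prankAtLeast_of_injective 2 3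
    ((QuotientGroup.mk' (Subgroup.center (Cfsg.Omega F (⇑(QMinus m F a b))))).comp ψ) ?_ ?_ ?_
  · rw [injective_iff_map_eq_one]
    intro k hk
    have hc : ψ k ∈ Subgroup.center (Cfsg.Omega F (⇑(QMinus m F a b))) :=
      (QuotientGroup.eq_one_iff _).mp hk
    have hw := SY_mem_Omega m a b i0 i1 i2 h02 h12 (1 : F)
    have hcomm := Subgroup.mem_center_iff.mp hc ⟨SY m a b i0 i1 1, hw⟩
    have hcomm' : SY m a b i0 i1 1 * psi0 m a b i0 i1 i2 k =
        psi0 m a b i0 i1 i2 k * SY m a b i0 i1 1 := by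
      have := congrArg Subtype.val hcomm
      rw [Subgroup.coe_mul, Subgroup.coe_mul, hψ] at this
      exact this
    rw [psi0_apply] at hcomm'
    obtain ⟨e1, e2, e3⟩ := psi0_noncomm m a b i0 i1 i2 h01 h02 h12 _ _ _ hcomm'
    obtain ⟨k1, k2, k3⟩ := k
    simp only at e1 e2 e3
    have e1' : k1 = 1 := by rw [← ofAdd_toAdd k1, e1, ofAdd_zero]
    have e2' : k2 = 1 := by rw [← ofAdd_toAdd k2, e2, ofAdd_zero]
    have e3' : k3 = 1 := by rw [← ofAdd_toAdd k3, e3, ofAdd_zero]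
    rw [e1', e2', e3']
    rfl
  · rintro ⟨k1, k2, k3⟩
    have h2 : ∀ c : Multiplicative F, c ^ 2 = 1 := by
      intro c
      rw [← ofAdd_toAdd c, ← ofAdd_nsmul, two_nsmul, CharTwo.add_self_eq_zero, ofAdd_zero]
    rw [Prod.pow_mk, Prod.pow_mk, h2, h2, h2]
    rfl
  · rw [Nat.card_prod, Nat.card_prod]
    have hq : 2 ≤ Nat.card (Multiplicative F) := by
      rw [Nat.card_eq_fintype_card, Fintype.card_multiplicative]
      exact Fintype.one_lt_card
    calc 2 ^ 3 = 2 * (2 * 2) := by norm_num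
      _ ≤ _ := Nat.mul_le_mul hq (Nat.mul_le_mul hq hq)

end Cfsg.Agent.Lib.Helper90.R3
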