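import Mathlib
import Cfsg.Agent.Lib.Helper73.RUDefs
import Cfsg.Agent.Lib.Helper65.RU5Defs

/-!
Leaf L2 of sub-pack K-RU5 (S2279, architect helper65), keystone 227912:
the rows `ρ_r = e_0ᵀ a^(-r)`: `rho_zero`, `rho_succ_vecMul`.
-/

set_option autoImplicit false

namespace Cfsg.Agent.Lib.Helper90.RU5x

open Matrix Cfsg.Agent.Lib.Helper73.RU Cfsg.Agent.Lib.Helper65.RU5

theorem rho_zero (m : ℕ) (F : Type*) [Field F] : rho m F 0 = Pi.single 0 1 := by
  ext i
  unfold rho
  by_cases hi : i = 0
  · subst hi
    simp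
  · have hv : 0 < i.val := by
      rcases Nat.eq_zero_or_pos i.val with h | h
      · exact absurd (Fin.ext h) hi
      · exact h
    rw [Pi.single_apply, if_neg hi, Nat.choose_eq_zero_of_lt (by omega)]
    simp

/-- the entries of a row vector times `aMat` -/
theorem vecMul_aMat_apply (m : ℕ) (F : Type*) [Field F] (f : Fin (m + 3) → F) (j : Fin (m + 3)) :
    (f ᵥ* aMat m F) j =
      f j + (if h : 0 < j.val then f ⟨j.val - 1, by omega⟩ else 0) := by
  simp only [vecMul, dotProduct, aMat, of_apply]
  have hterm : ∀ i : Fin (m + 3), f i * (if i = j ∨ i.val + 1 = j.val then (1 : F) else 0) =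
      (if i = j then f i else 0) + (if i.val + 1 = j.val then f i else 0) := by
    intro i
    by_cases h1 : i = j
    · subst h1
      simp
    · by_cases h2 : i.val + 1 = j.val
      · simp [h1, h2]
      · simp [h1, h2]
  simp_rw [hterm]
  rw [Finset.sum_add_distrib]
  congr 1
  · simp
  · split_ifs with h
    · rw [Finset.sum_eq_single (⟨j.val - 1, by omega⟩ : Fin (m + 3))]
      · rw [if_pos]
        show j.val - 1 + 1 = j.val
        omega
      · intro b _ hb
        rw [if_neg]
        intro hh
        apply hb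
        apply Fin.ext
        show b.val = j.val - 1
        omega
      · intro hh
        exact absurd (Finset.mem_univ _) hh
    · apply Finset.sum_eq_zero
      intro i _
      rw [if_neg]
      omega

theorem rho_succ_vecMul (m : ℕ) (F : Type*) [Field F] (r : ℕ) :
    rho m F (r + 1) ᵥ* aMat m F = rho m F r := by
  ext j
  rw [vecMul_aMat_apply]
  unfold rho
  split_ifs with h
  · obtain ⟨k, hk⟩ : ∃ k, j.val = k + 1 := ⟨j.val - 1, by omega⟩
    show (-1 : F) ^ j.val * ((Nat.choose (r + 1 + j.val - 1) j.val : ℕ) : F) +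
      (-1 : F) ^ (j.val - 1) * ((Nat.choose (r + 1 + (j.val - 1) - 1) (j.val - 1) : ℕ) : F) =
      (-1 : F) ^ j.val * ((Nat.choose (r + j.val - 1) j.val : ℕ) : F)
    rw [hk]
    have e1 : r + 1 + (k + 1) - 1 = r + k + 1 := by omega
    have e2 : k + 1 - 1 = k := by omega
    have e3 : r + 1 + k - 1 = r + k := by omega
    have e4 : r + (k + 1) - 1 = r + k := by omega
    rw [e1, e2, e3, e4, Nat.choose_succ_succ, Nat.cast_add, pow_succ]
    ring
  · have hj : j.val = 0 := by omega
    rw [hj]
    simp

end Cfsg.Agent.Lib.Helper90.RU5x
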