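import Mathlib

/-!
# K-S0459-B (keystone 45902, architect helper95): primitivity from suborbit sizes
-/

set_option autoImplicit false

namespace Cfsg.Agent.Lib.Helper90.RuKey

open MulAction
open scoped Pointwise

section lists

variable {X : Type*} [DecidableEq X]

/-- the union of a list of finsets -/
def listUnion : List (Finset X) → Finset X
  | [] => ∅
  | O :: I => O ∪ listUnion I

theorem mem_listUnion (I : List (Finset X)) (x : X) : x ∈ listUnion I ↔ ∃ O ∈ I, x ∈ O := by
  induction I with
  | nil => simp [listUnion]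
  | cons O I ih =>
    simp only [listUnion, Finset.mem_union, ih, List.mem_cons, exists_eq_or_imp]

theorem card_listUnion (I : List (Finset X)) (h : I.Pairwise (fun O O' => Disjoint O O')) :
    (listUnion I).card = (I.map Finset.card).sum := by
  induction I with
  | nil => simp [listUnion]
  | cons O I ih =>
    rw [List.pairwise_cons] at h
    have hd : Disjoint O (listUnion I) := by
      rw [Finset.disjoint_left]
      intro x hxO hxI
      obtain ⟨O', hO', hxO'⟩ := (mem_listUnion I x).1 hxI
      exact Finset.disjoint_left.1 (h.1 O' hO') hxO hxO'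
    simp only [listUnion, List.map_cons, List.sum_cons]
    rw [Finset.card_union_of_disjoint hd, ih h.2]

end lists

/-- **K-S0459-B**. -/
theorem isPreprimitive_of_suborbits {G X : Type*} [Group G] [MulAction G X] [Fintype X] [DecidableEq X]
    [IsPretransitive G X] (a : X) (orbs : List (Finset X))
    (hcover : ∀ x : X, x ≠ a → ∃ O ∈ orbs, x ∈ O)
    (ha : ∀ O ∈ orbs, a ∉ O)
    (hdisj : orbs.Pairwise (fun O O' => Disjoint O O'))
    (horb : ∀ O ∈ orbs, ∃ r ∈ O, ∀ x ∈ O, ∃ g : G, g • a = a ∧ g • r = x)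
    (hdiv : ∀ I : List (Finset X), I.Sublist orbs → I ≠ [] → I ≠ orbs →
      ¬ (1 + (I.map Finset.card).sum) ∣ Fintype.card X) :
    IsPreprimitive G X := by
  classical
  apply IsPreprimitive.of_isTrivialBlock_base a
  intro B haB hB
  -- an orbit piece meeting `B` lies in `B`
  have hsub : ∀ O ∈ orbs, (∃ x ∈ O, x ∈ B) → ∀ y ∈ O, y ∈ B := by
    rintro O hO ⟨x, hxO, hxB⟩ y hyO
    obtain ⟨r, hrO, hr⟩ := horb O hO
    obtain ⟨g, hga, hgr⟩ := hr x hxO
    obtain ⟨g', hg'a, hg'r⟩ := hr y hyO
    have hgB : g • B = B := mem_stabilizer_iff.1 (hB.stabilizer_le haB (mem_stabilizer_iff.2 hga))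
    have hg'B : g' • B = B := mem_stabilizer_iff.1 (hB.stabilizer_le haB (mem_stabilizer_iff.2 hg'a))
    have hrB : r ∈ B := by
      rw [← hgB] at hxB
      obtain ⟨b, hbB, hbx⟩ := hxB
      have hbr : b = r := by
        apply smul_left_cancel g
        show g • b = g • r
        rw [hgr]
        exact hbx
      rw [← hbr]
      exact hbB
    rw [← hg'B, ← hg'r]
    exact Set.smul_mem_smul_set hrB
  obtain ⟨I, hI⟩ : ∃ I : List (Finset X), I = orbs.filter (fun O => decide (∃ x ∈ O, x ∈ B)) := ⟨_, rfl⟩
  have hImem : ∀ O, O ∈ I ↔ O ∈ orbs ∧ ∃ x ∈ O, x ∈ B := by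
    intro O
    rw [hI, List.mem_filter, decide_eq_true_eq]
  have hIsub : I.Sublist orbs := by
    rw [hI]
    exact List.filter_sublist
  have hIdisj : I.Pairwise (fun O O' => Disjoint O O') := hdisj.sublist hIsub
  -- `B = {a} ∪ ⋃ I`
  have hBeq : B = ↑(insert a (listUnion I)) := by
    ext x
    rw [Finset.mem_coe, Finset.mem_insert, mem_listUnion]
    constructor
    · intro hxB
      by_cases hxa : x = a
      · exact Or.inl hxa
      · right
        obtain ⟨O, hO, hxO⟩ := hcover x hxa
        exact ⟨O, (hImem O).2 ⟨hO, x, hxO, hxB⟩, hxO⟩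
    · rintro (rfl | ⟨O, hO, hxO⟩)
      · exact haB
      · obtain ⟨hO', hmeet⟩ := (hImem O).1 hO
        exact hsub O hO' hmeet x hxO
  have haI : a ∉ listUnion I := by
    rw [mem_listUnion]
    rintro ⟨O, hO, haO⟩
    exact ha O ((hImem O).1 hO).1 haO
  have hcard : B.ncard = 1 + (I.map Finset.card).sum := by
    rw [hBeq, Set.ncard_coe_finset, Finset.card_insert_of_notMem haI, card_listUnion I hIdisj, add_comm]
  have hdvd : (1 + (I.map Finset.card).sum) ∣ Fintype.card X := by
    rw [← hcard, ← Nat.card_eq_fintype_card]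
    exact hB.ncard_dvd_card ⟨a, haB⟩
  by_cases h1 : I = []
  · left
    rw [hBeq, h1]
    simp [listUnion]
  by_cases h2 : I = orbs
  · right
    rw [Set.eq_univ_iff_forall]
    intro x
    rw [hBeq, Finset.mem_coe, Finset.mem_insert, mem_listUnion, h2]
    by_cases hxa : x = a
    · exact Or.inl hxa
    · exact Or.inr (hcover x hxa)
  · exact absurd hdvd (hdiv I hIsub h1 h2)

end Cfsg.Agent.Lib.Helper90.RuKey
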