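import Mathlib

/-!
# K-S2718-G (keystone 271801, architect helper50): pure group theory leaf for S2718

`I ⊴ X`, `I ≤ D` of relative index 4 with `D/I` abelian, `γ ∈ X`. Upper and lower witnesses give
`|D : I C_D(γ)| = 2`.
-/

set_option autoImplicit false

namespace Cfsg.Agent.Lib.Helper90.S2718K

theorem relIndex_eq_two_of {X : Type*} [Group X] (I D : Subgroup X) [I.Normal] (hID : I ≤ D)
    (h4 : I.relIndex D = 4) (hab : ∀ a ∈ D, ∀ b ∈ D, a * b * a⁻¹ * b⁻¹ ∈ I) (γ : X)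
    (hup : ∃ g η x : X, γ = g * η ∧ η ∈ D ∧ x ∈ D ∧ g * x * g⁻¹ * x⁻¹ ∉ I)
    (hlow : ∃ y ∈ D, y * γ = γ * y ∧ y ∉ I) :
    (I ⊔ (D ⊓ Subgroup.centralizer {γ})).relIndex D = 2 := by
  obtain ⟨N, hN⟩ : ∃ N : Subgroup X, N = I ⊔ (D ⊓ Subgroup.centralizer {γ}) := ⟨_, rfl⟩
  rw [← hN]
  have hIN : I ≤ N := hN ▸ le_sup_left
  have hND : N ≤ D := hN ▸ sup_le hID inf_le_left
  have hmul := Subgroup.relIndex_mul_relIndex I N D hIN hND
  rw [h4] at hmul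
  -- the upper bound
  have h1 : N.relIndex D ≠ 1 := by
    intro h
    rw [Subgroup.relIndex_eq_one] at h
    obtain ⟨g, η, x, hγ, hη, hx, hgx⟩ := hup
    have hxN : x ∈ N := h hx
    have hxN' : x ∈ ((I ⊔ (D ⊓ Subgroup.centralizer {γ}) : Subgroup X) : Set X) := by
      rw [← hN]; exact hxN
    rw [Subgroup.normal_mul] at hxN'
    obtain ⟨i, hi, c, hc, hic⟩ := hxN'
    have hcγ : γ * c = c * γ :=
      (Subgroup.mem_centralizer_iff.mp (Subgroup.mem_inf.mp hc).2) γ (Set.mem_singleton γ)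
    -- γ x γ⁻¹ x⁻¹ = (γ i γ⁻¹) i⁻¹
    have e1 : γ * x * γ⁻¹ * x⁻¹ = (γ * i * γ⁻¹) * i⁻¹ := by
      have hic' : x = i * c := hic.symm
      have hc2 : c * γ⁻¹ = γ⁻¹ * c := by
        have : γ⁻¹ * (γ * c) * γ⁻¹ = γ⁻¹ * (c * γ) * γ⁻¹ := by rw [hcγ]
        simpa [mul_assoc] using this
      rw [hic', mul_inv_rev]
      calc γ * (i * c) * γ⁻¹ * (c⁻¹ * i⁻¹) = γ * i * (c * γ⁻¹) * c⁻¹ * i⁻¹ := by group
        _ = γ * i * (γ⁻¹ * c) * c⁻¹ * i⁻¹ := by rw [hc2]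
        _ = γ * i * γ⁻¹ * i⁻¹ := by group
    have hmem1 : γ * x * γ⁻¹ * x⁻¹ ∈ I := by
      rw [e1]
      exact I.mul_mem (Subgroup.Normal.conj_mem inferInstance i hi γ) (I.inv_mem hi)
    have e2 : γ * x * γ⁻¹ * x⁻¹ = g * (η * x * η⁻¹ * x⁻¹) * g⁻¹ * (g * x * g⁻¹ * x⁻¹) := by
      rw [hγ]; group
    have hmem2 : g * (η * x * η⁻¹ * x⁻¹) * g⁻¹ ∈ I :=
      Subgroup.Normal.conj_mem inferInstance _ (hab η hη x hx) g
    rw [e2] at hmem1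
    exact hgx ((Subgroup.mul_mem_cancel_left I hmem2).mp hmem1)
  -- the lower bound
  have h2 : I.relIndex N ≠ 1 := by
    intro h
    rw [Subgroup.relIndex_eq_one] at h
    obtain ⟨y, hyD, hyγ, hyI⟩ := hlow
    apply hyI
    apply h
    rw [hN]
    apply Subgroup.mem_sup_right
    refine Subgroup.mem_inf.mpr ⟨hyD, ?_⟩
    rw [Subgroup.mem_centralizer_iff]
    intro z hz
    rw [Set.mem_singleton_iff.mp hz]
    exact hyγ.symm
  -- arithmetic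
  obtain ⟨a, ha⟩ : ∃ a, a = I.relIndex N := ⟨_, rfl⟩
  obtain ⟨b, hb⟩ : ∃ b, b = N.relIndex D := ⟨_, rfl⟩
  rw [← ha, ← hb] at hmul
  rw [← ha] at h2
  rw [← hb] at h1 ⊢
  have hb4 : b ∣ 4 := ⟨a, by rw [← hmul, mul_comm]⟩
  have hb_le : b ≤ 4 := Nat.le_of_dvd (by norm_num) hb4
  interval_cases b
  · omega
  · omega
  · rfl
  · omega
  · omega

end Cfsg.Agent.Lib.Helper90.S2718K
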