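import Mathlib
import Cfsg.Prelude.Def_GeometricClasses
import Cfsg.Agent.Lib.Helper73.SU6Defs
import Cfsg.Agent.Lib.Helper51.FieldAutU1
import Cfsg.Agent.Lib.Helper19.Unitary

/-!
# K-SU6-F4 (keystone 580204, architect helper73): over the field with four elements the unitary transvection
`x ↦ x + (x₀ + x₁ + x₂ + x₃) • (1,1,1,1,0,0)` lies in `SU_6(2)` and does not preserve the root set
-/

set_option autoImplicit false

namespace Cfsg.Agent.Lib.Helper90.SU6K

open Cfsg Cfsg.Geo Cfsg.Agent.Lib.Helper73.SU6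
open scoped Matrix MatrixGroups

/-- the matrix `1 + p pᵀ`, `p = (1,1,1,1,0,0)`, over the prime field -/
def sM2 : Matrix (Fin 6) (Fin 6) (ZMod 2) :=
  fun i j => (if i = j then 1 else 0) + (if i.val < 4 ∧ j.val < 4 then 1 else 0)

theorem sM2_mul_self : sM2 * sM2 = 1 := by decide

theorem sM2_transpose : sM2ᵀ = sM2 := by decide

/-- the root `e₀ + e₄` over the prime field -/
def x2 : Fin 6 → ZMod 2 := ![1, 0, 0, 0, 1, 0]

/-- its image `(0,1,1,1,1,0)` -/
def y2 : Fin 6 → ZMod 2 := ![0, 1, 1, 1, 1, 0]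

theorem sM2_mulVec_x2 : sM2 *ᵥ x2 = y2 := by decide

theorem ncard_x2 : Set.ncard {i : Fin 6 | x2 i ≠ 0} = 2 := by
  rw [Set.ncard_eq_toFinset_card']
  decide

theorem ncard_y2 : Set.ncard {i : Fin 6 | y2 i ≠ 0} = 4 := by
  rw [Set.ncard_eq_toFinset_card']
  decide

variable {F : Type*} [Field F] [Fintype F]

/-- **K-SU6-F4**. -/
theorem exists_outside (hF : Fintype.card F = 4) :
    ∃ s : GL (Fin 6) F, s ∈ GU 6 F 2 ⊓ specialLinear (Fin 6) F ∧ s ∉ rootStab F := by
  have hchar : ringChar F = 2 := FiniteField.even_card_iff_char_two.mpr (by rw [hF])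
  have hcp : CharP F 2 := by rw [← hchar]; exact ringChar.charP F
  have h2 : (2 : F) = 0 := by
    have := CharP.cast_eq_zero F 2
    exact_mod_cast this
  have hF' : Fintype.card F = 2 ^ 2 := by rw [hF]; norm_num
  obtain ⟨f, -⟩ : ∃ f : ZMod 2 →+* F, True := ⟨ZMod.castHom (dvd_refl 2) F, trivial⟩
  have hfinj : Function.Injective f := f.injective
  obtain ⟨sF, hsF⟩ : ∃ sF : Matrix (Fin 6) (Fin 6) F, sF = sM2.map f := ⟨_, rfl⟩
  have hsq : sF * sF = 1 := by
    rw [hsF, ← Matrix.map_mul, sM2_mul_self, Matrix.map_one _ (map_zero f) (map_one f)]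
  have hsT : sFᵀ = sF := by
    rw [hsF, ← Matrix.transpose_map, sM2_transpose]
  have hsφ : sF.map (Cfsg.Agent.Lib.Helper19.frobQ hF') = sF := by
    rw [hsF, Matrix.map_map]
    ext i j
    simp only [Matrix.map_apply, Function.comp_apply]
    rw [Cfsg.Agent.Lib.Helper19.frobQ_apply, ← map_pow]
    congr 1
    generalize sM2 i j = z
    revert z
    decide
  refine ⟨⟨sF, sF, hsq, hsq⟩, Subgroup.mem_inf.2 ⟨?_, ?_⟩, ?_⟩
  · apply (Cfsg.Agent.Lib.Helper51.mem_GU_iff_mul (Cfsg.Agent.Lib.Helper19.frobQ hF')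
      (Cfsg.Agent.Lib.Helper19.frobQ_apply hF') _).2
    show sFᵀ * sF.map (Cfsg.Agent.Lib.Helper19.frobQ hF') = 1
    rw [hsT, hsφ, hsq]
  · unfold specialLinear
    rw [MonoidHom.mem_ker]
    apply Units.ext
    rw [Matrix.GeneralLinearGroup.val_det_apply, Units.val_one]
    have hd2 : sF.det * sF.det = 1 := by rw [← Matrix.det_mul, hsq, Matrix.det_one]
    have h0 : (sF.det - 1) * (sF.det - 1) = 0 := by
      linear_combination hd2 + (1 - sF.det) * h2
    exact sub_eq_zero.1 (mul_self_eq_zero.1 h0)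
  · intro hmem
    have hiff := hmem (f ∘ x2)
    have hmv : sF *ᵥ (f ∘ x2) = f ∘ y2 := by
      funext i
      rw [hsF, ← RingHom.map_mulVec, sM2_mulVec_x2]
      rfl
    have hset : ∀ v : Fin 6 → ZMod 2, {i : Fin 6 | (f ∘ v) i ≠ 0} = {i : Fin 6 | v i ≠ 0} := by
      intro v
      ext i
      show (f ∘ v) i ≠ 0 ↔ v i ≠ 0
      rw [Function.comp_apply, ne_eq, ne_eq, map_eq_zero_iff f hfinj]
    have hx : IsRoot (f ∘ x2) := by
      left
      rw [hset, ncard_x2]
    have hy : ¬ IsRoot (f ∘ y2) := by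
      rintro (h | ⟨h, -⟩)
      · rw [hset, ncard_y2] at h
        omega
      · apply h 0
        show f (y2 0) = 0
        have : y2 0 = 0 := by decide
        rw [this, map_zero]
    apply hy
    have := hiff.2 hx
    rw [show ((⟨sF, sF, hsq, hsq⟩ : GL (Fin 6) F) : Matrix (Fin 6) (Fin 6) F) = sF from rfl, hmv] at this
    exact this

end Cfsg.Agent.Lib.Helper90.SU6K
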