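import Mathlib
import Cfsg.Prelude.Def_FusionSystem
import Cfsg.Agent.Lib.Helper87.FusionBasic
import Cfsg.Agent.Lib.Helper89.Coprime
import Cfsg.Agent.Lib.Helper90.FusionAut
import Cfsg.Agent.Lib.Helper90.OmegaFixTwo

set_option autoImplicit false

/-!
If every cyclic subgroup of order `p` (or `4` when `p = 2`) of the focal subgroup is normal in `S`, then
`Aut_S(P)` is normal in `Aut_F(P)` whenever `P` is fully automized.
-/

namespace Cfsg.Agent.Lib.Helper90

open Cfsg Cfsg.FusionSystem
open Cfsg.Agent.Lib.Helper87 (hom_le hom_mem restrict_mem finite_of_le hom_congr subtype_mem)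

/-- An automorphism of `p`-power order mapping an element `x` with `x ^ p = 1` to a power of `x` fixes `x`. -/
theorem aut_fix_of_pow_of_pgroup {G : Type*} [Group G] {p : ℕ} [Fact p.Prime] (t : MulAut G) (e : ℕ)
    (ht : t ^ (p ^ e) = 1) (x : G) (hx : x ^ p = 1) (k : ℕ) (hk : t x = x ^ k) : t x = x := by
  by_cases hx1 : x = 1
  · rw [hx1, map_one]
  have hord : orderOf x = p := orderOf_eq_prime hx hx1
  have hiter : ∀ j : ℕ, (t ^ j) x = x ^ (k ^ j) := by
    intro j
    induction j with
    | zero => simp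
    | succ j ih =>
      rw [pow_succ', MulAut.mul_apply, ih, map_pow, hk, ← pow_mul, pow_succ']
  have h1 := hiter (p ^ e)
  rw [ht, MulAut.one_apply] at h1
  have h2 : x ^ 1 = x ^ (k ^ (p ^ e)) := by rw [pow_one]; exact h1
  rw [pow_eq_pow_iff_modEq, hord] at h2
  have h3 : ((k ^ (p ^ e) : ℕ) : ZMod p) = ((1 : ℕ) : ZMod p) :=
    ((ZMod.natCast_eq_natCast_iff _ _ _).mpr h2).symm
  rw [Nat.cast_pow, ZMod.pow_card_pow] at h3
  have h4 : k ≡ 1 [MOD p] := (ZMod.natCast_eq_natCast_iff _ _ _).mp h3
  rw [hk]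
  conv_rhs => rw [← pow_one x]
  rw [pow_eq_pow_iff_modEq, hord]
  exact h4

variable {Ω : Type*} [Group Ω] {S : Subgroup Ω}

/-- Under the hypothesis that small cyclic subgroups of the focal subgroup are normal in `S`, the Sylow
`p`-subgroup `Aut_S(P)` of `Aut_F(P)` is normal, for `P` fully automized. -/
theorem exists_normal_sylow_of_small_normal [Finite S] {p : ℕ} [Fact p.Prime] (hS : IsPGroup p S)
    (F : FusionSystem S)
    (hnorm : ∀ x ∈ F.focalSubgroup, (x ^ p = 1 ∨ (p = 2 ∧ x ^ 4 = 1)) →
      ∀ s ∈ S, s * x * s⁻¹ ∈ Subgroup.zpowers x)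
    {P : Subgroup Ω} (hfa : F.IsFullyAutomized p P) :
    ∃ R : Sylow p (F.autGroup P), (R : Subgroup (F.autGroup P)).Normal := by
  obtain ⟨hPS, R, hR⟩ := hfa
  haveI : Finite P := finite_of_le hPS
  have hPp : IsPGroup p P := hS.to_le hPS
  have hXinv : ∀ a ∈ F.autGroup P, ∀ x : P,
      ((x : Ω) ∈ F.focalSubgroup ∧ (x ^ p = 1 ∨ (p = 2 ∧ x ^ 4 = 1))) →
      (((a x : P) : Ω) ∈ F.focalSubgroup ∧ ((a x) ^ p = 1 ∨ (p = 2 ∧ (a x) ^ 4 = 1))) := by
    intro a ha x hx
    have haF := (mem_autGroup_iff F hPS a).mp ha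
    refine ⟨?_, ?_⟩
    · have e : ((a x : P) : Ω) = (x : Ω) * ((x : Ω)⁻¹ * ((a x : P) : Ω)) := by group
      rw [e]
      apply Subgroup.mul_mem _ hx.1
      apply Subgroup.subset_closure
      exact ⟨P, _, x, haF, rfl⟩
    · rcases hx.2 with h1 | ⟨h2, h4⟩
      · left; rw [← map_pow, h1, map_one]
      · right; exact ⟨h2, by rw [← map_pow, h4, map_one]⟩
  let D : Subgroup (F.autGroup P) :=
    { carrier := {γ | ∀ x : P, ((x : Ω) ∈ F.focalSubgroup ∧ (x ^ p = 1 ∨ (p = 2 ∧ x ^ 4 = 1))) →
        ((γ : MulAut P) x = x ∨ (p = 2 ∧ (γ : MulAut P) x = x⁻¹))}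
      one_mem' := fun x _ => Or.inl rfl
      mul_mem' := by
        intro γ₁ γ₂ h₁ h₂ x hx
        show ((γ₁ : MulAut P) * (γ₂ : MulAut P)) x = x ∨ (p = 2 ∧ ((γ₁ : MulAut P) * (γ₂ : MulAut P)) x = x⁻¹)
        rw [MulAut.mul_apply]
        rcases h₂ x hx with e2 | ⟨hp2, e2⟩
        · rw [e2]; exact h₁ x hx
        · rw [e2, map_inv]
          rcases h₁ x hx with e1 | ⟨_, e1⟩
          · rw [e1]; exact Or.inr ⟨hp2, rfl⟩
          · rw [e1, inv_inv]; exact Or.inl rfl
      inv_mem' := by
        intro γ h x hx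
        show ((γ : MulAut P))⁻¹ x = x ∨ (p = 2 ∧ ((γ : MulAut P))⁻¹ x = x⁻¹)
        rcases h x hx with e | ⟨hp2, e⟩
        · left
          conv_lhs => rw [← e]
          exact MulAut.inv_apply_self _ _ _
        · right
          refine ⟨hp2, ?_⟩
          have h1 : (γ : MulAut P) x⁻¹ = x := by rw [map_inv, e, inv_inv]
          conv_lhs => rw [← h1]
          exact MulAut.inv_apply_self _ _ _ }
  have hDn : D.Normal := by
    refine ⟨fun γ hγ a => ?_⟩
    intro x hx
    have hx' := hXinv _ (a⁻¹).2 x hx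
    show (a : MulAut P) ((γ : MulAut P) ((a : MulAut P)⁻¹ x)) = x ∨
      (p = 2 ∧ (a : MulAut P) ((γ : MulAut P) ((a : MulAut P)⁻¹ x)) = x⁻¹)
    rcases hγ _ hx' with e | ⟨hp2, e⟩
    · left
      have e' : (γ : MulAut P) ((a : MulAut P)⁻¹ x) = (a : MulAut P)⁻¹ x := e
      rw [e']
      exact MulAut.apply_inv_self _ _ _
    · right
      refine ⟨hp2, ?_⟩
      have e' : (γ : MulAut P) ((a : MulAut P)⁻¹ x) = ((a : MulAut P)⁻¹ x)⁻¹ := e
      rw [e', map_inv, MulAut.apply_inv_self]
  have hTD : (R : Subgroup (F.autGroup P)) ≤ D := by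
    intro t ht x hx
    have ht' : (t : MulAut P) ∈ autInducedBy S P := by
      rw [hR] at ht
      exact Subgroup.mem_subgroupOf.mp ht
    obtain ⟨s, hs, hst⟩ := (mem_autInducedBy_iff (t : MulAut P)).mp ht'
    have hsmall : ((x : Ω) ^ p = 1 ∨ (p = 2 ∧ (x : Ω) ^ 4 = 1)) := by
      rcases hx.2 with h1 | ⟨h2, h4⟩
      · left
        have := congrArg (fun y : P => (y : Ω)) h1
        simpa using this
      · right
        refine ⟨h2, ?_⟩
        have := congrArg (fun y : P => (y : Ω)) h4
        simpa using this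
    have hmem := hnorm (x : Ω) hx.1 hsmall s hs
    obtain ⟨k, hk⟩ := Subgroup.mem_zpowers_iff.mp hmem
    have htx : (t : MulAut P) x = x ^ k := by
      apply Subtype.ext
      rw [hst, ← hk]
      simp
    by_cases hp2 : p = 2
    · have hx4 : x ^ 4 = 1 := by
        rcases hx.2 with h1 | ⟨_, h4⟩
        · rw [hp2] at h1
          have e : x ^ 4 = (x ^ 2) ^ 2 := by rw [← pow_mul]
          rw [e, h1, one_pow]
        · exact h4
      have hred : x ^ k = x ^ (k % 4) := by
        conv_lhs => rw [← Int.mul_ediv_add_emod k 4]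
        rw [zpow_add, zpow_mul]
        have : x ^ (4 : ℤ) = 1 := by
          have := hx4
          rw [← zpow_natCast] at this
          exact_mod_cast this
        rw [this, one_zpow, one_mul]
      have hinj : ∀ y : P, (t : MulAut P) y = 1 → y = 1 := fun y hy => by
        have := (t : MulAut P).injective (hy.trans (map_one (t : MulAut P)).symm)
        exact this
      have hcases : k % 4 = 0 ∨ k % 4 = 1 ∨ k % 4 = 2 ∨ k % 4 = 3 := by omega
      rcases hcases with h0 | h1 | h2 | h3
      · left
        have hx1 : x = 1 := hinj x (by rw [htx, hred, h0, zpow_zero])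
        rw [hx1, map_one]
      · left
        rw [htx, hred, h1, zpow_one]
      · left
        have e1 : (t : MulAut P) x = x ^ (2 : ℕ) := by
          rw [htx, hred, h2]
          norm_cast
        have e2 : (t : MulAut P) (x ^ 2) = 1 := by
          rw [map_pow, e1, ← pow_mul]
          exact hx4
        have e3 : x ^ 2 = 1 := hinj _ e2
        have e4 : x = 1 := hinj x (by rw [e1, e3])
        rw [e4, map_one]
      · right
        refine ⟨hp2, ?_⟩
        rw [htx, hred, h3]
        have : x ^ (3 : ℤ) = x ^ (3 : ℕ) := by norm_cast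
        rw [this]
        rw [eq_inv_iff_mul_eq_one, ← pow_succ]
        exact hx4
    · left
      have hxp : x ^ p = 1 := by
        rcases hx.2 with h1 | ⟨h2, _⟩
        · exact h1
        · exact absurd h2 hp2
      obtain ⟨e, he⟩ := R.isPGroup' ⟨t, ht⟩
      have he' : (t : MulAut P) ^ (p ^ e) = 1 := by
        have := congrArg (fun u : (R : Subgroup (F.autGroup P)) => ((u : F.autGroup P) : MulAut P)) he
        simpa using this
      -- natural exponent
      have hfin : IsOfFinOrder x := isOfFinOrder_of_finite x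
      have hpow : (t : MulAut P) x ∈ Submonoid.powers x := by
        rw [hfin.mem_powers_iff_mem_zpowers]
        exact Subgroup.mem_zpowers_iff.mpr ⟨k, htx.symm⟩
      obtain ⟨k', hk'⟩ := hpow
      exact aut_fix_of_pow_of_pgroup (t : MulAut P) e he' x hxp k' hk'.symm
  have hDp : IsPGroup p D := by
    apply Cfsg.Agent.Lib.Helper89.isPGroup_of_coprime_trivial
    intro β hβ
    have hβA : Nat.Coprime (orderOf ((β : F.autGroup P) : MulAut P)) p := by
      rw [Subgroup.orderOf_coe, Subgroup.orderOf_coe]; exact hβ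
    -- β fixes small elements
    have hfixX : ∀ x : P, ((x : Ω) ∈ F.focalSubgroup ∧ (x ^ p = 1 ∨ (p = 2 ∧ x ^ 4 = 1))) →
        ((β : F.autGroup P) : MulAut P) x = x := by
      intro x hx
      rcases β.2 x hx with e | ⟨hp2, e⟩
      · exact e
      · -- odd order and inversion
        have hodd : Odd (orderOf ((β : F.autGroup P) : MulAut P)) := by
          rw [hp2] at hβA
          exact Nat.Coprime.odd_of_right hβA
        obtain ⟨m, hm⟩ := hodd
        have hsq : ((((β : F.autGroup P) : MulAut P)) ^ 2) x = x := by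
          rw [pow_two, MulAut.mul_apply, e, map_inv, e, inv_inv]
        have hev : ∀ i : ℕ, (((((β : F.autGroup P) : MulAut P)) ^ 2) ^ i) x = x := by
          intro i
          induction i with
          | zero => simp
          | succ i ih => rw [pow_succ, MulAut.mul_apply, hsq, ih]
        have h1 : ((((β : F.autGroup P) : MulAut P)) ^ (2 * m + 1)) x = x := by
          rw [← hm, pow_orderOf_eq_one]; rfl
        rw [pow_succ, MulAut.mul_apply, pow_mul] at h1
        have h2 := hev m
        -- (β^2)^m (β x) = x, and (β^2)^m fixes ... apply to both sides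
        have h3 : ((((β : F.autGroup P) : MulAut P) ^ 2) ^ m) (((β : F.autGroup P) : MulAut P) x) =
            ((((β : F.autGroup P) : MulAut P) ^ 2) ^ m) x := by rw [h1, h2]
        exact (((((β : F.autGroup P) : MulAut P) ^ 2) ^ m)).injective h3
    -- restriction to `foc ∩ P`
    have hmemiff : ∀ x : P, ((β : F.autGroup P) : MulAut P) x ∈ (F.focalSubgroup).subgroupOf P ↔
        x ∈ (F.focalSubgroup).subgroupOf P := by
      intro x
      have hgen : ∀ (a : MulAut P), a ∈ F.autGroup P → ∀ y : P, (y : Ω) ∈ F.focalSubgroup →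
          ((a y : P) : Ω) ∈ F.focalSubgroup := by
        intro a ha y hy
        have haF := (mem_autGroup_iff F hPS a).mp ha
        have e : ((a y : P) : Ω) = (y : Ω) * ((y : Ω)⁻¹ * ((a y : P) : Ω)) := by group
        rw [e]
        apply Subgroup.mul_mem _ hy
        apply Subgroup.subset_closure
        exact ⟨P, _, y, haF, rfl⟩
      constructor
      · intro h
        have := hgen _ (Subgroup.inv_mem _ (β : F.autGroup P).2) _ (Subgroup.mem_subgroupOf.mp h)
        rw [MulAut.inv_apply_self] at this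
        exact Subgroup.mem_subgroupOf.mpr this
      · intro h
        exact Subgroup.mem_subgroupOf.mpr (hgen _ (β : F.autGroup P).2 _ (Subgroup.mem_subgroupOf.mp h))
    have hres := aut_trivial_of_fix_small (hPp.to_subgroup ((F.focalSubgroup).subgroupOf P))
      (Cfsg.Agent.Lib.Helper04.restrictAut ((β : F.autGroup P) : MulAut P) _ hmemiff)
      (Nat.Coprime.coprime_dvd_left (Cfsg.Agent.Lib.Helper04.orderOf_restrictAut_dvd _ _ hmemiff) hβA)
      (by
        intro y hy
        apply Subtype.ext
        rw [Cfsg.Agent.Lib.Helper04.restrictAut_apply]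
        apply hfixX
        refine ⟨Subgroup.mem_subgroupOf.mp y.2, ?_⟩
        rcases hy with h1 | ⟨h2, h4⟩
        · left
          have := congrArg Subtype.val h1
          simpa using this
        · right
          refine ⟨h2, ?_⟩
          have := congrArg Subtype.val h4
          simpa using this)
    have hfixfoc : ∀ y : P, (y : Ω) ∈ F.focalSubgroup → ((β : F.autGroup P) : MulAut P) y = y := by
      intro y hy
      have := congrArg (fun f => ((f ⟨y, Subgroup.mem_subgroupOf.mpr hy⟩ : (F.focalSubgroup).subgroupOf P) : P)) hres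
      simpa using this
    have hβ1 : ((β : F.autGroup P) : MulAut P) = 1 := by
      refine MulEquiv.ext (fun y => ?_)
      rw [MulAut.one_apply]
      apply Cfsg.Agent.Lib.Helper04.aut_fix_of_fix_commutator hPp _ hβA y
      apply hfixfoc
      have haF := (mem_autGroup_iff F hPS _).mp (β : F.autGroup P).2
      have e : ((y⁻¹ * ((β : F.autGroup P) : MulAut P) y : P) : Ω) =
          (y : Ω)⁻¹ * ((((β : F.autGroup P) : MulAut P) y : P) : Ω) := by simp
      rw [e]
      apply Subgroup.subset_closure
      exact ⟨P, _, y, haF, rfl⟩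
    apply Subtype.ext
    apply Subtype.ext
    exact hβ1
  have hDR : D = (R : Subgroup (F.autGroup P)) := R.is_maximal' hDp hTD
  exact ⟨R, hDR ▸ hDn⟩

end Cfsg.Agent.Lib.Helper90
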