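import Cfsg.Agent.Lib.Helper49.StSUDefs
import Cfsg.Agent.Lib.Helper64.StBMain

/-!
# K-StSU LEAF C9 (keystone 254623, S2546, architect helper49): the diagonal torus `T` of `SU_n(q)` is a `p'`-group
(twin of `Helper65.StSpC9`).
-/

set_option autoImplicit false
set_option linter.unusedSectionVars false
set_option linter.unusedVariables false

namespace Cfsg.Agent.Lib.Helper90.StSU

open Cfsg Cfsg.Agent.Lib.Helper49.StSU

variable {n : ℕ} {F : Type*} [Field F] {q : ℕ}

theorem mat_pow (g : GJ n F q) (k : ℕ) : mat (g ^ k) = mat g ^ k := by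
  induction k with
  | zero => simp
  | succ k ih => rw [pow_succ, pow_succ, mat_mul, ih]

/-- an element of `T` has a diagonal matrix -/
theorem mat_eq_diagonal_of_mem_T (g : GJ n F q) (hg : g ∈ Tsub n F q) :
    mat g = Matrix.diagonal (fun a => mat g a a) := by
  ext a b
  by_cases h : a = b
  · subst h; simp
  · rw [(mem_Tsub_iff g).1 hg a b h, Matrix.diagonal_apply_ne _ h]

theorem diag_ne_zero_of_mem_T (g : GJ n F q) (hg : g ∈ Tsub n F q) (a : Fin n) :
    mat g a a ≠ 0 := by
  have hdet := det_mat g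
  rw [mat_eq_diagonal_of_mem_T g hg, Matrix.det_diagonal] at hdet
  intro h0
  have : (∏ i, mat g i i) = 0 := Finset.prod_eq_zero (Finset.mem_univ a) h0
  rw [this] at hdet
  exact zero_ne_one hdet

theorem pow_card_sub_one_of_mem_T [Fintype F] (g : GJ n F q) (hg : g ∈ Tsub n F q) :
    g ^ (Fintype.card F - 1) = 1 := by
  apply mat_injective
  rw [mat_pow, mat_eq_diagonal_of_mem_T g hg, Matrix.diagonal_pow, mat_one, ← Matrix.diagonal_one]
  congr 1
  funext a
  exact FiniteField.pow_card_sub_one_eq_one _ (diag_ne_zero_of_mem_T g hg a)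

/-- K-StSU-C9 -/
theorem not_dvd_card_T [Fintype F] (p : ℕ) [Fact p.Prime] [CharP F p]
    (hF : Fintype.card F = q ^ 2) : ¬ p ∣ Nat.card (Tsub n F q) := by
  classical
  intro hp
  have : Finite (GJ n F q) := inferInstance
  obtain ⟨t, ht⟩ := exists_prime_orderOf_dvd_card' p hp
  have h1 : (t : GJ n F q) ^ (Fintype.card F - 1) = 1 := pow_card_sub_one_of_mem_T _ t.2
  have h2 : orderOf (t : GJ n F q) ∣ Fintype.card F - 1 := orderOf_dvd_of_pow_eq_one h1
  rw [Subgroup.orderOf_coe, ht] at h2
  obtain ⟨k, hk⟩ := FiniteField.card F p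
  have h3 : p ∣ Fintype.card F := by
    rw [hk.2]
    exact dvd_pow_self p k.ne_zero
  have hpos : 0 < Fintype.card F := Fintype.card_pos
  have h4 : p ∣ 1 := by
    have h5 : Fintype.card F - 1 + 1 = Fintype.card F := Nat.sub_add_cancel hpos
    have h6 : p ∣ Fintype.card F - 1 + 1 := by rw [h5]; exact h3
    exact (Nat.dvd_add_right h2).1 h6
  exact (Fact.out : p.Prime).one_lt.ne' (Nat.dvd_one.1 h4)

end Cfsg.Agent.Lib.Helper90.StSU
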