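import Mathlib
import Cfsg.Agent.Lib.Helper40.T1904Defs
import Cfsg.Agent.Lib.Helper48.U32.Abstract

/-!
# S1904 keystone K6b (`xs_eight`): the order 8 case is the quaternion group
-/

set_option autoImplicit false

namespace Cfsg.Agent.Lib.Helper90.T1904

open Cfsg.Agent.Lib.Helper40.T1904
open scoped commutatorElement

universe u_1

variable {X : Type u_1} [Group X]

/-- Coprime action on an abelian quotient: an element whose coset is `A`-fixed lies in `N`
(own proof of the basic lemma `fix_quot`). -/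
theorem fix_quot_h90 [Finite X] {A : Subgroup (MulAut X)} (h : Ctx X A) (N : Subgroup X)
    (hNn : N.Normal) (hN : Inv A N) (hab : ∀ x y : X, ⁅x, y⁆ ∈ N) (x : X)
    (hx : ∀ φ ∈ A, x⁻¹ * φ x ∈ N) : x ∈ N := by
  classical
  haveI := hNn
  haveI : Fintype A := Fintype.ofFinite A
  have hcomm : ∀ a b : X ⧸ N, a * b = b * a := by
    intro a b
    induction a using QuotientGroup.induction_on with
    | H a =>
    induction b using QuotientGroup.induction_on with
    | H b =>
    rw [← QuotientGroup.mk_mul, ← QuotientGroup.mk_mul, QuotientGroup.eq]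
    have := hab b⁻¹ a⁻¹
    rw [commutatorElement_def] at this
    simpa [mul_assoc] using this
  letI : CommGroup (X ⧸ N) := { (inferInstance : Group (X ⧸ N)) with mul_comm := hcomm }
  let ν : X →* X ⧸ N :=
    { toFun := fun y => ∏ φ : A, (QuotientGroup.mk ((φ : MulAut X) y) : X ⧸ N)
      map_one' := by simp
      map_mul' := fun a b => by simp [Finset.prod_mul_distrib] }
  have hνdef : ∀ y, ν y = ∏ φ : A, (QuotientGroup.mk ((φ : MulAut X) y) : X ⧸ N) := fun _ => rfl
  have hν : ∀ (φ₀ : A) (y : X), ν ((φ₀ : MulAut X) y) = ν y := by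
    intro φ₀ y
    rw [hνdef, hνdef]
    exact Fintype.prod_equiv (Equiv.mulRight φ₀) _ _ (fun φ => by simp [MulAut.mul_apply])
  have hker : ν.ker = ⊤ := by
    rw [eq_top_iff, ← h.hgen, Subgroup.closure_le]
    rintro g ⟨φ, hφ, y, rfl⟩
    rw [SetLike.mem_coe, MonoidHom.mem_ker, map_mul, map_inv]
    have := hν ⟨φ, hφ⟩ y
    simp only at this
    rw [this]
    simp
  have h1 : ν x = 1 := by
    have : x ∈ ν.ker := by rw [hker]; trivial
    exact MonoidHom.mem_ker.mp this
  have h2 : ν x = (QuotientGroup.mk x : X ⧸ N) ^ Fintype.card A := by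
    rw [hνdef]
    have hc : ∀ φ : A, (QuotientGroup.mk ((φ : MulAut X) x) : X ⧸ N) = QuotientGroup.mk x :=
      fun φ => ((QuotientGroup.eq (s := N)).mpr (hx (φ : MulAut X) φ.2)).symm
    rw [Finset.prod_congr rfl (fun φ _ => hc φ)]
    simp
  obtain ⟨k, hk⟩ := h.h2 x
  have h3 : (QuotientGroup.mk x : X ⧸ N) ^ 2 ^ k = 1 := by
    rw [← QuotientGroup.mk_pow, hk]; rfl
  have h4 : (QuotientGroup.mk x : X ⧸ N) ^ Fintype.card A = 1 := by rw [← h2, h1]
  have hodd : Odd (Fintype.card A) := by
    have := h.hodd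
    rwa [Nat.card_eq_fintype_card] at this
  have hcop : Nat.Coprime (Fintype.card A) (2 ^ k) := Nat.Coprime.pow_right k hodd.coprime_two_right
  have h5 : orderOf (QuotientGroup.mk x : X ⧸ N) ∣ 1 := by
    have := Nat.dvd_gcd (orderOf_dvd_of_pow_eq_one h4) (orderOf_dvd_of_pow_eq_one h3)
    rwa [hcop.gcd_eq_one] at this
  have h6 : (QuotientGroup.mk x : X ⧸ N) = 1 := by
    rw [← orderOf_eq_one_iff]; exact Nat.dvd_one.mp h5
  exact (QuotientGroup.eq_one_iff x).mp h6

/-- K6b.  Order 8: quaternion. -/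
theorem xs_eight [Finite X] {A : Subgroup (MulAut X)} (h : Ctx X A)
    (hna : ¬ IsMulCommutative X) (hea : EAmodZ X) (hZ : Nat.card (Subgroup.center X) = 2)
    (h8 : Nat.card X = 8) : Nonempty (X ≃* QuaternionGroup 2) := by
  classical
  refine Cfsg.Agent.Lib.Helper48.U32.quat_of_small h8 (Subgroup.center X) hZ ?_ hea.1
  intro t ht
  by_contra htZ
  -- the nontrivial central element
  obtain ⟨⟨z, hzZ⟩, hz1, hzu⟩ := (Nat.card_eq_two_iff' (1 : Subgroup.center X)).mp hZ
  have hz1' : z ≠ 1 := fun hh => hz1 (Subtype.ext hh)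
  have hZz : ∀ x ∈ Subgroup.center X, x = 1 ∨ x = z := by
    intro x hx
    by_cases hx1 : x = 1
    · exact Or.inl hx1
    · right
      have := hzu ⟨x, hx⟩ (fun hh => hx1 (congrArg Subtype.val hh))
      exact congrArg Subtype.val this
  have hzz : z * z = 1 := by
    rcases hZz (z * z) (mul_mem hzZ hzZ) with hh | hh
    · exact hh
    · exact absurd (mul_eq_right.mp hh) hz1'
  have hzc : ∀ x : X, x * z = z * x := fun x => (Subgroup.mem_center_iff.mp hzZ x)
  -- the centre is invariant
  have hZinv : ∀ φ : MulAut X, ∀ n ∈ Subgroup.center X, φ n ∈ Subgroup.center X := by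
    intro φ n hn
    have hfix : (Subgroup.center X).comap φ.toMonoidHom = Subgroup.center X :=
      Subgroup.Characteristic.fixed (H := Subgroup.center X) inferInstance φ
    have : n ∈ (Subgroup.center X).comap φ.toMonoidHom := by rw [hfix]; exact hn
    exact this
  have hφz : ∀ φ : MulAut X, φ z = z := by
    intro φ
    rcases hZz (φ z) (hZinv φ z hzZ) with hh | hh
    · exfalso
      apply hz1'
      have : φ z = φ 1 := by rw [hh, map_one]
      exact φ.injective this
    · exact hh
  have hfq : ∀ x : X, (∀ φ ∈ A, x⁻¹ * φ x ∈ Subgroup.center X) → x ∈ Subgroup.center X :=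
    fun x hx => fix_quot_h90 h (Subgroup.center X) inferInstance
      (fun φ _ n hn => hZinv φ n hn) hea.2 x hx
  have hsqZ : ∀ x ∈ Subgroup.center X, x * x = 1 := by
    intro x hx
    rcases hZz x hx with rfl | rfl
    · simp
    · exact hzz
  -- an element of order four
  obtain ⟨a, ha⟩ : ∃ a : X, a * a ≠ 1 := by
    by_contra hcon
    push Not at hcon
    apply hna
    refine ⟨⟨fun x y => ?_⟩⟩
    have h1 := hcon (x * y)
    have hx := hcon x
    have hy := hcon y
    have hxi : x⁻¹ = x := inv_eq_of_mul_eq_one_left hx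
    have hyi : y⁻¹ = y := inv_eq_of_mul_eq_one_left hy
    have : x * y = (x * y)⁻¹ := (inv_eq_of_mul_eq_one_left h1).symm
    rw [this, mul_inv_rev, hxi, hyi]
  have haa : a * a = z := by
    rcases hZz (a * a) (hea.1 a) with hh | hh
    · exact absurd hh ha
    · exact hh
  have haZ : a ∉ Subgroup.center X := fun hh => ha (hsqZ a hh)
  have ha2 : a ^ 2 = z := by rw [pow_two, haa]
  have ha4 : a ^ 4 = 1 := by
    have : a ^ 4 = (a ^ 2) * (a ^ 2) := by rw [← pow_add]
    rw [this, ha2, hzz]
  have ha3 : a ^ 3 = a⁻¹ := by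
    apply eq_inv_of_mul_eq_one_left
    rw [← pow_succ, ha4]
  have hord : orderOf a = 4 := by
    have := orderOf_eq_prime_pow (p := 2) (n := 1) (x := a) (by rw [pow_one, ha2]; exact hz1')
      (by norm_num; exact ha4)
    simpa using this
  have hH : ∀ y ∈ Subgroup.zpowers a, y = 1 ∨ y = a ∨ y = z ∨ y = a⁻¹ := by
    intro y hy
    rw [mem_zpowers_iff_mem_range_orderOf, hord] at hy
    simp only [Finset.mem_image, Finset.mem_range] at hy
    obtain ⟨k, hk, rfl⟩ := hy
    interval_cases k
    · left; simp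
    · right; left; simp
    · right; right; left; exact ha2
    · right; right; right; exact ha3
  have hainv : a⁻¹ * a⁻¹ = z := by
    rw [← mul_inv_rev, haa]
    exact inv_eq_of_mul_eq_one_left hzz
  have hindex : (Subgroup.zpowers a).index = 2 := by
    have h1 := Subgroup.card_mul_index (Subgroup.zpowers a)
    rw [Nat.card_zpowers, hord, h8] at h1
    omega
  have htH : t ∉ Subgroup.zpowers a := by
    intro hh
    rcases hH t hh with rfl | rfl | rfl | rfl
    · exact htZ (one_mem _)
    · exact ha ht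
    · exact htZ hzZ
    · rw [hainv] at ht; exact hz1' ht
  have hti : t⁻¹ = t := inv_eq_of_mul_eq_one_left ht
  have hdec : ∀ x : X, x ∈ Subgroup.zpowers a ∨ ∃ y ∈ Subgroup.zpowers a, x = t * y := by
    intro x
    by_cases hx : x ∈ Subgroup.zpowers a
    · exact Or.inl hx
    · right
      refine ⟨t⁻¹ * x, ?_, by group⟩
      rw [Subgroup.mul_mem_iff_of_index_two hindex, inv_mem_iff]
      exact ⟨fun hh => absurd hh htH, fun hh => absurd hh hx⟩
  -- elements of `⟨a⟩` commute with `a`
  have hHcomm : ∀ y ∈ Subgroup.zpowers a, y * a = a * y := by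
    intro y hy
    obtain ⟨k, rfl⟩ := Subgroup.mem_zpowers_iff.mp hy
    exact ((Commute.refl a).zpow_left k).eq
  -- `t` does not commute with `a`
  have hta : t * a ≠ a * t := by
    intro hcomm
    apply haZ
    rw [Subgroup.mem_center_iff]
    intro g
    rcases hdec g with hg | ⟨y, hy, rfl⟩
    · exact hHcomm g hg
    · rw [mul_assoc, hHcomm y hy, ← mul_assoc, hcomm, mul_assoc]
  have hconj : t * a * t⁻¹ = a⁻¹ := by
    have hc : ⁅t, a⁆ = z := by
      rcases hZz _ (hea.2 t a) with hh | hh
      · exfalso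
        apply hta
        rw [commutatorElement_def] at hh
        have : t * a = (t * a * t⁻¹ * a⁻¹) * (a * t) := by group
        rw [this, hh, one_mul]
      · exact hh
    rw [commutatorElement_def] at hc
    have : t * a * t⁻¹ = z * a := by rw [← hc]; group
    rw [this, ← haa]
    have : a * a * a = a ^ 3 := by rw [pow_succ, pow_two]
    rw [this, ha3]
  -- all elements of square `≠ 1` are `a` or `a⁻¹`
  have hsq : ∀ y : X, y * y ≠ 1 → y = a ∨ y = a⁻¹ := by
    intro y hy
    rcases hdec y with hyH | ⟨w, hw, rfl⟩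
    · rcases hH y hyH with rfl | rfl | rfl | rfl
      · exact absurd (by simp) hy
      · exact Or.inl rfl
      · exact absurd hzz hy
      · exact Or.inr rfl
    · exfalso
      apply hy
      obtain ⟨k, rfl⟩ := Subgroup.mem_zpowers_iff.mp hw
      have h1 : t * a ^ k * t⁻¹ = (a ^ k)⁻¹ := by
        rw [← conj_zpow, hconj, inv_zpow]
      have h2 : t * a ^ k * (t * a ^ k) = (t * a ^ k * t⁻¹) * a ^ k := by
        rw [hti]; group
      rw [h2, h1, inv_mul_cancel]
  -- the coset of `a` is fixed by `A`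
  apply haZ
  apply hfq
  intro φ _
  have h1 : φ a * φ a ≠ 1 := by
    rw [← map_mul, haa, hφz φ]
    exact hz1'
  rcases hsq (φ a) h1 with hh | hh
  · rw [hh, inv_mul_cancel]; exact one_mem _
  · rw [hh, hainv]; exact hzZ

end Cfsg.Agent.Lib.Helper90.T1904
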