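import Mathlib
import Cfsg.Agent.Lib.Helper94.THDefs
import Cfsg.Agent.Lib.Helper90.THUnif
import Cfsg.Agent.Lib.Helper45.THB1

/-!
# K-TH LEAF B5b (keystone 163208, S1632, architect helper94): norm-summability of the dual theta family

Induction on `n` along the recursion of `dq` (`ThDTerm_succ`), with the statement strengthened to a bound that is
UNIFORM in real shifts of the characteristic (`summable_ThDTerm_unif`); the one-dimensional input is
`THUnif.cgauss_unif`.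
-/

set_option autoImplicit false
set_option linter.unusedVariables false
set_option linter.unusedSimpArgs false

namespace Cfsg.Agent.Lib.Helper90.TH

open Matrix Complex
open scoped Real
open Cfsg.Agent.Lib.Helper94.TH

/-- the recursion for the dual term -/
theorem ThDTerm_succ {n : ℕ} (A : Matrix (Fin (n + 1)) (Fin (n + 1)) ℝ) (τ : ℂ)
    (z : Fin (n + 1) → ℂ) (x : Fin (n + 1) → ℤ) :
    ThDTerm (n + 1) A τ z x =
      cexp (-(π * I / τ) / (A 0 0 : ℂ) * ((x 0 : ℂ) - z 0) ^ 2) *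
        ThDTerm n (schur A) τ
          (fun i => z i.succ + ((x 0 : ℂ) - z 0) * (A 0 i.succ : ℂ) / (A 0 0 : ℂ))
          (fun i => x i.succ) := by
  unfold ThDTerm
  rw [← Complex.exp_add]
  congr 1
  rw [dq]
  have e : (fun i : Fin n => ((x i.succ : ℂ) - z i.succ) - ((x 0 : ℂ) - z 0) * (A 0 i.succ : ℂ) / (A 0 0 : ℂ)) =
      (fun i : Fin n => (x i.succ : ℂ) - (z i.succ + ((x 0 : ℂ) - z 0) * (A 0 i.succ : ℂ) / (A 0 0 : ℂ))) := by
    funext i
    ring
  rw [e]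
  ring

/-- the real part of the coefficient is negative -/
theorem coeff_re_neg {τ : ℂ} (hτ : 0 < τ.im) {a : ℝ} (ha : 0 < a) :
    (-(π * I / τ) / (a : ℂ)).re < 0 := by
  have hτ0 : τ ≠ 0 := by
    intro h
    rw [h] at hτ
    simp at hτ
  have hn : 0 < Complex.normSq τ := Complex.normSq_pos.mpr hτ0
  have h1 : (-(π * I / τ) / (a : ℂ)).re = -(π * τ.im / Complex.normSq τ) / a := by
    rw [Complex.div_ofReal_re, Complex.neg_re]
    congr 2
    rw [Complex.div_re]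
    simp
  rw [h1]
  have : 0 < π * τ.im / Complex.normSq τ := by positivity
  have h2 : 0 < π * τ.im / Complex.normSq τ / a := by positivity
  linarith [neg_div a (π * τ.im / Complex.normSq τ)]

/-- the uniform statement, by induction on `n` -/
theorem summable_ThDTerm_unif {τ : ℂ} (hτ : 0 < τ.im) :
    ∀ (n : ℕ) (A : Matrix (Fin n) (Fin n) ℝ), IsPD A → ∀ z : Fin n → ℂ,
      ∃ C : ℝ, ∀ s : Fin n → ℝ,
        Summable (fun k : Fin n → ℤ => ‖ThDTerm n A τ (fun i => z i + (s i : ℂ)) k‖) ∧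
        ∑' k : Fin n → ℤ, ‖ThDTerm n A τ (fun i => z i + (s i : ℂ)) k‖ ≤ C := by
  intro n
  induction n with
  | zero =>
    intro A _ z
    refine ⟨1, fun s => ?_⟩
    have hval : ∀ k : Fin 0 → ℤ, ‖ThDTerm 0 A τ (fun i => z i + (s i : ℂ)) k‖ = 1 := by
      intro k
      simp [ThDTerm, dq]
    constructor
    · exact summable_of_finite_support (Set.toFinite _)
    · rw [tsum_congr hval, tsum_eq_single (default : Fin 0 → ℤ)]
      intro k hk
      exact absurd (Subsingleton.elim k default) hk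
  | succ n ih =>
    intro A hA z
    obtain ⟨ha, hS⟩ := Cfsg.Agent.Lib.Helper45.TH.schur_isPD hA
    obtain ⟨a, haa⟩ : ∃ a : ℝ, a = A 0 0 := ⟨_, rfl⟩
    rw [← haa] at ha
    obtain ⟨c, hcdef⟩ : ∃ c : ℂ, c = -(π * I / τ) / (a : ℂ) := ⟨_, rfl⟩
    have hc : c.re < 0 := by rw [hcdef]; exact coeff_re_neg hτ ha
    obtain ⟨C1, hC1⟩ := cgauss_unif c hc (z 0)
    obtain ⟨C2, hC2⟩ := ih (schur A) hS (fun i => z i.succ - z 0 * (A 0 i.succ : ℂ) / (a : ℂ))
    have hC20 : 0 ≤ C2 := le_trans (tsum_nonneg fun _ => norm_nonneg _) (hC2 0).2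
    refine ⟨C1 * C2, fun s => ?_⟩
    -- the real shift of the inner sum
    obtain ⟨σ, hσ⟩ : ∃ σ : ℤ → Fin n → ℝ,
        σ = fun (k : ℤ) (i : Fin n) => s i.succ + ((k : ℝ) - s 0) * A 0 i.succ / a := ⟨_, rfl⟩
    -- the product family
    obtain ⟨F, hF⟩ : ∃ F : ℤ × (Fin n → ℤ) → ℝ, F = fun p =>
        ‖cexp (c * ((p.1 : ℂ) - z 0 - (s 0 : ℂ)) ^ 2)‖ *
          ‖ThDTerm n (schur A) τ (fun i => (z i.succ - z 0 * (A 0 i.succ : ℂ) / (a : ℂ)) +
            (σ p.1 i : ℂ)) p.2‖ := ⟨_, rfl⟩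
    have hFapp : ∀ (k : ℤ) (k' : Fin n → ℤ), F (k, k') =
        ‖cexp (c * ((k : ℂ) - z 0 - (s 0 : ℂ)) ^ 2)‖ *
          ‖ThDTerm n (schur A) τ (fun i => (z i.succ - z 0 * (A 0 i.succ : ℂ) / (a : ℂ)) +
            (σ k i : ℂ)) k'‖ := by
      intro k k'
      rw [hF]
    obtain ⟨e, he⟩ : ∃ e : (Fin (n + 1) → ℤ) ≃ ℤ × (Fin n → ℤ),
        ∀ x, e x = (x 0, fun i => x i.succ) :=
      ⟨(Fin.consEquiv (fun _ : Fin (n + 1) => ℤ)).symm, fun x => rfl⟩
    have hterm : ∀ x : Fin (n + 1) → ℤ,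
        ‖ThDTerm (n + 1) A τ (fun i => z i + (s i : ℂ)) x‖ = F (e x) := by
      intro x
      have e1 : cexp (-(π * I / τ) / (A 0 0 : ℂ) * ((x 0 : ℂ) - (z 0 + (s 0 : ℂ))) ^ 2) =
          cexp (c * ((x 0 : ℂ) - z 0 - (s 0 : ℂ)) ^ 2) := by
        rw [hcdef, haa]
        congr 1
        ring
      have e2 : (fun i : Fin n => (z i.succ + (s i.succ : ℂ)) +
            ((x 0 : ℂ) - (z 0 + (s 0 : ℂ))) * (A 0 i.succ : ℂ) / (A 0 0 : ℂ)) =
          (fun i : Fin n => (z i.succ - z 0 * (A 0 i.succ : ℂ) / (a : ℂ)) + (σ (x 0) i : ℂ)) := by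
        funext i
        rw [hσ, haa]
        push_cast
        ring
      rw [ThDTerm_succ, norm_mul, e1, e2, he, hFapp]
    have hF0 : 0 ≤ F := by
      intro p
      rw [hF]
      exact mul_nonneg (norm_nonneg _) (norm_nonneg _)
    have hinner : ∀ k : ℤ, Summable (fun k' : Fin n → ℤ => F (k, k')) := by
      intro k
      simp only [hFapp]
      exact ((hC2 (σ k)).1).mul_left _
    have hinner_le : ∀ k : ℤ, ∑' k' : Fin n → ℤ, F (k, k') ≤
        ‖cexp (c * ((k : ℂ) - z 0 - (s 0 : ℂ)) ^ 2)‖ * C2 := by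
      intro k
      simp only [hFapp]
      rw [tsum_mul_left]
      exact mul_le_mul_of_nonneg_left (hC2 (σ k)).2 (norm_nonneg _)
    have houter : Summable (fun k : ℤ => ∑' k' : Fin n → ℤ, F (k, k')) :=
      Summable.of_nonneg_of_le (fun k => tsum_nonneg fun k' => hF0 _) hinner_le
        ((hC1 (s 0)).1.mul_right C2)
    have hFs : Summable F := (summable_prod_of_nonneg hF0).mpr ⟨hinner, houter⟩
    have hsum : Summable (fun x : Fin (n + 1) → ℤ =>
        ‖ThDTerm (n + 1) A τ (fun i => z i + (s i : ℂ)) x‖) := by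
      have := e.summable_iff.mpr hFs
      refine this.congr ?_
      intro x
      rw [hterm x]
      rfl
    refine ⟨hsum, ?_⟩
    calc ∑' x : Fin (n + 1) → ℤ, ‖ThDTerm (n + 1) A τ (fun i => z i + (s i : ℂ)) x‖
        = ∑' x : Fin (n + 1) → ℤ, F (e x) := tsum_congr hterm
      _ = ∑' p : ℤ × (Fin n → ℤ), F p := e.tsum_eq F
      _ = ∑' k : ℤ, ∑' k' : Fin n → ℤ, F (k, k') := hFs.tsum_prod
      _ ≤ ∑' k : ℤ, ‖cexp (c * ((k : ℂ) - z 0 - (s 0 : ℂ)) ^ 2)‖ * C2 :=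
          Summable.tsum_le_tsum hinner_le houter ((hC1 (s 0)).1.mul_right C2)
      _ = (∑' k : ℤ, ‖cexp (c * ((k : ℂ) - z 0 - (s 0 : ℂ)) ^ 2)‖) * C2 := tsum_mul_right
      _ ≤ C1 * C2 := mul_le_mul_of_nonneg_right (hC1 (s 0)).2 hC20

/-- THB5b -/
theorem summable_ThDTerm {n : ℕ} {A : Matrix (Fin n) (Fin n) ℝ} (hA : IsPD A) {τ : ℂ}
    (hτ : 0 < τ.im) (z : Fin n → ℂ) : Summable (fun k : Fin n → ℤ => ‖ThDTerm n A τ z k‖) := by
  obtain ⟨C, hC⟩ := summable_ThDTerm_unif hτ n A hA z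
  have h := (hC 0).1
  simpa using h

end Cfsg.Agent.Lib.Helper90.TH
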