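import Mathlib
import Cfsg.Agent.Lib.Helper94.THDefs

/-!
# K-TH LEAF C1 (keystone 163211, S1632, architect helper94): `θ(τ + 1) = θ(τ)` for an even lattice
-/

set_option autoImplicit false

namespace Cfsg.Agent.Lib.Helper90.TH

open Matrix Complex ModularForm
open UpperHalfPlane hiding I
open scoped Real MatrixGroups
open Cfsg.Agent.Lib.Helper94.TH

/-- THC1 -/
theorem thetaC_T {B : Matrix (Fin 24) (Fin 24) ℤ} (h : Hyp B) (τ : ℂ) :
    thetaC B (τ + 1) = thetaC B τ := by
  unfold thetaC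
  apply tsum_congr
  intro x
  obtain ⟨k, hk⟩ := h.even x
  have hq : qf B x = 2 * k := hk
  rw [hq]
  have e : (Real.pi : ℂ) * I * (τ + 1) * ((2 * k : ℤ) : ℂ) =
      Real.pi * I * τ * ((2 * k : ℤ) : ℂ) + (k : ℂ) * (2 * Real.pi * I) := by
    push_cast; ring
  rw [e, Complex.exp_add, Complex.exp_int_mul_two_pi_mul_I, mul_one]

end Cfsg.Agent.Lib.Helper90.TH
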